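import Cfsg.Statements.S4207
import Mathlib

set_option autoImplicit false
open Cfsg

namespace Cfsg.Agent.S4207

/-- a free action of a finite group on a finite set: the group order divides the size of the set. -/
theorem card_dvd_of_free {A X : Type*} [Group A] [MulAction A X] [Finite A] [Finite X]
    (hfree : ∀ (a : A) (x : X), a • x = x → a = 1) : Nat.card A ∣ Nat.card X := by
  classical
  have : Fintype (MulAction.orbitRel.Quotient A X) := Fintype.ofFinite _
  have e := MulAction.selfEquivSigmaOrbitsQuotientStabilizer' A X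
    (φ := Quotient.out) (fun ω => Quotient.out_eq' ω)
  rw [Nat.card_congr e, Nat.card_sigma]
  apply Finset.dvd_sum
  intro ω _
  have hs : MulAction.stabilizer A (Quotient.out ω) = ⊥ := by
    rw [eq_bot_iff]
    intro a ha
    exact hfree a _ ha
  rw [hs]
  have h1 : Nat.card (A ⧸ (⊥ : Subgroup A)) = Nat.card A := Subgroup.index_bot
  rw [h1]

/-- a group of order `p^r` is generated by `r` elements. -/
theorem exists_gen {Q : Type*} [Group Q] [Finite Q] {p : ℕ} [Fact p.Prime] (r : ℕ)
    (hQ : Nat.card Q = p ^ r) : ∃ x : Fin r → Q, Subgroup.closure (Set.range x) = ⊤ := by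
  have hp : p.Prime := Fact.out
  have key : ∀ k : ℕ, ∃ x : Fin k → Q, Subgroup.closure (Set.range x) = ⊤ ∨
      p ^ k ≤ Nat.card (Subgroup.closure (Set.range x)) := by
    intro k
    induction k with
    | zero =>
      refine ⟨Fin.elim0, Or.inr ?_⟩
      rw [pow_zero]
      exact Nat.card_pos
    | succ k ih =>
      obtain ⟨x, hx⟩ := ih
      by_cases htop : Subgroup.closure (Set.range x) = ⊤
      · refine ⟨Fin.snoc x 1, Or.inl ?_⟩
        rw [eq_top_iff, ← htop]
        apply Subgroup.closure_mono
        rintro _ ⟨i, rfl⟩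
        exact ⟨i.castSucc, by simp⟩
      · have hx' := hx.resolve_left htop
        obtain ⟨g, hg⟩ : ∃ g, g ∉ Subgroup.closure (Set.range x) := by
          by_contra hall
          push Not at hall
          exact htop (eq_top_iff.mpr fun g _ => hall g)
        refine ⟨Fin.snoc x g, Or.inr ?_⟩
        have hle : Subgroup.closure (Set.range x) ≤
            Subgroup.closure (Set.range (Fin.snoc x g : Fin (k + 1) → Q)) := by
          apply Subgroup.closure_mono
          rintro _ ⟨i, rfl⟩
          exact ⟨i.castSucc, by simp⟩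
        have hgH' : g ∈ Subgroup.closure (Set.range (Fin.snoc x g : Fin (k + 1) → Q)) :=
          Subgroup.subset_closure ⟨Fin.last k, by simp⟩
        have hlt : Nat.card (Subgroup.closure (Set.range x)) <
            Nat.card (Subgroup.closure (Set.range (Fin.snoc x g : Fin (k + 1) → Q))) := by
          by_contra hcon
          push Not at hcon
          have h1 := Subgroup.eq_of_le_of_card_ge hle hcon
          exact hg (h1 ▸ hgH')
        have hpow : ∀ H : Subgroup Q, ∃ i, Nat.card H = p ^ i := by
          intro H
          have hd : Nat.card H ∣ p ^ r := hQ ▸ Subgroup.card_subgroup_dvd_card H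
          obtain ⟨i, -, hi⟩ := (Nat.dvd_prime_pow hp).mp hd
          exact ⟨i, hi⟩
        obtain ⟨i, hi⟩ := hpow (Subgroup.closure (Set.range x))
        obtain ⟨j, hj⟩ := hpow (Subgroup.closure (Set.range (Fin.snoc x g : Fin (k + 1) → Q)))
        rw [hi] at hx' hlt
        rw [hj] at hlt ⊢
        have hp1 : 1 < p := hp.one_lt
        have hki : k ≤ i := (Nat.pow_le_pow_iff_right hp1).mp hx'
        have hij : i < j := (Nat.pow_lt_pow_iff_right hp1).mp hlt
        exact Nat.pow_le_pow_right (by omega) (by omega)
  obtain ⟨x, hx⟩ := key r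
  refine ⟨x, ?_⟩
  rcases hx with h | h
  · exact h
  · apply Subgroup.eq_top_of_card_eq
    have h1 := Subgroup.card_le_card_group (Subgroup.closure (Set.range x))
    omega

/-- a tuple generating modulo the Frattini subgroup generates. -/
theorem closure_eq_top_of_map {P : Type*} [Group P] [Finite P] {r : ℕ} (x : Fin r → P)
    (h : Subgroup.closure (Set.range (fun i => (QuotientGroup.mk (x i) : P ⧸ frattini P))) = ⊤) :
    Subgroup.closure (Set.range x) = ⊤ := by
  apply frattini_nongenerating
  have h1 : (Subgroup.closure (Set.range x)).map (QuotientGroup.mk' (frattini P)) = ⊤ := by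
    rw [MonoidHom.map_closure, ← Set.range_comp]
    exact h
  have h2 := Subgroup.comap_map_eq (QuotientGroup.mk' (frattini P)) (Subgroup.closure (Set.range x))
  rw [h1, Subgroup.comap_top, QuotientGroup.ker_mk'] at h2
  exact h2.symm

/-- a tuple congruent to a generating tuple modulo the Frattini subgroup generates. -/
theorem closure_eq_top_of_congr {P : Type*} [Group P] [Finite P] {r : ℕ} (x y : Fin r → P)
    (hx : Subgroup.closure (Set.range x) = ⊤) (hy : ∀ i, y i * (x i)⁻¹ ∈ frattini P) :
    Subgroup.closure (Set.range y) = ⊤ := by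
  apply frattini_nongenerating
  rw [eq_top_iff, ← hx, Subgroup.closure_le]
  rintro _ ⟨i, rfl⟩
  have h1 : x i = (y i * (x i)⁻¹)⁻¹ * y i := by group
  have h2 : (y i * (x i)⁻¹)⁻¹ * y i ∈ Subgroup.closure (Set.range y) ⊔ frattini P :=
    Subgroup.mul_mem _ (Subgroup.mem_sup_right ((frattini P).inv_mem (hy i)))
      (Subgroup.mem_sup_left (Subgroup.subset_closure ⟨i, rfl⟩))
  rw [← h1] at h2
  exact h2

/-- an automorphism fixing a generating tuple is trivial. -/
theorem eq_one_of_fix {P : Type*} [Group P] {r : ℕ} (y : Fin r → P)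
    (hy : Subgroup.closure (Set.range y) = ⊤) (α : MulAut P) (hα : ∀ i, α (y i) = y i) :
    α = 1 := by
  have h1 : (α : P →* P) = MonoidHom.id P :=
    MonoidHom.eq_of_eqOn_dense hy (by rintro _ ⟨i, rfl⟩; exact hα i)
  ext g
  exact DFunLike.congr_fun h1 g

theorem card_frattini {P : Type*} [Group P] [Finite P] {p n r : ℕ} [Fact p.Prime]
    (hP : Nat.card P = p ^ n) (hr : (frattini P).index = p ^ r) :
    r ≤ n ∧ Nat.card (frattini P) = p ^ (n - r) := by
  have hp : p.Prime := Fact.out
  have hcardΦ : Nat.card (frattini P) * p ^ r = p ^ n := by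
    rw [← hr, Subgroup.card_mul_index, hP]
  have hrn : r ≤ n := by
    have h1 : p ^ r ∣ p ^ n := ⟨Nat.card (frattini P), by rw [mul_comm]; exact hcardΦ.symm⟩
    exact (Nat.pow_dvd_pow_iff_le_right hp.one_lt).mp h1
  refine ⟨hrn, ?_⟩
  have h2 : p ^ n = p ^ (n - r) * p ^ r := by
    rw [← pow_add]
    congr 1
    omega
  rw [h2] at hcardΦ
  exact Nat.eq_of_mul_eq_mul_right (pow_pos hp.pos r) hcardΦ

/-- Let `P` be a group of order `p^n` whose Frattini subgroup has index `p^r`. Then any group of automorphisms of `P` each of which induces the identity on the Frattini quotient has order dividing `p^(r(n-r))`; in particular it is a `p`-group. -/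
theorem result {P : Type*} [Group P] [Finite P] {p n r : ℕ} [Fact p.Prime] (hP : Nat.card P = p ^ n) (hr : (frattini P).index = p ^ r) (A : Subgroup (MulAut P)) (hA : ∀ α ∈ A, ∀ x : P, α x * x⁻¹ ∈ frattini P) : Nat.card A ∣ p ^ (r * (n - r)) := by
  classical
  obtain ⟨hrn, hΦ⟩ := card_frattini hP hr
  have hQcard : Nat.card (P ⧸ frattini P) = p ^ r := hr
  obtain ⟨xbar, hxbar⟩ := exists_gen r hQcard
  choose x hx using fun i => QuotientGroup.mk_surjective (xbar i)
  have hxgen : Subgroup.closure (Set.range x) = ⊤ :=
    closure_eq_top_of_map x (by simp_rw [hx]; exact hxbar)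
  let S : SubMulAction A (Fin r → P) :=
    { carrier := {y | ∀ i, y i * (x i)⁻¹ ∈ frattini P}
      smul_mem' := by
        intro α y hy i
        have h1 : (α • y) i = (α : MulAut P) (y i) := rfl
        rw [h1]
        have h2 := hA α α.2 (y i)
        have h3 : (α : MulAut P) (y i) * (x i)⁻¹ =
            ((α : MulAut P) (y i) * (y i)⁻¹) * (y i * (x i)⁻¹) := by group
        rw [h3]
        exact (frattini P).mul_mem h2 (hy i) }
  have hfree : ∀ (α : A) (y : S), α • y = y → α = 1 := by
    intro α y hαy
    have hygen : Subgroup.closure (Set.range (y : Fin r → P)) = ⊤ :=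
      closure_eq_top_of_congr x y.1 hxgen y.2
    have hfix : ∀ i, (α : MulAut P) (y.1 i) = y.1 i :=
      fun i => congrFun (congrArg Subtype.val hαy) i
    exact Subtype.ext (eq_one_of_fix y.1 hygen α hfix)
  have hfinS : Finite S := Finite.of_injective (fun y : S => (y : Fin r → P)) Subtype.val_injective
  have hdvd := card_dvd_of_free (A := A) (X := S) hfree
  have hS : Nat.card S = p ^ (r * (n - r)) := by
    have e : S ≃ (Fin r → frattini P) :=
      { toFun := fun y i => ⟨y.1 i * (x i)⁻¹, y.2 i⟩
        invFun := fun φ => ⟨fun i => (φ i : P) * x i, fun i => by simp⟩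
        left_inv := fun y => by ext i; simp
        right_inv := fun φ => by ext i; simp }
    rw [Nat.card_congr e, Nat.card_fun, hΦ, Nat.card_fin, ← pow_mul, mul_comm]
  rw [← hS]
  exact hdvd

end Cfsg.Agent.S4207
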