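import Mathlib
import Cfsg.Statements.S4189
import Cfsg.Agent.S4207
import Cfsg.Agent.S0012
import Cfsg.Agent.Helper23.Quat

set_option autoImplicit false
open Cfsg
open scoped commutatorElement

namespace Cfsg.Agent.S4189

/-- a subgroup contained in its own commutator with the whole (nilpotent) group is trivial -/
theorem eq_bot_of_le_commutator {G : Type*} [Group G] [hG : Group.IsNilpotent G] (H : Subgroup G)
    (h : H ≤ ⁅H, (⊤ : Subgroup G)⁆) : H = ⊥ := by
  obtain ⟨m, hm⟩ := Subgroup.nilpotent_iff_lowerCentralSeries.mp hG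
  have key : ∀ n, H ≤ (⊤ : Subgroup G).lowerCentralSeries n := by
    intro n
    induction n with
    | zero => rw [Subgroup.lowerCentralSeries_zero]; exact le_top
    | succ n ih =>
      rw [Subgroup.lowerCentralSeries_succ]
      exact h.trans (Subgroup.commutator_mono ih le_rfl)
  exact eq_bot_iff.mpr (hm ▸ key m)

/-- commutators of generators in a normal subgroup: the derived subgroup is in it -/
theorem commutator_le_of_gens {G : Type*} [Group G] (M : Subgroup G) [hM : M.Normal] (S : Set G)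
    (hS : Subgroup.closure S = ⊤) (h : ∀ x ∈ S, ∀ y ∈ S, ⁅x, y⁆ ∈ M) : commutator G ≤ M := by
  have h1 : ∀ x ∈ S, ∀ g : G, ⁅x, g⁆ ∈ M := by
    intro x hx g
    have hg : g ∈ Subgroup.closure S := hS ▸ Subgroup.mem_top g
    induction hg using Subgroup.closure_induction with
    | mem y hy => exact h x hx y hy
    | one => rw [commutatorElement_one_right]; exact one_mem _
    | mul y z _ _ ihy ihz =>
      have e : ⁅x, y * z⁆ = ⁅x, y⁆ * (y * ⁅x, z⁆ * y⁻¹) := by
        simp only [commutatorElement_def]; group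
      rw [e]; exact mul_mem ihy (hM.conj_mem _ ihz y)
    | inv y _ ihy =>
      have e : ⁅x, y⁻¹⁆ = y⁻¹ * ⁅x, y⁆⁻¹ * y⁻¹⁻¹ := by
        simp only [commutatorElement_def]; group
      rw [e]; exact hM.conj_mem _ (inv_mem ihy) y⁻¹
  have h2 : ∀ g₁ g₂ : G, ⁅g₁, g₂⁆ ∈ M := by
    intro g₁ g₂
    have hg : g₁ ∈ Subgroup.closure S := hS ▸ Subgroup.mem_top g₁
    induction hg using Subgroup.closure_induction with
    | mem y hy => exact h1 y hy g₂
    | one => rw [commutatorElement_one_left]; exact one_mem _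
    | mul y z _ _ ihy ihz =>
      have e : ⁅y * z, g₂⁆ = (y * ⁅z, g₂⁆ * y⁻¹) * ⁅y, g₂⁆ := by
        simp only [commutatorElement_def]; group
      rw [e]; exact mul_mem (hM.conj_mem _ ihz y) ihy
    | inv y _ ihy =>
      have e : ⁅y⁻¹, g₂⁆ = y⁻¹ * ⁅y, g₂⁆⁻¹ * y⁻¹⁻¹ := by
        simp only [commutatorElement_def]; group
      rw [e]; exact hM.conj_mem _ (inv_mem ihy) y⁻¹
  show ⁅(⊤ : Subgroup G), (⊤ : Subgroup G)⁆ ≤ M
  rw [Subgroup.commutator_le]
  intro g₁ _ g₂ _
  exact h2 g₁ g₂

theorem pow_triv_mod {G : Type*} [Group G] (N : Subgroup G) (γ : MulAut G)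
    (h : ∀ x, γ x * x⁻¹ ∈ N) (k : ℕ) : ∀ x, (γ ^ k) x * x⁻¹ ∈ N := by
  induction k with
  | zero => intro x; simp
  | succ k ih =>
    intro x
    have e : (γ ^ (k + 1)) x * x⁻¹ = ((γ ^ k) (γ x) * (γ x)⁻¹) * (γ x * x⁻¹) := by
      rw [pow_succ, MulAut.mul_apply]; group
    rw [e]; exact mul_mem (ih _) (h x)

theorem four_cases {V : Type*} (h4 : Nat.card V = 4) (a b c d x : V) (hab : a ≠ b) (hac : a ≠ c)
    (had : a ≠ d) (hbc : b ≠ c) (hbd : b ≠ d) (hcd : c ≠ d) : x = a ∨ x = b ∨ x = c ∨ x = d := by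
  classical
  by_contra hcon
  push_neg at hcon
  haveI : Finite V := Nat.finite_of_card_ne_zero (by omega)
  haveI := Fintype.ofFinite V
  have h5 : ({x, a, b, c, d} : Finset V).card = 5 := by
    rw [Finset.card_insert_of_notMem, Finset.card_insert_of_notMem, Finset.card_insert_of_notMem,
      Finset.card_insert_of_notMem, Finset.card_singleton]
    · simp [hcd]
    · simp [hbc, hbd]
    · simp [hab, hac, had]
    · simp [hcon.1, hcon.2.1, hcon.2.2.1, hcon.2.2.2]
  have h6 := Finset.card_le_univ ({x, a, b, c, d} : Finset V)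
  rw [Nat.card_eq_fintype_card] at h4
  omega

theorem fix_of_sq_fix {V : Type*} [Group V] (γ : MulAut V) (r : ℕ) (hr : Odd r) (hγ : γ ^ r = 1)
    (v : V) (h : γ (γ v) = v) : γ v = v := by
  obtain ⟨k, rfl⟩ := hr
  have h2 : ∀ j : ℕ, (γ ^ (2 * j)) v = v := by
    intro j
    induction j with
    | zero => simp
    | succ j ih =>
      rw [show 2 * (j + 1) = 2 * j + 1 + 1 from by ring, pow_succ, pow_succ, MulAut.mul_apply,
        MulAut.mul_apply, h, ih]
  have h3 : (γ ^ (2 * k + 1)) v = γ v := by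
    rw [pow_succ', MulAut.mul_apply, h2]
  rw [← h3, hγ]; rfl

/-- the union of `T` and the coset `cT`, as a normal subgroup -/
theorem exists_two_coset_subgroup {G : Type*} [Group G] (T : Subgroup G) [hT : T.Normal] (c : G)
    (hc2 : c * c ∈ T) (hcT : ∀ g : G, ⁅c⁻¹, g⁆ ∈ T) :
    ∃ M : Subgroup G, M.Normal ∧ ∀ d, d ∈ M ↔ (d ∈ T ∨ c⁻¹ * d ∈ T) := by
  have hconj : ∀ t ∈ T, c⁻¹ * t * c ∈ T := by
    intro t ht
    have := hT.conj_mem t ht c⁻¹
    rwa [inv_inv] at this
  refine ⟨{ carrier := {d | d ∈ T ∨ c⁻¹ * d ∈ T}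
            mul_mem' := ?_
            one_mem' := Or.inl (one_mem T)
            inv_mem' := ?_ }, ⟨?_⟩, fun d => Iff.rfl⟩
  · rintro x y (hx | hx) (hy | hy)
    · exact Or.inl (mul_mem hx hy)
    · right
      have e : c⁻¹ * (x * y) = (c⁻¹ * x * c) * (c⁻¹ * y) := by group
      rw [e]; exact mul_mem (hconj x hx) hy
    · right
      have e : c⁻¹ * (x * y) = (c⁻¹ * x) * y := by group
      rw [e]; exact mul_mem hx hy
    · left
      have e : x * y = (c * c) * (c⁻¹ * (c⁻¹ * x) * c) * (c⁻¹ * y) := by group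
      rw [e]; exact mul_mem (mul_mem hc2 (hconj _ hx)) hy
  · rintro x (hx | hx)
    · exact Or.inl (inv_mem hx)
    · right
      have e : c⁻¹ * x⁻¹ = (c⁻¹ * (c⁻¹ * x)⁻¹ * c) * (c * c)⁻¹ := by group
      rw [e]; exact mul_mem (hconj _ (inv_mem hx)) (inv_mem hc2)
  · rintro x (hx | hx) g
    · exact Or.inl (hT.conj_mem x hx g)
    · right
      have e : c⁻¹ * (g * x * g⁻¹) = ⁅c⁻¹, g⁆ * (g * (c⁻¹ * x) * g⁻¹) := by
        simp only [commutatorElement_def]; group
      rw [e]; exact mul_mem (hcT g) (hT.conj_mem _ hx g)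

/-- Let P be a finite non-abelian 2-group whose commutator subgroup has index 4 and whose automorphism group is not a 2-group (some automorphism has order that is not a power of 2). Then P is isomorphic to the quaternion group of order 8. -/
theorem result {P : Type*} [Group P] [Finite P] (hP : IsPGroup 2 P) (hna : ¬ IsMulCommutative P) (h4 : (commutator P).index = 4) (haut : ¬ IsPGroup 2 (MulAut P)) : Nonempty (P ≃* QuaternionGroup 2) := by
  haveI : Fact (Nat.Prime 2) := ⟨Nat.prime_two⟩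
  haveI hnil : Group.IsNilpotent P := hP.isNilpotent
  obtain ⟨D, hDdef⟩ : ∃ D : Subgroup P, D = commutator P := ⟨_, rfl⟩
  obtain ⟨T, hTdef⟩ : ∃ T : Subgroup P, T = ⁅D, (⊤ : Subgroup P)⁆ := ⟨_, rfl⟩
  haveI hDc : D.Characteristic := by rw [hDdef, commutator_def]; infer_instance
  haveI hDn : D.Normal := inferInstance
  haveI hTc : T.Characteristic := by rw [hTdef]; infer_instance
  haveI hTn : T.Normal := inferInstance
  have hDΦ : D ≤ frattini P := hDdef ▸ (S0012.result 2 hP).1
  -- step 0: an automorphism of odd prime order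
  obtain ⟨β, r, hr, hr2, hβ⟩ : ∃ (β : MulAut P) (r : ℕ), r.Prime ∧ r ≠ 2 ∧ orderOf β = r := by
    by_contra hcon
    push_neg at hcon
    apply haut
    have hc : Nat.card (MulAut P) ≠ 0 := Nat.card_pos.ne'
    have hpow := Nat.eq_prime_pow_of_unique_prime_dvd hc (p := 2) (fun {d} hd hdvd => by
      by_contra hd2
      haveI : Fact d.Prime := ⟨hd⟩
      obtain ⟨β, hβ⟩ := exists_prime_orderOf_dvd_card' d hdvd
      exact hcon β d hd hd2 hβ)
    exact IsPGroup.of_card hpow
  have hrodd : Odd r := hr.odd_of_ne_two hr2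
  -- step B: β acts nontrivially modulo D
  have hβD : ∃ x₀, β x₀ * x₀⁻¹ ∉ D := by
    by_contra hcon
    push_neg at hcon
    obtain ⟨n, hn⟩ := IsPGroup.iff_card.mp hP
    obtain ⟨r', -, hr'⟩ := (Nat.dvd_prime_pow Nat.prime_two).mp (hn ▸ (frattini P).index_dvd_card)
    have hA : ∀ α ∈ Subgroup.zpowers β, ∀ x : P, α x * x⁻¹ ∈ frattini P := by
      intro α hα x
      obtain ⟨k, rfl⟩ := (Submonoid.mem_powers_iff _ _).mp ((mem_powers_iff_mem_zpowers).mpr hα)
      exact pow_triv_mod (frattini P) β (fun y => hDΦ (hcon y)) k x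
    have hdvd := S4207.result hn hr' (Subgroup.zpowers β) hA
    rw [Nat.card_zpowers, hβ] at hdvd
    exact hr2 ((Nat.prime_dvd_prime_iff_eq hr Nat.prime_two).mp (hr.dvd_of_dvd_pow hdvd))
  -- step 1: the quotient P/D is elementary abelian of order 4
  have hV4 : Nat.card (P ⧸ D) = 4 := by rw [← Subgroup.index_eq_card, hDdef]; exact h4
  have hexp : ∀ v : P ⧸ D, v * v = 1 := by
    intro v
    by_contra hv
    have hord : orderOf v = 4 := by
      have hdvd : orderOf v ∣ 2 ^ 2 := by
        have h := orderOf_dvd_natCard v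
        rw [hV4] at h; exact h
      obtain ⟨k, hk, hk2⟩ := (Nat.dvd_prime_pow Nat.prime_two).mp hdvd
      interval_cases k
      · exfalso; apply hv
        have h1 : v = 1 := orderOf_eq_one_iff.mp (by simpa using hk2)
        rw [h1]; simp
      · exfalso; apply hv
        have h1 := pow_orderOf_eq_one v
        rw [hk2] at h1
        rw [← pow_two]; simpa using h1
      · simpa using hk2
    have htop : Subgroup.zpowers v = ⊤ := by
      apply Subgroup.eq_top_of_card_eq
      rw [Nat.card_zpowers, hord, hV4]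
    obtain ⟨u, rfl⟩ := QuotientGroup.mk_surjective v
    have hsup : Subgroup.zpowers u ⊔ frattini P = ⊤ := by
      rw [eq_top_iff]
      intro x _
      have hx : (QuotientGroup.mk x : P ⧸ D) ∈ Subgroup.zpowers (QuotientGroup.mk u : P ⧸ D) :=
        htop ▸ Subgroup.mem_top _
      obtain ⟨k, hk⟩ := Subgroup.mem_zpowers_iff.mp hx
      have hmem : (u ^ k)⁻¹ * x ∈ D := by
        rw [← QuotientGroup.eq, ← hk]; rfl
      have e : x = u ^ k * ((u ^ k)⁻¹ * x) := by group
      rw [e]
      exact mul_mem (Subgroup.mem_sup_left (Subgroup.zpow_mem_zpowers u k))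
        (Subgroup.mem_sup_right (hDΦ hmem))
    have hcyc : Subgroup.zpowers u = ⊤ := frattini_nongenerating hsup
    apply hna
    refine ⟨⟨fun x y => ?_⟩⟩
    have hx : x ∈ Subgroup.zpowers u := hcyc ▸ Subgroup.mem_top x
    have hy : y ∈ Subgroup.zpowers u := hcyc ▸ Subgroup.mem_top y
    obtain ⟨i, rfl⟩ := Subgroup.mem_zpowers_iff.mp hx
    obtain ⟨j, rfl⟩ := Subgroup.mem_zpowers_iff.mp hy
    rw [← zpow_add, ← zpow_add, add_comm]
  have hmul2 : ∀ u v : P ⧸ D, u * (u * v) = v := by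
    intro u v; rw [← mul_assoc, hexp, one_mul]
  -- step 2: the induced automorphism
  have hmapD : D.map (β : P ≃* P).toMonoidHom = D := (Subgroup.characteristic_iff_map_eq.mp hDc) β
  obtain ⟨βb, hβb⟩ : ∃ βb : MulAut (P ⧸ D),
      ∀ x : P, βb (QuotientGroup.mk x) = QuotientGroup.mk (β x) :=
    ⟨QuotientGroup.congr D D β hmapD, fun x => QuotientGroup.congr_mk D D β hmapD x⟩
  have hβbpow : ∀ (k : ℕ) (x : P),
      (βb ^ k) (QuotientGroup.mk x) = QuotientGroup.mk ((β ^ k) x) := by
    intro k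
    induction k with
    | zero => intro x; simp
    | succ k ih => intro x; rw [pow_succ, MulAut.mul_apply, hβb, ih, pow_succ, MulAut.mul_apply]
  have hβbr : βb ^ r = 1 := by
    ext v
    obtain ⟨x, rfl⟩ := QuotientGroup.mk_surjective v
    rw [hβbpow, ← hβ, pow_orderOf_eq_one]; rfl
  obtain ⟨x₀, hx₀⟩ := hβD
  have hv₀ : βb (QuotientGroup.mk x₀) ≠ QuotientGroup.mk x₀ := by
    rw [hβb]; intro h; apply hx₀
    have h1 : x₀⁻¹ * β x₀ ∈ D := QuotientGroup.eq.mp h.symm
    have e : β x₀ * x₀⁻¹ = x₀ * (x₀⁻¹ * β x₀) * x₀⁻¹ := by group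
    rw [e]; exact hDn.conj_mem _ h1 x₀
  have hfpf : ∀ u : P ⧸ D, u ≠ 1 → βb u ≠ u := by
    intro u hu1 hfix
    obtain ⟨v, hv⟩ : ∃ v, βb v ≠ v := ⟨_, hv₀⟩
    have hv1 : v ≠ 1 := by rintro rfl; exact hv (map_one βb)
    have hvu : v ≠ u := by rintro rfl; exact hv hfix
    have hn1 : (1 : P ⧸ D) ≠ u * v := by
      intro h; apply hvu
      have h2 := hmul2 u v
      rw [← h, mul_one] at h2; exact h2.symm
    have hn2 : u ≠ u * v := by
      intro h; apply hv1
      have h2 := hmul2 u v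
      rw [← h, hexp] at h2; exact h2.symm
    have hn3 : v ≠ u * v := by
      intro h; apply hu1
      have h2 : u * v * v = v * v := by rw [← h]
      rw [mul_assoc, hexp, mul_one] at h2; exact h2
    rcases four_cases hV4 1 u v (u * v) (βb v) (Ne.symm hu1) (Ne.symm hv1) hn1 (Ne.symm hvu)
      hn2 hn3 with h | h | h | h
    · exact hv1 (βb.injective (h.trans (map_one βb).symm))
    · exact hvu (βb.injective (h.trans hfix.symm))
    · exact hv h
    · apply hv
      apply fix_of_sq_fix βb r hrodd hβbr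
      rw [h, map_mul, hfix, h, hmul2]
  -- step 3: generators
  obtain ⟨a, haD⟩ : ∃ a : P, a ∉ D := by
    by_contra hcon; push_neg at hcon
    have h1 : D = ⊤ := eq_top_iff.mpr (fun x _ => hcon x)
    rw [hDdef] at h1
    rw [h1, Subgroup.index_top] at h4; omega
  obtain ⟨b, hbdef⟩ : ∃ b : P, b = β a := ⟨_, rfl⟩
  have ha1 : (QuotientGroup.mk a : P ⧸ D) ≠ 1 := fun h => haD ((QuotientGroup.eq_one_iff a).mp h)
  have hba : (QuotientGroup.mk b : P ⧸ D) ≠ QuotientGroup.mk a := by
    rw [hbdef, ← hβb]; exact hfpf _ ha1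
  have hb1 : (QuotientGroup.mk b : P ⧸ D) ≠ 1 := by
    rw [hbdef, ← hβb]; intro h; exact ha1 (βb.injective (h.trans (map_one βb).symm))
  have hcases : ∀ v : P ⧸ D, v = 1 ∨ v = QuotientGroup.mk a ∨ v = QuotientGroup.mk b ∨
      v = QuotientGroup.mk a * QuotientGroup.mk b := by
    intro v
    have hn1 : (1 : P ⧸ D) ≠ QuotientGroup.mk a * QuotientGroup.mk b := by
      intro h; apply hba
      have h2 := hmul2 (QuotientGroup.mk a : P ⧸ D) (QuotientGroup.mk b)
      rw [← h, mul_one] at h2; exact h2.symm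
    have hn2 : (QuotientGroup.mk a : P ⧸ D) ≠ QuotientGroup.mk a * QuotientGroup.mk b := by
      intro h; apply hb1
      have h2 := hmul2 (QuotientGroup.mk a : P ⧸ D) (QuotientGroup.mk b)
      rw [← h, hexp] at h2; exact h2.symm
    have hn3 : (QuotientGroup.mk b : P ⧸ D) ≠ QuotientGroup.mk a * QuotientGroup.mk b := by
      intro h; apply ha1
      have h2 : (QuotientGroup.mk a : P ⧸ D) * QuotientGroup.mk b * QuotientGroup.mk b =
          QuotientGroup.mk b * QuotientGroup.mk b := by rw [← h]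
      rw [mul_assoc, hexp, mul_one] at h2; exact h2
    exact four_cases hV4 1 _ _ _ v (Ne.symm ha1) (Ne.symm hb1) hn1 (Ne.symm hba) hn2 hn3
  have hβb2 : βb (QuotientGroup.mk b) = QuotientGroup.mk a * QuotientGroup.mk b := by
    rcases hcases (βb (QuotientGroup.mk b)) with h | h | h | h
    · exact absurd (βb.injective (h.trans (map_one βb).symm)) hb1
    · exfalso
      apply hfpf _ ha1
      apply fix_of_sq_fix βb r hrodd hβbr
      rw [hβb, ← hbdef]; exact h
    · exact absurd h (hfpf _ hb1)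
    · exact h
  have hgen : Subgroup.closure ({a, b} : Set P) = ⊤ := by
    apply frattini_nongenerating
    rw [eq_top_iff]
    intro x _
    have haK : a ∈ Subgroup.closure ({a, b} : Set P) := Subgroup.subset_closure (by simp)
    have hbK : b ∈ Subgroup.closure ({a, b} : Set P) := Subgroup.subset_closure (by simp)
    have key : ∀ y : P, y ∈ Subgroup.closure ({a, b} : Set P) →
        (QuotientGroup.mk x : P ⧸ D) = QuotientGroup.mk y →
        x ∈ Subgroup.closure ({a, b} : Set P) ⊔ frattini P := by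
      intro y hy h
      have hmem : y⁻¹ * x ∈ D := QuotientGroup.eq.mp h.symm
      have e : x = y * (y⁻¹ * x) := by group
      rw [e]; exact mul_mem (Subgroup.mem_sup_left hy) (Subgroup.mem_sup_right (hDΦ hmem))
    rcases hcases (QuotientGroup.mk x) with h | h | h | h
    · exact key 1 (one_mem _) h
    · exact key a haK h
    · exact key b hbK h
    · exact key (a * b) (mul_mem haK hbK) h
  -- step 4: the commutator c = [a, b]
  obtain ⟨c, hcdef⟩ : ∃ c : P, c = ⁅a, b⁆ := ⟨_, rfl⟩
  have hcD : c ∈ D := by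
    rw [hcdef, hDdef, commutator_def]
    exact Subgroup.commutator_mem_commutator (Subgroup.mem_top a) (Subgroup.mem_top b)
  have hsqD : ∀ u : P, u * u ∈ D := by
    intro u
    rw [← QuotientGroup.eq_one_iff, QuotientGroup.mk_mul]; exact hexp _
  have hT1 : ∀ d ∈ D, ∀ g : P, ⁅d, g⁆ ∈ T := by
    intro d hd g; rw [hTdef]; exact Subgroup.commutator_mem_commutator hd (Subgroup.mem_top g)
  have hT2 : ∀ d ∈ D, ∀ g : P, ⁅g, d⁆ ∈ T := by
    intro d hd g
    have e : ⁅g, d⁆ = ⁅d, g⁆⁻¹ := by simp only [commutatorElement_def]; group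
    rw [e]; exact inv_mem (hT1 d hd g)
  have hc2T : c * c ∈ T := by
    have e : c * c = ⁅a, c⁆⁻¹ * ⁅a * a, b⁆ := by
      rw [hcdef]; simp only [commutatorElement_def]; group
    rw [e]; exact mul_mem (inv_mem (hT2 c hcD a)) (hT1 _ (hsqD a) b)
  obtain ⟨M, hMn, hM⟩ := exists_two_coset_subgroup T c hc2T (fun g => hT1 _ (inv_mem hcD) g)
  haveI := hMn
  have hDM : D ≤ M := by
    rw [hDdef]
    apply commutator_le_of_gens M {a, b} hgen
    have h1 : (1 : P) ∈ M := one_mem M
    have hcM : c ∈ M := (hM c).mpr (Or.inr (by rw [inv_mul_cancel]; exact one_mem T))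
    intro x hx y hy
    rw [Set.mem_insert_iff, Set.mem_singleton_iff] at hx hy
    rcases hx with hx | hx <;> rcases hy with hy | hy
    · rw [hx, hy, commutatorElement_self]; exact h1
    · rw [hx, hy, ← hcdef]; exact hcM
    · have e : ⁅b, a⁆ = c⁻¹ := by rw [hcdef]; simp only [commutatorElement_def]; group
      rw [hx, hy, e]; exact inv_mem hcM
    · rw [hx, hy, commutatorElement_self]; exact h1
  have hDcases : ∀ d ∈ D, d ∈ T ∨ c⁻¹ * d ∈ T := fun d hd => (hM d).mp (hDM hd)
  have hDne : D ≠ ⊥ := by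
    intro hbot
    apply hna
    refine ⟨⟨fun x y => ?_⟩⟩
    have h1 : ⁅x, y⁆ ∈ D := by
      rw [hDdef, commutator_def]
      exact Subgroup.commutator_mem_commutator (Subgroup.mem_top x) (Subgroup.mem_top y)
    rw [hbot, Subgroup.mem_bot] at h1
    exact commutatorElement_eq_one_iff_mul_comm.mp h1
  have hcT : c ∉ T := by
    intro hc
    apply hDne
    apply eq_bot_of_le_commutator D
    rw [← hTdef]
    intro d hd
    rcases hDcases d hd with h | h
    · exact h
    · have e : d = c * (c⁻¹ * d) := by group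
      rw [e]; exact mul_mem hc h
  have hddT : ∀ d ∈ D, d * d ∈ T := by
    intro d hd
    rcases hDcases d hd with h | h
    · exact mul_mem h h
    · have e : d * d = (c * c) * (c⁻¹ * (c⁻¹ * d) * c⁻¹⁻¹) * (c⁻¹ * d) := by group
      rw [e]; exact mul_mem (mul_mem hc2T (hTn.conj_mem _ h c⁻¹)) h
  -- step 5: β-invariance
  have hβT : ∀ x, β x ∈ T ↔ x ∈ T := by
    intro x
    have h := Subgroup.characteristic_iff_comap_eq.mp hTc β
    constructor
    · intro hx; rw [← h]; exact hx
    · intro hx; rw [← h] at hx; exact hx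
  -- the element d with β b = a b d
  obtain ⟨d, hddef⟩ : ∃ d : P, d = (a * b)⁻¹ * β b := ⟨_, rfl⟩
  have hdD : d ∈ D := by
    rw [hddef]
    apply QuotientGroup.eq.mp
    rw [QuotientGroup.mk_mul, ← hβb2, hβb]
  have hβbb : β b * β b = (a * b) * (a * b) * ⁅(a * b)⁻¹, d⁆ * (d * d) := by
    rw [hddef]; simp only [commutatorElement_def]; group
  have habab : (a * b) * (a * b) = (a * a) * ⁅a⁻¹, b⁆ * (b * b) := by
    simp only [commutatorElement_def]; group
  have hbb' : b * b = β (a * a) := by rw [map_mul, hbdef]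
  have haa : a * a ∉ T := by
    intro h
    have h1 : b * b ∈ T := by rw [hbb']; exact (hβT _).mpr h
    have h2 : β b * β b ∈ T := by rw [← map_mul]; exact (hβT _).mpr h1
    have h3 : (a * b) * (a * b) ∈ T := by
      have e : (a * b) * (a * b) = (β b * β b) * (d * d)⁻¹ * ⁅(a * b)⁻¹, d⁆⁻¹ := by
        rw [hβbb]; group
      rw [e]
      exact mul_mem (mul_mem h2 (inv_mem (hddT d hdD))) (inv_mem (hT2 d hdD _))
    have h4 : ⁅a⁻¹, b⁆ ∈ T := by
      have e : ⁅a⁻¹, b⁆ = (a * a)⁻¹ * ((a * b) * (a * b)) * (b * b)⁻¹ := by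
        rw [habab]; group
      rw [e]; exact mul_mem (mul_mem (inv_mem h) h3) (inv_mem h1)
    apply hcT
    have e : c = (a * ⁅a⁻¹, b⁆ * a⁻¹)⁻¹ := by
      rw [hcdef]; simp only [commutatorElement_def]; group
    rw [e]; exact inv_mem (hTn.conj_mem _ h4 a)
  have hbb : b * b ∉ T := by
    rw [hbb']; intro h; exact haa ((hβT _).mp h)
  have hab2 : (a * b) * (a * b) ∉ T := by
    intro h
    have h2 : β b * β b ∉ T := by rw [← map_mul]; intro h'; exact hbb ((hβT _).mp h')
    apply h2
    rw [hβbb]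
    exact mul_mem (mul_mem h (hT2 d hdD _)) (hddT d hdD)
  -- step 6: T is trivial
  have hDa : ∀ (u : P), u * u ∉ T → ∀ d ∈ D, d ∈ T ∨ (u * u)⁻¹ * d ∈ T := by
    intro u hu d hd
    rcases hDcases d hd with h | h
    · exact Or.inl h
    · right
      rcases hDcases (u * u) (hsqD u) with h' | h'
      · exact absurd h' hu
      · have e : (u * u)⁻¹ * d = (c⁻¹ * (u * u))⁻¹ * (c⁻¹ * d) := by group
        rw [e]; exact mul_mem (inv_mem h') h
  obtain ⟨U, hUdef⟩ : ∃ U : Subgroup P, U = ⁅T, (⊤ : Subgroup P)⁆ := ⟨_, rfl⟩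
  haveI hUn : U.Normal := by rw [hUdef]; infer_instance
  have hU1 : ∀ t ∈ T, ∀ g : P, ⁅t, g⁆ ∈ U := by
    intro t ht g; rw [hUdef]; exact Subgroup.commutator_mem_commutator ht (Subgroup.mem_top g)
  have hUgen : ∀ (u : P), u * u ∉ T → ∀ d ∈ D, ⁅d, u⁆ ∈ U := by
    intro u hu d hd
    rcases hDa u hu d hd with h | h
    · exact hU1 d h u
    · have e : ⁅d, u⁆ = (u * u) * ⁅(u * u)⁻¹ * d, u⁆ * (u * u)⁻¹ := by
        simp only [commutatorElement_def]; group
      rw [e]; exact hUn.conj_mem _ (hU1 _ h u) _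
  have hTbot : T = ⊥ := by
    apply eq_bot_of_le_commutator T
    rw [← hUdef]
    nth_rewrite 1 [hTdef]
    rw [Subgroup.commutator_le]
    intro d hd g hg'
    clear hg'
    have hg : g ∈ Subgroup.closure ({a, b} : Set P) := hgen ▸ Subgroup.mem_top g
    induction hg using Subgroup.closure_induction with
    | mem y hy =>
      rcases hy with rfl | rfl
      · exact hUgen _ haa d hd
      · exact hUgen _ hbb d hd
    | one => rw [commutatorElement_one_right]; exact one_mem _
    | mul y z _ _ ihy ihz =>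
      have e : ⁅d, y * z⁆ = ⁅d, y⁆ * (y * ⁅d, z⁆ * y⁻¹) := by
        simp only [commutatorElement_def]; group
      rw [e]; exact mul_mem ihy (hUn.conj_mem _ ihz y)
    | inv y _ ihy =>
      have e : ⁅d, y⁻¹⁆ = y⁻¹ * ⁅d, y⁆⁻¹ * y⁻¹⁻¹ := by
        simp only [commutatorElement_def]; group
      rw [e]; exact hUn.conj_mem _ (inv_mem ihy) y⁻¹
  -- step 7: recognition
  have hval : ∀ u : P, u * u ∉ T → u * u = c := by
    intro u hu
    rcases hDcases (u * u) (hsqD u) with h | h
    · exact absurd h hu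
    · rw [hTbot, Subgroup.mem_bot] at h
      exact (inv_mul_eq_one.mp h).symm
  have hcc : c * c = 1 := by
    have h := hc2T
    rw [hTbot, Subgroup.mem_bot] at h; exact h
  have hc1 : c ≠ 1 := by
    intro h; apply hcT; rw [h]; exact one_mem T
  have e1 : a * a = c := hval a haa
  have e2 : b * b = c := hval b hbb
  have e3 : (a * b) * (a * b) = c := hval (a * b) hab2
  have horda : orderOf a = 4 := by
    refine orderOf_eq_prime_pow (p := 2) (n := 1) ?_ ?_
    · show ¬ a ^ 2 = 1
      rw [pow_two, e1]; exact hc1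
    · show a ^ 4 = 1
      have e : a ^ 4 = (a * a) * (a * a) := by
        rw [show 4 = 2 + 2 from rfl, pow_add, pow_two]
      rw [e, e1, hcc]
  have hrel1 : b * b = a ^ 2 := by rw [pow_two, e1, e2]
  have hrel2 : b * a * b⁻¹ = a⁻¹ := by
    have e : b * a * b⁻¹ = a⁻¹ * ((a * b) * (a * b)) * (b * b)⁻¹ := by group
    rw [e, e3, e2, mul_assoc, mul_inv_cancel, mul_one]
  obtain ⟨F, hFinj, hFrange, -, -⟩ := Helper23.quat_hom a b horda hrel1 hrel2
  have hFsurj : Function.Surjective F := by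
    rw [← MonoidHom.range_eq_top, hFrange, hgen]
  exact ⟨(MulEquiv.ofBijective F ⟨hFinj, hFsurj⟩).symm⟩

end Cfsg.Agent.S4189
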