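import Cfsg.Statements.S0071
import Cfsg.Agent.S0072
import Mathlib

set_option autoImplicit false
open Cfsg
open Cfsg.Agent.S0072
open scoped Pointwise commutatorElement

universe u

namespace Cfsg.Agent.S0071

/-- the Frobenius condition: `p'`-elements normalizing a `p`-subgroup centralize it -/
def Phi (p : ℕ) (G : Type*) [Group G] : Prop :=
  ∀ Q : Subgroup G, IsPGroup p Q → ∀ g ∈ Subgroup.normalizer (Q : Set G),
    Nat.Coprime (orderOf g) p → g ∈ Subgroup.centralizer (Q : Set G)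

theorem compl_of_data {H : Type*} [Group H] [Finite H] (p : ℕ) [Fact p.Prime] (P : Sylow p H)
    (N : Subgroup H) (hcop : (Nat.card N).Coprime p) (k : ℕ) (hk : N.index = p ^ k) :
    N.IsComplement' (P : Subgroup H) := by
  have hcard : Nat.card N * p ^ k = Nat.card H := by rw [← hk]; exact N.card_mul_index
  have hPk : Nat.card (P : Subgroup H) = p ^ k := by
    apply Nat.dvd_antisymm
    · obtain ⟨j, hj⟩ := P.2.exists_card_eq
      have h1 : Nat.card (P : Subgroup H) ∣ Nat.card N * p ^ k := by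
        rw [hcard]; exact Subgroup.card_subgroup_dvd_card _
      have h2 : (Nat.card (P : Subgroup H)).Coprime (Nat.card N) := by
        rw [hj]; exact (Nat.Coprime.pow_right j hcop).symm
      exact h2.dvd_of_dvd_mul_left h1
    · apply P.pow_dvd_card_of_pow_dvd_card
      rw [← hcard]; exact Dvd.intro_left _ rfl
  apply Subgroup.isComplement'_of_coprime
  · rw [hPk]; exact hcard
  · rw [hPk]; exact Nat.Coprime.pow_right k hcop

variable {G : Type*} [Group G]

theorem hfac_of_Phi [Finite G] (p : ℕ) [Fact p.Prime] (hPhi : Phi p G)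
    (Q : Subgroup G) (hQ : IsPGroup p Q)
    (S : Sylow p ↥(Subgroup.normalizer (Q : Set G))) (n : G)
    (hn : n ∈ Subgroup.normalizer (Q : Set G)) :
    ∃ s : ↥(Subgroup.normalizer (Q : Set G)), s ∈ S ∧
      ∀ x ∈ Q, n * x * n⁻¹ = (s : G) * x * (s : G)⁻¹ := by
  have hCn : ((Subgroup.centralizer (Q : Set G)).subgroupOf (Subgroup.normalizer (Q : Set G))).Normal := by
    constructor
    intro c hc m
    rw [Subgroup.mem_subgroupOf] at hc ⊢
    rw [Subgroup.mem_centralizer_iff] at hc ⊢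
    intro x hx
    have hx' : (m : G)⁻¹ * x * (m : G) ∈ Q := by
      have := (Subgroup.mem_normalizer_iff.mp (inv_mem m.2) x).mp hx
      simpa using this
    have h1 := hc _ hx'
    show x * ((m : G) * (c : G) * (m : G)⁻¹) = (m : G) * (c : G) * (m : G)⁻¹ * x
    calc x * ((m : G) * (c : G) * (m : G)⁻¹)
        = (m : G) * (((m : G)⁻¹ * x * (m : G)) * (c : G)) * (m : G)⁻¹ := by group
      _ = (m : G) * ((c : G) * ((m : G)⁻¹ * x * (m : G))) * (m : G)⁻¹ := by rw [h1]
      _ = (m : G) * (c : G) * (m : G)⁻¹ * x := by group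
  have hq : IsPGroup p (↥(Subgroup.normalizer (Q : Set G)) ⧸
      (Subgroup.centralizer (Q : Set G)).subgroupOf (Subgroup.normalizer (Q : Set G))) := by
    intro y
    obtain ⟨m, rfl⟩ := QuotientGroup.mk_surjective y
    obtain ⟨a, c, ha, hc, hmac, ⟨j, hj⟩, hcop⟩ := Cfsg.Agent.S0667.exists_p_decomp p m
    refine ⟨j, ?_⟩
    have hcC : c ∈ (Subgroup.centralizer (Q : Set G)).subgroupOf (Subgroup.normalizer (Q : Set G)) := by
      rw [Subgroup.mem_subgroupOf]
      apply hPhi Q hQ _ c.2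
      rw [Subgroup.orderOf_coe]
      exact hcop
    have h1 : (QuotientGroup.mk m : ↥(Subgroup.normalizer (Q : Set G)) ⧸
        (Subgroup.centralizer (Q : Set G)).subgroupOf (Subgroup.normalizer (Q : Set G)))
        = QuotientGroup.mk a := by
      rw [hmac, QuotientGroup.mk_mul, (QuotientGroup.eq_one_iff c).mpr hcC, mul_one]
    rw [h1, ← QuotientGroup.mk_pow, hj]
    rfl
  obtain ⟨k, hk⟩ := hq.exists_card_eq
  have hidx : ((Subgroup.centralizer (Q : Set G)).subgroupOf (Subgroup.normalizer (Q : Set G))).index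
      = p ^ k := by rw [Subgroup.index_eq_card]; exact hk
  obtain ⟨s, hs, hsn⟩ := exists_sylow_mul p _ k hidx S ⟨n, hn⟩
  refine ⟨s, hs, fun x hx => ?_⟩
  rw [Subgroup.mem_subgroupOf, Subgroup.mem_centralizer_iff] at hsn
  have h := hsn x hx
  have h6 : ((s⁻¹ * ⟨n, hn⟩ : ↥(Subgroup.normalizer (Q : Set G))) : G) = (s : G)⁻¹ * n := rfl
  rw [h6] at h
  calc n * x * n⁻¹ = (s : G) * (((s : G)⁻¹ * n) * x) * n⁻¹ := by group
    _ = (s : G) * (x * ((s : G)⁻¹ * n)) * n⁻¹ := by rw [h]
    _ = (s : G) * x * (s : G)⁻¹ := by group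

theorem control_fusion' [Finite G] (p : ℕ) [Fact p.Prime]
    (hfac : ∀ Q : Subgroup G, IsPGroup p Q →
      ∀ (S : Sylow p ↥(Subgroup.normalizer (Q : Set G))) (n : G),
      n ∈ Subgroup.normalizer (Q : Set G) →
      ∃ s : ↥(Subgroup.normalizer (Q : Set G)), s ∈ S ∧
        ∀ x ∈ Q, n * x * n⁻¹ = (s : G) * x * (s : G)⁻¹)
    (P : Sylow p G) :
    ∀ (d : ℕ) (Q : Subgroup G), Q ≤ (P : Subgroup G) →
      Nat.card (P : Subgroup G) - Nat.card Q < d →
      ∀ g : G, (∀ x ∈ Q, g * x * g⁻¹ ∈ (P : Subgroup G)) →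
      ∃ u ∈ (P : Subgroup G), ∀ x ∈ Q, g * x * g⁻¹ = u * x * u⁻¹ := by
  intro d
  induction d with
  | zero => intro Q _ h; exact absurd h (Nat.not_lt_zero _)
  | succ d ih =>
    intro Q hQP hd g hg
    have hQp : IsPGroup p Q := P.2.to_le hQP
    rcases lt_or_eq_of_le hQP with hlt | heq
    · have ih' : ∀ Q' : Subgroup G, Q' ≤ (P : Subgroup G) → Nat.card Q < Nat.card Q' →
          ∀ g : G, (∀ x ∈ Q', g * x * g⁻¹ ∈ (P : Subgroup G)) →
          ∃ u ∈ (P : Subgroup G), ∀ x ∈ Q', g * x * g⁻¹ = u * x * u⁻¹ := by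
        intro Q' hQ'P hc
        apply ih Q' hQ'P
        have : Nat.card Q' ≤ Nat.card (P : Subgroup G) := Subgroup.card_le_of_le hQ'P
        omega
      have hRP : Q.map (MulAut.conj g).toMonoidHom ≤ (P : Subgroup G) := by
        rintro _ ⟨x, hx, rfl⟩; exact hg x hx
      have hRcard : Nat.card (Q.map (MulAut.conj g).toMonoidHom) = Nat.card Q :=
        Subgroup.card_map_of_injective (f := (MulAut.conj g).toMonoidHom) (MulAut.conj g).injective
      have hRlt : Q.map (MulAut.conj g).toMonoidHom < (P : Subgroup G) := by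
        refine lt_of_le_of_ne hRP (fun h => ?_)
        have h1 : Nat.card Q < Nat.card (P : Subgroup G) := Cfsg.Agent.S0653.card_lt_of_lt hlt
        have h2 : Nat.card (Q.map (MulAut.conj g).toMonoidHom) = Nat.card (P : Subgroup G) := by
          rw [h]
        omega
      obtain ⟨SR, hSR⟩ := fully_normalized p P _ hRlt (by rw [hRcard]; exact ih')
      have hQQ₁ := lt_inf_normalizer p P Q hlt
      have hTN : ∀ x ∈ (P : Subgroup G) ⊓ Subgroup.normalizer (Q : Set G),
          g * x * g⁻¹ ∈ Subgroup.normalizer ((Q.map (MulAut.conj g).toMonoidHom : Subgroup G) : Set G) := by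
        intro x hx
        apply Cfsg.Agent.S0650.mem_normalizer_of_conj
        rintro _ ⟨y, hy, rfl⟩
        refine ⟨x * y * x⁻¹, (Subgroup.mem_normalizer_iff.mp hx.2 y).mp hy, ?_⟩
        show g * (x * y * x⁻¹) * g⁻¹ = g * x * g⁻¹ * (g * y * g⁻¹) * (g * x * g⁻¹)⁻¹
        group
      have hT'p : IsPGroup p ↥((((P : Subgroup G) ⊓ Subgroup.normalizer (Q : Set G)).map
          (MulAut.conj g).toMonoidHom).subgroupOf
          (Subgroup.normalizer ((Q.map (MulAut.conj g).toMonoidHom : Subgroup G) : Set G))) :=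
        ((P.2.to_le inf_le_left).map _).comap_subtype
      obtain ⟨n, hn⟩ := exists_conj_mem_sylow p _ hT'p SR
      have hg₂ : ∀ x ∈ (P : Subgroup G) ⊓ Subgroup.normalizer (Q : Set G),
          ((n : G) * g) * x * ((n : G) * g)⁻¹ ∈ (P : Subgroup G) := by
        intro x hx
        have h1 := hn ⟨g * x * g⁻¹, hTN x hx⟩
          (by rw [Subgroup.mem_subgroupOf]; exact ⟨x, hx, rfl⟩)
        have h2 : (n : G) * (g * x * g⁻¹) * (n : G)⁻¹ ∈ (SR : Subgroup _).map
            (Subgroup.normalizer ((Q.map (MulAut.conj g).toMonoidHom : Subgroup G) : Set G)).subtype :=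
          ⟨_, h1, rfl⟩
        rw [hSR] at h2
        have h3 : ((n : G) * g) * x * ((n : G) * g)⁻¹ = (n : G) * (g * x * g⁻¹) * (n : G)⁻¹ := by
          group
        rw [h3]
        exact h2.1
      obtain ⟨u₂, hu₂, hu₂x⟩ := ih' _ inf_le_left (Cfsg.Agent.S0653.card_lt_of_lt hQQ₁)
        ((n : G) * g) hg₂
      have hRp : IsPGroup p ↥(Q.map (MulAut.conj g).toMonoidHom) := P.2.to_le hRP
      obtain ⟨s, hs, hsx⟩ := hfac _ hRp SR (n : G) n.2
      have hsP : (s : G) ∈ (P : Subgroup G) := by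
        have : (s : G) ∈ (SR : Subgroup _).map
            (Subgroup.normalizer ((Q.map (MulAut.conj g).toMonoidHom : Subgroup G) : Set G)).subtype :=
          ⟨s, hs, rfl⟩
        rw [hSR] at this; exact this.1
      refine ⟨(s : G)⁻¹ * u₂, mul_mem (inv_mem hsP) hu₂, fun x hx => ?_⟩
      have h1 := hsx (g * x * g⁻¹) ⟨x, hx, rfl⟩
      have h2 := hu₂x x (hQQ₁.le hx)
      have h3 : (s : G) * (g * x * g⁻¹) * (s : G)⁻¹ = u₂ * x * u₂⁻¹ := by
        rw [← h1, ← h2]; group
      calc g * x * g⁻¹ = (s : G)⁻¹ * ((s : G) * (g * x * g⁻¹) * (s : G)⁻¹) * (s : G) := by group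
        _ = (s : G)⁻¹ * (u₂ * x * u₂⁻¹) * (s : G) := by rw [h3]
        _ = ((s : G)⁻¹ * u₂) * x * ((s : G)⁻¹ * u₂)⁻¹ := by group
    · subst heq
      have hgN : g ∈ Subgroup.normalizer ((P : Subgroup G) : Set G) :=
        Cfsg.Agent.S0650.mem_normalizer_of_conj _ g hg
      obtain ⟨S⟩ : Nonempty (Sylow p ↥(Subgroup.normalizer ((P : Subgroup G) : Set G))) :=
        inferInstance
      obtain ⟨s, hs, hsx⟩ := hfac P P.2 S g hgN
      have hle := Cfsg.Agent.S0658.le_sylow_normalizer (P : Subgroup G) P.2 S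
      have hSp : IsPGroup p ((S : Subgroup _).map
          (Subgroup.normalizer ((P : Subgroup G) : Set G)).subtype) := S.2.map _
      have heq2 := P.is_maximal' hSp hle
      refine ⟨s, ?_, hsx⟩
      have h : (s : G) ∈ (S : Subgroup _).map
          (Subgroup.normalizer ((P : Subgroup G) : Set G)).subtype := ⟨s, hs, rfl⟩
      exact (le_of_eq heq2) h

theorem exists_normal_of_control [Finite G] (p : ℕ) [Fact p.Prime] (P : Sylow p G)
    (hP1 : (P : Subgroup G) ≠ ⊥)
    (hcf : ∀ (Q : Subgroup G), Q ≤ (P : Subgroup G) →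
      ∀ g : G, (∀ x ∈ Q, g * x * g⁻¹ ∈ (P : Subgroup G)) →
      ∃ u ∈ (P : Subgroup G), ∀ x ∈ Q, g * x * g⁻¹ = u * x * u⁻¹) :
    ∃ M : Subgroup G, M.Normal ∧ M ≠ ⊤ ∧ ∃ k, M.index = p ^ k := by
  have hfoc : commutator G ⊓ (P : Subgroup G) = ⁅(P : Subgroup G), (P : Subgroup G)⁆ := by
    apply commutator_inf_sylow_of_control
    rintro x hx y hy ⟨g, rfl⟩
    obtain ⟨u, hu, hux⟩ := hcf (Subgroup.zpowers x)
      (by rw [Subgroup.zpowers_le]; exact hx) g (fun z hz => by
        obtain ⟨k, rfl⟩ := Subgroup.mem_zpowers_iff.mp hz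
        rw [← conj_zpow]
        exact zpow_mem hy k)
    exact ⟨u, hu, (hux x (Subgroup.mem_zpowers x)).symm⟩
  have hne := commutator_ne_self_of_isPGroup (P : Subgroup G) P.2 hP1
  have hx : ∃ x ∈ (P : Subgroup G), x ∉ commutator G := by
    by_contra hcon
    push Not at hcon
    apply hne
    rw [← hfoc]
    exact inf_eq_right.mpr hcon
  obtain ⟨x, hxP, hxC⟩ := hx
  have hpp : (Nat.card (Abelianization G)) ≠ 0 := Nat.card_pos.ne'
  obtain ⟨m, r, hr, hmr⟩ : ∃ m r : ℕ, r.Coprime p ∧ p ^ m * r = Nat.card (Abelianization G) :=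
    ⟨_, _, (Nat.coprime_ordCompl Fact.out hpp).symm,
      Nat.ordProj_mul_ordCompl_eq_self _ p⟩
  have hψr : IsPGroup p (((powMonoidHom r).comp Abelianization.of : G →* Abelianization G)).range := by
    rintro ⟨_, a, rfl⟩
    refine ⟨m, ?_⟩
    apply Subtype.ext
    show ((Abelianization.of a) ^ r) ^ (p ^ m) = 1
    rw [← pow_mul, mul_comm, hmr]
    exact pow_card_eq_one'
  obtain ⟨k, hk⟩ := hψr.exists_card_eq
  refine ⟨(((powMonoidHom r).comp Abelianization.of : G →* Abelianization G)).ker,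
    inferInstance, ?_, k, ?_⟩
  · intro htop
    have hxM : x ∈ (((powMonoidHom r).comp Abelianization.of : G →* Abelianization G)).ker := by
      rw [htop]; trivial
    rw [MonoidHom.mem_ker] at hxM
    have h1 : (Abelianization.of x) ^ r = 1 := hxM
    obtain ⟨j, hj⟩ := (P.2 ⟨x, hxP⟩)
    have hj' : x ^ p ^ j = 1 := congrArg Subtype.val hj
    have h2 : (Abelianization.of x) ^ (p ^ j) = 1 := by
      rw [← map_pow, hj', map_one]
    have h3 : orderOf (Abelianization.of x) ∣ Nat.gcd r (p ^ j) :=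
      Nat.dvd_gcd (orderOf_dvd_of_pow_eq_one h1) (orderOf_dvd_of_pow_eq_one h2)
    rw [Nat.Coprime.gcd_eq_one (Nat.Coprime.pow_right j hr)] at h3
    have h4 : Abelianization.of x = 1 := orderOf_eq_one_iff.mp (Nat.dvd_one.mp h3)
    apply hxC
    rw [← Abelianization.ker_of G, MonoidHom.mem_ker]
    exact h4
  · rw [Subgroup.index_ker]; exact hk

theorem npc_of_normal_index [Finite G] (p : ℕ) [Fact p.Prime] (M : Subgroup G) [hMn : M.Normal]
    (k : ℕ) (hMidx : M.index = p ^ k) (hM : Cfsg.HasNormalPComplement p ↥M) :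
    Cfsg.HasNormalPComplement p G := by
  rw [npc_iff] at hM
  obtain ⟨K', hK'n, hcop', k', hk'⟩ := hM
  rw [npc_iff]
  have hKn : (K'.map M.subtype).Normal := by
    constructor
    rintro _ ⟨y, hy, rfl⟩ g
    have hgM : g * (y : G) * g⁻¹ ∈ M := hMn.conj_mem _ y.2 g
    refine ⟨⟨_, hgM⟩, ?_, rfl⟩
    apply mem_of_coprime_pow p K' k' hk' _ (Nat.card K') hcop'
    apply Subtype.ext
    have hy1 : (⟨y, hy⟩ : ↥K') ^ Nat.card K' = 1 := pow_card_eq_one'
    have hy3 : y ^ Nat.card K' = 1 := by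
      have := congrArg Subtype.val hy1
      exact this
    have hy2 : (y : G) ^ Nat.card K' = 1 := by
      have := congrArg Subtype.val hy3
      exact this
    show (g * (y : G) * g⁻¹) ^ Nat.card K' = 1
    rw [conj_pow, hy2, mul_one, mul_inv_cancel]
  refine ⟨K'.map M.subtype, hKn, ?_, k' + k, ?_⟩
  · rw [Subgroup.card_map_of_injective M.subtype_injective]
    exact hcop'
  · rw [Subgroup.index_map_subtype, hk', hMidx, pow_add]

theorem Phi_subgroup (p : ℕ) (M : Subgroup G) (h : Phi p G) : Phi p ↥M := by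
  intro Q hQ g hg hcop
  have hmem : (g : G) ∈ Subgroup.normalizer ((Q.map M.subtype : Subgroup G) : Set G) := by
    rw [Subgroup.mem_normalizer_iff]
    intro x
    constructor
    · rintro ⟨z, hz, rfl⟩
      exact ⟨g * z * g⁻¹, (Subgroup.mem_normalizer_iff.mp hg z).mp hz, rfl⟩
    · rintro ⟨z, hz, hzx⟩
      have hxM : x ∈ M := by
        have hzx' : (z : G) = (g : G) * x * (g : G)⁻¹ := hzx
        have : x = (g : G)⁻¹ * (z : G) * (g : G) := by rw [hzx']; group
        rw [this]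
        exact mul_mem (mul_mem (inv_mem g.2) z.2) g.2
      refine ⟨⟨x, hxM⟩, ?_, rfl⟩
      apply (Subgroup.mem_normalizer_iff.mp hg ⟨x, hxM⟩).mpr
      have : g * ⟨x, hxM⟩ * g⁻¹ = z := Subtype.ext hzx.symm
      rw [this]; exact hz
  have hc := h (Q.map M.subtype) (hQ.map _) (g : G) hmem (by rw [Subgroup.orderOf_coe]; exact hcop)
  rw [Subgroup.mem_centralizer_iff] at hc ⊢
  intro x hx
  exact Subtype.ext (hc (x : G) ⟨x, hx, rfl⟩)

theorem phi_aux (p : ℕ) [Fact p.Prime] :
    ∀ (n : ℕ) (G : Type u) [Group G] [Finite G], Nat.card G = n → Phi p G →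
      Cfsg.HasNormalPComplement p G := by
  intro n
  induction n using Nat.strong_induction_on with
  | _ n ih =>
    intro G _ _ hn hPhi
    obtain ⟨P⟩ : Nonempty (Sylow p G) := inferInstance
    by_cases hP1 : (P : Subgroup G) = ⊥
    · refine ⟨P, ⊤, inferInstance, ?_⟩
      rw [hP1]
      exact Subgroup.isComplement'_top_bot
    have hcf := control_fusion' p (hfac_of_Phi p hPhi) P
    obtain ⟨M, hMn, hMtop, k, hMidx⟩ := exists_normal_of_control p P hP1
      (fun Q hQP g hg => hcf (Nat.card (P : Subgroup G) + 1) Q hQP (by omega) g hg)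
    have hMlt : Nat.card M < n := by
      rw [← hn]
      have hMtop' : M < ⊤ := lt_of_le_of_ne le_top hMtop
      have := Cfsg.Agent.S0653.card_lt_of_lt hMtop'
      rwa [Subgroup.card_top] at this
    exact npc_of_normal_index p M k hMidx (ih (Nat.card M) hMlt ↥M rfl (Phi_subgroup p M hPhi))

/-- The Frobenius normal p-complement Theorem states that a Sylow p-subgroup has a normal complement exactly when, for each of its subgroups Q, every element of the normalizer of Q of order prime to p centralizes Q. -/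
theorem result {G : Type*} [Group G] [Finite G] {p : ℕ} [Fact p.Prime] (P : Sylow p G) : (∃ N : Subgroup G, N.Normal ∧ N.IsComplement' (P : Subgroup G)) ↔ ∀ Q : Subgroup G, Q ≤ (P : Subgroup G) → ∀ g ∈ Subgroup.normalizer (Q : Set G), Nat.Coprime (orderOf g) p → g ∈ Subgroup.centralizer (Q : Set G) := by
  constructor
  · rintro ⟨N, hN, hc⟩ Q hQP g hg hcop
    obtain ⟨k, hk⟩ := P.2.exists_card_eq
    have hidx : N.index = p ^ k := by rw [← hk]; exact hc.symm.index_eq_card
    have hgN : g ∈ N := mem_of_coprime_pow p N k hidx g (orderOf g) hcop (pow_orderOf_eq_one g)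
    rw [Subgroup.mem_centralizer_iff]
    intro x hx
    have h1 : g * x * g⁻¹ * x⁻¹ ∈ N := by
      have h := hN.conj_mem g⁻¹ (inv_mem hgN) x
      have h2 := mul_mem hgN h
      have h4 : g * x * g⁻¹ * x⁻¹ = g * (x * g⁻¹ * x⁻¹) := by group
      rw [h4]; exact h2
    have h2 : g * x * g⁻¹ * x⁻¹ ∈ (P : Subgroup G) := by
      have h5 : g * x * g⁻¹ ∈ Q := (Subgroup.mem_normalizer_iff.mp hg x).mp hx
      exact mul_mem (hQP h5) (inv_mem (hQP hx))
    have h3 : g * x * g⁻¹ * x⁻¹ = 1 := by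
      have : g * x * g⁻¹ * x⁻¹ ∈ N ⊓ (P : Subgroup G) := ⟨h1, h2⟩
      rwa [hc.disjoint.eq_bot, Subgroup.mem_bot] at this
    have h4 : g * x * g⁻¹ = x := mul_inv_eq_one.mp h3
    calc x * g = g * x * g⁻¹ * g := by rw [h4]
      _ = g * x := by group
  · intro h
    have hPhi : Phi p G := by
      intro Q hQ g hg hcop
      obtain ⟨c, hc⟩ := exists_conj_mem_sylow p Q hQ P
      have hle : Q.map (MulAut.conj c).toMonoidHom ≤ (P : Subgroup G) := by
        rintro _ ⟨x, hx, rfl⟩; exact hc x hx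
      have hgn : c * g * c⁻¹ ∈ Subgroup.normalizer ((Q.map (MulAut.conj c).toMonoidHom : Subgroup G) : Set G) := by
        apply Cfsg.Agent.S0650.mem_normalizer_of_conj
        rintro _ ⟨y, hy, rfl⟩
        refine ⟨g * y * g⁻¹, (Subgroup.mem_normalizer_iff.mp hg y).mp hy, ?_⟩
        show c * (g * y * g⁻¹) * c⁻¹ = c * g * c⁻¹ * (c * y * c⁻¹) * (c * g * c⁻¹)⁻¹
        group
      have hord : orderOf (c * g * c⁻¹) = orderOf g :=
        orderOf_injective (MulAut.conj c).toMonoidHom (MulAut.conj c).injective g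
      have h1 := h _ hle (c * g * c⁻¹) hgn (by rw [hord]; exact hcop)
      rw [Subgroup.mem_centralizer_iff] at h1 ⊢
      intro x hx
      have h2 := h1 (c * x * c⁻¹) ⟨x, hx, rfl⟩
      calc x * g = c⁻¹ * ((c * x * c⁻¹) * (c * g * c⁻¹)) * c := by group
        _ = c⁻¹ * ((c * g * c⁻¹) * (c * x * c⁻¹)) * c := by rw [h2]
        _ = g * x := by group
    have hnpc := phi_aux p _ G rfl hPhi
    rw [npc_iff] at hnpc
    obtain ⟨N, hN, hcop, k, hk⟩ := hnpc
    exact ⟨N, hN, compl_of_data p P N hcop k hk⟩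

end Cfsg.Agent.S0071
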