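import Cfsg.Statements.S0132
import Cfsg.Agent.S0071
import Mathlib

set_option autoImplicit false
open Cfsg
open Cfsg.Agent.S0072
open scoped Pointwise

namespace Cfsg.Agent.S0132

/-- In a nilpotent group, elements of coprime (finite) orders commute. -/
theorem commute_of_nilpotent_coprime (N : Type*) [Group N] [Group.IsNilpotent N] :
    ∀ (z t : N) (a b : ℕ), a.Coprime b → z ^ a = 1 → t ^ b = 1 → z * t = t * z := by
  refine Group.nilpotent_center_quotient_ind
    (P := fun G _ _ => ∀ (z t : G) (a b : ℕ), a.Coprime b → z ^ a = 1 → t ^ b = 1 → z * t = t * z)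
    N ?_ ?_
  · intro G _ _ z t a b _ _ _; exact Subsingleton.elim _ _
  · intro G _ _ ih
    intro z t a b hab hz ht
    have h1 := ih (QuotientGroup.mk z) (QuotientGroup.mk t) a b hab
      (by rw [← QuotientGroup.mk_pow, hz]; rfl) (by rw [← QuotientGroup.mk_pow, ht]; rfl)
    -- c := z t z⁻¹ t⁻¹ is central
    set c := z * t * z⁻¹ * t⁻¹ with hc
    have hcZ : c ∈ Subgroup.center G := by
      have h2 : ((z * t * z⁻¹ * t⁻¹ : G) : G ⧸ Subgroup.center G) = 1 := by
        have h3 : ((z * t * z⁻¹ * t⁻¹ : G) : G ⧸ Subgroup.center G) =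
            (QuotientGroup.mk z * QuotientGroup.mk t) * (QuotientGroup.mk z)⁻¹ * (QuotientGroup.mk t)⁻¹ := rfl
        rw [h3, h1]; group
      exact (QuotientGroup.eq_one_iff _).1 h2
    have hcc : ∀ y : G, c * y = y * c := fun y => ((Subgroup.mem_center_iff.mp hcZ) y).symm
    -- z t z⁻¹ = c t
    have e1 : z * t * z⁻¹ = c * t := by rw [hc]; group
    have e1' : ∀ j : ℕ, z * t ^ j * z⁻¹ = c ^ j * t ^ j := by
      intro j
      induction j with
      | zero => simp
      | succ j ihj =>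
        have : z * t ^ (j + 1) * z⁻¹ = (z * t ^ j * z⁻¹) * (z * t * z⁻¹) := by
          rw [pow_succ]; group
        rw [this, ihj, e1, pow_succ, pow_succ]
        calc c ^ j * t ^ j * (c * t) = c ^ j * (t ^ j * c) * t := by group
          _ = c ^ j * (c * t ^ j) * t := by rw [hcc (t ^ j)]
          _ = c ^ j * c * (t ^ j * t) := by group
    have hcb : c ^ b = 1 := by
      have := e1' b
      rw [ht] at this
      simpa using this.symm
    -- t z⁻¹ t⁻¹ = z⁻¹ c
    have e2 : t * z⁻¹ * t⁻¹ = z⁻¹ * c := by rw [hc]; group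
    have e2' : ∀ j : ℕ, t * (z⁻¹) ^ j * t⁻¹ = (z⁻¹) ^ j * c ^ j := by
      intro j
      induction j with
      | zero => simp
      | succ j ihj =>
        have : t * (z⁻¹) ^ (j + 1) * t⁻¹ = (t * (z⁻¹) ^ j * t⁻¹) * (t * z⁻¹ * t⁻¹) := by
          rw [pow_succ]; group
        rw [this, ihj, e2, pow_succ, pow_succ]
        calc (z⁻¹) ^ j * c ^ j * (z⁻¹ * c) = (z⁻¹) ^ j * (c ^ j * z⁻¹) * c := by group
          _ = (z⁻¹) ^ j * (z⁻¹ * c ^ j) * c := by
            rw [show c ^ j * z⁻¹ = z⁻¹ * c ^ j from by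
              have := (Subgroup.mem_center_iff.mp ((Subgroup.center G).pow_mem hcZ j)) z⁻¹
              exact this.symm]
          _ = (z⁻¹) ^ j * z⁻¹ * (c ^ j * c) := by group
    have hca : c ^ a = 1 := by
      have := e2' a
      rw [inv_pow, hz] at this
      simpa using this.symm
    have hc1 : c = 1 := by
      have h1 : orderOf c ∣ a := orderOf_dvd_of_pow_eq_one hca
      have h2 : orderOf c ∣ b := orderOf_dvd_of_pow_eq_one hcb
      have := Nat.eq_one_of_dvd_coprimes hab h1 h2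
      exact orderOf_eq_one_iff.mp this
    have : z * t = c * (t * z) := by rw [hc]; group
    rw [this, hc1, one_mul]


variable {G : Type*} [Group G]

/-- a non-`p`-nilpotent group has a `p`-subgroup `Q` of the Sylow `P` and a `p'`-element
normalizing but not centralizing `Q`. -/
theorem exists_bad [Finite G] (p : ℕ) [Fact p.Prime] (P : Sylow p G)
    (h1 : ¬ Cfsg.HasNormalPComplement p G) :
    ∃ Q : Subgroup G, Q ≤ (P : Subgroup G) ∧ ∃ g ∈ Subgroup.normalizer (Q : Set G),
      Nat.Coprime (orderOf g) p ∧ g ∉ Subgroup.centralizer (Q : Set G) := by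
  by_contra hcon
  push Not at hcon
  apply h1
  obtain ⟨N, hN, hc⟩ := (Cfsg.Agent.S0071.result P).mpr (fun Q hQP g hg hcop => hcon Q hQP g hg hcop)
  exact ⟨P, N, hN, hc⟩

/-- in a `p`-nilpotent group, a `p'`-element normalizing a `p`-subgroup centralizes it -/
theorem centralizes_of_npc [Finite G] (p : ℕ) [Fact p.Prime]
    (h : Cfsg.HasNormalPComplement p G) (Q : Subgroup G) (hQ : IsPGroup p Q) (g : G)
    (hg : g ∈ Subgroup.normalizer (Q : Set G)) (hcop : Nat.Coprime (orderOf g) p) :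
    g ∈ Subgroup.centralizer (Q : Set G) := by
  obtain ⟨P, N, hN, hc⟩ := h
  obtain ⟨c, hc'⟩ := exists_conj_mem_sylow p Q hQ P
  have hle : Q.map (MulAut.conj c).toMonoidHom ≤ (P : Subgroup G) := by
    rintro _ ⟨x, hx, rfl⟩; exact hc' x hx
  have hgn : c * g * c⁻¹ ∈ Subgroup.normalizer ((Q.map (MulAut.conj c).toMonoidHom : Subgroup G) : Set G) := by
    apply Cfsg.Agent.S0650.mem_normalizer_of_conj
    rintro _ ⟨y, hy, rfl⟩
    refine ⟨g * y * g⁻¹, (Subgroup.mem_normalizer_iff.mp hg y).mp hy, ?_⟩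
    show c * (g * y * g⁻¹) * c⁻¹ = c * g * c⁻¹ * (c * y * c⁻¹) * (c * g * c⁻¹)⁻¹
    group
  have hord : orderOf (c * g * c⁻¹) = orderOf g :=
    orderOf_injective (MulAut.conj c).toMonoidHom (MulAut.conj c).injective g
  have h1 := (Cfsg.Agent.S0071.result P).mp ⟨N, hN, hc⟩ _ hle (c * g * c⁻¹) hgn
    (by rw [hord]; exact hcop)
  rw [Subgroup.mem_centralizer_iff] at h1 ⊢
  intro x hx
  have h2 := h1 (c * x * c⁻¹) ⟨x, hx, rfl⟩
  calc x * g = c⁻¹ * ((c * x * c⁻¹) * (c * g * c⁻¹)) * c := by group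
    _ = c⁻¹ * ((c * g * c⁻¹) * (c * x * c⁻¹)) * c := by rw [h2]
    _ = g * x := by group

/-- A minimal non-p-nilpotent finite group is a minimal non-nilpotent group with a normal Sylow p-subgroup. -/
theorem result {G : Type*} [Group G] [Finite G] {p : ℕ} [Fact p.Prime] (h1 : ¬ Cfsg.HasNormalPComplement p G) (h2 : ∀ H : Subgroup G, H ≠ ⊤ → Cfsg.HasNormalPComplement p H) : (∀ H : Subgroup G, H ≠ ⊤ → Group.IsNilpotent H) ∧ ¬ Group.IsNilpotent G ∧ ∀ P : Sylow p G, (P : Subgroup G).Normal := by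
  obtain ⟨P⟩ : Nonempty (Sylow p G) := inferInstance
  obtain ⟨Q, hQP, g, hgN, hcop, hgC⟩ := exists_bad p P h1
  have hQp : IsPGroup p Q := P.2.to_le hQP
  -- G = Q ⟨g⟩
  have hQg : Q ⊔ Subgroup.zpowers g = ⊤ := by
    by_contra hne
    have hnpc := h2 _ hne
    apply hgC
    have hgH : g ∈ Q ⊔ Subgroup.zpowers g := le_sup_right (α := Subgroup G) (Subgroup.mem_zpowers g)
    have hQ' : IsPGroup p (Q.subgroupOf (Q ⊔ Subgroup.zpowers g)) := hQp.comap_subtype
    have hn' : (⟨g, hgH⟩ : ↥(Q ⊔ Subgroup.zpowers g)) ∈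
        Subgroup.normalizer ((Q.subgroupOf (Q ⊔ Subgroup.zpowers g) : Subgroup _) : Set _) := by
      rw [Subgroup.mem_normalizer_iff]
      intro x
      rw [Subgroup.mem_subgroupOf, Subgroup.mem_subgroupOf]
      exact Subgroup.mem_normalizer_iff.mp hgN (x : G)
    have hc' := centralizes_of_npc p hnpc _ hQ' ⟨g, hgH⟩ hn' (by
      rw [← Subgroup.orderOf_coe]; exact hcop)
    rw [Subgroup.mem_centralizer_iff] at hc' ⊢
    intro x hx
    have := hc' ⟨x, le_sup_left (α := Subgroup G) hx⟩ (by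
      show _ ∈ Q.subgroupOf (Q ⊔ Subgroup.zpowers g)
      rw [Subgroup.mem_subgroupOf]; exact hx)
    exact congrArg Subtype.val this
  -- Q is normal
  have hQn : Q.Normal := by
    rw [← Subgroup.normalizer_eq_top_iff, eq_top_iff, ← hQg]
    exact sup_le Subgroup.le_normalizer (by rw [Subgroup.zpowers_le]; exact hgN)
  -- index of Q divides the order of g
  have hidx : Q.index ∣ orderOf g := by
    have h3 := Cfsg.Agent.S0667.card_sup_dvd_mul' (Subgroup.zpowers g) Q
    rw [sup_comm, hQg, Subgroup.card_top, Nat.card_zpowers, ← Q.card_mul_index, mul_comm] at h3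
    exact Nat.dvd_of_mul_dvd_mul_right Nat.card_pos h3
  have hidxcop : Nat.Coprime Q.index p := Nat.Coprime.coprime_dvd_left hidx hcop
  have hPQ : ∀ P' : Sylow p G, (P' : Subgroup G) = Q := by
    intro P'
    apply le_antisymm
    · rw [← Subgroup.relIndex_eq_one]
      have h3 : Q.relIndex (P' : Subgroup G) ∣ Q.index := Subgroup.relIndex_dvd_index_of_normal Q _
      have h4 : Q.relIndex (P' : Subgroup G) ∣ Nat.card (P' : Subgroup G) :=
        Subgroup.relIndex_dvd_card Q _
      obtain ⟨j, hj⟩ := P'.2.exists_card_eq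
      rw [hj] at h4
      have h5 : Q.relIndex (P' : Subgroup G) ∣ Nat.gcd Q.index (p ^ j) := Nat.dvd_gcd h3 h4
      rw [Nat.Coprime.gcd_eq_one (Nat.Coprime.pow_right j hidxcop)] at h5
      exact Nat.dvd_one.mp h5
    · exact hQp.le_sylow_of_normal P'
  refine ⟨?_, ?_, ?_⟩
  · intro L hL
    have hnpc := h2 L hL
    rw [npc_iff] at hnpc
    obtain ⟨K, hK, hKcop, k, hk⟩ := hnpc
    have hq1 : IsPGroup p (↥L ⧸ K) :=
      IsPGroup.of_card (n := k) (by rw [← Subgroup.index_eq_card]; exact hk)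
    have hnil1 : Group.IsNilpotent (↥L ⧸ K) := hq1.isNilpotent
    have hz : Subgroup.zpowers (QuotientGroup.mk' Q g) = ⊤ := by
      have h3 : (Q ⊔ Subgroup.zpowers g).map (QuotientGroup.mk' Q) = ⊤ := by
        rw [hQg, ← MonoidHom.range_eq_map, MonoidHom.range_eq_top]
        exact QuotientGroup.mk'_surjective Q
      have h4 : Q.map (QuotientGroup.mk' Q) = ⊥ :=
        (Subgroup.map_eq_bot_iff _).mpr (le_of_eq (QuotientGroup.ker_mk' Q).symm)
      rw [Subgroup.map_sup, MonoidHom.map_zpowers, h4, bot_sup_eq] at h3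
      exact h3
    have hcomm : ∀ a b : G ⧸ Q, a * b = b * a := by
      intro a b
      obtain ⟨i, rfl⟩ := Subgroup.mem_zpowers_iff.mp (hz ▸ Subgroup.mem_top a)
      obtain ⟨j, rfl⟩ := Subgroup.mem_zpowers_iff.mp (hz ▸ Subgroup.mem_top b)
      rw [← zpow_add, ← zpow_add, add_comm]
    have hnil2 : Group.IsNilpotent (G ⧸ Q) := by
      refine ⟨⟨1, ?_⟩⟩
      rw [Subgroup.upperCentralSeries_one, eq_top_iff]
      intro a _
      rw [Subgroup.mem_center_iff]
      intro b; exact hcomm b a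
    refine Subgroup.isNilpotent_of_ker_le_center
      ((QuotientGroup.mk' K).prod ((QuotientGroup.mk' Q).comp L.subtype)) ?_
    intro l hl
    rw [MonoidHom.mem_ker, MonoidHom.prod_apply, Prod.mk_eq_one] at hl
    obtain ⟨hl1, hl2⟩ := hl
    have hlK : l ∈ K := by
      rw [QuotientGroup.mk'_apply] at hl1
      exact (QuotientGroup.eq_one_iff l).mp hl1
    have hlQ : (l : G) ∈ Q := by
      have : (QuotientGroup.mk' Q) (l : G) = 1 := hl2
      rw [QuotientGroup.mk'_apply] at this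
      exact (QuotientGroup.eq_one_iff (l : G)).mp this
    have ho1 : orderOf l ∣ Nat.card K := Subgroup.orderOf_dvd_natCard K hlK
    obtain ⟨j, hj⟩ := hQp ⟨(l : G), hlQ⟩
    have hj' : (l : G) ^ p ^ j = 1 := congrArg Subtype.val hj
    have ho2 : orderOf l ∣ p ^ j := by
      apply orderOf_dvd_of_pow_eq_one
      exact Subtype.ext hj'
    have ho3 : orderOf l ∣ Nat.gcd (Nat.card K) (p ^ j) := Nat.dvd_gcd ho1 ho2
    rw [Nat.Coprime.gcd_eq_one (Nat.Coprime.pow_right j hKcop)] at ho3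
    have hl1' : l = 1 := orderOf_eq_one_iff.mp (Nat.dvd_one.mp ho3)
    rw [hl1']
    exact one_mem _
  · intro hnil
    apply hgC
    rw [Subgroup.mem_centralizer_iff]
    intro x hx
    obtain ⟨j, hj⟩ := hQp ⟨x, hx⟩
    have hj' : x ^ p ^ j = 1 := congrArg Subtype.val hj
    exact commute_of_nilpotent_coprime G x g (p ^ j) (orderOf g)
      (Nat.Coprime.pow_left j hcop.symm) hj' (pow_orderOf_eq_one g)
  · intro P'
    rw [hPQ P']
    exact hQn

end Cfsg.Agent.S0132
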