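import Cfsg.Statements.S0577
import Cfsg.Agent.S0132
import Mathlib

set_option autoImplicit false
open Cfsg
open Cfsg.Agent.S0072
open scoped Pointwise

namespace Cfsg.Agent.S0577

variable {G : Type*} [Group G]

/-- a finite nilpotent group has a normal `p`-complement -/
theorem npc_of_nilpotent [Finite G] (p : ℕ) [Fact p.Prime] (h : Group.IsNilpotent G) :
    Cfsg.HasNormalPComplement p G := by
  obtain ⟨P⟩ : Nonempty (Sylow p G) := inferInstance
  obtain ⟨N, hN, hc⟩ := (Cfsg.Agent.S0071.result P).mpr (by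
    intro Q hQP g hg hcop
    rw [Subgroup.mem_centralizer_iff]
    intro x hx
    obtain ⟨j, hj⟩ := P.2 ⟨x, hQP hx⟩
    have hj' : x ^ p ^ j = 1 := congrArg Subtype.val hj
    exact Cfsg.Agent.S0132.commute_of_nilpotent_coprime G x g (p ^ j) (orderOf g)
      (Nat.Coprime.pow_left j hcop.symm) hj' (pow_orderOf_eq_one g))
  exact ⟨P, N, hN, hc⟩

/-- the structure of a minimal non-`p`-nilpotent group -/
theorem ito_structure [Finite G] (p : ℕ) [Fact p.Prime]
    (h1 : ¬ Cfsg.HasNormalPComplement p G)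
    (h2 : ∀ H : Subgroup G, H ≠ ⊤ → Cfsg.HasNormalPComplement p H) :
    ∃ (Q : Subgroup G) (g : G), IsPGroup p Q ∧ Q.Normal ∧ Q ⊔ Subgroup.zpowers g = ⊤ ∧
      Nat.Coprime (orderOf g) p ∧ g ∉ Subgroup.centralizer (Q : Set G) ∧
      Nat.Coprime Q.index p := by
  obtain ⟨P⟩ : Nonempty (Sylow p G) := inferInstance
  obtain ⟨Q, hQP, g, hgN, hcop, hgC⟩ := Cfsg.Agent.S0132.exists_bad p P h1
  have hQp : IsPGroup p Q := P.2.to_le hQP
  have hQg : Q ⊔ Subgroup.zpowers g = ⊤ := by
    by_contra hne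
    have hnpc := h2 _ hne
    apply hgC
    have hgH : g ∈ Q ⊔ Subgroup.zpowers g := le_sup_right (α := Subgroup G) (Subgroup.mem_zpowers g)
    have hQ' : IsPGroup p (Q.subgroupOf (Q ⊔ Subgroup.zpowers g)) := hQp.comap_subtype
    have hn' : (⟨g, hgH⟩ : ↥(Q ⊔ Subgroup.zpowers g)) ∈
        Subgroup.normalizer ((Q.subgroupOf (Q ⊔ Subgroup.zpowers g) : Subgroup _) : Set _) := by
      rw [Subgroup.mem_normalizer_iff]
      intro x
      rw [Subgroup.mem_subgroupOf, Subgroup.mem_subgroupOf]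
      exact Subgroup.mem_normalizer_iff.mp hgN (x : G)
    have hc' := Cfsg.Agent.S0132.centralizes_of_npc p hnpc _ hQ' ⟨g, hgH⟩ hn' (by
      rw [← Subgroup.orderOf_coe]; exact hcop)
    rw [Subgroup.mem_centralizer_iff] at hc' ⊢
    intro x hx
    have := hc' ⟨x, le_sup_left (α := Subgroup G) hx⟩ (by
      show _ ∈ Q.subgroupOf (Q ⊔ Subgroup.zpowers g)
      rw [Subgroup.mem_subgroupOf]; exact hx)
    exact congrArg Subtype.val this
  have hQn : Q.Normal := by
    rw [← Subgroup.normalizer_eq_top_iff, eq_top_iff, ← hQg]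
    exact sup_le Subgroup.le_normalizer (by rw [Subgroup.zpowers_le]; exact hgN)
  have hidx : Q.index ∣ orderOf g := by
    have h3 := Cfsg.Agent.S0667.card_sup_dvd_mul' (Subgroup.zpowers g) Q
    rw [sup_comm, hQg, Subgroup.card_top, Nat.card_zpowers, ← Q.card_mul_index, mul_comm] at h3
    exact Nat.dvd_of_mul_dvd_mul_right Nat.card_pos h3
  exact ⟨Q, g, hQp, hQn, hQg, hcop, hgC, Nat.Coprime.coprime_dvd_left hidx hcop⟩

/-- a `p`-element lies in a normal `p`-subgroup of `p'`-index -/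
theorem mem_of_pow_eq_one [Finite G] (p : ℕ) [Fact p.Prime] (Q : Subgroup G) [Q.Normal]
    (hidx : Nat.Coprime Q.index p) (x : G) (j : ℕ) (hx : x ^ p ^ j = 1) : x ∈ Q := by
  rw [← QuotientGroup.eq_one_iff]
  have h1 : (x : G ⧸ Q) ^ (p ^ j) = 1 := by rw [← QuotientGroup.mk_pow, hx]; rfl
  have h2 : (x : G ⧸ Q) ^ Q.index = 1 := by
    rw [Subgroup.index_eq_card]; exact pow_card_eq_one'
  have h3 : orderOf (x : G ⧸ Q) ∣ Nat.gcd Q.index (p ^ j) :=
    Nat.dvd_gcd (orderOf_dvd_of_pow_eq_one h2) (orderOf_dvd_of_pow_eq_one h1)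
  rw [Nat.Coprime.gcd_eq_one (Nat.Coprime.pow_right j hidx)] at h3
  exact orderOf_eq_one_iff.mp (Nat.dvd_one.mp h3)

/-- Let G be a finite minimal non-nilpotent group and Q a normal Sylow q-subgroup of G, and let D be the commutator subgroup of Q regarded in G (a normal subgroup). Then G modulo D is non-abelian and all its proper subgroups are abelian. -/
theorem result {G : Type*} [Group G] [Finite G] (hG : Cfsg.IsMinimalNonNilpotent G) (q : ℕ) [Fact q.Prime] (hq : q ∣ Nat.card G) (Q : Sylow q G) (hQ : (Q : Subgroup G).Normal) (D : Subgroup G) [D.Normal] (hD : D = (commutator ↥(Q : Subgroup G)).map (Q : Subgroup G).subtype) : ¬ IsMulCommutative (G ⧸ D) ∧ ∀ K : Subgroup (G ⧸ D), K ≠ ⊤ → IsMulCommutative K := by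
  obtain ⟨hnn, hprop⟩ := hG
  have hQp : IsPGroup q (Q : Subgroup G) := Q.2
  -- G is not q-nilpotent
  have h1 : ¬ Cfsg.HasNormalPComplement q G := by
    intro hnpc
    apply hnn
    rw [npc_iff] at hnpc
    obtain ⟨N, hN, hcop, k, hk⟩ := hnpc
    have hq1 : IsPGroup q (G ⧸ N) :=
      IsPGroup.of_card (n := k) (by rw [← Subgroup.index_eq_card]; exact hk)
    have hnil1 : Group.IsNilpotent (G ⧸ N) := hq1.isNilpotent
    have hNtop : N ≠ ⊤ := by
      intro h
      rw [h, Subgroup.card_top] at hcop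
      have hdvd : q ∣ Nat.card G := hq
      have := Nat.Coprime.eq_one_of_dvd hcop.symm hdvd
      exact (Fact.out : q.Prime).one_lt.ne' this
    have hNnil : Group.IsNilpotent ↥N := hprop N hNtop
    -- N maps onto G ⧸ Q
    have hsup : N ⊔ (Q : Subgroup G) = ⊤ := by
      have hc := Cfsg.Agent.S0071.compl_of_data q Q N hcop k hk
      exact hc.sup_eq_top
    have hsurj : Function.Surjective ((QuotientGroup.mk' (Q : Subgroup G)).comp N.subtype) := by
      intro y
      obtain ⟨x, rfl⟩ := QuotientGroup.mk'_surjective _ y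
      have hx : x ∈ N ⊔ (Q : Subgroup G) := by rw [hsup]; trivial
      obtain ⟨n, hn, z, hz, rfl⟩ := Subgroup.mem_sup_of_normal_right.mp hx
      refine ⟨⟨n, hn⟩, ?_⟩
      show QuotientGroup.mk' (Q : Subgroup G) n = QuotientGroup.mk' (Q : Subgroup G) (n * z)
      rw [map_mul, QuotientGroup.mk'_apply, QuotientGroup.mk'_apply,
        (QuotientGroup.eq_one_iff z).mpr hz, mul_one]
    have hnil2 : Group.IsNilpotent (G ⧸ (Q : Subgroup G)) :=
      Group.nilpotent_of_surjective _ hsurj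
    refine Subgroup.isNilpotent_of_ker_le_center
      ((QuotientGroup.mk' N).prod (QuotientGroup.mk' (Q : Subgroup G))) ?_
    intro l hl
    rw [MonoidHom.mem_ker, MonoidHom.prod_apply, Prod.mk_eq_one] at hl
    obtain ⟨hl1, hl2⟩ := hl
    have hlN : l ∈ N := by
      rw [QuotientGroup.mk'_apply] at hl1
      exact (QuotientGroup.eq_one_iff l).mp hl1
    have hlQ : l ∈ (Q : Subgroup G) := by
      rw [QuotientGroup.mk'_apply] at hl2
      exact (QuotientGroup.eq_one_iff l).mp hl2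
    have ho1 : orderOf l ∣ Nat.card N := Subgroup.orderOf_dvd_natCard N hlN
    obtain ⟨j, hj⟩ := hQp ⟨l, hlQ⟩
    have hj' : l ^ q ^ j = 1 := congrArg Subtype.val hj
    have ho2 : orderOf l ∣ q ^ j := orderOf_dvd_of_pow_eq_one hj'
    have ho3 : orderOf l ∣ Nat.gcd (Nat.card N) (q ^ j) := Nat.dvd_gcd ho1 ho2
    rw [Nat.Coprime.gcd_eq_one (Nat.Coprime.pow_right j hcop)] at ho3
    have hl1' : l = 1 := orderOf_eq_one_iff.mp (Nat.dvd_one.mp ho3)
    rw [hl1']
    exact one_mem _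
  have h2 : ∀ H : Subgroup G, H ≠ ⊤ → Cfsg.HasNormalPComplement q ↥H :=
    fun H hH => npc_of_nilpotent q (hprop H hH)
  obtain ⟨Q₀, g, hQ₀p, hQ₀n, hQg, hcop, hgC, hidx⟩ := ito_structure q h1 h2
  -- Q₀ is the Sylow subgroup Q
  have hQQ : (Q : Subgroup G) = Q₀ := by
    apply le_antisymm
    · intro x hx
      obtain ⟨j, hj⟩ := hQp ⟨x, hx⟩
      exact mem_of_pow_eq_one q Q₀ hidx x j (congrArg Subtype.val hj)
    · exact hQ₀p.le_sylow_of_normal Q
  rw [← hQQ] at hQg hgC hidx
  have hDQ : D ≤ (Q : Subgroup G) := by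
    rw [hD]; exact Subgroup.map_subtype_le _
  have hDeq : D = ⁅(Q : Subgroup G), (Q : Subgroup G)⁆ := by
    rw [hD, Subgroup.map_subtype_commutator]
  have hQ1 : (Q : Subgroup G) ≠ ⊥ := Q.ne_bot_of_dvd_card hq
  have hz : Subgroup.zpowers (QuotientGroup.mk' (Q : Subgroup G) g) = ⊤ := by
    have h3 : ((Q : Subgroup G) ⊔ Subgroup.zpowers g).map (QuotientGroup.mk' (Q : Subgroup G)) = ⊤ := by
      rw [hQg, ← MonoidHom.range_eq_map, MonoidHom.range_eq_top]
      exact QuotientGroup.mk'_surjective _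
    have h4 : (Q : Subgroup G).map (QuotientGroup.mk' (Q : Subgroup G)) = ⊥ :=
      (Subgroup.map_eq_bot_iff _).mpr (le_of_eq (QuotientGroup.ker_mk' _).symm)
    rw [Subgroup.map_sup, MonoidHom.map_zpowers, h4, bot_sup_eq] at h3
    exact h3
  have hcyc : IsCyclic (G ⧸ (Q : Subgroup G)) := isCyclic_iff_exists_zpowers_eq_top.mpr ⟨_, hz⟩
  -- q-elements lie in Q
  have hqel : ∀ (x : G) (j : ℕ), x ^ q ^ j = 1 → x ∈ (Q : Subgroup G) :=
    fun x j hx => mem_of_pow_eq_one q (Q : Subgroup G) hidx x j hx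
  constructor
  · intro hcomm
    have hcD : ∀ x y : G, x * y * x⁻¹ * y⁻¹ ∈ D := by
      intro x y
      rw [← QuotientGroup.eq_one_iff]
      have := mul_comm' (QuotientGroup.mk x : G ⧸ D) (QuotientGroup.mk y : G ⧸ D)
      show (QuotientGroup.mk x : G ⧸ D) * QuotientGroup.mk y * (QuotientGroup.mk x)⁻¹ *
        (QuotientGroup.mk y)⁻¹ = 1
      rw [this]; group
    have hMn : (D ⊔ Subgroup.zpowers g).Normal := by
      constructor
      intro m hm x
      have e : x * m * x⁻¹ = (x * m * x⁻¹ * m⁻¹) * m := by group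
      rw [e]
      exact mul_mem (le_sup_left (α := Subgroup G) (hcD x m)) hm
    by_cases hM : D ⊔ Subgroup.zpowers g = ⊤
    · -- then D = Q, impossible
      have h3 := Cfsg.Agent.S0667.card_sup_dvd_mul' (Subgroup.zpowers g) D
      rw [sup_comm, hM, Subgroup.card_top, Nat.card_zpowers, ← (Q : Subgroup G).card_mul_index]
        at h3
      have h4 : Nat.card (Q : Subgroup G) ∣ orderOf g * Nat.card D :=
        (Dvd.intro _ rfl).trans h3
      obtain ⟨j, hj⟩ := hQp.exists_card_eq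
      have h5 : Nat.card (Q : Subgroup G) ∣ Nat.card D := by
        have hc : (Nat.card (Q : Subgroup G)).Coprime (orderOf g) := by
          rw [hj]; exact (Nat.Coprime.pow_right j hcop).symm
        exact hc.dvd_of_dvd_mul_left h4
      have h6 : D = (Q : Subgroup G) :=
        Subgroup.eq_of_le_of_card_ge hDQ (Nat.le_of_dvd Nat.card_pos h5)
      exact commutator_ne_self_of_isPGroup (Q : Subgroup G) hQp hQ1 (by rw [← hDeq, h6])
    · have hMnil : Group.IsNilpotent ↥(D ⊔ Subgroup.zpowers g) := hprop _ hM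
      have hgM : g ∈ D ⊔ Subgroup.zpowers g :=
        le_sup_right (α := Subgroup G) (Subgroup.mem_zpowers g)
      -- g commutes with D
      have hgD : ∀ d ∈ D, d * g = g * d := by
        intro d hd
        obtain ⟨j, hj⟩ := hQp ⟨d, hDQ hd⟩
        have hj' : d ^ q ^ j = 1 := congrArg Subtype.val hj
        have := Cfsg.Agent.S0132.commute_of_nilpotent_coprime ↥(D ⊔ Subgroup.zpowers g)
          ⟨d, le_sup_left (α := Subgroup G) hd⟩ ⟨g, hgM⟩ (q ^ j) (orderOf g)
          (Nat.Coprime.pow_left j hcop.symm) (Subtype.ext hj') (Subtype.ext (pow_orderOf_eq_one g))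
        exact congrArg Subtype.val this
      -- conjugates of g are powers of g
      have hconj : ∀ x : G, x * g * x⁻¹ ∈ Subgroup.zpowers g := by
        intro x
        have hxg : x * g * x⁻¹ ∈ D ⊔ Subgroup.zpowers g := hMn.conj_mem g hgM x
        obtain ⟨d, hd, z, hz', hdz⟩ := Subgroup.mem_sup_of_normal_left.mp hxg
        obtain ⟨i, rfl⟩ := Subgroup.mem_zpowers_iff.mp hz'
        have hcomm2 : Commute d (g ^ i) := (Commute.zpow_right (hgD d hd) i)
        have hpow : (x * g * x⁻¹) ^ orderOf g = 1 := by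
          rw [conj_pow, pow_orderOf_eq_one, mul_one, mul_inv_cancel]
        rw [← hdz, hcomm2.mul_pow] at hpow
        have hgi : (g ^ i) ^ orderOf g = 1 := by
          rw [← zpow_natCast, ← zpow_mul, mul_comm, zpow_mul, zpow_natCast, pow_orderOf_eq_one,
            one_zpow]
        rw [hgi, mul_one] at hpow
        obtain ⟨j, hj⟩ := hQp ⟨d, hDQ hd⟩
        have hj' : d ^ q ^ j = 1 := congrArg Subtype.val hj
        have ho : orderOf d ∣ Nat.gcd (orderOf g) (q ^ j) :=
          Nat.dvd_gcd (orderOf_dvd_of_pow_eq_one hpow) (orderOf_dvd_of_pow_eq_one hj')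
        rw [Nat.Coprime.gcd_eq_one (Nat.Coprime.pow_right j hcop)] at ho
        have hd1 : d = 1 := orderOf_eq_one_iff.mp (Nat.dvd_one.mp ho)
        rw [← hdz, hd1, one_mul]
        exact Subgroup.zpow_mem_zpowers g i
      apply hgC
      rw [Subgroup.mem_centralizer_iff]
      intro x hx
      -- x g x⁻¹ g⁻¹ ∈ Q ∩ ⟨g⟩ = 1
      have hc1 : x * g * x⁻¹ * g⁻¹ ∈ Subgroup.zpowers g :=
        mul_mem (hconj x) (inv_mem (Subgroup.mem_zpowers g))
      have hc2 : x * g * x⁻¹ * g⁻¹ ∈ (Q : Subgroup G) := by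
        have hn : g * x⁻¹ * g⁻¹ ∈ (Q : Subgroup G) := hQ.conj_mem x⁻¹ (inv_mem hx) g
        have e : x * g * x⁻¹ * g⁻¹ = x * (g * x⁻¹ * g⁻¹) := by group
        rw [e]; exact mul_mem hx hn
      obtain ⟨j, hj⟩ := hQp ⟨_, hc2⟩
      have hj' : (x * g * x⁻¹ * g⁻¹) ^ q ^ j = 1 := congrArg Subtype.val hj
      obtain ⟨i, hi⟩ := Subgroup.mem_zpowers_iff.mp hc1
      have hpow : (x * g * x⁻¹ * g⁻¹) ^ orderOf g = 1 := by
        rw [← hi, ← zpow_natCast, ← zpow_mul, mul_comm, zpow_mul, zpow_natCast,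
          pow_orderOf_eq_one, one_zpow]
      have ho : orderOf (x * g * x⁻¹ * g⁻¹) ∣ Nat.gcd (orderOf g) (q ^ j) :=
        Nat.dvd_gcd (orderOf_dvd_of_pow_eq_one hpow) (orderOf_dvd_of_pow_eq_one hj')
      rw [Nat.Coprime.gcd_eq_one (Nat.Coprime.pow_right j hcop)] at ho
      have h1' : x * g * x⁻¹ * g⁻¹ = 1 := orderOf_eq_one_iff.mp (Nat.dvd_one.mp ho)
      have : x * g = g * x := by
        calc x * g = (x * g * x⁻¹ * g⁻¹) * (g * x) := by group
          _ = g * x := by rw [h1', one_mul]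
      exact this
  · intro K hK
    have hK₀ : K.comap (QuotientGroup.mk' D) ≠ ⊤ := by
      intro h
      apply hK
      rw [← Subgroup.map_comap_eq_self_of_surjective (QuotientGroup.mk'_surjective D) K, h]
      exact Subgroup.map_top_of_surjective _ (QuotientGroup.mk'_surjective D)
    have hnil : Group.IsNilpotent ↥(K.comap (QuotientGroup.mk' D)) := hprop _ hK₀
    -- a generator of the cyclic image in G ⧸ Q
    obtain ⟨γ, hγ⟩ := isCyclic_iff_exists_zpowers_eq_top.mp
      (inferInstance : IsCyclic ↥((K.comap (QuotientGroup.mk' D)).map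
        (QuotientGroup.mk' (Q : Subgroup G))))
    obtain ⟨k, hkK, hkγ⟩ := γ.2
    obtain ⟨a, c, ha, hc, hkac, ⟨j, haj⟩, hccop⟩ := Cfsg.Agent.S0667.exists_p_decomp q k
    have haK : a ∈ K.comap (QuotientGroup.mk' D) :=
      (Subgroup.zpowers_le.mpr hkK) ha
    have hcK : c ∈ K.comap (QuotientGroup.mk' D) :=
      (Subgroup.zpowers_le.mpr hkK) hc
    have haQ : a ∈ (Q : Subgroup G) := hqel a j haj
    -- c commutes with the q-elements of K₀
    have hcu : ∀ u ∈ (Q : Subgroup G), u ∈ K.comap (QuotientGroup.mk' D) → u * c = c * u := by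
      intro u hu huK
      obtain ⟨m, hm⟩ := hQp ⟨u, hu⟩
      have hm' : u ^ q ^ m = 1 := congrArg Subtype.val hm
      have := Cfsg.Agent.S0132.commute_of_nilpotent_coprime ↥(K.comap (QuotientGroup.mk' D))
        ⟨u, huK⟩ ⟨c, hcK⟩ (q ^ m) (orderOf c)
        (Nat.Coprime.pow_left m hccop.symm) (Subtype.ext hm') (Subtype.ext (pow_orderOf_eq_one c))
      exact congrArg Subtype.val this
    -- every element of K₀ is u * c ^ i with u ∈ Q ∩ K₀
    have hdecomp : ∀ x ∈ K.comap (QuotientGroup.mk' D), ∃ u ∈ (Q : Subgroup G),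
        u ∈ K.comap (QuotientGroup.mk' D) ∧ ∃ i : ℤ, x = u * c ^ i := by
      intro x hx
      have hxm : (⟨QuotientGroup.mk' (Q : Subgroup G) x, Subgroup.mem_map_of_mem _ hx⟩ :
          ↥((K.comap (QuotientGroup.mk' D)).map (QuotientGroup.mk' (Q : Subgroup G)))) ∈
          Subgroup.zpowers γ := by rw [hγ]; trivial
      obtain ⟨i, hi⟩ := Subgroup.mem_zpowers_iff.mp hxm
      have hi' : (QuotientGroup.mk' (Q : Subgroup G) k) ^ i = QuotientGroup.mk' (Q : Subgroup G) x := by
        have := congrArg Subtype.val hi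
        rw [hkγ, ← Subgroup.coe_zpow]
        exact this
      have hxk : x * (k ^ i)⁻¹ ∈ (Q : Subgroup G) := by
        rw [← QuotientGroup.eq_one_iff]
        show QuotientGroup.mk' (Q : Subgroup G) (x * (k ^ i)⁻¹) = 1
        rw [map_mul, map_inv, map_zpow, hi', mul_inv_cancel]
      have hac : Commute a c := by
        obtain ⟨i1, rfl⟩ := Subgroup.mem_zpowers_iff.mp ha
        obtain ⟨i2, rfl⟩ := Subgroup.mem_zpowers_iff.mp hc
        exact (Commute.refl k).zpow_zpow i1 i2
      have hki : k ^ i = a ^ i * c ^ i := by rw [hkac, hac.mul_zpow]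
      refine ⟨x * (k ^ i)⁻¹ * a ^ i, mul_mem hxk (zpow_mem haQ i),
        mul_mem (mul_mem hx (inv_mem (zpow_mem hkK i))) (zpow_mem haK i), i, ?_⟩
      rw [hki]; group
    apply IsMulCommutative.of_setLike_mul_comm
    intro xb hxb yb hyb
    obtain ⟨x, rfl⟩ := QuotientGroup.mk'_surjective D xb
    obtain ⟨y, rfl⟩ := QuotientGroup.mk'_surjective D yb
    obtain ⟨u, hu, huK, i, rfl⟩ := hdecomp x hxb
    obtain ⟨v, hv, hvK, i', rfl⟩ := hdecomp y hyb
    have h1' : (u * c ^ i) * (v * c ^ i') = (u * v * u⁻¹ * v⁻¹) * ((v * c ^ i') * (u * c ^ i)) := by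
      have e1 : Commute v (c ^ i) := Commute.zpow_right (hcu v hv hvK) i
      have e2 : Commute u (c ^ i') := Commute.zpow_right (hcu u hu huK) i'
      have e3 : Commute (c ^ i) (c ^ i') := (Commute.refl c).zpow_zpow i i'
      calc (u * c ^ i) * (v * c ^ i') = u * (c ^ i * v) * c ^ i' := by group
        _ = u * (v * c ^ i) * c ^ i' := by rw [e1.eq]
        _ = u * v * (c ^ i * c ^ i') := by group
        _ = u * v * (c ^ i' * c ^ i) := by rw [e3.eq]
        _ = (u * v * u⁻¹ * v⁻¹) * (v * (u * c ^ i') * c ^ i) := by group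
        _ = (u * v * u⁻¹ * v⁻¹) * (v * (c ^ i' * u) * c ^ i) := by rw [e2.eq]
        _ = (u * v * u⁻¹ * v⁻¹) * ((v * c ^ i') * (u * c ^ i)) := by group
    have h2' : u * v * u⁻¹ * v⁻¹ ∈ D := by
      rw [hDeq]
      exact Subgroup.commutator_mem_commutator hu hv
    rw [← map_mul, ← map_mul, h1', map_mul, QuotientGroup.mk'_apply (N := D) (u * v * u⁻¹ * v⁻¹),
      (QuotientGroup.eq_one_iff _).mpr h2', one_mul]

end Cfsg.Agent.S0577
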