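import Cfsg.Statements.S0052
import Mathlib

set_option autoImplicit false
open Pointwise
open Cfsg

namespace Cfsg.Agent.S0052

section
variable {G : Type*} [Group G]

theorem exists_part (K H : Subgroup G) [K.Normal] (hc : Subgroup.IsComplement' K H) (g : G) :
    ∃ k : G, k ∈ K ∧ k⁻¹ * g ∈ H := by
  have htop : K ⊔ H = ⊤ := hc.sup_eq_top
  have hg : g ∈ ((K ⊔ H : Subgroup G) : Set G) := by rw [htop]; exact Set.mem_univ g
  rw [Subgroup.normal_mul, Set.mem_mul] at hg
  obtain ⟨k, hk, h, hh, rfl⟩ := hg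
  exact ⟨k, hk, by simpa using hh⟩

theorem part_unique (K H : Subgroup G) (hc : Subgroup.IsComplement' K H) (g k k' : G)
    (hk : k ∈ K) (hk' : k' ∈ K) (h : k⁻¹ * g ∈ H) (h' : k'⁻¹ * g ∈ H) : k = k' := by
  have hd := hc.disjoint
  rw [Subgroup.disjoint_def] at hd
  have h1 : k⁻¹ * k' ∈ K := K.mul_mem (K.inv_mem hk) hk'
  have h2 : k⁻¹ * k' ∈ H := by
    have : k⁻¹ * k' = (k⁻¹ * g) * (k'⁻¹ * g)⁻¹ := by group
    rw [this]; exact H.mul_mem h (H.inv_mem h')
  have := hd h1 h2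
  exact (inv_mul_eq_one.mp this)

/-- the `K`-part of `g` with respect to the complement `H`. -/
noncomputable def kp (K H : Subgroup G) [K.Normal] (hc : Subgroup.IsComplement' K H) (g : G) : G :=
  Classical.choose (exists_part K H hc g)

theorem kp_mem (K H : Subgroup G) [K.Normal] (hc : Subgroup.IsComplement' K H) (g : G) :
    kp K H hc g ∈ K := (Classical.choose_spec (exists_part K H hc g)).1

theorem kp_spec (K H : Subgroup G) [K.Normal] (hc : Subgroup.IsComplement' K H) (g : G) :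
    (kp K H hc g)⁻¹ * g ∈ H := (Classical.choose_spec (exists_part K H hc g)).2

theorem kp_eq (K H : Subgroup G) [K.Normal] (hc : Subgroup.IsComplement' K H) (g k : G)
    (hk : k ∈ K) (h : k⁻¹ * g ∈ H) : kp K H hc g = k :=
  part_unique K H hc g _ _ (kp_mem K H hc g) hk (kp_spec K H hc g) h

theorem kp_mul (K H : Subgroup G) [hK : K.Normal] [IsMulCommutative K]
    (hc : Subgroup.IsComplement' K H) (g g' : G) :
    kp K H hc (g * g') = kp K H hc g * (g * kp K H hc g' * g⁻¹) := by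
  have ha := kp_mem K H hc g
  have hb := kp_mem K H hc g'
  apply kp_eq
  · exact K.mul_mem ha (hK.conj_mem _ hb g)
  · have hconj : g * (kp K H hc g')⁻¹ * g⁻¹ ∈ K := hK.conj_mem _ (K.inv_mem hb) g
    have hcomm : (g * (kp K H hc g')⁻¹ * g⁻¹) * (kp K H hc g)⁻¹
        = (kp K H hc g)⁻¹ * (g * (kp K H hc g')⁻¹ * g⁻¹) := by
      have := IsMulCommutative.is_comm.comm (⟨_, hconj⟩ : K) ⟨_, K.inv_mem ha⟩
      exact congrArg Subtype.val this
    have : (kp K H hc g * (g * kp K H hc g' * g⁻¹))⁻¹ * (g * g')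
        = ((kp K H hc g)⁻¹ * g) * ((kp K H hc g')⁻¹ * g') := by
      calc (kp K H hc g * (g * kp K H hc g' * g⁻¹))⁻¹ * (g * g')
          = ((g * (kp K H hc g')⁻¹ * g⁻¹) * (kp K H hc g)⁻¹) * (g * g') := by group
        _ = ((kp K H hc g)⁻¹ * (g * (kp K H hc g')⁻¹ * g⁻¹)) * (g * g') := by rw [hcomm]
        _ = _ := by group
    rw [this]
    exact H.mul_mem (kp_spec K H hc g) (kp_spec K H hc g')

end

/-- Gaschütz's Theorem, conjugacy: for an abelian normal subgroup K ≤ U with the order of K coprime to the index of U, two complements of K in G having the same intersection with U are conjugate. -/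
theorem result {G : Type*} [Group G] [Finite G] (K U : Subgroup G) [K.Normal] [IsMulCommutative K]
    (hKU : K ≤ U) (hcop : (Nat.card K).Coprime U.index)
    (H₀ H₁ : Subgroup G) (h₀ : Subgroup.IsComplement' K H₀) (h₁ : Subgroup.IsComplement' K H₁) (hU : H₀ ⊓ U = H₁ ⊓ U) :
    ∃ g : G, MulAut.conj g • H₀ = H₁ := by
  classical
  letI : CommGroup K :=
    { (inferInstance : Group K) with
      mul_comm := fun x y => IsMulCommutative.is_comm.comm x y }
  set a₀ : G → K := fun g => ⟨kp K H₀ h₀ g, kp_mem K H₀ h₀ g⟩ with ha₀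
  set a₁ : G → K := fun g => ⟨kp K H₁ h₁ g, kp_mem K H₁ h₁ g⟩ with ha₁
  have ha₀mul : ∀ g g', a₀ (g * g') = a₀ g * MulAut.conjNormal g (a₀ g') := by
    intro g g'
    apply Subtype.ext
    simp only [ha₀, Subgroup.coe_mul, MulAut.conjNormal_apply]
    exact kp_mul K H₀ h₀ g g'
  have ha₁mul : ∀ g g', a₁ (g * g') = a₁ g * MulAut.conjNormal g (a₁ g') := by
    intro g g'
    apply Subtype.ext
    simp only [ha₁, Subgroup.coe_mul, MulAut.conjNormal_apply]
    exact kp_mul K H₁ h₁ g g'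
  set δ : G → K := fun g => (a₀ g)⁻¹ * a₁ g with hδ
  have hδmul : ∀ g g', δ (g * g') = δ g * MulAut.conjNormal g (δ g') := by
    intro g g'
    simp only [hδ, ha₀mul, ha₁mul, map_mul, map_inv, mul_inv]
    exact mul_mul_mul_comm _ _ _ _
  have hδU : ∀ u ∈ U, δ u = 1 := by
    intro u hu
    have h1 : (kp K H₀ h₀ u)⁻¹ * u ∈ H₀ ⊓ U :=
      ⟨kp_spec K H₀ h₀ u, U.mul_mem (U.inv_mem (hKU (kp_mem K H₀ h₀ u))) hu⟩
    rw [hU] at h1
    have h2 : kp K H₁ h₁ u = kp K H₀ h₀ u := kp_eq K H₁ h₁ u _ (kp_mem K H₀ h₀ u) h1.1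
    have h3 : a₁ u = a₀ u := Subtype.ext h2
    simp only [hδ, h3, inv_mul_cancel]
  have hδgU : ∀ g u, u ∈ U → δ (g * u) = δ g := by
    intro g u hu
    rw [hδmul, hδU u hu, map_one, mul_one]
  let F : G ⧸ U → K := fun q => Quotient.liftOn' q δ (by
    intro a b hab
    have hab' : a⁻¹ * b ∈ U := QuotientGroup.leftRel_apply.mp hab
    have : b = a * (a⁻¹ * b) := by group
    rw [this, hδgU a _ hab'])
  have hF : ∀ x : G, F (QuotientGroup.mk x) = δ x := fun x => rfl
  haveI : Fintype (G ⧸ U) := Fintype.ofFinite _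
  set c : K := ∏ q : G ⧸ U, F q with hc
  have hcg : ∀ g : G, c = δ g ^ U.index * MulAut.conjNormal g c := by
    intro g
    have h1 : c = ∏ q : G ⧸ U, F (g • q) := by
      rw [hc]
      exact (Equiv.prod_comp (MulAction.toPerm g) F).symm
    have h2 : ∀ q : G ⧸ U, F (g • q) = δ g * MulAut.conjNormal g (F q) := by
      intro q
      induction q using QuotientGroup.induction_on with
      | H x =>
        show F (QuotientGroup.mk (g * x)) = _
        rw [hF, hF, hδmul]
    have h3 : c = (∏ _q : G ⧸ U, δ g) * MulAut.conjNormal g c := by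
      rw [hc, map_prod, ← Finset.prod_mul_distrib, ← hc, h1]
      exact Finset.prod_congr rfl (fun q _ => h2 q)
    rw [Finset.prod_const, Finset.card_univ] at h3
    have h4 : Fintype.card (G ⧸ U) = U.index := by
      rw [Subgroup.index_eq_card, Nat.card_eq_fintype_card]
    rw [h4] at h3
    exact h3
  obtain ⟨k₀, hk₀⟩ := (powCoprime hcop).surjective c
  have hk₀' : k₀ ^ U.index = c := hk₀
  have hδk : ∀ g : G, k₀ = δ g * MulAut.conjNormal g k₀ := by
    intro g
    apply (powCoprime hcop).injective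
    show k₀ ^ U.index = (δ g * MulAut.conjNormal g k₀) ^ U.index
    rw [mul_pow, ← map_pow, hk₀']
    exact hcg g
  have hle : MulAut.conj ((k₀ : G)⁻¹) • H₀ ≤ H₁ := by
    rintro _ ⟨h, hh, rfl⟩
    have hh' : h ∈ H₀ := hh
    have h1 : kp K H₀ h₀ h = 1 := kp_eq K H₀ h₀ h 1 K.one_mem (by simpa using hh')
    have h2 : a₀ h = 1 := Subtype.ext h1
    have h3 : δ h = a₁ h := by simp only [hδ, h2, inv_one, one_mul]
    have h4 := hδk h
    rw [h3] at h4
    have h5 : (a₁ h)⁻¹ = k₀⁻¹ * MulAut.conjNormal h k₀ := by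
      have h4' : a₁ h = k₀ * (MulAut.conjNormal h k₀)⁻¹ := eq_mul_inv_of_mul_eq h4.symm
      rw [h4', mul_inv_rev, inv_inv, mul_comm]
    have h6 : (kp K H₁ h₁ h)⁻¹ = (k₀ : G)⁻¹ * (h * (k₀ : G) * h⁻¹) := by
      have := congrArg Subtype.val h5
      simpa [ha₁, MulAut.conjNormal_apply] using this
    have h7 := kp_spec K H₁ h₁ h
    rw [h6] at h7
    have h8 : (MulAut.conj ((k₀ : G)⁻¹)) h = (k₀ : G)⁻¹ * (h * (k₀ : G) * h⁻¹) * h := by
      simp; group
    show (MulAut.conj ((k₀ : G)⁻¹)) h ∈ H₁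
    rw [h8]; exact h7
  refine ⟨(k₀ : G)⁻¹, ?_⟩
  apply Subgroup.eq_of_le_of_card_ge hle
  have e1 : K.index = Nat.card H₀ := h₀.symm.index_eq_card
  have e2 : K.index = Nat.card H₁ := h₁.symm.index_eq_card
  have e3 : Nat.card (MulAut.conj ((k₀ : G)⁻¹) • H₀ : Subgroup G) = Nat.card H₀ := by
    exact (Nat.card_congr (Subgroup.equivSMul (MulAut.conj ((k₀ : G)⁻¹)) H₀).toEquiv).symm
  rw [e3, ← e1, e2]

end Cfsg.Agent.S0052
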