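import Cfsg.Statements.S0045
import Cfsg.Agent.S0043
import Cfsg.Agent.S0048
import Cfsg.Agent.S0052
import Cfsg.Agent.Lead.Glauberman
import Cfsg.Agent.Lead.Quat
import Mathlib

set_option autoImplicit false
open Pointwise
open Cfsg

namespace Cfsg.Agent.S0045

universe u

section
variable {G : Type u} [Group G]

/-- nilpotent and self-normalizing. -/
def Carter (C : Subgroup G) : Prop :=
  Group.IsNilpotent C ∧ Subgroup.normalizer (C : Set G) = C

/-- relative version: `C ≤ M` nilpotent and self-normalizing in `M`. -/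
def CarterIn (C M : Subgroup G) : Prop :=
  C ≤ M ∧ Group.IsNilpotent C ∧ ∀ g ∈ M, g ∈ Subgroup.normalizer (C : Set G) → g ∈ C

theorem mem_conj_smul (g x : G) (C : Subgroup G) :
    x ∈ MulAut.conj g • C ↔ g⁻¹ * x * g ∈ C := by
  rw [Subgroup.mem_pointwise_smul_iff_inv_smul_mem]
  simp [MulAut.smul_def]

theorem conj_mul_smul (g h : G) (C : Subgroup G) :
    MulAut.conj (g * h) • C = MulAut.conj g • MulAut.conj h • C := by
  rw [map_mul, mul_smul]

theorem conj_inv_smul_smul (g : G) (C : Subgroup G) :
    MulAut.conj g⁻¹ • MulAut.conj g • C = C := by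
  rw [← conj_mul_smul, inv_mul_cancel, map_one, one_smul]

theorem carterIn_top (C : Subgroup G) (h : Carter C) : CarterIn C ⊤ :=
  ⟨le_top, h.1, fun g _ hg => by rw [h.2] at hg; exact hg⟩

theorem carter_of_carterIn_top (C : Subgroup G) (h : CarterIn C ⊤) : Carter C :=
  ⟨h.2.1, le_antisymm (fun g hg => h.2.2 g (Subgroup.mem_top g) hg) Subgroup.le_normalizer⟩

theorem carterIn_mono (C M L : Subgroup G) (h : CarterIn C M) (hCL : C ≤ L) (hLM : L ≤ M) :
    CarterIn C L :=
  ⟨hCL, h.2.1, fun g hg hgn => h.2.2 g (hLM hg) hgn⟩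

/-- conjugates of relative Carter subgroups. -/
theorem carterIn_conj (C M : Subgroup G) (h : CarterIn C M) (x : G) (hx : x ∈ M) :
    CarterIn (MulAut.conj x • C) M := by
  refine ⟨?_, ?_, ?_⟩
  · intro y hy
    rw [mem_conj_smul] at hy
    have h1 := h.1 hy
    have : y = x * (x⁻¹ * y * x) * x⁻¹ := by group
    rw [this]
    exact M.mul_mem (M.mul_mem hx h1) (M.inv_mem hx)
  · haveI := h.2.1
    exact Group.nilpotent_of_mulEquiv (Subgroup.equivSMul (MulAut.conj x) C)
  · intro g hg hgn
    rw [Lead.mem_normalizer_iff_conj_smul] at hgn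
    rw [mem_conj_smul]
    apply h.2.2 _ (M.mul_mem (M.mul_mem (M.inv_mem hx) hg) hx)
    rw [Lead.mem_normalizer_iff_conj_smul, conj_mul_smul, conj_mul_smul, hgn, conj_inv_smul_smul]

/-- from a Carter subgroup of the group `↥M` to a relative Carter subgroup. -/
theorem carterIn_of_sub (M : Subgroup G) (C' : Subgroup M) (h : Carter C') :
    CarterIn (C'.map M.subtype) M := by
  refine ⟨Subgroup.map_subtype_le C', ?_, ?_⟩
  · haveI := h.1
    exact Group.nilpotent_of_mulEquiv
      (Subgroup.equivMapOfInjective C' M.subtype (Subgroup.subtype_injective M))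
  · intro g hg hgn
    have h1 : (⟨g, hg⟩ : M) ∈ Subgroup.normalizer (C' : Set M) := by
      rw [Subgroup.mem_normalizer_iff]
      intro y
      rw [Subgroup.mem_normalizer_iff] at hgn
      have := hgn (y : G)
      have e1 : (y : G) ∈ C'.map M.subtype ↔ y ∈ C' :=
        Subgroup.mem_map_iff_mem (Subgroup.subtype_injective M)
      have e2 : g * (y : G) * g⁻¹ ∈ C'.map M.subtype ↔ (⟨g, hg⟩ : M) * y * (⟨g, hg⟩ : M)⁻¹ ∈ C' :=
        Subgroup.mem_map_iff_mem (Subgroup.subtype_injective M)
          (x := (⟨g, hg⟩ : M) * y * (⟨g, hg⟩ : M)⁻¹)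
      rw [← e1, ← e2]
      exact this
    rw [h.2] at h1
    exact Subgroup.mem_map_of_mem M.subtype h1

/-- from a relative Carter subgroup to a Carter subgroup of the group `↥M`. -/
theorem sub_of_carterIn (C M : Subgroup G) (h : CarterIn C M) : Carter (C.subgroupOf M) := by
  refine ⟨?_, ?_⟩
  · haveI := h.2.1
    exact Group.nilpotent_of_mulEquiv (Subgroup.subgroupOfEquivOfLe h.1).symm
  · rw [← Subgroup.subgroupOf_normalizer_eq h.1]
    ext y
    rw [Subgroup.mem_subgroupOf, Subgroup.mem_subgroupOf]
    exact ⟨fun hy => h.2.2 _ y.2 hy, fun hy => Subgroup.le_normalizer hy⟩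

/-- transport of conjugacy from `↥M`. -/
theorem conj_of_sub (C D M : Subgroup G) (hC : C ≤ M) (hD : D ≤ M) (m : M)
    (h : MulAut.conj m • C.subgroupOf M = D.subgroupOf M) : MulAut.conj (m : G) • C = D := by
  ext x
  rw [mem_conj_smul]
  constructor
  · intro hx
    have hxM : x ∈ M := by
      have : x = (m : G) * ((m : G)⁻¹ * x * m) * (m : G)⁻¹ := by group
      rw [this]
      exact M.mul_mem (M.mul_mem m.2 (hC hx)) (M.inv_mem m.2)
    have h1 : (⟨x, hxM⟩ : M) ∈ MulAut.conj m • C.subgroupOf M := by
      rw [mem_conj_smul, Subgroup.mem_subgroupOf]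
      exact hx
    rw [h, Subgroup.mem_subgroupOf] at h1
    exact h1
  · intro hx
    have h1 : (⟨x, hD hx⟩ : M) ∈ D.subgroupOf M := by
      rw [Subgroup.mem_subgroupOf]; exact hx
    rw [← h, mem_conj_smul, Subgroup.mem_subgroupOf] at h1
    exact h1

/-- a proper subgroup of a nilpotent subgroup is properly contained in its normalizer there. -/
theorem nilpotent_normalizer (H K : Subgroup G) (hHK : H < K) (hK : Group.IsNilpotent K) :
    ∃ g ∈ K, g ∈ Subgroup.normalizer (H : Set G) ∧ g ∉ H := by
  have hnc : NormalizerCondition K := Group.normalizerCondition_of_isNilpotent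
  have hlt : H.subgroupOf K < ⊤ := by
    rw [lt_top_iff_ne_top, Ne, Subgroup.subgroupOf_eq_top]
    exact fun h => hHK.not_ge h
  have h2 := hnc _ hlt
  obtain ⟨k, hk1, hk2⟩ := SetLike.exists_of_lt h2
  rw [← Subgroup.subgroupOf_normalizer_eq hHK.le, Subgroup.mem_subgroupOf] at hk1
  rw [Subgroup.mem_subgroupOf] at hk2
  exact ⟨k, k.2, hk1, hk2⟩

/-- a subgroup normalized by `M` and `N` with `M ⊔ N = ⊤` is normal. -/
theorem normal_of_sup_top (X M N : Subgroup G) (hMN : M ⊔ N = ⊤)
    (hM : ∀ m ∈ M, ∀ x ∈ X, m * x * m⁻¹ ∈ X) (hN : ∀ n ∈ N, ∀ x ∈ X, n * x * n⁻¹ ∈ X) :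
    X.Normal := by
  rw [← Subgroup.normalizer_eq_top_iff, eq_top_iff, ← hMN]
  have key : ∀ T : Subgroup G, (∀ m ∈ T, ∀ x ∈ X, m * x * m⁻¹ ∈ X) →
      T ≤ Subgroup.normalizer (X : Set G) := by
    intro T hT m hm
    rw [Subgroup.mem_normalizer_iff]
    intro x
    refine ⟨fun hx => hT m hm x hx, fun hx => ?_⟩
    have := hT m⁻¹ (T.inv_mem hm) _ hx
    have e : m⁻¹ * (m * x * m⁻¹) * m⁻¹⁻¹ = x := by group
    rwa [e] at this
  exact sup_le (key M hM) (key N hN)

end

section quot
variable {G : Type u} [Group G] (N : Subgroup G) [N.Normal]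

theorem mem_sup_iff_map (C : Subgroup G) (y : G) :
    y ∈ C ⊔ N ↔ QuotientGroup.mk' N y ∈ C.map (QuotientGroup.mk' N) := by
  rw [← Subgroup.mem_comap, Subgroup.comap_map_eq, QuotientGroup.ker_mk']

/-- the image in the quotient of a nilpotent `C` with `C ⊔ N` self-normalizing is Carter. -/
theorem carter_map (C : Subgroup G) (hnil : Group.IsNilpotent C)
    (hn : ∀ x, x ∈ Subgroup.normalizer ((C ⊔ N : Subgroup G) : Set G) → x ∈ C ⊔ N) :
    Carter (C.map (QuotientGroup.mk' N)) := by
  refine ⟨?_, le_antisymm ?_ Subgroup.le_normalizer⟩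
  · haveI := hnil
    exact Group.nilpotent_of_surjective ((QuotientGroup.mk' N).subgroupMap C)
      ((QuotientGroup.mk' N).subgroupMap_surjective C)
  · intro xb hxb
    obtain ⟨x, rfl⟩ := QuotientGroup.mk'_surjective N xb
    rw [← mem_sup_iff_map]
    apply hn
    have h1 : x ∈ (Subgroup.normalizer
        ((C.map (QuotientGroup.mk' N) : Subgroup (G ⧸ N)) : Set (G ⧸ N))).comap
        (QuotientGroup.mk' N) := hxb
    rw [Subgroup.comap_normalizer_eq_of_surjective _ (QuotientGroup.mk'_surjective N),
      Subgroup.comap_map_eq, QuotientGroup.ker_mk'] at h1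
    exact h1

theorem conj_sup_of_map (C D : Subgroup G) (g : G)
    (h : MulAut.conj (QuotientGroup.mk' N g) • C.map (QuotientGroup.mk' N)
      = D.map (QuotientGroup.mk' N)) :
    MulAut.conj g • (C ⊔ N) = D ⊔ N := by
  ext x
  rw [mem_conj_smul, mem_sup_iff_map, mem_sup_iff_map, ← h, mem_conj_smul]
  simp only [map_mul, map_inv]

/-- `C ⊔ N` is self-normalizing in `M` for a relative Carter subgroup `C` of `M`, given
conjugacy of relative Carter subgroups in proper subgroups. -/
theorem sup_self_normalizing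
    (hconj : ∀ L : Subgroup G, L ≠ ⊤ → ∀ C D : Subgroup G, CarterIn C L → CarterIn D L →
      ∃ m ∈ L, MulAut.conj m • C = D)
    (M C : Subgroup G) (hNM : N ≤ M) (hC : CarterIn C M) :
    ∀ x ∈ M, x ∈ Subgroup.normalizer ((C ⊔ N : Subgroup G) : Set G) → x ∈ C ⊔ N := by
  intro x hxM hxn
  by_cases hL : C ⊔ N = ⊤
  · rw [hL]; exact Subgroup.mem_top x
  · have hLM : C ⊔ N ≤ M := sup_le hC.1 hNM
    have hCL : CarterIn C (C ⊔ N) := carterIn_mono C M _ hC le_sup_left hLM
    have hDM : CarterIn (MulAut.conj x • C) M := carterIn_conj C M hC x hxM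
    have hDle : MulAut.conj x • C ≤ C ⊔ N := by
      rw [Lead.mem_normalizer_iff_conj_smul] at hxn
      have h1 : MulAut.conj x • C ≤ MulAut.conj x • (C ⊔ N) :=
        Subgroup.pointwise_smul_le_pointwise_smul_iff.mpr le_sup_left
      rwa [hxn] at h1
    have hDL : CarterIn (MulAut.conj x • C) (C ⊔ N) := carterIn_mono _ M _ hDM hDle hLM
    obtain ⟨l, hl, hlC⟩ := hconj (C ⊔ N) hL C _ hCL hDL
    have h1 : l⁻¹ * x ∈ C := by
      apply hC.2.2 _ (M.mul_mem (M.inv_mem (hLM hl)) hxM)
      rw [Lead.mem_normalizer_iff_conj_smul, conj_mul_smul, ← hlC, conj_inv_smul_smul]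
    have : x = l * (l⁻¹ * x) := by group
    rw [this]
    exact (C ⊔ N).mul_mem hl (Subgroup.mem_sup_left h1)

theorem exists_normalizing_of_nilpotent_quot (L K : Subgroup G) (hNL : N ≤ L) (hLK : L < K)
    (hnil : Group.IsNilpotent (K.map (QuotientGroup.mk' N))) :
    ∃ y ∈ K, y ∉ L ∧ y ∈ Subgroup.normalizer (L : Set G) := by
  have hcm : ∀ X : Subgroup G, N ≤ X →
      (X.map (QuotientGroup.mk' N)).comap (QuotientGroup.mk' N) = X := by
    intro X hX
    rw [Subgroup.comap_map_eq, QuotientGroup.ker_mk', sup_eq_left.mpr hX]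
  have hlt : L.map (QuotientGroup.mk' N) < K.map (QuotientGroup.mk' N) := by
    refine lt_of_le_of_ne (Subgroup.map_mono hLK.le) ?_
    intro h
    have := congrArg (Subgroup.comap (QuotientGroup.mk' N)) h
    rw [hcm L hNL, hcm K (hNL.trans hLK.le)] at this
    exact hLK.ne this
  obtain ⟨yb, hyK, hyn, hyL⟩ := nilpotent_normalizer _ _ hlt hnil
  obtain ⟨y, hy, rfl⟩ := Subgroup.mem_map.mp hyK
  refine ⟨y, hy, fun h => hyL (Subgroup.mem_map_of_mem _ h), ?_⟩
  have h1 : y ∈ (Subgroup.normalizer
      ((L.map (QuotientGroup.mk' N) : Subgroup (G ⧸ N)) : Set (G ⧸ N))).comap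
      (QuotientGroup.mk' N) := hyn
  rw [Subgroup.comap_normalizer_eq_of_surjective _ (QuotientGroup.mk'_surjective N),
    hcm L hNL] at h1
  exact h1

end quot

theorem main : ∀ (n : ℕ) (G : Type u) [Group G] [Finite G] [Group.IsSolvable G], Nat.card G = n →
    (∃ C : Subgroup G, Carter C) ∧
    (∀ C D : Subgroup G, Carter C → Carter D → ∃ g : G, MulAut.conj g • C = D) := by
  intro n
  induction n using Nat.strong_induction_on with
  | _ n ih =>
  intro G _ _ _ hcard
  have hsublt : ∀ M : Subgroup G, M ≠ ⊤ → Nat.card M < n := by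
    intro M hM
    rw [← hcard, ← Subgroup.card_top (G := G)]
    exact Lead.card_lt_of_lt'' (lt_top_iff_ne_top.mpr hM)
  have hsubE : ∀ M : Subgroup G, M ≠ ⊤ → ∃ C, CarterIn C M := by
    intro M hM
    obtain ⟨C', hC'⟩ := (ih _ (hsublt M hM) M rfl).1
    exact ⟨_, carterIn_of_sub M C' hC'⟩
  have hsubC : ∀ L : Subgroup G, L ≠ ⊤ → ∀ C D : Subgroup G, CarterIn C L → CarterIn D L →
      ∃ m ∈ L, MulAut.conj m • C = D := by
    intro L hL C D hC hD
    obtain ⟨m, hm⟩ := (ih _ (hsublt L hL) L rfl).2 _ _ (sub_of_carterIn C L hC)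
      (sub_of_carterIn D L hD)
    exact ⟨m, m.2, conj_of_sub C D L hC.1 hD.1 m hm⟩
  have hquot : ∀ (N : Subgroup G) [N.Normal], N ≠ ⊥ → Nat.card (G ⧸ N) < n := by
    intro N _ hN
    have h1 := Subgroup.card_eq_card_quotient_mul_card_subgroup N
    have h2 : 1 < Nat.card N := by
      rw [Finite.one_lt_card_iff_nontrivial]
      exact (Subgroup.nontrivial_iff_ne_bot _).mpr hN
    have h3 : 0 < Nat.card (G ⧸ N) := Nat.card_pos
    rw [hcard] at h1
    nlinarith
  by_cases hnil : Group.IsNilpotent G
  · -- nilpotent case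
    have htop : ∀ C : Subgroup G, Carter C → C = ⊤ := by
      intro C hC
      by_contra hne
      have := Group.normalizerCondition_of_isNilpotent (G := G) C (lt_top_iff_ne_top.mpr hne)
      rw [hC.2] at this
      exact lt_irrefl _ this
    refine ⟨⟨⊤, ?_, ?_⟩, ?_⟩
    · exact Group.nilpotent_of_mulEquiv Subgroup.topEquiv.symm
    · exact Subgroup.normalizer_eq_top_iff.mpr inferInstance
    · intro C D hC hD
      refine ⟨1, ?_⟩
      rw [htop C hC, htop D hD, map_one, one_smul]
  · have hnt : Nontrivial G := by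
      by_contra h
      rw [not_nontrivial_iff_subsingleton] at h
      exact hnil inferInstance
    obtain ⟨N, hNn, hNne, hNmin⟩ := S0048.exists_minimal_normal (G := G)
    haveI := hNn
    obtain ⟨hNcomm, -⟩ := S0043.min_normal_solvable N hNne hNmin
    have hNcent : ∀ n ∈ N, ∀ x ∈ N, n * x * n⁻¹ = x := by
      intro n hn x hx
      rw [hNcomm n hn x hx, mul_inv_cancel_right]
    have hπ : Function.Surjective (QuotientGroup.mk' N) := QuotientGroup.mk'_surjective N
    have hCtop : ∀ C : Subgroup G, Carter C → C ≠ ⊤ := by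
      intro C hC h
      apply hnil
      have h' : Group.IsNilpotent (⊤ : Subgroup G) := h ▸ hC.1
      exact Group.nilpotent_of_mulEquiv Subgroup.topEquiv
    refine ⟨?_, ?_⟩
    · -- existence
      obtain ⟨Kb, hKb⟩ := (ih _ (hquot N hNne) (G ⧸ N) rfl).1
      obtain ⟨K, hKdef⟩ : ∃ K : Subgroup G, K = Kb.comap (QuotientGroup.mk' N) := ⟨_, rfl⟩
      have hNK : N ≤ K := by
        rw [hKdef]
        have := Subgroup.ker_le_comap (QuotientGroup.mk' N) Kb
        rwa [QuotientGroup.ker_mk'] at this
      have hKmap : K.map (QuotientGroup.mk' N) = Kb := by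
        rw [hKdef]; exact Subgroup.map_comap_eq_self_of_surjective hπ Kb
      have hKnorm : Subgroup.normalizer (K : Set G) = K := by
        rw [hKdef, ← Subgroup.comap_normalizer_eq_of_surjective _ hπ, hKb.2]
      have hKnil : Group.IsNilpotent (K.map (QuotientGroup.mk' N)) := by
        rw [hKmap]; exact hKb.1
      by_cases hK : K = ⊤
      · -- `G ⧸ N` is nilpotent
        have hQnil : Group.IsNilpotent (G ⧸ N) := by
          have hKbtop : Kb = ⊤ := by
            rw [← hKmap, hK]; exact Subgroup.map_top_of_surjective _ hπ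
          have h' : Group.IsNilpotent (⊤ : Subgroup (G ⧸ N)) := hKbtop ▸ hKb.1
          exact Group.nilpotent_of_mulEquiv Subgroup.topEquiv
        have hex : ∃ M : Subgroup G, IsCoatom M ∧ ¬ M.Normal := by
          by_contra hcon
          push Not at hcon
          have htf : Group.IsNilpotent G ↔ ∀ H : Subgroup G, IsCoatom H → H.Normal :=
            (Group.isNilpotent_of_finite_tfae (G := G)).out 0 2
          exact hnil (htf.mpr hcon)
        obtain ⟨M, hMco, hMnn⟩ := hex
        have hNM : ¬ N ≤ M := by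
          intro hle
          have hker : (QuotientGroup.mk' N).ker ≤ M := by rw [QuotientGroup.ker_mk']; exact hle
          have hco := S0048.isCoatom_map _ hπ M hMco hker
          have htf : Group.IsNilpotent (G ⧸ N) ↔
              ∀ H : Subgroup (G ⧸ N), IsCoatom H → H.Normal :=
            (Group.isNilpotent_of_finite_tfae (G := G ⧸ N)).out 0 2
          have hnorm := htf.mp hQnil _ hco
          have hM' : (M.map (QuotientGroup.mk' N)).comap (QuotientGroup.mk' N) = M := by
            rw [Subgroup.comap_map_eq, sup_eq_left.mpr hker]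
          apply hMnn
          rw [← hM']
          exact hnorm.comap _
        have hsup : M ⊔ N = ⊤ := by
          apply hMco.2
          apply lt_of_le_of_ne le_sup_left
          intro h
          apply hNM
          rw [h]
          exact le_sup_right
        have hMNn : (M ⊓ N).Normal := by
          apply normal_of_sup_top (M ⊓ N) M N hsup
          · intro m hm x hx
            exact ⟨M.mul_mem (M.mul_mem hm hx.1) (M.inv_mem hm), hNn.conj_mem x hx.2 m⟩
          · intro n hn x hx
            rw [hNcent n hn x hx.2]; exact hx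
        have hMN : M ⊓ N = ⊥ := by
          rcases hNmin (M ⊓ N) hMNn inf_le_right with h | h
          · exact h
          · exact absurd (h ▸ inf_le_left) hNM
        refine ⟨M, ?_, ?_⟩
        · -- nilpotent
          haveI := hQnil
          refine Subgroup.isNilpotent_of_ker_le_center ((QuotientGroup.mk' N).comp M.subtype) ?_
          intro m hm
          rw [MonoidHom.mem_ker] at hm
          have hmN : (m : G) ∈ N := by
            have : QuotientGroup.mk' N (m : G) = 1 := hm
            rwa [← MonoidHom.mem_ker, QuotientGroup.ker_mk'] at this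
          have h1 : (m : G) ∈ M ⊓ N := ⟨m.2, hmN⟩
          rw [hMN, Subgroup.mem_bot] at h1
          have h2 : m = 1 := Subtype.ext h1
          rw [h2]; exact Subgroup.one_mem _
        · -- self-normalizing
          by_contra hne
          have hlt : M < Subgroup.normalizer (M : Set G) :=
            lt_of_le_of_ne Subgroup.le_normalizer (Ne.symm hne)
          exact hMnn (Subgroup.normalizer_eq_top_iff.mp (hMco.2 _ hlt))
      · -- `K` proper
        obtain ⟨C, hC⟩ := hsubE K hK
        have hA := sup_self_normalizing N hsubC K C hNK hC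
        have hCNK : C ⊔ N = K := by
          by_contra hne
          have hlt : C ⊔ N < K := lt_of_le_of_ne (sup_le hC.1 hNK) hne
          obtain ⟨y, hyK, hyL, hyn⟩ :=
            exists_normalizing_of_nilpotent_quot N _ K le_sup_right hlt hKnil
          exact hyL (hA y hyK hyn)
        refine ⟨C, hC.2.1, le_antisymm ?_ Subgroup.le_normalizer⟩
        intro g hg
        have hgK : g ∈ K := by
          have hg' := hg
          rw [Lead.mem_normalizer_iff_conj_smul] at hg'
          have h1 : g ∈ Subgroup.normalizer ((C ⊔ N : Subgroup G) : Set G) := by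
            rw [Lead.mem_normalizer_iff_conj_smul, Subgroup.smul_sup,
              Subgroup.Normal.conj_smul_eq_self g N, hg']
          rw [hCNK, hKnorm] at h1
          exact h1
        exact hC.2.2 g hgK hg
    · -- conjugacy
      have good : ∀ C D : Subgroup G, Carter C → Carter D → ∀ (N' : Subgroup G) [N'.Normal],
          N' ≠ ⊥ → C ⊔ N' ≠ ⊤ → ∃ g : G, MulAut.conj g • C = D := by
        intro C D hC hD N' _ hN' hCN'
        have hAC := sup_self_normalizing N' hsubC ⊤ C le_top (carterIn_top C hC)
        have hAD := sup_self_normalizing N' hsubC ⊤ D le_top (carterIn_top D hD)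
        have hCb := carter_map N' C hC.1 (fun x hx => hAC x (Subgroup.mem_top x) hx)
        have hDb := carter_map N' D hD.1 (fun x hx => hAD x (Subgroup.mem_top x) hx)
        obtain ⟨gb, hgb⟩ := (ih _ (hquot N' hN') (G ⧸ N') rfl).2 _ _ hCb hDb
        obtain ⟨g, rfl⟩ := QuotientGroup.mk'_surjective N' gb
        have hsup := conj_sup_of_map N' C D g hgb
        have hL : D ⊔ N' ≠ ⊤ := by
          intro h
          rw [h] at hsup
          apply hCN'
          rw [eq_top_iff]
          intro x _
          have h1 : MulAut.conj g • x ∈ MulAut.conj g • (C ⊔ N') := by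
            rw [hsup]; exact Subgroup.mem_top _
          exact Subgroup.smul_mem_pointwise_smul_iff.mp h1
        have hC' : CarterIn (MulAut.conj g • C) (D ⊔ N') := by
          have h1 := carterIn_conj C ⊤ (carterIn_top C hC) g (Subgroup.mem_top g)
          refine carterIn_mono _ ⊤ _ h1 ?_ le_top
          rw [← hsup]
          exact Subgroup.pointwise_smul_le_pointwise_smul_iff.mpr le_sup_left
        have hD' : CarterIn D (D ⊔ N') :=
          carterIn_mono _ ⊤ _ (carterIn_top D hD) le_sup_left le_top
        obtain ⟨l, -, hl⟩ := hsubC _ hL _ _ hC' hD'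
        exact ⟨l * g, by rw [conj_mul_smul, hl]⟩
      intro C D hC hD
      by_contra hcon
      have hbadC : ∀ (N' : Subgroup G) [N'.Normal], N' ≠ ⊥ → C ⊔ N' = ⊤ := by
        intro N' _ hN'
        by_contra h
        exact hcon (good C D hC hD N' hN' h)
      have hbadD : ∀ (N' : Subgroup G) [N'.Normal], N' ≠ ⊥ → D ⊔ N' = ⊤ := by
        intro N' _ hN'
        by_contra h
        obtain ⟨g, hg⟩ := good D C hD hC N' hN' h
        exact hcon ⟨g⁻¹, by rw [← hg, conj_inv_smul_smul]⟩
      have hcompl : ∀ C : Subgroup G, Carter C →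
          (∀ (N' : Subgroup G) [N'.Normal], N' ≠ ⊥ → C ⊔ N' = ⊤) →
          C ⊓ N = ⊥ ∧ Subgroup.IsComplement' N C := by
        intro C hC hbad
        have hCN := hbad N hNne
        have hn : (C ⊓ N).Normal := by
          apply normal_of_sup_top (C ⊓ N) C N hCN
          · intro m hm x hx
            exact ⟨C.mul_mem (C.mul_mem hm hx.1) (C.inv_mem hm), hNn.conj_mem x hx.2 m⟩
          · intro n hn x hx
            rw [hNcent n hn x hx.2]; exact hx
        have hbot : C ⊓ N = ⊥ := by
          by_contra hne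
          have := hbad (C ⊓ N) hne
          rw [sup_eq_left.mpr inf_le_left] at this
          exact hCtop C hC this
        refine ⟨hbot, Subgroup.isComplement'_of_disjoint_and_mul_eq_univ ?_ ?_⟩
        · rw [disjoint_iff, inf_comm]; exact hbot
        · rw [← Subgroup.normal_mul, sup_comm, hCN]; rfl
      obtain ⟨hCN0, hCc⟩ := hcompl C hC hbadC
      obtain ⟨hDN0, hDc⟩ := hcompl D hD hbadD
      have hCN := hbadC N hNne
      -- coprimality
      have hcop : (Nat.card N).Coprime N.index := by
        by_contra hnc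
        obtain ⟨p, hp, hpN, hpI⟩ := Nat.Prime.not_coprime_iff_dvd.mp hnc
        haveI : Fact p.Prime := ⟨hp⟩
        have hidx : N.index = Nat.card C := hCc.symm.index_eq_card
        rw [hidx] at hpI
        obtain ⟨P⟩ : Nonempty (Sylow p C) := inferInstance
        have htf : Group.IsNilpotent C ↔
            ∀ (p : ℕ) (_hp : Fact p.Prime) (P : Sylow p C), (P : Subgroup C).Normal :=
          (Group.isNilpotent_of_finite_tfae (G := C)).out 0 3
        have hPn : (P : Subgroup C).Normal := htf.mp hC.1 p inferInstance P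
        have hPne : (P : Subgroup C) ≠ ⊥ := P.ne_bot_of_dvd_card hpI
        obtain ⟨P', hP'⟩ : ∃ P' : Subgroup G, P' = (P : Subgroup C).map C.subtype := ⟨_, rfl⟩
        have hP'C : P' ≤ C := by rw [hP']; exact Subgroup.map_subtype_le _
        have hP'ne : P' ≠ ⊥ := by
          rw [hP']
          exact (Subgroup.map_eq_bot_iff_of_injective _ (Subgroup.subtype_injective C)).not.mpr hPne
        have hP'p : IsPGroup p P' := by rw [hP']; exact P.isPGroup'.map C.subtype
        have hP'norm : ∀ c ∈ C, ∀ x ∈ P', c * x * c⁻¹ ∈ P' := by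
          intro c hc x hx
          rw [hP'] at hx ⊢
          obtain ⟨y, hy, rfl⟩ := Subgroup.mem_map.mp hx
          exact Subgroup.mem_map.mpr ⟨(⟨c, hc⟩ : C) * y * (⟨c, hc⟩ : C)⁻¹,
            hPn.conj_mem y hy ⟨c, hc⟩, rfl⟩
        -- a fixed point of `P'` on `N`
        letI : MulAction P' N :=
          MulAction.compHom N ((MulAut.conjNormal (H := N)).comp P'.subtype)
        have hsmul : ∀ (x : P') (b : N), ((x • b : N) : G) = (x : G) * b * (x : G)⁻¹ :=
          fun x b => rfl
        have h1fix : (1 : N) ∈ MulAction.fixedPoints P' N := by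
          intro x
          apply Subtype.ext
          rw [hsmul]
          simp
        obtain ⟨b, hb, hb1⟩ :=
          hP'p.exists_fixed_point_of_prime_dvd_card_of_fixed_point (α := N) hpN h1fix
        have hbcent : (b : G) ∈ Subgroup.centralizer (P' : Set G) := by
          rw [Subgroup.mem_centralizer_iff]
          intro x hx
          have h2 := congrArg Subtype.val (hb ⟨x, hx⟩)
          rw [hsmul] at h2
          exact (mul_inv_eq_iff_eq_mul.mp h2)
        obtain ⟨Y, hY⟩ : ∃ Y : Subgroup G, Y = N ⊓ Subgroup.centralizer (P' : Set G) := ⟨_, rfl⟩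
        have hYne : Y ≠ ⊥ := by
          intro h
          have h2 : (b : G) ∈ Y := by rw [hY]; exact ⟨b.2, hbcent⟩
          rw [h, Subgroup.mem_bot] at h2
          exact hb1 (Subtype.ext h2).symm
        have hYn : Y.Normal := by
          apply normal_of_sup_top Y C N hCN
          · intro c hc y hy
            rw [hY] at hy ⊢
            refine Subgroup.mem_inf.mpr ⟨hNn.conj_mem y hy.1 c, Subgroup.mem_centralizer_iff.mpr ?_⟩
            intro x hx
            have hmem : c⁻¹ * x * c⁻¹⁻¹ ∈ P' := hP'norm c⁻¹ (C.inv_mem hc) x hx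
            have h2 := (Subgroup.mem_centralizer_iff.mp hy.2) _ hmem
            calc x * (c * y * c⁻¹) = c * ((c⁻¹ * x * c⁻¹⁻¹) * y) * c⁻¹ := by group
              _ = c * (y * (c⁻¹ * x * c⁻¹⁻¹)) * c⁻¹ := by rw [h2]
              _ = c * y * c⁻¹ * x := by group
          · intro n hn y hy
            rw [hY] at hy
            rw [hNcent n hn y hy.1, hY]; exact hy
        have hYN : Y = N := by
          rcases hNmin Y hYn (by rw [hY]; exact inf_le_left) with h | h
          · exact absurd h hYne
          · exact h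
        obtain ⟨X, hX⟩ : ∃ X : Subgroup G, X = C ⊓ Subgroup.centralizer (N : Set G) := ⟨_, rfl⟩
        have hP'X : P' ≤ X := by
          intro x hx
          rw [hX]
          refine Subgroup.mem_inf.mpr ⟨hP'C hx, Subgroup.mem_centralizer_iff.mpr ?_⟩
          intro n hn
          have hnY : n ∈ Y := by rw [hYN]; exact hn
          rw [hY] at hnY
          exact ((Subgroup.mem_centralizer_iff.mp hnY.2) x hx).symm
        have hXne : X ≠ ⊥ := fun h => hP'ne (le_bot_iff.mp (h ▸ hP'X))
        have hXn : X.Normal := by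
          apply normal_of_sup_top X C N hCN
          · intro c hc x hx
            rw [hX] at hx ⊢
            exact ⟨C.mul_mem (C.mul_mem hc hx.1) (C.inv_mem hc),
              (inferInstance : (Subgroup.centralizer (N : Set G)).Normal).conj_mem x hx.2 c⟩
          · intro n hn x hx
            have hx' := hx
            rw [hX] at hx'
            have h2 := (Subgroup.mem_centralizer_iff.mp hx'.2) n hn
            rw [h2, mul_inv_cancel_right]; exact hx
        have h3 := hbadC X hXne
        rw [sup_eq_left.mpr (by rw [hX]; exact inf_le_left)] at h3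
        exact hCtop C hC h3
      haveI : IsMulCommutative N := ⟨⟨fun a b => Subtype.ext (hNcomm a a.2 b b.2)⟩⟩
      exact hcon (S0052.result N N le_rfl hcop C D hCc hDc (by rw [hCN0, hDN0]))

/-- Carter subgroups: a finite solvable group contains a nilpotent subgroup equal to its own normaliser, and all such subgroups are conjugate. -/
theorem result {G : Type*} [Group G] [Finite G] [Group.IsSolvable G] :
    (∃ C : Subgroup G, Group.IsNilpotent C ∧ Subgroup.normalizer (C : Set G) = C) ∧
    ∀ C D : Subgroup G, Group.IsNilpotent C → Subgroup.normalizer (C : Set G) = C →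
      Group.IsNilpotent D → Subgroup.normalizer (D : Set G) = D → ∃ g : G, MulAut.conj g • C = D := by
  obtain ⟨⟨C, hC⟩, hconj⟩ := main _ G rfl
  exact ⟨⟨C, hC.1, hC.2⟩, fun C D h1 h2 h3 h4 => hconj C D ⟨h1, h2⟩ ⟨h3, h4⟩⟩

end Cfsg.Agent.S0045
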