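import Mathlib
import Cfsg.Statements.S4303
import Cfsg.Agent.Lead.SylowSub

set_option autoImplicit false
universe u
open Cfsg
open Pointwise

namespace Cfsg.Agent.S4303

section generic
variable {G : Type*} [Group G] [Finite G]

lemma relIndex_pos' (H K : Subgroup G) : 0 < H.relIndex K :=
  Nat.pos_of_ne_zero (Subgroup.index_ne_zero_of_finite (H := H.subgroupOf K))

/-- `|HK : H| = |K : H ∩ K|` when `H` normalises `K`. -/
lemma relIndex_sup_left' (H K : Subgroup G) (h : H ≤ Subgroup.normalizer (K : Set G)) :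
    H.relIndex (H ⊔ K) = H.relIndex K := by
  have h1 := Lead.relIndex_sup_of_le_normalizer H K h
  have e1 : Nat.card K * K.relIndex (H ⊔ K) = Nat.card (H ⊔ K : Subgroup G) := by
    rw [← Subgroup.relIndex_bot_left, Subgroup.relIndex_mul_relIndex _ _ _ bot_le le_sup_right,
      Subgroup.relIndex_bot_left]
  have e2 : Nat.card H * H.relIndex (H ⊔ K) = Nat.card (H ⊔ K : Subgroup G) := by
    rw [← Subgroup.relIndex_bot_left, Subgroup.relIndex_mul_relIndex _ _ _ bot_le le_sup_left,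
      Subgroup.relIndex_bot_left]
  have e3 : Nat.card (H ⊓ K : Subgroup G) * K.relIndex H = Nat.card H := by
    rw [← Subgroup.inf_relIndex_left, ← Subgroup.relIndex_bot_left,
      Subgroup.relIndex_mul_relIndex _ _ _ bot_le inf_le_left, Subgroup.relIndex_bot_left]
  have e4 : Nat.card (H ⊓ K : Subgroup G) * H.relIndex K = Nat.card K := by
    rw [← Subgroup.inf_relIndex_right, ← Subgroup.relIndex_bot_left,
      Subgroup.relIndex_mul_relIndex _ _ _ bot_le inf_le_right, Subgroup.relIndex_bot_left]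
  have hpos : 0 < Nat.card (H ⊓ K : Subgroup G) * K.relIndex H :=
    Nat.mul_pos Nat.card_pos (relIndex_pos' K H)
  apply Nat.eq_of_mul_eq_mul_left hpos
  calc Nat.card (H ⊓ K : Subgroup G) * K.relIndex H * H.relIndex (H ⊔ K)
      = Nat.card K * K.relIndex H := by rw [e3, e2, ← e1, h1]
    _ = Nat.card (H ⊓ K : Subgroup G) * H.relIndex K * K.relIndex H := by rw [e4]
    _ = Nat.card (H ⊓ K : Subgroup G) * K.relIndex H * H.relIndex K := by ring

lemma card_eq' {p : ℕ} [Fact p.Prime] (P : Sylow p G) :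
    Nat.card (Sylow p G) = (Subgroup.normalizer ((P : Subgroup G) : Set G)).index :=
  P.card_eq_index_normalizer

lemma card_sylow_subgroup {p : ℕ} [Fact p.Prime] (P : Sylow p G) (H : Subgroup G)
    (hPH : (P : Subgroup G) ≤ H) :
    Nat.card (Sylow p H) = (Subgroup.normalizer ((P : Subgroup G) : Set G)).relIndex H := by
  rw [card_eq' (P.subtype hPH), Sylow.coe_subtype,
    ← Subgroup.subgroupOf_normalizer_eq hPH]
  rfl

lemma card_sylow_quotient {p : ℕ} [Fact p.Prime] (P : Sylow p G) (N : Subgroup G) [N.Normal] :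
    Nat.card (Sylow p (G ⧸ N)) =
      (Subgroup.normalizer (((P : Subgroup G) ⊔ N : Subgroup G) : Set G)).index := by
  have hs := QuotientGroup.mk'_surjective N
  rw [card_eq' (P.mapSurjective hs), ← Subgroup.index_comap_of_surjective _ hs,
    Subgroup.comap_normalizer_eq_of_surjective _ hs, Sylow.coe_mapSurjective,
    Subgroup.comap_map_eq, QuotientGroup.ker_mk']

/-- Frattini argument. -/
lemma frattini {p : ℕ} [Fact p.Prime] (P : Sylow p G) (X : Subgroup G)
    (hPX : (P : Subgroup G) ≤ X) :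
    Subgroup.normalizer (X : Set G) ≤ Subgroup.normalizer ((P : Subgroup G) : Set G) ⊔ X := by
  intro g hg
  have h1 : MulAut.conj g • (P : Subgroup G) ≤ X := Lead.conj_smul_le_of_mem_normalizer hg hPX
  have hmap : ((P.subtype hPX : Sylow p X) : Subgroup X).map X.subtype = P := by
    rw [Sylow.coe_subtype, Subgroup.map_subgroupOf_eq_of_le hPX]
  have hcard : Nat.card (MulAut.conj g • (P : Subgroup G) : Subgroup G) =
      p ^ (Nat.card X).factorization p := by
    rw [S0001.card_conj_smul, ← Lead.card_sylow_map X (P.subtype hPX), hmap]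
  obtain ⟨k, hk, hk2⟩ := Lead.exists_conj_eq_of_card X (P.subtype hPX) _ h1 hcard
  rw [hmap] at hk2
  have h2 : k⁻¹ * g ∈ Subgroup.normalizer ((P : Subgroup G) : Set G) := by
    rw [Lead.mem_normalizer_iff_conj_smul, S0001.conj_mul_smul, hk2, ← S0001.conj_mul_smul,
      inv_mul_cancel, map_one, one_smul]
  have h3 : g = k * (k⁻¹ * g) := by group
  rw [h3, sup_comm]
  exact Subgroup.mul_mem_sup hk h2

lemma F1 {p : ℕ} [Fact p.Prime] (P : Sylow p G) (N : Subgroup G) [N.Normal] (X : Subgroup G)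
    (hX : X = (P : Subgroup G) ⊔ N) :
    Nat.card (Sylow p G) = Nat.card (Sylow p (G ⧸ N)) * Nat.card (Sylow p X) := by
  have hPX : (P : Subgroup G) ≤ X := hX ▸ le_sup_left
  have hle : Subgroup.normalizer ((P : Subgroup G) : Set G) ≤ Subgroup.normalizer (X : Set G) := by
    intro g hg
    rw [Lead.mem_normalizer_iff_conj_smul] at hg ⊢
    rw [hX, Subgroup.smul_sup, hg, Subgroup.Normal.conj_smul_eq_self]
  have h3 : Subgroup.normalizer ((P : Subgroup G) : Set G) ⊔ X = Subgroup.normalizer (X : Set G) :=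
    le_antisymm (sup_le hle Subgroup.le_normalizer) (frattini P X hPX)
  have h4 : (Subgroup.normalizer ((P : Subgroup G) : Set G)).relIndex (Subgroup.normalizer (X : Set G)) =
      (Subgroup.normalizer ((P : Subgroup G) : Set G)).relIndex X := by
    rw [← h3]; exact relIndex_sup_left' _ X hle
  rw [card_eq' P, card_sylow_quotient P N, card_sylow_subgroup P X hPX, ← hX,
    ← Subgroup.relIndex_mul_index hle, h4, mul_comm]

lemma F2 {p : ℕ} [Fact p.Prime] (P : Sylow p G) (N : Subgroup G) [N.Normal]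
    (hPN : (P : Subgroup G) ⊔ N = ⊤) (Y : Subgroup G)
    (hY : Y = (P : Subgroup G) ⊔
      (N ⊓ Subgroup.normalizer (((P : Subgroup G) ⊓ N : Subgroup G) : Set G))) :
    Nat.card (Sylow p G) = Nat.card (Sylow p N) * Nat.card (Sylow p Y) := by
  obtain ⟨NP, hNP⟩ : ∃ NP, NP = Subgroup.normalizer ((P : Subgroup G) : Set G) := ⟨_, rfl⟩
  obtain ⟨R, hR⟩ : ∃ R : Subgroup G, R = (P : Subgroup G) ⊓ N := ⟨_, rfl⟩
  obtain ⟨L, hL⟩ : ∃ L : Subgroup G, L = N ⊓ Subgroup.normalizer (R : Set G) := ⟨_, rfl⟩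
  rw [← hR, ← hL] at hY
  have hRN : R ≤ N := hR ▸ inf_le_right
  have hLN : L ≤ N := hL ▸ inf_le_left
  have hLY : L ≤ Y := hY ▸ le_sup_right
  have hPY : (P : Subgroup G) ≤ Y := hY ▸ le_sup_left
  have hPNP : (P : Subgroup G) ≤ NP := hNP ▸ Subgroup.le_normalizer
  have hNtop : NP ≤ Subgroup.normalizer (N : Set G) := by
    rw [Subgroup.normalizer_eq_top]; exact le_top
  have hNR : NP ≤ Subgroup.normalizer (R : Set G) := by
    rw [hR]; exact Lead.le_normalizer_inf hNP.le hNtop
  have hNL : NP ≤ Subgroup.normalizer (L : Set G) := by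
    rw [hL]; exact Lead.le_normalizer_inf hNtop (hNR.trans Subgroup.le_normalizer)
  -- Step 1
  have s1 : Nat.card (Sylow p G) = NP.relIndex N := by
    rw [card_eq' P, ← hNP, ← Subgroup.relIndex_top_right]
    have : (⊤ : Subgroup G) = NP ⊔ N := by
      rw [eq_comm, eq_top_iff, ← hPN]; exact sup_le_sup_right hPNP N
    rw [this]
    exact relIndex_sup_left' NP N hNtop
  -- Step 2
  have s2 : Nat.card (Sylow p N) = L.relIndex N := by
    have hpg : IsPGroup p (R.subgroupOf N) := by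
      have : IsPGroup p R := by rw [hR]; exact P.2.to_inf_left
      exact this.comap_subtype
    have hidx : ¬ p ∣ (R.subgroupOf N).index := by
      have h1 : (R.subgroupOf N).index = (P : Subgroup G).relIndex ((P : Subgroup G) ⊔ N) := by
        rw [relIndex_sup_left' _ N (by rw [Subgroup.normalizer_eq_top]; exact le_top), hR,
          ← Subgroup.inf_relIndex_right]
        rfl
      rw [h1]
      intro hdvd
      exact P.not_dvd_index (hdvd.trans (Subgroup.relIndex_dvd_index_of_le le_sup_left))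
    rw [card_eq' (hpg.toSylow hidx)]
    have h2 : ((hpg.toSylow hidx : Sylow p N) : Subgroup N) = R.subgroupOf N := rfl
    rw [h2, ← Subgroup.subgroupOf_normalizer_eq hRN, hL, inf_comm, Subgroup.inf_relIndex_right]
    rfl
  -- Step 3
  have s3 : Nat.card (Sylow p Y) = NP.relIndex L := by
    rw [card_sylow_subgroup P Y hPY, ← hNP]
    have h1 : (NP ⊓ Y) ⊔ L = Y := by
      apply le_antisymm (sup_le inf_le_right hLY)
      exact hY.le.trans (sup_le (le_sup_of_le_left (le_inf hPNP hPY)) le_sup_right)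
    have h2 := relIndex_sup_left' (NP ⊓ Y) L (inf_le_left.trans hNL)
    rw [h1, Subgroup.inf_relIndex_right] at h2
    rw [h2, ← Subgroup.inf_relIndex_right, inf_assoc, inf_of_le_right hLY,
      Subgroup.inf_relIndex_right]
  -- Step 4
  have s4 : NP.relIndex N = NP.relIndex L * L.relIndex N := by
    have h1 : NP ⊓ N ≤ L := by
      rw [hL]; exact le_inf inf_le_right (inf_le_left.trans hNR)
    have h2 := Subgroup.relIndex_mul_relIndex _ _ _ h1 hLN
    rw [Subgroup.inf_relIndex_right] at h2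
    rw [← h2, ← Subgroup.inf_relIndex_right (H := NP ⊓ N), inf_assoc, inf_of_le_right hLN,
      Subgroup.inf_relIndex_right]
  rw [s1, s2, s3, s4, mul_comm]

/-- Under coprime action, an invariant `q`-subgroup lies in an invariant Sylow `q`-subgroup. -/
lemma exists_invariant_sylow (A K : Subgroup G) (hAK : A ≤ Subgroup.normalizer (K : Set G))
    (hcop : (Nat.card A).Coprime (Nat.card K)) (hsolv : Group.IsSolvable A) (q : ℕ)
    [Fact q.Prime] :
    ∀ (d : ℕ) (Q₁ : Subgroup G), Nat.card K - Nat.card Q₁ = d → Q₁ ≤ K → IsPGroup q Q₁ →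
      A ≤ Subgroup.normalizer (Q₁ : Set G) →
      ∃ Q : Subgroup G, Q₁ ≤ Q ∧ Q ≤ K ∧ A ≤ Subgroup.normalizer (Q : Set G) ∧
        Nat.card Q = q ^ (Nat.card K).factorization q := by
  intro d
  induction d using Nat.strong_induction_on with
  | _ d ih =>
  intro Q₁ hd hQK hQq hAQ
  by_cases hc : Nat.card Q₁ = q ^ (Nat.card K).factorization q
  · exact ⟨Q₁, le_rfl, hQK, hAQ, hc⟩
  obtain ⟨T₁, hT₁⟩ := (hQq.comap_subtype (K := K)).exists_le_sylow
  obtain ⟨T', hT'⟩ : ∃ T' : Subgroup G, T' = (T₁ : Subgroup K).map K.subtype := ⟨_, rfl⟩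
  have hT'card : Nat.card T' = q ^ (Nat.card K).factorization q := by
    rw [hT']; exact Lead.card_sylow_map K T₁
  have hT'K : T' ≤ K := by rw [hT']; exact Subgroup.map_subtype_le _
  have hQT' : Q₁ ≤ T' := by
    rw [hT', ← Subgroup.map_subgroupOf_eq_of_le hQK]; exact Subgroup.map_mono hT₁
  have hT'q : IsPGroup q T' := by rw [hT']; exact T₁.2.map _
  have hlt : Q₁ < T' := lt_of_le_of_ne hQT' (fun h => hc (by rw [h]; exact hT'card))
  obtain ⟨x, hxT, hxQ, hxN⟩ := Lead.exists_mem_normalizer_not_mem hT'q hlt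
  obtain ⟨M₁, hM₁⟩ : ∃ M₁ : Subgroup G, M₁ = K ⊓ Subgroup.normalizer (Q₁ : Set G) := ⟨_, rfl⟩
  have hM₁K : M₁ ≤ K := hM₁ ▸ inf_le_left
  have hM₁N : M₁ ≤ Subgroup.normalizer (Q₁ : Set G) := hM₁ ▸ inf_le_right
  have hQM : Q₁ ≤ M₁ := by rw [hM₁]; exact le_inf hQK Subgroup.le_normalizer
  have hAM : A ≤ Subgroup.normalizer (M₁ : Set G) := by
    rw [hM₁]; exact Lead.le_normalizer_inf hAK (hAQ.trans Subgroup.le_normalizer)
  have hcopM : (Nat.card A).Coprime (Nat.card M₁) :=
    Nat.Coprime.coprime_dvd_right (Subgroup.card_dvd_of_le hM₁K) hcop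
  obtain ⟨T₀⟩ : Nonempty (Sylow q M₁) := inferInstance
  obtain ⟨T, hT⟩ : ∃ T : Subgroup G, T = (T₀ : Subgroup M₁).map M₁.subtype := ⟨_, rfl⟩
  have hTcard : Nat.card T = q ^ (Nat.card M₁).factorization q := by
    rw [hT]; exact Lead.card_sylow_map M₁ T₀
  have hTM : T ≤ M₁ := by rw [hT]; exact Subgroup.map_subtype_le _
  have hconj : ∀ a ∈ A, ∃ k ∈ M₁, MulAut.conj a • T = MulAut.conj k • T := by
    intro a ha
    have h1 : MulAut.conj a • T ≤ M₁ := Lead.conj_smul_le_of_mem_normalizer (hAM ha) hTM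
    obtain ⟨k, hk, hk2⟩ := Lead.exists_conj_eq_of_card M₁ T₀ _ h1
      (by rw [S0001.card_conj_smul, hTcard])
    exact ⟨k, hk, by rw [hk2, hT]⟩
  obtain ⟨n, hn, hnA⟩ := Lead.exists_conj_normalized A M₁ hAM hcopM (Or.inl hsolv) T hconj
  obtain ⟨Q₂, hQ₂⟩ : ∃ Q₂ : Subgroup G, Q₂ = MulAut.conj n • T := ⟨_, rfl⟩
  rw [← hQ₂] at hnA
  have hQ₂M : Q₂ ≤ M₁ := by
    rw [hQ₂]; exact Lead.conj_smul_le_of_mem_normalizer (Subgroup.le_normalizer hn) hTM
  have hQ₂card : Nat.card Q₂ = q ^ (Nat.card M₁).factorization q := by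
    rw [hQ₂, S0001.card_conj_smul, hTcard]
  have hQ₂q : IsPGroup q Q₂ := IsPGroup.of_card hQ₂card
  have hbound : ∀ U : Subgroup G, U ≤ M₁ → IsPGroup q U → Nat.card U ≤ Nat.card Q₂ := by
    intro U hU hUq
    obtain ⟨k, hk⟩ := IsPGroup.iff_card.mp hUq
    rw [hk, hQ₂card]
    apply Nat.pow_le_pow_right (Fact.out : q.Prime).pos
    have h1 : q ^ k ∣ Nat.card M₁ := hk ▸ Subgroup.card_dvd_of_le hU
    exact (Nat.Prime.pow_dvd_iff_le_factorization Fact.out Nat.card_pos.ne').mp h1
  have hQ₁Q₂ : Q₁ ≤ Q₂ := by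
    have h1 : IsPGroup q (Q₂ ⊔ Q₁ : Subgroup G) :=
      hQ₂q.to_sup_of_normal_right' hQq (hQ₂M.trans hM₁N)
    have h2 := hbound _ (sup_le hQ₂M hQM) h1
    have h3 : Q₂ = Q₂ ⊔ Q₁ := Subgroup.eq_of_le_of_card_ge le_sup_left h2
    rw [h3]; exact le_sup_right
  have hlt2 : Nat.card Q₁ < Nat.card Q₂ := by
    have h1 : Q₁ < T' ⊓ Subgroup.normalizer (Q₁ : Set G) := by
      refine lt_of_le_of_ne (le_inf hQT' Subgroup.le_normalizer) ?_
      intro h
      apply hxQ
      rw [h]
      exact ⟨hxT, hxN⟩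
    have h2 : Nat.card (T' ⊓ Subgroup.normalizer (Q₁ : Set G) : Subgroup G) ≤ Nat.card Q₂ :=
      hbound _ (by rw [hM₁]; exact inf_le_inf_right _ hT'K) hT'q.to_inf_left
    exact lt_of_lt_of_le (S0001.card_lt_of_lt h1) h2
  have hQ₂K : Q₂ ≤ K := hQ₂M.trans hM₁K
  obtain ⟨Q, hQ₂Q, hQK', hAQ', hcard⟩ := ih (Nat.card K - Nat.card Q₂) (by
      have := Subgroup.card_le_of_le hQ₂K
      have := Subgroup.card_le_of_le hQK
      omega) Q₂ rfl hQ₂K hQ₂q hnA
  exact ⟨Q, hQ₁Q₂.trans hQ₂Q, hQK', hAQ', hcard⟩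

/-- Fixed point congruence for the conjugation action of a `p`-group. -/
lemma card_modEq_fixed {p : ℕ} [Fact p.Prime] (A Q : Subgroup G) (hA : IsPGroup p A)
    (hAQ : A ≤ Subgroup.normalizer (Q : Set G)) :
    Nat.card Q ≡ Nat.card (Q ⊓ Subgroup.centralizer (A : Set G) : Subgroup G) [MOD p] := by
  let act : MulAction A Q :=
    { smul := fun a x => ⟨a * x * a⁻¹, (Subgroup.mem_normalizer_iff.mp (hAQ a.2) x).mp x.2⟩
      one_smul := fun x => Subtype.ext (by
        show ((1 : A) : G) * x * ((1 : A) : G)⁻¹ = x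
        simp)
      mul_smul := fun a b x => Subtype.ext (by
        show ((a * b : A) : G) * x * ((a * b : A) : G)⁻¹ = a * (b * x * (b : G)⁻¹) * (a : G)⁻¹
        simp [mul_assoc]) }
  have hsm : ∀ (a : A) (x : Q), ((a • x : Q) : G) = a * x * (a : G)⁻¹ := fun a x => rfl
  have h1 := hA.card_modEq_card_fixedPoints (α := Q)
  have e : MulAction.fixedPoints A Q ≃ (Q ⊓ Subgroup.centralizer (A : Set G) : Subgroup G) :=
    { toFun := fun x => ⟨x.1.1, x.1.2, fun a ha => by
          have h2 := congrArg Subtype.val (x.2 ⟨a, ha⟩)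
          rw [hsm] at h2
          exact mul_inv_eq_iff_eq_mul.mp h2⟩
      invFun := fun y => ⟨⟨y.1, y.2.1⟩, fun a => Subtype.ext (by
          rw [hsm]
          exact mul_inv_eq_iff_eq_mul.mpr (y.2.2 a a.2))⟩
      left_inv := fun x => rfl
      right_inv := fun y => rfl }
  rw [← Nat.card_congr e]; exact h1

/-- The coprime case: `G = P N` with `P ∩ N = 1`. -/
lemma F4 {p : ℕ} [Fact p.Prime] (P : Sylow p G) (N : Subgroup G) [N.Normal]
    (hsup : (P : Subgroup G) ⊔ N = ⊤) (hinf : (P : Subgroup G) ⊓ N = ⊥) :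
    ∃ l : List ℕ, l.prod = Nat.card (Sylow p G) ∧ ∀ m ∈ l, IsPrimePow m ∧ m % p = 1 := by
  have hp : p.Prime := Fact.out
  obtain ⟨NP, hNP⟩ : ∃ NP, NP = Subgroup.normalizer ((P : Subgroup G) : Set G) := ⟨_, rfl⟩
  have hPNP : (P : Subgroup G) ≤ NP := hNP ▸ Subgroup.le_normalizer
  have hNtop : ∀ H : Subgroup G, H ≤ Subgroup.normalizer (N : Set G) := fun H => by
    rw [Subgroup.normalizer_eq_top]; exact le_top
  have hcardN : Nat.card N = (P : Subgroup G).index := by
    rw [← Subgroup.relIndex_top_right, ← hsup, relIndex_sup_left' _ N (hNtop _),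
      ← Subgroup.inf_relIndex_right, hinf, Subgroup.relIndex_bot_left]
  have hpN : ¬ p ∣ Nat.card N := hcardN ▸ P.not_dvd_index
  have hcop : (Nat.card (P : Subgroup G)).Coprime (Nat.card N) := by
    obtain ⟨k, hk⟩ := IsPGroup.iff_card.mp P.2
    have hk' : Nat.card (P : Subgroup G) = p ^ k := hk
    rw [hk']
    exact Nat.Coprime.pow_left _ ((Nat.Prime.coprime_iff_not_dvd hp).mpr hpN)
  obtain ⟨C, hC⟩ : ∃ C : Subgroup G, C = N ⊓ Subgroup.centralizer ((P : Subgroup G) : Set G) :=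
    ⟨_, rfl⟩
  have hCN : C ≤ N := hC ▸ inf_le_left
  have hCcent : C ≤ Subgroup.centralizer ((P : Subgroup G) : Set G) := hC ▸ inf_le_right
  have hNPN : NP ⊓ N = C := by
    rw [hC, hNP]
    apply le_antisymm
    · rintro x ⟨hx1, hx2⟩
      exact ⟨hx2, Lead.mem_centralizer_of_mem_normalizer (hNtop _) hcop hx2 hx1⟩
    · rintro x ⟨hx1, hx2⟩
      exact ⟨Subgroup.centralizer_le_normalizer _ hx2, hx1⟩
  have s1 : Nat.card (Sylow p G) = C.relIndex N := by
    rw [card_eq' P, ← hNP, ← Subgroup.relIndex_top_right]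
    have : (⊤ : Subgroup G) = NP ⊔ N := by
      rw [eq_comm, eq_top_iff, ← hsup]; exact sup_le_sup_right hPNP N
    rw [this, relIndex_sup_left' NP N (hNtop _), ← Subgroup.inf_relIndex_right, hNPN]
  obtain ⟨m, hm⟩ : ∃ m, m = C.relIndex N := ⟨_, rfl⟩
  have hmpos : m ≠ 0 := hm ▸ (relIndex_pos' C N).ne'
  have hCm : Nat.card C * m = Nat.card N := by
    rw [hm, ← Subgroup.relIndex_bot_left, Subgroup.relIndex_mul_relIndex _ _ _ bot_le hCN,
      Subgroup.relIndex_bot_left]
  have key : ∀ q : ℕ, q.Prime → q ^ m.factorization q ≡ 1 [MOD p] := by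
    intro q hq
    haveI : Fact q.Prime := ⟨hq⟩
    have hfac : (Nat.card N).factorization q =
        (Nat.card C).factorization q + m.factorization q := by
      rw [← hCm, Nat.factorization_mul Nat.card_pos.ne' hmpos]; rfl
    by_cases hqp : q = p
    · subst hqp
      have h0 : (Nat.card N).factorization q = 0 := Nat.factorization_eq_zero_of_not_dvd hpN
      have h1 : m.factorization q = 0 := by omega
      rw [h1, pow_zero]
    obtain ⟨S⟩ : Nonempty (Sylow q C) := inferInstance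
    obtain ⟨S₀, hS₀⟩ : ∃ S₀ : Subgroup G, S₀ = (S : Subgroup C).map C.subtype := ⟨_, rfl⟩
    have hS₀card : Nat.card S₀ = q ^ (Nat.card C).factorization q := by
      rw [hS₀]; exact Lead.card_sylow_map C S
    have hS₀C : S₀ ≤ C := by rw [hS₀]; exact Subgroup.map_subtype_le _
    have hS₀q : IsPGroup q S₀ := IsPGroup.of_card hS₀card
    have hPS₀ : (P : Subgroup G) ≤ Subgroup.normalizer (S₀ : Set G) :=
      (Subgroup.le_centralizer_iff.mp (hS₀C.trans hCcent)).trans (Subgroup.centralizer_le_normalizer _)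
    have hsolv : Group.IsSolvable (P : Subgroup G) := by
      haveI := P.2.isNilpotent
      infer_instance
    obtain ⟨Q, hS₀Q, hQN, hPQ, hQcard⟩ := exists_invariant_sylow (P : Subgroup G) N (hNtop _) hcop
      hsolv q _ S₀ rfl (hS₀C.trans hCN) hS₀q hPS₀
    have hfix : Q ⊓ Subgroup.centralizer ((P : Subgroup G) : Set G) = S₀ := by
      symm
      apply Subgroup.eq_of_le_of_card_ge (le_inf hS₀Q (hS₀C.trans hCcent))
      have hq' : IsPGroup q (Q ⊓ Subgroup.centralizer ((P : Subgroup G) : Set G) : Subgroup G) :=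
        (IsPGroup.of_card hQcard).to_inf_left
      obtain ⟨k, hk⟩ := IsPGroup.iff_card.mp hq'
      rw [hk, hS₀card]
      apply Nat.pow_le_pow_right hq.pos
      have h1 : q ^ k ∣ Nat.card C :=
        hk ▸ Subgroup.card_dvd_of_le (by rw [hC]; exact inf_le_inf_right _ hQN)
      exact (hq.pow_dvd_iff_le_factorization Nat.card_pos.ne').mp h1
    have hcong := card_modEq_fixed (P : Subgroup G) Q P.2 hPQ
    rw [hfix, hQcard, hS₀card, hfac, pow_add] at hcong
    have hg : Nat.gcd p (q ^ (Nat.card C).factorization q) = 1 :=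
      Nat.Coprime.pow_right _ ((Nat.coprime_primes hp hq).mpr (Ne.symm hqp))
    have h2 : q ^ m.factorization q * q ^ (Nat.card C).factorization q ≡
        1 * q ^ (Nat.card C).factorization q [MOD p] := by
      rw [one_mul, mul_comm]; exact hcong
    exact Nat.ModEq.cancel_right_of_coprime hg h2
  refine ⟨m.primeFactors.toList.map (fun q => q ^ m.factorization q), ?_, ?_⟩
  · rw [Finset.prod_map_toList, s1, ← hm]
    exact (Nat.prod_primeFactors_pow_factorization hmpos).symm
  · intro x hx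
    rw [List.mem_map] at hx
    obtain ⟨q, hq, rfl⟩ := hx
    rw [Finset.mem_toList] at hq
    have hqp := Nat.prime_of_mem_primeFactors hq
    refine ⟨?_, ?_⟩
    · rw [isPrimePow_nat_iff]
      exact ⟨q, m.factorization q, hqp,
        hqp.factorization_pos_of_dvd hmpos (Nat.dvd_of_mem_primeFactors hq), rfl⟩
    · have h3 := key q hqp
      rw [Nat.ModEq, Nat.mod_eq_of_lt hp.one_lt] at h3
      exact h3

end generic

/-- the admissible factors -/
def Good (p : ℕ) (m : ℕ) : Prop :=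
  (IsPrimePow m ∧ m % p = 1) ∨
    ∃ (S : Type u) (_ : Group S) (_ : Finite S), IsSimpleGroup S ∧ m = Nat.card (Sylow p S)

/-- products of admissible factors -/
def PP (p : ℕ) (n : ℕ) : Prop := ∃ l : List ℕ, l.prod = n ∧ ∀ m ∈ l, Good.{u} p m

lemma PP_mul {p a b : ℕ} (ha : PP.{u} p a) (hb : PP.{u} p b) : PP.{u} p (a * b) := by
  obtain ⟨l₁, h1, h1'⟩ := ha
  obtain ⟨l₂, h2, h2'⟩ := hb
  refine ⟨l₁ ++ l₂, by rw [List.prod_append, h1, h2], fun m hm => ?_⟩
  rcases List.mem_append.mp hm with h | h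
  exacts [h1' m h, h2' m h]

lemma PP_one {p : ℕ} : PP.{u} p 1 := ⟨[], rfl, by simp⟩

theorem main (p : ℕ) [Fact p.Prime] : ∀ (n : ℕ) (G : Type u) [Group G] [Finite G],
    Nat.card G = n → PP.{u} p (Nat.card (Sylow p G)) := by
  intro n
  induction n using Nat.strong_induction_on with
  | _ n ih =>
  intro G _ _ hn
  by_cases hsimple : IsSimpleGroup G
  · exact ⟨[Nat.card (Sylow p G)], by simp, fun m hm => by
      rw [List.mem_singleton] at hm
      exact Or.inr ⟨G, inferInstance, inferInstance, hsimple, hm⟩⟩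
  obtain ⟨P⟩ : Nonempty (Sylow p G) := inferInstance
  by_cases htriv : Subsingleton G
  · have h1 : Nat.card (Sylow p G) = 1 := by
      rw [card_eq' P, Subgroup.index_eq_one]; exact Subsingleton.elim _ _
    rw [h1]; exact PP_one
  rw [not_subsingleton_iff_nontrivial] at htriv
  obtain ⟨N, hNn, hNbot, hNtop⟩ : ∃ N : Subgroup G, N.Normal ∧ N ≠ ⊥ ∧ N ≠ ⊤ := by
    by_contra hcon
    push Not at hcon
    have hkey : ∀ N : Subgroup G, N.Normal → N = ⊥ ∨ N = ⊤ := fun N hN => by
      by_cases h : N = ⊥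
      · exact Or.inl h
      · exact Or.inr (hcon N hN h)
    exact hsimple { eq_bot_or_eq_top_of_normal := hkey }
  haveI := hNn
  by_cases h1 : (P : Subgroup G) ⊔ N = ⊤
  swap
  · rw [F1 P N _ rfl]
    exact PP_mul (ih _ (hn ▸ S0001.card_quotient_lt hNbot) (G ⧸ N) rfl)
      (ih _ (hn ▸ S0001.card_lt_of_ne_top h1) _ rfl)
  by_cases h2 : (P : Subgroup G) ⊔
      (N ⊓ Subgroup.normalizer (((P : Subgroup G) ⊓ N : Subgroup G) : Set G)) = ⊤
  swap
  · rw [F2 P N h1 _ rfl]
    exact PP_mul (ih _ (hn ▸ S0001.card_lt_of_ne_top hNtop) N rfl)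
      (ih _ (hn ▸ S0001.card_lt_of_ne_top h2) _ rfl)
  obtain ⟨R, hR⟩ : ∃ R : Subgroup G, R = (P : Subgroup G) ⊓ N := ⟨_, rfl⟩
  rw [← hR] at h2
  have hRn : R.Normal := by
    rw [← Subgroup.normalizer_eq_top_iff, eq_top_iff, ← h2]
    refine sup_le ?_ inf_le_right
    rw [hR]
    exact Lead.le_normalizer_inf Subgroup.le_normalizer
      (by rw [Subgroup.normalizer_eq_top]; exact le_top)
  by_cases hRbot : R = ⊥
  · obtain ⟨l, hl, hl'⟩ := F4 P N h1 (hR ▸ hRbot)
    exact ⟨l, hl, fun m hm => Or.inl (hl' m hm)⟩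
  · haveI := hRn
    have hPR : (P : Subgroup G) ⊔ R = P := sup_eq_left.mpr (hR ▸ inf_le_left)
    rw [F1 P R _ rfl]
    have h3 : Nat.card (Sylow p ↥((P : Subgroup G) ⊔ R)) = 1 := by
      rw [card_sylow_subgroup P _ le_sup_left, Subgroup.relIndex_eq_one, hPR]
      exact Subgroup.le_normalizer
    rw [h3, mul_one]
    exact ih _ (hn ▸ S0001.card_quotient_lt hRbot) (G ⧸ R) rfl

/-- For a finite group `G` and a prime `p`, the number of Sylow `p`-subgroups of `G` is a product of natural numbers each of which is either a prime power congruent to 1 modulo `p` or the number of Sylow `p`-subgroups of some finite simple group. -/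
theorem result {G : Type u} [Group G] [Finite G]
    (p : ℕ) [Fact p.Prime] :
    ∃ l : List ℕ, l.prod = Nat.card (Sylow p G) ∧
      ∀ m ∈ l, (IsPrimePow m ∧ m % p = 1) ∨
        ∃ (S : Type u) (_ : Group S) (_ : Finite S), IsSimpleGroup S ∧ m = Nat.card (Sylow p S) := by
  exact main p _ G rfl

end Cfsg.Agent.S4303
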