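import Cfsg.Statements.S0033
import Cfsg.Agent.Lead.Fpf
import Cfsg.Agent.Lead.ThC

set_option autoImplicit false
open Cfsg

namespace Cfsg.Agent.S0033

open Cfsg.Agent.Lead
open scoped Pointwise

universe u

/-- the criterion needed by `Fpf.core`, from Thompson's normal `p`-complement theorem -/
theorem crit_thompson (H : Type u) [Group H] [Finite H] (φ : H ≃* H) (q : ℕ) [Fact q.Prime]
    (hq : q ≠ 2) (Q : Sylow q H) (hQ : ∀ x ∈ Q, φ x ∈ Q)
    (hK : ∀ K : Subgroup H, K ≠ ⊤ → (∀ k ∈ K, φ k ∈ K) → HasNormalPComplement q K) :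
    (∃ Z : Subgroup H, Z.Normal ∧ ((Q : Subgroup H) ≠ ⊥ → Z ≠ ⊥) ∧ (∀ z ∈ Z, φ z ∈ Z) ∧
        IsPGroup q Z) ∨ HasNormalPComplement q H := by
  have hJφ : ∀ z ∈ S0653.JA q (Q : Subgroup H), φ z ∈ S0653.JA q (Q : Subgroup H) := by
    intro z hz
    have h1 : φ.toMonoidHom z ∈ (S0653.JA q (Q : Subgroup H)).map φ.toMonoidHom :=
      Subgroup.mem_map_of_mem _ hz
    rw [S0653.JA_map, Fpf.map_eq φ Q hQ] at h1
    exact h1
  have hZφ : ∀ z ∈ ((Q : Subgroup H) ⊓ Subgroup.centralizer ((Q : Subgroup H) : Set H) :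
      Subgroup H), φ z ∈ ((Q : Subgroup H) ⊓ Subgroup.centralizer ((Q : Subgroup H) : Set H) :
      Subgroup H) := by
    intro z hz
    obtain ⟨h1, h2⟩ := Subgroup.mem_inf.mp hz
    exact Subgroup.mem_inf.mpr ⟨hQ z h1, Fpf.cent_inv φ Q hQ z h2⟩
  by_cases hN : Subgroup.normalizer (S0653.JA q (Q : Subgroup H) : Set H) = ⊤
  · left
    exact ⟨_, Subgroup.normalizer_eq_top_iff.mp hN, fun hne => Th.JA_ne_bot _ Q.isPGroup' hne,
      hJφ, Q.isPGroup'.to_le (Th.JA_le q _)⟩
  by_cases hC : Subgroup.centralizer (((Q : Subgroup H) ⊓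
      Subgroup.centralizer ((Q : Subgroup H) : Set H) : Subgroup H) : Set H) = ⊤
  · left
    refine ⟨_, ?_, fun hne => Th.Z_ne_bot _ Q.isPGroup' hne, hZφ,
      Q.isPGroup'.to_le inf_le_left⟩
    rw [← Subgroup.normalizer_eq_top_iff, eq_top_iff, ← hC]
    exact Subgroup.centralizer_le_normalizer _
  · right
    exact Th.thompson_main hq (Nat.card H) H rfl Q
      (hK _ hN (fun k hk => Fpf.normalizer_inv φ _ hJφ k hk))
      (hK _ hC (fun k hk => Fpf.cent_inv φ _ hZφ k hk))

/-- **Thompson**: a finite group with a fixed-point-free automorphism `φ` with `φ ^ p = 1`,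
`p` prime, is nilpotent. -/
theorem thompson_pow {G : Type u} [Group G] [Finite G] (φ : G ≃* G)
    (hφ : ∀ g, φ g = g → g = 1) (p : ℕ) (hp : p.Prime) (hpow : φ ^ p = 1) :
    Group.IsNilpotent G :=
  Fpf.core p hp crit_thompson (Nat.card G) G rfl φ hφ hpow

/-- Frobenius kernels are nilpotent, given Thompson's theorem `hT` -/
theorem frobenius_kernel_nilpotent_of
    (hT : ∀ (K : Type u) [Group K] [Finite K] (φ : K ≃* K),
      (∀ g, φ g = g → g = 1) → ∀ p : ℕ, p.Prime → φ ^ p = 1 → Group.IsNilpotent K)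
    {G : Type u} [Group G] [Finite G] (H N : Subgroup G) (hH : Cfsg.IsFrobeniusComplement H)
    [hNn : N.Normal] (hNc : Subgroup.IsComplement' N H) : Group.IsNilpotent N := by
  obtain ⟨hHbot, -, hfrob⟩ := hH
  have hcard : Nat.card H ≠ 1 := fun h => hHbot (Subgroup.card_eq_one.mp h)
  obtain ⟨p, hp, hpd⟩ := Nat.exists_prime_and_dvd hcard
  haveI : Fact p.Prime := ⟨hp⟩
  obtain ⟨h, hh⟩ := exists_prime_orderOf_dvd_card' (G := H) p hpd
  have hh1 : (h : G) ≠ 1 := by
    intro h1
    have : h = 1 := Subtype.ext h1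
    rw [this, orderOf_one] at hh
    exact hp.one_lt.ne hh
  have hhp : (h : G) ^ p = 1 := by
    have h0 : h ^ p = 1 := by rw [← hh]; exact pow_orderOf_eq_one h
    have h2 := congrArg Subtype.val h0
    rw [Subgroup.coe_pow] at h2
    exact h2
  refine hT N (MulAut.conjNormal (h : G)) ?_ p hp ?_
  · intro n hn
    by_contra hn1
    have hn' : (h : G) * n * (h : G)⁻¹ = n := congrArg Subtype.val hn
    have hnH : (n : G) ∉ H := by
      intro hnH
      have : (n : G) ∈ N ⊓ H := ⟨n.2, hnH⟩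
      rw [hNc.disjoint.eq_bot, Subgroup.mem_bot] at this
      exact hn1 (Subtype.ext this)
    have h2 := hfrob n hnH
    have h3 : (h : G) ∈ H ⊓ (MulAut.conj (n : G) • H) := by
      have h5 : (n : G)⁻¹ * h * n = h := by
        have h4 : (h : G) * n = n * h := by
          calc (h : G) * n = (h : G) * n * (h : G)⁻¹ * h := by group
            _ = n * h := by rw [hn']
        rw [mul_assoc, h4, inv_mul_cancel_left]
      exact Subgroup.mem_inf.mpr ⟨h.2, Cfsg.Agent.Lead.mem_conj_smul'.mpr (by rw [h5]; exact h.2)⟩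
    rw [h2, Subgroup.mem_bot] at h3
    exact hh1 h3
  · rw [← map_pow, hhp, map_one]


/-- Thompson's Theorem on fixed-point-free automorphisms: a finite group with an automorphism of prime order fixing only the identity is nilpotent. -/
theorem result {G : Type*} [Group G] [Finite G] (φ : G ≃* G)
    (hφ : MonoidHom.FixedPointFree (φ : G →* G)) (p : ℕ) (hp : p.Prime) (hord : orderOf φ = p) :
    Group.IsNilpotent G := by
  exact thompson_pow φ (fun g hg => hφ g hg) p hp (hord ▸ pow_orderOf_eq_one φ)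

end Cfsg.Agent.S0033
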