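import Cfsg.Statements.S0034
import Mathlib

set_option autoImplicit false
open Cfsg

namespace Cfsg.Agent.S0034

open Pointwise

lemma mem_conj_smul {G : Type*} [Group G] (H : Subgroup G) (g x : G) :
    x ∈ MulAut.conj g • H ↔ g⁻¹ * x * g ∈ H := by
  rw [Subgroup.mem_pointwise_smul_iff_inv_smul_mem]
  simp [MulAut.smul_def]

/-- The Frobenius kernel (as a set) has `H.index` elements. -/
lemma card_kernel {G : Type*} [Group G] [Finite G] (H : Subgroup G) (hH : Cfsg.IsFrobeniusComplement H) :
    Nat.card (Cfsg.frobeniusKernel H) = H.index := by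
  obtain ⟨hbot, htop, hF⟩ := hH
  let Φ : (G ⧸ H) × {h : H // h ≠ 1} → G := fun p => p.1.out * (p.2.1 : G) * p.1.out⁻¹
  have hinj : Function.Injective Φ := by
    rintro ⟨q1, ⟨h1, hh1⟩⟩ ⟨q2, ⟨h2, hh2⟩⟩ heq
    have heq' : q1.out * (h1 : G) * q1.out⁻¹ = q2.out * (h2 : G) * q2.out⁻¹ := heq
    have hq : q1 = q2 := by
      by_contra hne
      have hg : q1.out⁻¹ * q2.out ∉ H := by
        intro hmem
        apply hne
        rw [← QuotientGroup.out_eq' q1, ← QuotientGroup.out_eq' q2]
        exact QuotientGroup.eq.mpr hmem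
      have hb := hF _ hg
      have hmem : (h1 : G) ∈ H ⊓ MulAut.conj (q1.out⁻¹ * q2.out) • H := by
        refine Subgroup.mem_inf.mpr ⟨h1.2, ?_⟩
        rw [mem_conj_smul]
        have e1 : (h1 : G) = q1.out⁻¹ * (q2.out * (h2 : G) * q2.out⁻¹) * q1.out := by
          rw [← heq']; group
        have e2 : (q1.out⁻¹ * q2.out)⁻¹ * (h1 : G) * (q1.out⁻¹ * q2.out) = h2 := by
          rw [e1]; group
        rw [e2]; exact h2.2
      rw [hb, Subgroup.mem_bot] at hmem
      exact hh1 (Subtype.ext hmem)
    subst hq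
    have e3 : (h1 : G) = h2 := by
      have e4 : (h1 : G) = q1.out⁻¹ * (q1.out * (h1 : G) * q1.out⁻¹) * q1.out := by group
      rw [e4, heq']; group
    have e5 : h1 = h2 := Subtype.ext e3
    subst e5
    rfl
  have hrange : Set.range Φ = (Cfsg.frobeniusKernel H)ᶜ := by
    ext x
    simp only [Set.mem_range, Set.mem_compl_iff, Cfsg.frobeniusKernel, Set.mem_ofPred_eq, not_or,
      not_forall, not_not]
    constructor
    · rintro ⟨⟨q, ⟨h, hh⟩⟩, rfl⟩
      refine ⟨?_, q.out, ?_⟩
      · intro h1
        apply hh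
        have h1' : q.out * (h : G) * q.out⁻¹ = 1 := h1
        have e1 : (h : G) = q.out⁻¹ * (q.out * (h : G) * q.out⁻¹) * q.out := by group
        have e2 : (h : G) = 1 := by rw [e1, h1']; group
        exact Subtype.ext e2
      · rw [mem_conj_smul]
        have e1 : q.out⁻¹ * (q.out * (h : G) * q.out⁻¹) * q.out = h := by group
        change q.out⁻¹ * (q.out * (h : G) * q.out⁻¹) * q.out ∈ H
        rw [e1]; exact h.2
    · rintro ⟨hx1, g, hg⟩
      rw [mem_conj_smul] at hg
      obtain ⟨k, hk⟩ := QuotientGroup.mk_out_eq_mul H g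
      have hmemH : (k : G)⁻¹ * (g⁻¹ * x * g) * k ∈ H := H.mul_mem (H.mul_mem (H.inv_mem k.2) hg) k.2
      have hne1 : (⟨(k : G)⁻¹ * (g⁻¹ * x * g) * k, hmemH⟩ : H) ≠ 1 := by
        intro h1
        apply hx1
        have h2 : (k : G)⁻¹ * (g⁻¹ * x * g) * k = 1 := congrArg Subtype.val h1
        have e1 : x = g * k * ((k : G)⁻¹ * (g⁻¹ * x * g) * k) * (g * k)⁻¹ := by group
        rw [e1, h2]; group
      refine ⟨⟨QuotientGroup.mk g, ⟨⟨(k : G)⁻¹ * (g⁻¹ * x * g) * k, hmemH⟩, hne1⟩⟩, ?_⟩
      change (QuotientGroup.mk g : G ⧸ H).out * ((k : G)⁻¹ * (g⁻¹ * x * g) * k) * (QuotientGroup.mk g : G ⧸ H).out⁻¹ = x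
      rw [hk]; group
  have hcardH : Nat.card {h : H // h ≠ 1} = Nat.card H - 1 := by
    have e1 : {h : H | h ≠ 1} = ({1} : Set H)ᶜ := by ext; simp
    change Nat.card ↥{h : H | h ≠ 1} = _
    rw [Nat.card_coe_set_eq, e1, Set.ncard_compl, Set.ncard_singleton]
  have hcard1 : (Set.range Φ).ncard = H.index * (Nat.card H - 1) := by
    rw [← Nat.card_coe_set_eq, Nat.card_congr (Equiv.ofInjective Φ hinj).symm, Nat.card_prod,
      ← Subgroup.index_eq_card, hcardH]
  have hsum := Set.ncard_add_ncard_compl (Cfsg.frobeniusKernel H)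
  rw [← hrange, hcard1, ← Subgroup.card_mul_index H] at hsum
  rw [Nat.card_coe_set_eq]
  have hHpos : 0 < Nat.card H := Nat.card_pos
  have hidx : 0 < H.index := Nat.pos_of_ne_zero Subgroup.index_ne_zero_of_finite
  obtain ⟨m, hm⟩ : ∃ m, Nat.card H = m + 1 := ⟨Nat.card H - 1, by omega⟩
  rw [hm] at hsum
  simp only [Nat.add_sub_cancel] at hsum
  nlinarith

/-- The index of a Frobenius complement is `1` modulo its order. -/
lemma index_mod {G : Type*} [Group G] [Finite G] (H : Subgroup G) (hH : Cfsg.IsFrobeniusComplement H) :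
    H.index % Nat.card H = 1 % Nat.card H := by
  classical
  obtain ⟨hbot, htop, hF⟩ := hH
  have : Fintype (Quotient (MulAction.orbitRel H (G ⧸ H))) := Fintype.ofFinite _
  have e := MulAction.selfEquivSigmaOrbitsQuotientStabilizer H (G ⧸ H)
  have hcard : H.index = ∑ ω : Quotient (MulAction.orbitRel H (G ⧸ H)),
      Nat.card (H ⧸ MulAction.stabilizer H ω.out) := by
    rw [Subgroup.index_eq_card, Nat.card_congr e, Nat.card_sigma]
  let ω₀ : Quotient (MulAction.orbitRel H (G ⧸ H)) := Quotient.mk'' (QuotientGroup.mk 1 : G ⧸ H)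
  have hfix : ∀ h : H, h • (QuotientGroup.mk 1 : G ⧸ H) = QuotientGroup.mk 1 := by
    intro h
    change (QuotientGroup.mk ((h : G) * 1) : G ⧸ H) = QuotientGroup.mk 1
    rw [mul_one]
    exact QuotientGroup.eq.mpr (by simpa using h.2)
  have hval : ∀ ω : Quotient (MulAction.orbitRel H (G ⧸ H)),
      Nat.card (H ⧸ MulAction.stabilizer H ω.out) % Nat.card H = if ω = ω₀ then 1 % Nat.card H else 0 := by
    intro ω
    by_cases hω : ω = ω₀
    · rw [if_pos hω]
      have hout : ω.out = (QuotientGroup.mk 1 : G ⧸ H) := by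
        have h1 : (Quotient.mk'' ω.out : Quotient (MulAction.orbitRel H (G ⧸ H))) = ω₀ := by
          rw [Quotient.out_eq']; exact hω
        have h2 := Quotient.exact' h1
        rw [MulAction.orbitRel_apply] at h2
        obtain ⟨h, hh⟩ := h2
        rw [← hh]
        exact hfix h
      have hstab : MulAction.stabilizer H ω.out = ⊤ := by
        rw [hout, eq_top_iff]
        intro h _
        exact hfix h
      rw [hstab, ← Subgroup.index_eq_card, Subgroup.index_top]
    · rw [if_neg hω]
      have hout : ω.out ≠ (QuotientGroup.mk 1 : G ⧸ H) := by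
        intro h
        apply hω
        rw [← Quotient.out_eq' ω, h]
      obtain ⟨g, hg⟩ := QuotientGroup.mk_surjective ω.out
      have hgH : g ∉ H := by
        intro hmem
        apply hout
        rw [← hg]
        exact QuotientGroup.eq.mpr (by simpa using hmem)
      have hstab : MulAction.stabilizer H ω.out = ⊥ := by
        rw [eq_bot_iff]
        intro h hh
        rw [MulAction.mem_stabilizer_iff, ← hg] at hh
        have hh' : (QuotientGroup.mk ((h : G) * g) : G ⧸ H) = QuotientGroup.mk g := hh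
        have h3 := QuotientGroup.eq.mp hh'
        have h4 : ((h : G)) ∈ H ⊓ MulAut.conj g • H := by
          refine Subgroup.mem_inf.mpr ⟨h.2, ?_⟩
          rw [mem_conj_smul]
          have e1 : g⁻¹ * (h : G) * g = (((h : G) * g)⁻¹ * g)⁻¹ := by group
          rw [e1]
          exact H.inv_mem h3
        rw [hF g hgH, Subgroup.mem_bot] at h4
        rw [Subgroup.mem_bot]
        exact Subtype.ext h4
      rw [hstab, ← Subgroup.index_eq_card, Subgroup.index_bot, Nat.mod_self]
  rw [hcard, Finset.sum_nat_mod]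
  simp_rw [hval]
  rw [Finset.sum_ite_eq' Finset.univ ω₀]
  simp

/-- For a Frobenius complement H, the set of elements lying in no conjugate of H, together with 1, has exactly as many elements as the index of H, and that index is congruent to 1 modulo the order of H. -/
theorem result {G : Type*} [Group G] [Finite G] (H : Subgroup G) (hH : Cfsg.IsFrobeniusComplement H) :
    Nat.card (Cfsg.frobeniusKernel H) = H.index ∧ H.index % Nat.card H = 1 % Nat.card H := by
  exact ⟨card_kernel H hH, index_mod H hH⟩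

end Cfsg.Agent.S0034
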