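import Cfsg.Statements.S0035
import Mathlib
import Cfsg.Agent.Helper11.Virtual1
import Cfsg.Agent.Helper25.CharKer
import Cfsg.Agent.Helper2.Artin
import Cfsg.Agent.S0034

set_option autoImplicit false
open Cfsg

namespace Cfsg.Agent.S0035

open Cfsg.Agent.Helper2
open scoped ComplexConjugate Pointwise

universe u

lemma frob_mem {G : Type u} [Group G] {H : Subgroup G} (hH : IsFrobeniusComplement H) {h x : G}
    (hh : h ∈ H) (h1 : h ≠ 1) (hx : x⁻¹ * h * x ∈ H) : x ∈ H := by
  by_contra hxH
  have h2 := hH.2.2 x hxH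
  have hmem : h ∈ H ⊓ (MulAut.conj x • H) :=
    ⟨hh, (Cfsg.Agent.S0034.mem_conj_smul H x h).mpr hx⟩
  rw [h2] at hmem
  exact h1 (Subgroup.mem_bot.1 hmem)

lemma indFun_frob {G : Type u} [Group G] [Fintype G] {H : Subgroup G}
    (hH : IsFrobeniusComplement H)
    (θ : H → ℂ) (hθ : IsClassFunction H θ) (h : H) (h1 : h ≠ 1) : indFun H θ h = θ h := by
  classical
  haveI : Fintype H := Fintype.ofFinite _
  have h1' : (h : G) ≠ 1 := fun e => h1 (Subtype.ext e)
  have key : ∀ x : G, extendByZero H θ (x⁻¹ * (h : G) * x) =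
      extendByZero H (fun _ => θ h) x := by
    intro x
    by_cases hx : x ∈ H
    · have hmem : x⁻¹ * (h : G) * x ∈ H := H.mul_mem (H.mul_mem (H.inv_mem hx) h.2) hx
      rw [extendByZero_of_mem _ _ hx, extendByZero_of_mem _ _ hmem]
      have e := hθ h (⟨x, hx⟩⁻¹ : H)
      rw [← e]
      congr 1
      apply Subtype.ext
      simp
    · rw [extendByZero_of_not_mem _ _ hx]
      have hmem : x⁻¹ * (h : G) * x ∉ H := fun hm => hx (frob_mem hH h.2 h1' hm)
      rw [extendByZero_of_not_mem _ _ hmem]
  rw [indFun_apply, Finset.sum_congr rfl (fun x _ => key x), sum_extendByZero, Finset.sum_const,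
    Finset.card_univ, nsmul_eq_mul, ← Nat.card_eq_fintype_card]
  have hN : (Nat.card H : ℂ) ≠ 0 := natCard_ne_zero_complex _
  field_simp

lemma indFun_of_not_conj {G : Type u} [Group G] [Fintype G] (H : Subgroup G) (θ : H → ℂ) (x : G)
    (hx : ∀ g : G, g⁻¹ * x * g ∉ H) : indFun H θ x = 0 := by
  rw [indFun_apply, Finset.sum_eq_zero (fun g _ => extendByZero_of_not_mem H θ (hx g)), mul_zero]

lemma classInner_indFun_frob {G : Type u} [Group G] [Fintype G] {H : Subgroup G} [Fintype H]
    (hH : IsFrobeniusComplement H) (φ ψ : H → ℂ) (hψ : IsClassFunction H ψ) (hφ1 : φ 1 = 0) :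
    classInner (indFun H φ) (indFun H ψ) = classInner φ ψ := by
  rw [frobenius_reciprocity _ φ _ (indFun_isClassFunction _ ψ)]
  unfold classInner
  congr 1
  apply Finset.sum_congr rfl
  intro x _
  by_cases hx1 : x = 1
  · rw [hx1, hφ1, zero_mul, zero_mul]
  · show φ x * conj (indFun H ψ x) = φ x * conj (ψ x)
    rw [indFun_frob hH ψ hψ x hx1]

/-- the Frobenius extension of a class function of `H` -/
noncomputable def fext {G : Type u} [Group G] [Fintype G] (H : Subgroup G) (ψ : H → ℂ) : G → ℂ :=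
  indFun H (ψ - (fun _ => ψ 1)) + (fun _ => ψ 1)

lemma fext_one {G : Type u} [Group G] [Fintype G] (H : Subgroup G) (ψ : H → ℂ) :
    fext H ψ 1 = ψ 1 := by
  show indFun H (ψ - (fun _ => ψ 1)) 1 + ψ 1 = ψ 1
  rw [indFun_one_apply]
  simp

lemma fext_mem {G : Type u} [Group G] [Fintype G] {H : Subgroup G}
    (hH : IsFrobeniusComplement H) (ψ : H → ℂ) (hψ : IsClassFunction H ψ) (h : H) (h1 : h ≠ 1) :
    fext H ψ h = ψ h := by
  show indFun H (ψ - (fun _ => ψ 1)) h + ψ 1 = ψ h
  rw [indFun_frob hH _ _ h h1]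
  · simp
  · intro a b
    simp only [Pi.sub_apply]
    rw [hψ a b]

lemma fext_of_not_conj {G : Type u} [Group G] [Fintype G] (H : Subgroup G) (ψ : H → ℂ) (x : G)
    (hx : ∀ g : G, g⁻¹ * x * g ∉ H) : fext H ψ x = ψ 1 := by
  show indFun H (ψ - (fun _ => ψ 1)) x + ψ 1 = ψ 1
  rw [indFun_of_not_conj H _ x hx, zero_add]

lemma classInner_const {G : Type u} [Group G] [Fintype G] (a b : ℂ) :
    classInner (fun _ : G => a) (fun _ : G => b) = a * conj b := by
  unfold classInner
  rw [Finset.sum_const, Finset.card_univ, nsmul_eq_mul, ← Nat.card_eq_fintype_card]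
  have hN : (Nat.card G : ℂ) ≠ 0 := natCard_ne_zero_complex _
  field_simp

lemma fext_irr {G : Type u} [Group G] [Fintype G] {H : Subgroup G}
    (hH : IsFrobeniusComplement H) (ψ : IrrCharacter H) :
    IsIrrCharacter G (fext H (ψ : H → ℂ)) := by
  classical
  haveI : Fintype H := Fintype.ofFinite _
  obtain ⟨d, hd⟩ : ∃ d : ℕ, d = charDegree (ψ : H → ℂ) := ⟨_, rfl⟩
  have hd1 : (ψ : H → ℂ) 1 = (d : ℂ) := by rw [hd]; exact Helper25.irr_one_eq_degree ψ
  have hdpos : 0 < d := by rw [hd]; exact Helper25.irr_degree_pos ψ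
  have hψcl : IsClassFunction H (ψ : H → ℂ) := Helper1.isClassFunction_irr ψ
  -- the constant functions
  have hcH : IsCharacter H (fun _ : H => (d : ℂ)) := by
    have := isCharacter_nsmul d (isCharacter_one (G := H))
    convert this using 1
    funext x
    simp
  have hcG : IsCharacter G (fun _ : G => (d : ℂ)) := by
    have := isCharacter_nsmul d (isCharacter_one (G := G))
    convert this using 1
    funext x
    simp
  obtain ⟨θ, hθ⟩ : ∃ θ : H → ℂ, θ = (ψ : H → ℂ) - (fun _ => (d : ℂ)) := ⟨_, rfl⟩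
  have hθ1 : θ 1 = 0 := by rw [hθ]; simp [hd1]
  have hθcl : IsClassFunction H θ := by
    intro a b
    rw [hθ]
    simp only [Pi.sub_apply]
    rw [hψcl a b]
  have hθgen : IsGeneralizedCharacter H θ := by
    rw [hθ]
    exact isGeneralizedCharacter_sub (isGeneralizedCharacter_of_isCharacter (Helper25.irr_isCharacter ψ))
      (isGeneralizedCharacter_of_isCharacter hcH)
  have hfe : fext H (ψ : H → ℂ) = indFun H θ + (fun _ : G => (d : ℂ)) := by
    unfold fext
    rw [hd1, hθ]
  have hgen : IsGeneralizedCharacter G (fext H (ψ : H → ℂ)) := by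
    rw [hfe]
    exact isGeneralizedCharacter_add (isGeneralizedCharacter_indFun H hθgen)
      (isGeneralizedCharacter_of_isCharacter hcG)
  -- inner products on H
  have e1 : classInner (ψ : H → ℂ) (ψ : H → ℂ) = 1 := Helper1.classInner_irr_self ψ
  have e2 : classInner (ψ : H → ℂ) (fun _ : H => (d : ℂ)) =
      (d : ℂ) * (if ψ = Helper25.trivChar H then 1 else 0) := by
    have h1 : (fun _ : H => (d : ℂ)) = (d : ℂ) • (Helper25.trivChar H : H → ℂ) := by
      funext x
      simp
    rw [h1, classInner_smul_right, classInner_irr_irr, Complex.conj_natCast]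
  have e3 : classInner (fun _ : H => (d : ℂ)) (ψ : H → ℂ) =
      (d : ℂ) * (if ψ = Helper25.trivChar H then 1 else 0) := by
    rw [classInner_conj_symm (ψ : H → ℂ), e2]
    split_ifs <;> simp
  have e4 : classInner (fun _ : H => (d : ℂ)) (fun _ : H => (d : ℂ)) = (d : ℂ) * d := by
    rw [classInner_const, Complex.conj_natCast]
  have e5 : classInner θ θ = 1 - 2 * ((d : ℂ) * (if ψ = Helper25.trivChar H then 1 else 0))
      + (d : ℂ) * d := by
    rw [hθ, classInner_sub_left, classInner_sub_right, classInner_sub_right, e1, e2, e3, e4]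
    ring
  have e6 : classInner θ (fun _ : H => (d : ℂ)) =
      (d : ℂ) * (if ψ = Helper25.trivChar H then 1 else 0) - (d : ℂ) * d := by
    rw [hθ, classInner_sub_left, e2, e4]
  -- inner products on G
  have f1 : classInner (indFun H θ) (indFun H θ) = classInner θ θ :=
    classInner_indFun_frob hH θ θ hθcl hθ1
  have f2 : classInner (indFun H θ) (fun _ : G => (d : ℂ)) =
      (d : ℂ) * (if ψ = Helper25.trivChar H then 1 else 0) - (d : ℂ) * d := by
    rw [frobenius_reciprocity H θ _ (isClassFunction_of_isCharacter hcG)]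
    exact e6
  have f3 : classInner (fun _ : G => (d : ℂ)) (indFun H θ) =
      (d : ℂ) * (if ψ = Helper25.trivChar H then 1 else 0) - (d : ℂ) * d := by
    rw [classInner_conj_symm (indFun H θ), f2]
    split_ifs <;> simp
  have f4 : classInner (fun _ : G => (d : ℂ)) (fun _ : G => (d : ℂ)) = (d : ℂ) * d := by
    rw [classInner_const, Complex.conj_natCast]
  have hnorm : classInner (fext H (ψ : H → ℂ)) (fext H (ψ : H → ℂ)) = 1 := by
    rw [hfe, classInner_add_left, classInner_add_right, classInner_add_right, f1, f2, f3, f4, e5]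
    ring
  obtain ⟨χ, hχ | hχ⟩ := Cfsg.Agent.Helper11.virtual_norm_one hgen hnorm
  · rw [hχ]; exact χ.2
  · exfalso
    have h1 := congrFun hχ 1
    rw [fext_one, hd1, Pi.neg_apply, Helper25.irr_one_eq_degree χ] at h1
    have h2 : ((d + charDegree (χ : G → ℂ) : ℕ) : ℂ) = 0 := by
      push_cast
      rw [h1]
      ring
    have h3 : d + charDegree (χ : G → ℂ) = 0 := by exact_mod_cast h2
    omega

/-- Frobenius' Theorem: if H is a Frobenius complement in a finite group, the identity together with the elements lying in no conjugate of H form a normal subgroup, which is a complement to H. -/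
theorem result {G : Type*} [Group G] [Finite G] (H : Subgroup G) (hH : Cfsg.IsFrobeniusComplement H) :
    ∃ N : Subgroup G, (N : Set G) = Cfsg.frobeniusKernel H ∧ N.Normal ∧ Subgroup.IsComplement' N H := by
  classical
  haveI : Fintype G := Fintype.ofFinite G
  haveI : Fintype H := Fintype.ofFinite H
  have hirr : ∀ ψ : IrrCharacter H, IsIrrCharacter G (fext H (ψ : H → ℂ)) := fun ψ => fext_irr hH ψ
  obtain ⟨N, hNdef⟩ : ∃ N : Subgroup G, N = ⨅ ψ : IrrCharacter H,
      Helper25.irrKer (⟨fext H (ψ : H → ℂ), hirr ψ⟩ : IrrCharacter G) := ⟨_, rfl⟩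
  have hN : N.Normal := by
    rw [hNdef]
    exact Subgroup.normal_iInf_normal (fun ψ => Helper25.irrKer_normal _)
  have hmemN : ∀ x, x ∈ N ↔ ∀ ψ : IrrCharacter H, fext H (ψ : H → ℂ) x = fext H (ψ : H → ℂ) 1 := by
    intro x
    rw [hNdef]
    simp only [Subgroup.mem_iInf, Helper25.mem_irrKer]
  have hKN : ∀ x ∈ frobeniusKernel H, x ∈ N := by
    intro x hx
    rw [hmemN]
    intro ψ
    rcases hx with rfl | hx
    · rfl
    · rw [fext_of_not_conj, fext_one]
      intro g hg
      exact hx g ((Cfsg.Agent.S0034.mem_conj_smul H g x).mpr hg)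
  have hNH : ∀ h ∈ H, h ∈ N → h = 1 := by
    intro h hh hhN
    by_contra h1
    rw [hmemN] at hhN
    have h1' : (⟨h, hh⟩ : H) ≠ 1 := fun e => h1 (congrArg Subtype.val e)
    have e : ∀ ψ : IrrCharacter H, (ψ : H → ℂ) ⟨h, hh⟩ = (ψ : H → ℂ) 1 := by
      intro ψ
      have h2 := hhN ψ
      rw [fext_one] at h2
      have h3 := fext_mem hH (ψ : H → ℂ) (Helper1.isClassFunction_irr ψ) ⟨h, hh⟩ h1'
      rw [← h3]
      exact h2
    have so := Helper25.second_orthogonality (G := H) ⟨h, hh⟩ 1
    rw [if_neg (fun hc => h1' (isConj_one_left.mp hc))] at so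
    have so1 := Helper25.second_orthogonality (G := H) 1 1
    rw [if_pos (IsConj.refl 1)] at so1
    have h4 : (Nat.card (Subgroup.centralizer ({1} : Set H)) : ℂ) = 0 := by
      rw [← so1, ← so]
      apply Finset.sum_congr rfl
      intro ψ _
      rw [e ψ]
    exact natCard_ne_zero_complex _ h4
  have hset : (N : Set G) = frobeniusKernel H := by
    ext x
    constructor
    · intro hx
      by_cases hx1 : x = 1
      · exact Or.inl hx1
      · right
        intro g hg
        have hg' : g⁻¹ * x * g ∈ H := (Cfsg.Agent.S0034.mem_conj_smul H g x).mp hg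
        have hn : g⁻¹ * x * g ∈ N := by
          have := hN.conj_mem x hx g⁻¹
          simpa using this
        have h1 := hNH _ hg' hn
        apply hx1
        have : x = g * (g⁻¹ * x * g) * g⁻¹ := by group
        rw [this, h1]
        group
    · intro hx
      exact hKN x hx
  refine ⟨N, hset, hN, ?_⟩
  apply Subgroup.isComplement'_of_card_mul_and_disjoint
  · have h1 : Nat.card N = H.index := by
      rw [← Cfsg.Agent.S0034.card_kernel H hH, ← hset]
      rfl
    rw [h1, mul_comm]
    exact H.card_mul_index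
  · rw [Subgroup.disjoint_def]
    intro x hxN hxH
    exact hNH x hxH hxN

end Cfsg.Agent.S0035
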