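import Cfsg.Statements.S0988
import Mathlib
import Cfsg.Agent.Lead.Transfer
import Cfsg.Agent.Helper1.Burnside

set_option autoImplicit false
open Cfsg

namespace Cfsg.Agent.S0988

open Cfsg.Agent

/-- an automorphism of prime order `t`: the number `d` of fixed points divides `|P|`, is not
`|P|`, and `|P| ≡ d [MOD t]`. -/
theorem aut_fix {P : Type*} [Group P] [Finite P] (α : MulAut P) (t : ℕ) (ht : t.Prime)
    (hα : orderOf α = t) :
    ∃ d, d ∣ Nat.card P ∧ d ≠ Nat.card P ∧ Nat.card P ≡ d [MOD t] := by
  haveI : Fact t.Prime := ⟨ht⟩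
  let E : Subgroup P :=
    { carrier := {x | α x = x}
      mul_mem' := by
        intro a b ha hb
        simp only [Set.mem_setOf_eq] at ha hb ⊢
        rw [map_mul, ha, hb]
      one_mem' := by simp
      inv_mem' := by
        intro a ha
        simp only [Set.mem_setOf_eq] at ha ⊢
        rw [map_inv, ha] }
  have hZ : IsPGroup t (Subgroup.zpowers α) := by
    apply IsPGroup.of_card (n := 1)
    rw [Nat.card_zpowers, hα, pow_one]
  have hmod := hZ.card_modEq_card_fixedPoints P
  have hfix : MulAction.fixedPoints (Subgroup.zpowers α) P = (E : Set P) := by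
    ext x
    constructor
    · intro hx
      have := hx ⟨α, Subgroup.mem_zpowers α⟩
      exact this
    · intro hx z
      have hle : Subgroup.zpowers α ≤ MulAction.stabilizer (MulAut P) x := by
        rw [Subgroup.zpowers_le]
        exact hx
      exact hle z.2
  refine ⟨Nat.card E, Subgroup.card_subgroup_dvd_card E, ?_, ?_⟩
  · intro hE
    have htop : E = ⊤ := (Subgroup.card_eq_iff_eq_top E).mp hE
    have h1 : α = 1 := by
      ext x
      have : x ∈ E := by rw [htop]; trivial
      exact this
    rw [h1, orderOf_one] at hα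
    exact ht.one_lt.ne hα
  · rw [hfix] at hmod
    exact hmod

theorem sylow_card {G : Type*} [Group G] [Finite G] {s : ℕ} [Fact s.Prime] (S : Sylow s G)
    (k m : ℕ) (h : Nat.card G = s ^ k * m) (hm : ¬ s ∣ m) : Nat.card S = s ^ k := by
  have hs : s.Prime := Fact.out
  rw [Sylow.card_eq_multiplicity, h]
  congr 1
  have hm0 : m ≠ 0 := fun h0 => hm (h0 ▸ dvd_zero s)
  rw [Nat.factorization_mul (pow_ne_zero k hs.ne_zero) hm0, Finsupp.add_apply,
    Nat.Prime.factorization_pow hs, Finsupp.single_eq_same,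
    Nat.factorization_eq_zero_of_not_dvd hm, add_zero]

theorem prime_sylow_constraint {G : Type*} [Group G] [Finite G] [IsSimpleGroup G] {s : ℕ}
    [Fact s.Prime] (S : Sylow s G) (hS : Nat.card S = s) (hG : Nat.card G ≠ s) :
    ∃ t, t.Prime ∧ t ∣ Nat.card G ∧ t ∣ s - 1 := by
  have hs : s.Prime := Fact.out
  by_contra hcon
  have hcop : (Nat.card (Subgroup.normalizer ((S : Subgroup G) : Set G))).Coprime
      (Nat.card (MulAut (S : Subgroup G))) := by
    rw [Lead.card_mulAut_of_prime_card hS]
    by_contra hnc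
    obtain ⟨t, ht, h1, h2⟩ := Nat.Prime.not_coprime_iff_dvd.mp hnc
    exact hcon ⟨t, ht, h1.trans (Subgroup.card_subgroup_dvd_card _), h2⟩
  have hNC := Lead.normalizer_le_centralizer_of_coprime (S : Subgroup G) hcop
  rcases Lead.simple_sylow_card S hNC with h | h
  · rw [hS] at h; exact hs.one_lt.ne' h
  · rw [hS] at h; exact hG h.symm

theorem sq_sylow_constraint {G : Type*} [Group G] [Finite G] [IsSimpleGroup G] {p : ℕ}
    [Fact p.Prime] (P : Sylow p G) (hP : Nat.card P = p ^ 2) (m : ℕ)
    (hG : Nat.card G = p ^ 2 * m) (hm : m ≠ 1) :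
    ∃ t, t.Prime ∧ t ∣ m ∧ (t ∣ p - 1 ∨ t ∣ p + 1 ∨ t ∣ p) := by
  have hp : p.Prime := Fact.out
  have hcomm : ∀ a b : (P : Subgroup G), a * b = b * a :=
    (IsPGroup.isMulCommutative_of_card_eq_prime_sq hP).is_comm.comm
  have hPC : (P : Subgroup G) ≤ Subgroup.centralizer ((P : Subgroup G) : Set G) := by
    intro x hx y hy
    have := hcomm ⟨y, hy⟩ ⟨x, hx⟩
    exact congrArg Subtype.val this
  have hk1 : (Subgroup.centralizer ((P : Subgroup G) : Set G)).relIndex
      (Subgroup.normalizer ((P : Subgroup G) : Set G)) ≠ 1 := by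
    intro h1
    have hNC : Subgroup.normalizer ((P : Subgroup G) : Set G) ≤
        Subgroup.centralizer ((P : Subgroup G) : Set G) := Subgroup.relIndex_eq_one.mp h1
    rcases Lead.simple_sylow_card P hNC with h | h
    · rw [hP] at h; exact (one_lt_pow₀ hp.one_lt two_ne_zero).ne' h
    · rw [hP, hG] at h
      have hpos : 0 < p ^ 2 := pow_pos hp.pos 2
      exact hm (Nat.eq_of_mul_eq_mul_left hpos (by rw [← h, mul_one]))
  have hidx : (P : Subgroup G).index = m := by
    have h1 := Subgroup.card_mul_index (P : Subgroup G)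
    have hP' : Nat.card (P : Subgroup G) = p ^ 2 := hP
    rw [hP', hG] at h1
    exact Nat.eq_of_mul_eq_mul_left (pow_pos hp.pos 2) h1
  have hkdvd : (Subgroup.centralizer ((P : Subgroup G) : Set G)).relIndex
      (Subgroup.normalizer ((P : Subgroup G) : Set G)) ∣ m := by
    have h1 := Subgroup.relIndex_dvd_of_le_left
      (Subgroup.normalizer ((P : Subgroup G) : Set G)) hPC
    have h2 := Subgroup.relIndex_dvd_index_of_le
      (Subgroup.le_normalizer (H := (P : Subgroup G)))
    rw [hidx] at h2
    exact h1.trans h2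
  have hrange : Nat.card (P : Subgroup G).normalizerMonoidHom.range =
      (Subgroup.centralizer ((P : Subgroup G) : Set G)).relIndex
      (Subgroup.normalizer ((P : Subgroup G) : Set G)) := by
    rw [← Subgroup.index_ker, Subgroup.normalizerMonoidHom_ker]
    rfl
  obtain ⟨t, htdef⟩ : ∃ t, t = ((Subgroup.centralizer ((P : Subgroup G) : Set G)).relIndex
      (Subgroup.normalizer ((P : Subgroup G) : Set G))).minFac := ⟨_, rfl⟩
  have ht : t.Prime := htdef ▸ Nat.minFac_prime hk1
  have htk : t ∣ (Subgroup.centralizer ((P : Subgroup G) : Set G)).relIndex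
      (Subgroup.normalizer ((P : Subgroup G) : Set G)) := htdef ▸ Nat.minFac_dvd _
  haveI : Fact t.Prime := ⟨ht⟩
  obtain ⟨a, ha⟩ := exists_prime_orderOf_dvd_card'
    (G := (P : Subgroup G).normalizerMonoidHom.range) t
    (by rw [hrange]; exact htk)
  have ha' : orderOf (a : MulAut (P : Subgroup G)) = t := by
    rw [Subgroup.orderOf_coe]; exact ha
  obtain ⟨d, hd1, hd2, hd3⟩ := aut_fix (a : MulAut (P : Subgroup G)) t ht ha'
  rw [hP] at hd1 hd2 hd3
  obtain ⟨j, hj, rfl⟩ := (Nat.dvd_prime_pow hp).mp hd1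
  refine ⟨t, ht, htk.trans hkdvd, ?_⟩
  obtain ⟨c, rfl⟩ : ∃ c, p = c + 1 := ⟨p - 1, by have := hp.pos; omega⟩
  interval_cases j
  · have h1 := (Nat.modEq_iff_dvd' (Nat.pow_le_pow_right hp.pos (by norm_num : 0 ≤ 2))).mp
      hd3.symm
    have h2 : (c + 1) ^ 2 - (c + 1) ^ 0 = c * (c + 1 + 1) := by
      have : (c + 1) ^ 2 = c * (c + 1 + 1) + 1 := by ring
      rw [this, pow_zero]; simp
    rw [h2] at h1
    rcases (Nat.Prime.dvd_mul ht).mp h1 with h | h
    · left; simpa using h
    · right; left; exact h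
  · have h1 := (Nat.modEq_iff_dvd' (Nat.pow_le_pow_right hp.pos (by norm_num : 1 ≤ 2))).mp
      hd3.symm
    have h2 : (c + 1) ^ 2 - (c + 1) ^ 1 = c * (c + 1) := by
      have : (c + 1) ^ 2 = c * (c + 1) + (c + 1) := by ring
      rw [this, pow_one]; simp
    rw [h2] at h1
    rcases (Nat.Prime.dvd_mul ht).mp h1 with h | h
    · left; simpa using h
    · right; right; exact h
  · exact absurd rfl hd2

theorem aux {G : Type*} [Group G] [Finite G] [IsSimpleGroup G] (p q r : ℕ) (hp : p.Prime)
    (hq : q.Prime) (hr : r.Prime) (hpq : p ≠ q) (hpr : p ≠ r) (hqr : q < r)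
    (hG : Nat.card G = p ^ 2 * q * r) : Nat.card G = 60 := by
  haveI : Fact p.Prime := ⟨hp⟩
  haveI : Fact q.Prime := ⟨hq⟩
  haveI : Fact r.Prime := ⟨hr⟩
  have hp2 := hp.two_le
  have hq2 := hq.two_le
  have hr2 := hr.two_le
  have hnd : ∀ {a b : ℕ}, a.Prime → b.Prime → a ≠ b → ¬ a ∣ b :=
    fun ha hb hab h => hab ((Nat.prime_dvd_prime_iff_eq ha hb).mp h)
  have hdiv : ∀ t, t.Prime → t ∣ Nat.card G → t = p ∨ t = q ∨ t = r := by
    intro t ht h
    rw [hG] at h
    rcases (Nat.Prime.dvd_mul ht).mp h with h | h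
    · rcases (Nat.Prime.dvd_mul ht).mp h with h | h
      · left; exact (Nat.prime_dvd_prime_iff_eq ht hp).mp (ht.dvd_of_dvd_pow h)
      · right; left; exact (Nat.prime_dvd_prime_iff_eq ht hq).mp h
    · right; right; exact (Nat.prime_dvd_prime_iff_eq ht hr).mp h
  have h4 : 4 ≤ p ^ 2 := by nlinarith
  have hbig : 4 * q * 2 ≤ p ^ 2 * q * r :=
    Nat.mul_le_mul (Nat.mul_le_mul h4 (le_refl q)) hr2
  obtain Q : Sylow q G := default
  have hQ : Nat.card Q = q := by
    have := sylow_card Q 1 (p ^ 2 * r) (by rw [hG]; ring) (by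
      intro h
      rcases (Nat.Prime.dvd_mul hq).mp h with h | h
      · exact hnd hq hp (Ne.symm hpq) (hq.dvd_of_dvd_pow h)
      · exact hnd hq hr hqr.ne h)
    simpa using this
  have hGq : Nat.card G ≠ q := by
    rw [hG]; omega
  obtain ⟨t, ht, htG, htq⟩ := prime_sylow_constraint Q hQ hGq
  have htlt : t < q := by
    have := Nat.le_of_dvd (by omega) htq
    omega
  have htp : t = p := by
    rcases hdiv t ht htG with h | h | h
    · exact h
    · omega
    · omega
  rw [htp] at htlt
  obtain P : Sylow p G := default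
  have hP : Nat.card P = p ^ 2 := sylow_card P 2 (q * r) (by rw [hG]; ring) (by
      intro h
      rcases (Nat.Prime.dvd_mul hp).mp h with h | h
      · exact hnd hp hq hpq h
      · exact hnd hp hr hpr h)
  have hm1 : q * r ≠ 1 := by nlinarith
  obtain ⟨u, hu, hum, hu3⟩ := sq_sylow_constraint P hP (q * r) (by rw [hG]; ring) hm1
  have huqr : u = q ∨ u = r := by
    rcases (Nat.Prime.dvd_mul hu).mp hum with h | h
    · left; exact (Nat.prime_dvd_prime_iff_eq hu hq).mp h
    · right; exact (Nat.prime_dvd_prime_iff_eq hu hr).mp h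
  have hqp : q = p + 1 := by
    rcases hu3 with h | h | h
    · have := Nat.le_of_dvd (by omega) h
      rcases huqr with h' | h' <;> omega
    · have := Nat.le_of_dvd (by omega) h
      rcases huqr with h' | h' <;> omega
    · have := (Nat.prime_dvd_prime_iff_eq hu hp).mp h
      rcases huqr with h' | h' <;> omega
  have hp2' : p = 2 := by
    rcases hp.eq_two_or_odd with h | h
    · exact h
    · rcases hq.eq_two_or_odd with h' | h' <;> omega
  have hq3 : q = 3 := by omega
  subst hp2' hq3
  have hG' : Nat.card G = 12 * r := by rw [hG]; ring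
  have hr5 : 5 ≤ r := by
    have : r ≠ 4 := by intro h; rw [h] at hr; norm_num at hr
    omega
  obtain R : Sylow r G := default
  have hR : Nat.card R = r := by
    have := sylow_card R 1 12 (by rw [hG']; ring) (by
      intro h
      have h12 : (12 : ℕ) = 2 ^ 2 * 3 := by norm_num
      rw [h12] at h
      rcases (Nat.Prime.dvd_mul hr).mp h with h | h
      · have := Nat.le_of_dvd (by norm_num) (hr.dvd_of_dvd_pow h); omega
      · have := Nat.le_of_dvd (by norm_num) h; omega)
    simpa using this
  have hn1 : Nat.card (Sylow r G) ≠ 1 :=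
    Lead.simple_card_sylow_ne_one R (by rw [hR]; omega) (by rw [hR, hG']; omega)
  have hn2 : Nat.card (Sylow r G) ≡ 1 [MOD r] := card_sylow_modEq_one r G
  have hn3 : Nat.card (Sylow r G) ∣ 12 := by
    have h1 := Sylow.card_dvd_index R
    have h2 : (R : Subgroup G).index = 12 := by
      have := Subgroup.card_mul_index (R : Subgroup G)
      have hR' : Nat.card (R : Subgroup G) = r := hR
      rw [hG', hR', mul_comm 12 r] at this
      exact Nat.eq_of_mul_eq_mul_left hr.pos this
    rwa [h2] at h1
  have hn4 := Lead.card_normalizer_mul_card_sylow R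
  generalize hn : Nat.card (Sylow r G) = n at hn1 hn2 hn3 hn4
  have hn0 : 2 ≤ n := by
    have : 0 < n := Nat.pos_of_dvd_of_pos hn3 (by norm_num)
    omega
  have hn5 : r ∣ n - 1 := (Nat.modEq_iff_dvd' (by omega)).mp hn2.symm
  have hle := Nat.le_of_dvd (by omega) hn5
  have hnle : n ≤ 12 := Nat.le_of_dvd (by norm_num) hn3
  have hr11 : r ≤ 11 := by omega
  have key : n = 6 ∧ r = 5 ∨ n = 12 ∧ r = 11 := by
    interval_cases n <;> interval_cases r <;> omega
  rcases key with ⟨_, rfl⟩ | ⟨rfl, rfl⟩
  · rw [hG']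
  · exfalso
    have hN : Nat.card (Subgroup.normalizer ((R : Subgroup G) : Set G)) = 11 := by
      rw [hG'] at hn4; omega
    have hcop : (Nat.card (Subgroup.normalizer ((R : Subgroup G) : Set G))).Coprime
        (Nat.card (MulAut (R : Subgroup G))) := by
      rw [hN, Lead.card_mulAut_of_prime_card hR]; norm_num
    rcases Lead.simple_sylow_card R (Lead.normalizer_le_centralizer_of_coprime _ hcop) with h | h
    · rw [hR] at h; omega
    · rw [hR, hG'] at h; omega

/-- If a finite simple group has order p^2 * q * r with p, q and r prime, then its order is 60. -/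
theorem result {G : Type*} [Group G] [Finite G] [IsSimpleGroup G] (p q r : ℕ) (hp : p.Prime) (hq : q.Prime) (hr : r.Prime) (hG : Nat.card G = p ^ 2 * q * r) : Nat.card G = 60 := by
  have hns : ¬ IsSolvable G := by
    intro hs
    have hcomm := IsSimpleGroup.comm_iff_isSolvable.mpr hs
    letI : CommGroup G := { (inferInstance : Group G) with mul_comm := hcomm }
    have hprime := IsSimpleGroup.prime_card (α := G)
    rw [hG] at hprime
    have : ¬ (p ^ 2 * q * r).Prime := by
      rw [show p ^ 2 * q * r = p * (p * q * r) by ring]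
      have h1 := hp.two_le
      have h2 := hq.two_le
      have h3 := hr.two_le
      exact Nat.not_prime_mul hp.one_lt.ne' (by nlinarith [Nat.mul_le_mul (Nat.mul_le_mul h1 h2) h3])
    exact this hprime
  by_cases hpq : p = q
  · exfalso; apply hns
    subst hpq
    exact Helper1.isSolvable_of_card_eq_prime_pow_mul_prime_pow p r 3 1 hp hr (by rw [hG]; ring)
  by_cases hpr : p = r
  · exfalso; apply hns
    subst hpr
    exact Helper1.isSolvable_of_card_eq_prime_pow_mul_prime_pow p q 3 1 hp hq (by rw [hG]; ring)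
  by_cases hqr : q = r
  · exfalso; apply hns
    subst hqr
    exact Helper1.isSolvable_of_card_eq_prime_pow_mul_prime_pow p q 2 2 hp hq (by rw [hG]; ring)
  rcases lt_or_gt_of_ne hqr with h | h
  · exact aux p q r hp hq hr hpq hpr h hG
  · exact aux p r q hp hr hq hpr hpq h (by rw [hG]; ring)

end Cfsg.Agent.S0988
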