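import Cfsg.Statements.S0041
import Mathlib
import Cfsg.Agent.Lead.Cyc
import Cfsg.Agent.Lead.Quat
import Cfsg.Agent.Lead.Transfer
import Cfsg.Agent.Lead.Glauberman
import Cfsg.Agent.S0988
import Cfsg.Agent.Helper10.CopGen
import Cfsg.Agent.Helper2.FrobGroup2

set_option autoImplicit false
open Cfsg

namespace Cfsg.Agent.S0041

open Cfsg.Agent
open scoped Pointwise

/-- an automorphism with `α ^ t = 1` (`t` prime) of a group of order divisible by `t` has a
nontrivial fixed point. -/
theorem aut_fixed_point {P : Type*} [Group P] [Finite P] (α : MulAut P) (t : ℕ) [Fact t.Prime]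
    (hα : α ^ t = 1) (hdvd : t ∣ Nat.card P) : ∃ v : P, v ≠ 1 ∧ α v = v := by
  have hZ : IsPGroup t (Subgroup.zpowers α) := by
    intro g
    refine ⟨1, ?_⟩
    obtain ⟨j, hj⟩ := Subgroup.mem_zpowers_iff.mp g.2
    apply Subtype.ext
    rw [pow_one, Subgroup.coe_pow, ← hj, ← zpow_natCast, ← zpow_mul, mul_comm, zpow_mul,
      zpow_natCast, hα, one_zpow]
    rfl
  have h1 : (1 : P) ∈ MulAction.fixedPoints (Subgroup.zpowers α) P := by
    intro g
    show (g : MulAut P) 1 = 1
    exact map_one _
  obtain ⟨b, hb, hb1⟩ := hZ.exists_fixed_point_of_prime_dvd_card_of_fixed_point P hdvd h1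
  refine ⟨b, fun h => hb1 h.symm, ?_⟩
  exact hb ⟨α, Subgroup.mem_zpowers α⟩

/-- a non-commutative group of order `p * q`, `p < q` primes, is a Frobenius group. -/
theorem frob_of_pq (T : Type*) [Group T] [Finite T] (p q : ℕ) (hp : p.Prime) (hq : q.Prime)
    (hlt : p < q) (hcard : Nat.card T = p * q) (hnc : ¬ ∀ x y : T, x * y = y * x) :
    ∃ S : Subgroup T, Cfsg.IsFrobeniusComplement S := by
  haveI : Fact p.Prime := ⟨hp⟩
  obtain P : Sylow p T := default
  have hpq : ¬ p ∣ q := fun h => hlt.ne ((Nat.prime_dvd_prime_iff_eq hp hq).mp h)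
  have hPcard : Nat.card (P : Subgroup T) = p := by
    have := S0988.sylow_card P 1 q (by rw [hcard, pow_one]) hpq
    simpa using this
  have hp2 := hp.two_le
  have hq2 := hq.two_le
  refine ⟨P, ?_, ?_, ?_⟩
  · intro h
    rw [h, Subgroup.card_bot] at hPcard
    omega
  · intro h
    rw [h, Subgroup.card_top, hcard] at hPcard
    nlinarith
  · intro g hg
    by_contra hne
    have h1 : Nat.card ((P : Subgroup T) ⊓ MulAut.conj g • (P : Subgroup T) : Subgroup T) ∣
        Nat.card (P : Subgroup T) := Subgroup.card_dvd_of_le inf_le_left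
    rw [hPcard] at h1
    rcases (Nat.dvd_prime hp).mp h1 with h | h
    · exact hne (Subgroup.card_eq_one.mp h)
    · have h2 : (P : Subgroup T) ⊓ MulAut.conj g • (P : Subgroup T) = P :=
        Subgroup.eq_of_le_of_card_ge inf_le_left (by rw [h, hPcard])
      have h3 : (P : Subgroup T) ≤ MulAut.conj g • (P : Subgroup T) := inf_eq_left.mp h2
      have hcc : Nat.card (MulAut.conj g • (P : Subgroup T) : Subgroup T) =
          Nat.card (P : Subgroup T) := by
        rw [Subgroup.pointwise_smul_def]
        exact (Nat.card_congr ((P : Subgroup T).equivMapOfInjective _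
          (MulAut.conj g).injective).toEquiv).symm
      have h4 : MulAut.conj g • (P : Subgroup T) = P :=
        (Subgroup.eq_of_le_of_card_ge h3 (by rw [hcc])).symm
      have hgN : g ∈ Subgroup.normalizer ((P : Subgroup T) : Set T) :=
        Lead.mem_normalizer_iff_conj_smul.mpr h4
      have hN : Subgroup.normalizer ((P : Subgroup T) : Set T) = ⊤ := by
        have hPN : (P : Subgroup T) < Subgroup.normalizer ((P : Subgroup T) : Set T) :=
          lt_of_le_of_ne Subgroup.le_normalizer (fun h => hg (h ▸ hgN))
        have hlt' := Lead.card_lt_of_lt'' hPN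
        have hd1 : Nat.card (P : Subgroup T) ∣
            Nat.card (Subgroup.normalizer ((P : Subgroup T) : Set T)) :=
          Subgroup.card_dvd_of_le hPN.le
        rw [hPcard] at hd1
        have hd2 : Nat.card (Subgroup.normalizer ((P : Subgroup T) : Set T)) ∣ p * q :=
          hcard ▸ Subgroup.card_subgroup_dvd_card _
        obtain ⟨c, hc⟩ := hd1
        rw [hc] at hd2
        rw [hc, hPcard] at hlt'
        have hcq : c ∣ q := Nat.dvd_of_mul_dvd_mul_left hp.pos hd2
        rcases (Nat.dvd_prime hq).mp hcq with h | h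
        · rw [h, mul_one] at hlt'; omega
        · apply Subgroup.eq_top_of_card_eq; rw [hc, h, hcard]
      have hNC := Lead.normalizer_le_centralizer_of_coprime (P : Subgroup T) (by
        rw [hN, Subgroup.card_top, hcard, Lead.card_mulAut_of_prime_card hPcard]
        apply Nat.Coprime.mul_left
        · exact (Nat.coprime_self_sub_right hp.one_lt.le).mpr (Nat.coprime_one_right p)
        · exact (Nat.Prime.coprime_iff_not_dvd hq).mpr (fun h => by
            have := Nat.le_of_dvd (by omega) h
            omega))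
      have hPZ : (P : Subgroup T) ≤ Subgroup.center T := by
        intro x hx
        rw [Subgroup.mem_center_iff]
        intro g'
        have hg' : g' ∈ Subgroup.centralizer ((P : Subgroup T) : Set T) :=
          hNC (hN ▸ Subgroup.mem_top g')
        exact (Subgroup.mem_centralizer_iff.mp hg' x hx).symm
      apply hnc
      haveI : IsCyclic (T ⧸ Subgroup.center T) := by
        have h5 : (Subgroup.center T).index ∣ q := by
          have h6 := Subgroup.index_dvd_of_le hPZ
          have h7 : (P : Subgroup T).index = q := by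
            have := Subgroup.card_mul_index (P : Subgroup T)
            rw [hPcard, hcard] at this
            exact Nat.eq_of_mul_eq_mul_left hp.pos this
          rwa [h7] at h6
        rcases (Nat.dvd_prime hq).mp h5 with h | h
        · haveI : Subsingleton (T ⧸ Subgroup.center T) :=
            (Nat.card_eq_one_iff_unique.mp h).1
          exact isCyclic_of_subsingleton
        · haveI : Fact q.Prime := ⟨hq⟩
          exact isCyclic_of_prime_card (show Nat.card (T ⧸ Subgroup.center T) = q from h)
      exact (isMulCommutative_of_isCyclic_quotient_center_self T).is_comm.comm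

/-- A group acting on a nontrivial abelian group so that no nonidentity element has a nonidentity fixed point is cyclic, provided it is abelian or its order is a product of two (possibly equal) primes. -/
theorem result {G : Type*} [Group G] [Finite G] (A V : Subgroup G) [IsMulCommutative V]
    (hV : V ≠ ⊥) (hAV : A ≤ Subgroup.normalizer (V : Set G)) (hfpf : ∀ a ∈ A, a ≠ 1 → V ⊓ Subgroup.centralizer {a} = ⊥)
    (hA : IsMulCommutative A ∨ ∃ p q : ℕ, p.Prime ∧ q.Prime ∧ Nat.card A = p * q) : IsCyclic A := by
  classical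
  obtain ⟨φ, hφ⟩ : ∃ φ : A →* MulAut V, ∀ (t : A) (v : V),
      ((φ t v : V) : G) = (t : G) * (v : G) * (t : G)⁻¹ :=
    ⟨(Subgroup.normalizerMonoidHom V).comp (Subgroup.inclusion hAV), fun t v => rfl⟩
  have hfpf' : ∀ t : A, t ≠ 1 → ∀ v : V, φ t v = v → v = 1 := by
    intro t ht v hv
    have h1 : (t : G) * v * (t : G)⁻¹ = v := by rw [← hφ, hv]
    have h2 : (v : G) ∈ V ⊓ Subgroup.centralizer {(t : G)} := by
      refine Subgroup.mem_inf.mpr ⟨v.2, Subgroup.mem_centralizer_iff.mpr ?_⟩
      intro x hx
      rw [Set.mem_singleton_iff] at hx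
      subst hx
      calc (t : G) * v = ((t : G) * v * (t : G)⁻¹) * t := by group
        _ = v * t := by rw [h1]
    rw [hfpf t t.2 (fun h => ht (Subtype.ext h))] at h2
    exact Subtype.ext (Subgroup.mem_bot.mp h2)
  have hcop : ∀ p : ℕ, p.Prime → p ∣ Nat.card A → ¬ p ∣ Nat.card V := by
    intro p hp hpA hpV
    haveI : Fact p.Prime := ⟨hp⟩
    obtain ⟨a, ha⟩ := exists_prime_orderOf_dvd_card' (G := A) p hpA
    obtain ⟨v, hv1, hv⟩ := aut_fixed_point (φ a) p
      (by rw [← map_pow, ← ha, pow_orderOf_eq_one, map_one]) hpV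
    exact hv1 (hfpf' a (by intro h; rw [h, orderOf_one] at ha; exact hp.one_lt.ne ha) v hv)
  have hab : (∀ x ∈ A, ∀ y ∈ A, x * y = y * x) → IsCyclic A := by
    intro hcomm
    letI : CommGroup A :=
      { (inferInstance : Group A) with
        mul_comm := fun x y => Subtype.ext (hcomm x x.2 y y.2) }
    apply Lead.isCyclic_of_card_pow_ker_le
    intro p hp
    by_contra hcon
    rw [not_le] at hcon
    haveI : Fact p.Prime := ⟨hp⟩
    have hTA : ((powMonoidHom p : A →* A).ker).map A.subtype ≤ A := Subgroup.map_subtype_le _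
    have hTcard : p < Nat.card (((powMonoidHom p : A →* A).ker).map A.subtype) := by
      rw [Subgroup.card_map_of_injective A.subtype_injective]; exact hcon
    have hTel : Cfsg.IsElementaryAbelian p (((powMonoidHom p : A →* A).ker).map A.subtype) := by
      refine ⟨⟨⟨fun x y => Subtype.ext (hcomm x (hTA x.2) y (hTA y.2))⟩⟩, ?_⟩
      intro a ha
      obtain ⟨b, hb, rfl⟩ := ha
      rw [SetLike.mem_coe, MonoidHom.mem_ker, powMonoidHom_apply] at hb
      have := congrArg Subtype.val hb
      simpa using this
    have hpA : p ∣ Nat.card A := by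
      have hne : (powMonoidHom p : A →* A).ker ≠ ⊥ := by
        rw [← Subgroup.one_lt_card_iff_ne_bot]
        have := hp.two_le
        omega
      obtain ⟨⟨b, hb⟩, hb1'⟩ := Subgroup.ne_bot_iff_exists_ne_one.mp hne
      have hb1 : b ≠ 1 := fun h => hb1' (Subtype.ext h)
      rw [MonoidHom.mem_ker, powMonoidHom_apply] at hb
      have hob : orderOf b = p := orderOf_eq_prime hb hb1
      rw [← hob]
      exact orderOf_dvd_natCard b
    have hpV : ¬ p ∣ Nat.card V := hcop p hp hpA
    have hgen := Helper10.coprime_generation p _ V hTel hpV (hTA.trans hAV)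
    apply hV
    rw [hgen, iSup_eq_bot]
    rintro ⟨B, hBT, hBidx⟩
    have hBne : B ≠ ⊥ := by
      rintro rfl
      rw [Subgroup.relIndex_bot_left] at hBidx
      omega
    obtain ⟨⟨b, hb⟩, hb1'⟩ := Subgroup.ne_bot_iff_exists_ne_one.mp hBne
    have hb1 : b ≠ 1 := fun h => hb1' (Subtype.ext h)
    rw [eq_bot_iff, ← hfpf b (hTA (hBT hb)) hb1]
    exact inf_le_inf_left V (Subgroup.centralizer_le (Set.singleton_subset_iff.mpr hb))
  rcases hA with hA | ⟨p, q, hp, hq, hpq⟩
  · exact hab (fun x hx y hy => congrArg Subtype.val (hA.is_comm.comm ⟨x, hx⟩ ⟨y, hy⟩))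
  · by_cases hcomm : ∀ x ∈ A, ∀ y ∈ A, x * y = y * x
    · exact hab hcomm
    · exfalso
      have hnc : ¬ ∀ x y : A, x * y = y * x := by
        intro h
        exact hcomm (fun x hx y hy => congrArg Subtype.val (h ⟨x, hx⟩ ⟨y, hy⟩))
      have hpne : p ≠ q := by
        rintro rfl
        haveI : Fact p.Prime := ⟨hp⟩
        exact hnc (IsPGroup.isMulCommutative_of_card_eq_prime_sq (by rw [hpq, sq])).is_comm.comm
      obtain ⟨S, hS⟩ : ∃ S : Subgroup A, Cfsg.IsFrobeniusComplement S := by
        rcases lt_or_gt_of_ne hpne with h | h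
        · exact frob_of_pq A p q hp hq h hpq hnc
        · exact frob_of_pq A q p hq hp h (by rw [hpq, mul_comm]) hnc
      have hcop' : Nat.Coprime (Nat.card V) (Nat.card A) := by
        by_contra hnc'
        obtain ⟨r, hr, h1, h2⟩ := Nat.Prime.not_coprime_iff_dvd.mp hnc'
        exact hcop r hr h2 h1
      letI : CommGroup V :=
        { (inferInstance : Group V) with
          mul_comm := fun x y => IsMulCommutative.is_comm.comm x y }
      apply hV
      rw [eq_bot_iff]
      intro v hv
      have := Helper2.frob_fpf_trivial hS φ hfpf' hcop' ⟨v, hv⟩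
      rw [Subgroup.mem_bot]
      exact congrArg Subtype.val this

end Cfsg.Agent.S0041
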