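import Cfsg.Statements.S0265
import Mathlib
import Cfsg.Agent.S0242

set_option autoImplicit false
open Cfsg

namespace Cfsg.Agent.S0265

/-- |PGL_n(q)| = |SL_n(q)|: GL_n modulo its centre (the q-1 non-zero scalars) has the same order as the kernel of det. -/
theorem result {F : Type*} [Field F] [Fintype F] (n : ℕ) : Nat.card (Matrix.ProjGenLinGroup (Fin n) F) = Nat.card (Matrix.SpecialLinearGroup (Fin n) F) := by
  classical
  rcases Nat.eq_zero_or_pos n with rfl | hn
  · have h1 : Subsingleton (Matrix.GeneralLinearGroup (Fin 0) F) :=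
      ⟨fun a b => Units.ext (Subsingleton.elim _ _)⟩
    have h2 : Subsingleton (Matrix.SpecialLinearGroup (Fin 0) F) :=
      ⟨fun a b => Subtype.ext (Subsingleton.elim _ _)⟩
    have h3 : Subsingleton (Matrix.ProjGenLinGroup (Fin 0) F) :=
      (Matrix.ProjGenLinGroup.mk_surjective).subsingleton
    rw [Nat.card_of_subsingleton (1 : Matrix.ProjGenLinGroup (Fin 0) F),
      Nat.card_of_subsingleton (1 : Matrix.SpecialLinearGroup (Fin 0) F)]
  · haveI : Nonempty (Fin n) := ⟨⟨0, hn⟩⟩
    have h1 := Subgroup.card_eq_card_quotient_mul_card_subgroup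
      (Subgroup.center (Matrix.GeneralLinearGroup (Fin n) F))
    have hinj : Function.Injective (Matrix.GeneralLinearGroup.scalar (Fin n) (R := F)) := by
      intro u v h
      have h' := congrArg (fun g : Matrix.GeneralLinearGroup (Fin n) F =>
        (g : Matrix (Fin n) (Fin n) F) ⟨0, hn⟩ ⟨0, hn⟩) h
      simp only [Matrix.GeneralLinearGroup.coe_scalar] at h'
      apply Units.ext
      simpa using h'
    have h2 : Nat.card (Subgroup.center (Matrix.GeneralLinearGroup (Fin n) F)) =
        Fintype.card F - 1 := by
      rw [Matrix.GeneralLinearGroup.center_eq_range_scalar,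
        Nat.card_congr (MonoidHom.ofInjective hinj).symm.toEquiv, Nat.card_units,
        Nat.card_eq_fintype_card]
    have h3 := Cfsg.Agent.S0242.card_GL_eq (F := F) n hn
    rw [h2, h3] at h1
    have hq : 0 < Fintype.card F - 1 := by
      have := Fintype.one_lt_card (α := F)
      omega
    have h4 : Nat.card (Matrix.GeneralLinearGroup (Fin n) F ⧸
        Subgroup.center (Matrix.GeneralLinearGroup (Fin n) F)) =
        Nat.card (Matrix.SpecialLinearGroup (Fin n) F) := by
      rw [mul_comm] at h1
      exact (Nat.eq_of_mul_eq_mul_right hq h1).symm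
    exact h4

end Cfsg.Agent.S0265
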