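import Cfsg.Statements.S0494
import Mathlib
set_option autoImplicit false
open Cfsg
namespace Cfsg.Agent.S0494

/-- In a finite simple group, a proper subgroup of index `k` gives `|G| ∣ k!`. -/
theorem card_dvd_factorial_index {G : Type*} [Group G] [Finite G] [IsSimpleGroup G]
    (K : Subgroup G) (hK : K ≠ ⊤) : Nat.card G ∣ (K.index).factorial := by
  have hker : (MulAction.toPermHom G (G ⧸ K)).ker = ⊥ := by
    have hn : (MulAction.toPermHom G (G ⧸ K)).ker.Normal := inferInstance
    rcases hn.eq_bot_or_eq_top with h | h
    · exact h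
    · exfalso
      apply hK
      rw [← Subgroup.normalCore_eq_ker] at h
      exact top_le_iff.mp (h ▸ Subgroup.normalCore_le K)
  have hinj : Function.Injective (MulAction.toPermHom G (G ⧸ K)) :=
    (MonoidHom.ker_eq_bot_iff _).mp hker
  have := Subgroup.card_dvd_of_injective _ hinj
  rwa [Nat.card_perm] at this

theorem fact2 : (60 : ℕ).factorization 2 = 2 := by
  have h : (60 : ℕ) = 2 ^ 2 * 15 := by norm_num
  rw [h, Nat.factorization_mul (by norm_num) (by norm_num),
    Nat.Prime.factorization_pow Nat.prime_two]
  simp
  apply Nat.factorization_eq_zero_of_not_dvd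
  norm_num

/-- A simple group of order 60 has a subgroup of index 5. -/
theorem exists_index_five {G : Type*} [Group G] [Finite G] [IsSimpleGroup G]
    (h : Nat.card G = 60) : ∃ H : Subgroup G, H.index = 5 := by
  haveI : Fact (Nat.Prime 2) := ⟨Nat.prime_two⟩
  obtain ⟨P⟩ : Nonempty (Sylow 2 G) := inferInstance
  have hP : Nat.card (P : Subgroup G) = 4 := by
    rw [P.card_eq_multiplicity, h, fact2]; norm_num
  set N := Subgroup.normalizer ((P : Subgroup G) : Set G) with hN
  have hPN : (P : Subgroup G) ≤ N := Subgroup.le_normalizer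
  have hNcard : 4 ∣ Nat.card N := hP ▸ Subgroup.card_dvd_of_le hPN
  have hmul := N.card_mul_index
  rw [h] at hmul
  have hidx_dvd : N.index ∣ 15 := by
    obtain ⟨c, hc⟩ := hNcard
    rw [hc] at hmul
    exact ⟨c, by nlinarith⟩
  have hcases : N.index = 1 ∨ N.index = 3 ∨ N.index = 5 ∨ N.index = 15 := by
    have hle : N.index ≤ 15 := Nat.le_of_dvd (by norm_num) hidx_dvd
    have hpos : 0 < N.index := Nat.pos_of_ne_zero (fun h0 => by rw [h0] at hidx_dvd; omega)
    interval_cases (N.index) <;> revert hidx_dvd <;> decide
  rcases hcases with h1 | h3 | h5 | h15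
  · -- P normal
    exfalso
    have hNtop : N = ⊤ := Subgroup.index_eq_one.mp h1
    have hnorm : (P : Subgroup G).Normal := by
      rw [← Subgroup.normalizer_eq_top_iff]; exact hNtop
    rcases hnorm.eq_bot_or_eq_top with hb | ht
    · rw [hb, Subgroup.card_bot] at hP; omega
    · rw [ht, Subgroup.card_top, h] at hP; omega
  · exfalso
    have hNtop : N ≠ ⊤ := by
      intro ht
      rw [ht, Subgroup.index_top] at h3; omega
    have := card_dvd_factorial_index N hNtop
    rw [h, h3] at this
    revert this; decide
  · exact ⟨N, h5⟩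
  · exfalso
    have hNcard4 : Nat.card N = 4 := by
      rw [h15] at hmul; omega
    have hNP : N = (P : Subgroup G) :=
      (Subgroup.eq_of_le_of_card_ge hPN (by rw [hNcard4, hP])).symm
    have hcomm' : IsMulCommutative (P : Subgroup G) :=
      IsPGroup.isMulCommutative_of_card_eq_prime_sq (p := 2) (by rw [hP]; norm_num)
    have hcomm : ∀ a b : (P : Subgroup G), a * b = b * a := fun a b => hcomm'.is_comm.comm a b
    have hNC : Subgroup.normalizer ((P : Subgroup G) : Set G) ≤ Subgroup.centralizer (P : Set G) := by
      rw [← hN, hNP]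
      intro x hx
      rw [Subgroup.mem_centralizer_iff]
      intro y hy
      have := hcomm ⟨y, hy⟩ ⟨x, hx⟩
      exact congrArg Subtype.val this
    have hc := MonoidHom.ker_transferSylow_isComplement' P hNC
    have hcard := hc.card_mul_card
    rw [hP, h] at hcard
    have hK15 : Nat.card (MonoidHom.transferSylow P hNC).ker = 15 := by omega
    have hn : (MonoidHom.transferSylow P hNC).ker.Normal := inferInstance
    rcases hn.eq_bot_or_eq_top with hb | ht
    · rw [hb, Subgroup.card_bot] at hK15; omega
    · rw [ht, Subgroup.card_top, h] at hK15; omega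

/-- A simple group of order 60 is isomorphic to the alternating group of degree 5. -/
theorem result {G : Type*} [Group G] [Finite G] [IsSimpleGroup G]
    (h : Nat.card G = 60) : Nonempty (G ≃* alternatingGroup (Fin 5)) := by
  obtain ⟨H, hH⟩ := exists_index_five h
  have hHtop : H ≠ ⊤ := by
    intro ht
    rw [ht, Subgroup.index_top] at hH; omega
  have hcard5 : Nat.card (G ⧸ H) = 5 := hH
  haveI : Finite (G ⧸ H) := Nat.finite_of_card_ne_zero (by rw [hcard5]; norm_num)
  let e : (G ⧸ H) ≃ Fin 5 := Finite.equivFinOfCardEq hcard5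
  let φ : G →* Equiv.Perm (Fin 5) :=
    (e.permCongrHom.toMonoidHom).comp (MulAction.toPermHom G (G ⧸ H))
  have hφinj : Function.Injective φ := by
    have hker : (MulAction.toPermHom G (G ⧸ H)).ker = ⊥ := by
      have hn : (MulAction.toPermHom G (G ⧸ H)).ker.Normal := inferInstance
      rcases hn.eq_bot_or_eq_top with h' | h'
      · exact h'
      · exfalso
        apply hHtop
        rw [← Subgroup.normalCore_eq_ker] at h'
        exact top_le_iff.mp (h' ▸ Subgroup.normalCore_le H)
    have hinj : Function.Injective (MulAction.toPermHom G (G ⧸ H)) :=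
      (MonoidHom.ker_eq_bot_iff _).mp hker
    exact e.permCongrHom.injective.comp hinj
  -- the sign of φ g is trivial
  have hsign : ∀ g : G, Equiv.Perm.sign (φ g) = 1 := by
    let s : G →* ℤˣ := (Equiv.Perm.sign).comp φ
    have hn : s.ker.Normal := inferInstance
    rcases hn.eq_bot_or_eq_top with hb | ht
    · exfalso
      have hinj : Function.Injective s := (MonoidHom.ker_eq_bot_iff _).mp hb
      have := Subgroup.card_dvd_of_injective _ hinj
      rw [h] at this
      have h2 : Nat.card ℤˣ = 2 := by
        rw [Nat.card_eq_fintype_card]; rfl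
      rw [h2] at this
      omega
    · intro g
      have : g ∈ s.ker := ht ▸ Subgroup.mem_top g
      exact this
  let ψ : G →* alternatingGroup (Fin 5) :=
    φ.codRestrict (alternatingGroup (Fin 5)) (fun g => Equiv.Perm.mem_alternatingGroup.mpr (hsign g))
  have hψinj : Function.Injective ψ := by
    intro a b hab
    apply hφinj
    have := congrArg Subtype.val hab
    exact this
  have hA5 : Nat.card (alternatingGroup (Fin 5)) = 60 := by
    have := two_mul_card_alternatingGroup (α := Fin 5)
    rw [Fintype.card_perm, Fintype.card_fin] at this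
    rw [Nat.card_eq_fintype_card]
    have h120 : (5 : ℕ).factorial = 120 := by decide
    omega
  have hψbij : Function.Bijective ψ := by
    rw [Nat.bijective_iff_injective_and_card]
    exact ⟨hψinj, by rw [h, hA5]⟩
  exact ⟨MulEquiv.ofBijective ψ hψbij⟩

end Cfsg.Agent.S0494
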