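import Cfsg.Statements.S0634
import Cfsg.Agent.Helper13.PSolv
import Cfsg.Agent.Helper11.PLength
import Mathlib

set_option autoImplicit false
open Cfsg

universe u

namespace Cfsg.Agent.S0634

theorem pPrimeCore_eq_bot_of_mulEquiv {X Y : Type*} [Group X] [Group Y] (p : ℕ) (e : X ≃* Y)
    (h : pPrimeCore p X = ⊥) : pPrimeCore p Y = ⊥ := by
  rw [eq_bot_iff]
  apply sSup_le
  rintro N ⟨hN, hc⟩
  have h1 : N.comap e.toMonoidHom ≤ pPrimeCore p X := by
    apply le_sSup
    refine ⟨hN.comap _, ?_⟩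
    have : N.comap e.toMonoidHom = N.map e.symm.toMonoidHom := Subgroup.comap_equiv_eq_map_symm e N
    rw [this, Subgroup.card_map_of_injective e.symm.injective]
    exact hc
  rw [h] at h1
  intro y hy
  obtain ⟨x, rfl⟩ := e.surjective y
  have h2 : x ∈ N.comap e.toMonoidHom := hy
  have h3 := h1 h2
  rw [Subgroup.mem_bot] at h3 ⊢
  rw [h3, map_one]

/-- the quotient by the preimage of `O_{p'}(G/U)` has trivial `p'`-core -/
theorem pPrimeCore_quot_comap {G : Type u} [Group G] [Finite G] (p : ℕ) (U M : Subgroup G)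
    [U.Normal] [M.Normal]
    (hM : M = (pPrimeCore p (G ⧸ U)).comap (QuotientGroup.mk' U)) :
    pPrimeCore p (G ⧸ M) = ⊥ := by
  have hUM : U ≤ M := by
    rw [hM]
    intro x hx
    show QuotientGroup.mk' U x ∈ pPrimeCore p (G ⧸ U)
    rw [QuotientGroup.mk'_apply, (QuotientGroup.eq_one_iff x).mpr hx]
    exact one_mem _
  have heq : pPrimeCore p (G ⧸ U) = M.map (QuotientGroup.mk' U) := by
    rw [hM, Subgroup.map_comap_eq_self_of_surjective (QuotientGroup.mk'_surjective U)]
  exact pPrimeCore_eq_bot_of_mulEquiv p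
    ((QuotientGroup.quotientMulEquivOfEq heq).trans
      (QuotientGroup.quotientQuotientEquivQuotient U M hUM))
    (Cfsg.Agent.Helper10.pPrimeCore_quotient p (G ⧸ U))

/-- In a p-soluble group each p-factor of the upper p-series contains its own centralizer in the corresponding quotient. -/
theorem result {G : Type*} [Group G] [Finite G] {p : ℕ} [Fact p.Prime] (hsol : Cfsg.IsPSolvable p G) (k : ℕ) : Subgroup.centralizer ((((Cfsg.upperPSeries p G (2 * k + 2)).1.map (QuotientGroup.mk' (Cfsg.upperPSeries p G (2 * k + 1)).1)) : Subgroup (G ⧸ (Cfsg.upperPSeries p G (2 * k + 1)).1)) : Set (G ⧸ (Cfsg.upperPSeries p G (2 * k + 1)).1)) ≤ (Cfsg.upperPSeries p G (2 * k + 2)).1.map (QuotientGroup.mk' (Cfsg.upperPSeries p G (2 * k + 1)).1) := by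
  have h1 := Cfsg.Agent.Helper11.upperPSeries_succ_odd p G (2 * k + 1) (by
    intro h; rw [Nat.even_add_one] at h; exact h (even_two_mul k))
  have h0 := Cfsg.Agent.Helper11.upperPSeries_succ_even p G (2 * k) (even_two_mul k)
  have hbot : pPrimeCore p (G ⧸ (Cfsg.upperPSeries p G (2 * k + 1)).1) = ⊥ :=
    pPrimeCore_quot_comap p (Cfsg.upperPSeries p G (2 * k)).1 _ h0
  have hmap : (Cfsg.upperPSeries p G (2 * k + 2)).1.map
      (QuotientGroup.mk' (Cfsg.upperPSeries p G (2 * k + 1)).1)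
      = pCore p (G ⧸ (Cfsg.upperPSeries p G (2 * k + 1)).1) := by
    have h1' : (Cfsg.upperPSeries p G (2 * k + 2)).1 =
      (pCore p (G ⧸ (upperPSeries p G (2 * k + 1)).1)).comap (QuotientGroup.mk' _) := h1
    rw [h1', Subgroup.map_comap_eq_self_of_surjective (QuotientGroup.mk'_surjective _)]
  rw [hmap]
  exact Cfsg.Agent.Helper13.centralizer_pCore_le_of_isPSolvable
    (Cfsg.Agent.Helper13.isPSolvable_quotient hsol _) hbot

end Cfsg.Agent.S0634
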