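import Cfsg.Statements.S0654
import Cfsg.Agent.S0653
import Mathlib

set_option autoImplicit false
open Cfsg
open Cfsg.Agent.S0653

namespace Cfsg.Agent.S0654

variable {G : Type*} [Group G]

theorem thompsonSubgroupOf_eq (p : ℕ) (P : Subgroup G) :
    (Cfsg.thompsonSubgroup p ↥P).map P.subtype = JA p P := by
  unfold Cfsg.thompsonSubgroup JA
  apply le_antisymm
  · rw [Subgroup.map_le_iff_le_comap]
    apply sSup_le
    intro A' hA'
    rw [← Subgroup.map_le_iff_le_comap]
    apply le_sSup
    obtain ⟨⟨hc, hexp⟩, hmax⟩ := hA'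
    refine ⟨Subgroup.map_subtype_le A', inferInstance, ?_, ?_⟩
    · rintro _ ⟨a, ha, rfl⟩
      show (P.subtype a) ^ p = 1
      rw [← map_pow, hexp a ha, map_one]
    · intro A'' h1 h2 h3
      have h4 : Cfsg.IsElementaryAbelian p (A''.subgroupOf P) := by
        refine ⟨inferInstance, ?_⟩
        intro a ha
        rw [Subgroup.mem_subgroupOf] at ha
        apply Subtype.ext
        exact h3 _ ha
      have := hmax (A''.subgroupOf P) h4
      rw [Cfsg.Agent.S0650.card_subgroupOf h1] at this
      rw [Subgroup.card_map_of_injective P.subtype_injective]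
      exact this
  · apply sSup_le
    intro A hA
    obtain ⟨hAP, hc, hexp, hmax⟩ := hA
    have h1 : A.subgroupOf P ∈ Cfsg.maxElementaryAbelianSubgroups p ↥P := by
      refine ⟨⟨inferInstance, ?_⟩, ?_⟩
      · intro a ha
        rw [Subgroup.mem_subgroupOf] at ha
        apply Subtype.ext
        exact hexp _ ha
      · intro B' hB'
        have hB'c := hB'.1
        have := hmax (B'.map P.subtype) (Subgroup.map_subtype_le B') inferInstance (by
          rintro _ ⟨a, ha, rfl⟩
          show (P.subtype a) ^ p = 1
          rw [← map_pow, hB'.2 a ha, map_one])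
        rw [Subgroup.card_map_of_injective P.subtype_injective] at this
        rw [Cfsg.Agent.S0650.card_subgroupOf hAP]
        exact this
    have h2 := Subgroup.map_mono (f := P.subtype) (le_sSup h1)
    rw [Subgroup.map_subgroupOf_eq_of_le hAP] at h2
    exact h2

theorem omegaCenterThompson_map_eq (p : ℕ) (P : Subgroup G) :
    (Cfsg.omegaCenterThompson p ↥P).map P.subtype = WZ p P := by
  have hJ := thompsonSubgroupOf_eq p P
  unfold Cfsg.omegaCenterThompson Cfsg.omegaOne
  apply le_antisymm
  · rw [Subgroup.map_le_iff_le_comap, Subgroup.closure_le]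
    rintro x ⟨⟨hx1, hx2⟩, hx3⟩
    show (x : G) ∈ WZ p P
    refine ⟨?_, ?_, ?_⟩
    · rw [← hJ]; exact Subgroup.mem_map_of_mem _ hx1
    · rw [Subgroup.mem_centralizer_iff]
      intro y hy
      rw [SetLike.mem_coe, ← hJ] at hy
      obtain ⟨j, hj, rfl⟩ := hy
      have h1 := Subgroup.mem_centralizer_iff.mp hx2 j hj
      exact congrArg Subtype.val h1
    · exact congrArg Subtype.val hx3
  · intro x hx
    obtain ⟨hx1, hx2, hx3⟩ := hx
    rw [← hJ] at hx1
    obtain ⟨x', hx', rfl⟩ := hx1
    apply Subgroup.mem_map_of_mem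
    apply Subgroup.subset_closure
    refine ⟨⟨hx', ?_⟩, ?_⟩
    · show x' ∈ Subgroup.centralizer (Cfsg.thompsonSubgroup p ↥P : Set ↥P)
      rw [Subgroup.mem_centralizer_iff]
      intro j hj
      apply Subtype.ext
      have hj' : (j : G) ∈ JA p P := by rw [← hJ]; exact Subgroup.mem_map_of_mem _ hj
      exact Subgroup.mem_centralizer_iff.mp hx2 j hj'
    · apply Subtype.ext
      exact hx3

/-- The ZJ-Theorem for the elementary-abelian Thompson subgroup: for an odd prime p, a finite group G with C_G(O_p(G)) ≤ O_p(G) acting p-stably on its normal p-subgroups, and a Sylow p-subgroup S of G, the subgroup generated by the elements of order dividing p in Z(J_e(S)) is characteristic in G. -/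
theorem result {G : Type*} [Group G] [Finite G] {p : ℕ} [Fact p.Prime] (hp : p ≠ 2) (hc : Subgroup.centralizer (Cfsg.pCore p G : Set G) ≤ Cfsg.pCore p G) (hst : ∀ (P : Subgroup G) [P.Normal], IsPGroup p P → Cfsg.IsPStableOn p P) (S : Sylow p G) : ((Cfsg.omegaCenterThompson p ↥(S : Subgroup G)).map (S : Subgroup G).subtype).Characteristic := by
  rw [omegaCenterThompson_map_eq]
  exact WZ_char hp p hc (fun V _ hV => hst V hV) S

end Cfsg.Agent.S0654
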