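import Cfsg.Statements.S0629
import Cfsg.Agent.Helper13.PSolv
import Cfsg.Agent.S0658
import Mathlib

set_option autoImplicit false
open Cfsg

universe u

namespace Cfsg.Agent.S0629

theorem isPSolvable_of_mulEquiv {X Y : Type*} [Group X] [Group Y] {p : ℕ} (e : X ≃* Y)
    (hG : IsPSolvable p X) : IsPSolvable p Y := by
  obtain ⟨n, H, h0, hl, hmono, hnorm, hstep⟩ := hG
  refine ⟨n, fun i => (H i).map e.toMonoidHom, ?_, ?_, ?_, ?_, ?_⟩
  · show (H 0).map _ = ⊥
    rw [h0, Subgroup.map_bot]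
  · show (H (Fin.last n)).map _ = ⊤
    rw [hl]; exact Subgroup.map_top_of_surjective _ e.surjective
  · intro i j hij; exact Subgroup.map_mono (hmono hij)
  · intro i; exact Subgroup.Normal.map (hnorm i) _ e.surjective
  · intro i
    show (∃ m : ℕ, ((H i.castSucc).map e.toMonoidHom).relIndex ((H i.succ).map e.toMonoidHom) = p ^ m) ∨
      (((H i.castSucc).map e.toMonoidHom).relIndex ((H i.succ).map e.toMonoidHom)).Coprime p
    rw [Subgroup.relIndex_map_map_of_injective _ _ e.injective]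
    exact hstep i

theorem isPSolvable_of_surjective {X : Type u} {Y : Type*} [Group X] [Group Y] {p : ℕ}
    [Fact p.Prime] (f : X →* Y)
    (hf : Function.Surjective f) (hG : IsPSolvable p X) : IsPSolvable p Y :=
  isPSolvable_of_mulEquiv (QuotientGroup.quotientKerEquivOfSurjective f hf)
    (Cfsg.Agent.Helper13.isPSolvable_quotient hG f.ker)

variable {G : Type u} [Group G]

theorem centralizer_quot_le_map [Finite G] {p : ℕ} [Fact p.Prime]
    (P : Sylow p ↥(Cfsg.pPrimePCore p G)) :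
    Subgroup.centralizer
        (Cfsg.pCore p (G ⧸ Cfsg.pPrimeCore p G) : Set (G ⧸ Cfsg.pPrimeCore p G)) ≤
      (Subgroup.centralizer (((P : Subgroup ↥(Cfsg.pPrimePCore p G)).map
        (Cfsg.pPrimePCore p G).subtype : Subgroup G) : Set G)).map
        (QuotientGroup.mk' (Cfsg.pPrimeCore p G)) := by
  have hKc : (Nat.card (Cfsg.pPrimeCore p G)).Coprime p := Cfsg.Agent.S0667.pPrimeCore_coprime' p
  have hVp : IsPGroup p (Cfsg.pCore p (G ⧸ Cfsg.pPrimeCore p G)) :=
    Sylow.sSup_of_normal _ (fun _ h => h.2) (fun _ h => h.1)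
  have hP1p : IsPGroup p ((P : Subgroup ↥(Cfsg.pPrimePCore p G)).map
      (Cfsg.pPrimePCore p G).subtype) := P.2.map _
  obtain ⟨P₀, hP₀⟩ := hP1p.exists_le_sylow
  have hPv : (P₀ : Subgroup G) ⊓ Cfsg.pPrimePCore p G =
      (P : Subgroup ↥(Cfsg.pPrimePCore p G)).map (Cfsg.pPrimePCore p G).subtype :=
    Cfsg.Agent.S0658.sylow_map_max (Cfsg.pPrimePCore p G) P _ (P₀.2.to_le inf_le_left)
      inf_le_right (le_inf hP₀ (Subgroup.map_subtype_le _))
  obtain ⟨h1, h2, h3, h4⟩ := Cfsg.Agent.S0667.lift_setup (Cfsg.pPrimeCore p G) hKc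
    (Cfsg.pCore p (G ⧸ Cfsg.pPrimeCore p G)) hVp P₀
  have hT : Cfsg.pPrimePCore p G = (Cfsg.pCore p (G ⧸ Cfsg.pPrimeCore p G)).comap
      (QuotientGroup.mk' (Cfsg.pPrimeCore p G)) := rfl
  rw [← hT, hPv] at h1 h2 h3 h4
  intro xb hxb
  obtain ⟨x, rfl⟩ := QuotientGroup.mk'_surjective (Cfsg.pPrimeCore p G) xb
  have hx : x ∈ Subgroup.normalizer
      (((P : Subgroup ↥(Cfsg.pPrimePCore p G)).map (Cfsg.pPrimePCore p G).subtype : Subgroup G) : Set G) ⊔
        Cfsg.pPrimeCore p G := by rw [h4]; trivial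
  obtain ⟨n, hn, k, hk, rfl⟩ := Subgroup.mem_sup_of_normal_right.mp hx
  have hnk : QuotientGroup.mk' (Cfsg.pPrimeCore p G) (n * k) =
      QuotientGroup.mk' (Cfsg.pPrimeCore p G) n := by
    rw [map_mul, QuotientGroup.mk'_apply, QuotientGroup.mk'_apply,
      (QuotientGroup.eq_one_iff k).mpr hk, mul_one]
  rw [hnk] at hxb ⊢
  refine Subgroup.mem_map_of_mem _ ?_
  rw [Subgroup.mem_centralizer_iff]
  intro s hs
  have hcomm : n * s * n⁻¹ * s⁻¹ ∈ Cfsg.pPrimeCore p G ⊓
      ((P : Subgroup ↥(Cfsg.pPrimePCore p G)).map (Cfsg.pPrimePCore p G).subtype) := by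
    refine ⟨?_, ?_⟩
    · show n * s * n⁻¹ * s⁻¹ ∈ Cfsg.pPrimeCore p G
      rw [← QuotientGroup.eq_one_iff]
      have hs' : QuotientGroup.mk' (Cfsg.pPrimeCore p G) s ∈
          Cfsg.pCore p (G ⧸ Cfsg.pPrimeCore p G) := by
        rw [← h1]; exact Subgroup.mem_map_of_mem _ hs
      have := Subgroup.mem_centralizer_iff.mp hxb _ hs'
      show QuotientGroup.mk' (Cfsg.pPrimeCore p G) (n * s * n⁻¹ * s⁻¹) = 1
      rw [map_mul, map_mul, map_mul, map_inv, map_inv, ← this]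
      group
    · exact Subgroup.mul_mem _ (((Subgroup.mem_normalizer_iff.mp hn) s).1 hs)
        (Subgroup.inv_mem _ hs)
  rw [h2, Subgroup.mem_bot] at hcomm
  have e : s * n = (n * s * n⁻¹ * s⁻¹)⁻¹ * (n * s) := by group
  rw [e, hcomm, inv_one, one_mul]

theorem layer_quot_eq_bot [Finite G] {p : ℕ} [Fact p.Prime]
    (P : Sylow p ↥(Cfsg.pPrimePCore p G))
    (hsol : Cfsg.IsPSolvable p ↥(Subgroup.centralizer (((P : Subgroup ↥(Cfsg.pPrimePCore p G)).map
      (Cfsg.pPrimePCore p G).subtype : Subgroup G) : Set G))) :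
    layer (G ⧸ Cfsg.pPrimeCore p G) = ⊥ := by
  rw [eq_bot_iff]
  apply sSup_le
  intro Kb hKb
  exfalso
  have hVp : IsPGroup p (Cfsg.pCore p (G ⧸ Cfsg.pPrimeCore p G)) :=
    Sylow.sSup_of_normal _ (fun _ h => h.2) (fun _ h => h.1)
  have hVn : (Cfsg.pCore p (G ⧸ Cfsg.pPrimeCore p G)).Normal :=
    Subgroup.sSup_normal _ (fun _ h => h.1)
  have hsolv : Group.IsSolvable ↥(Cfsg.pCore p (G ⧸ Cfsg.pPrimeCore p G)) := by
    have := hVp.isNilpotent
    infer_instance
  have hcomm := Cfsg.Agent.Helper10.comp_comm_subnormal_solvable hKb hVn.isSubnormal hsolv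
  have hle : Kb ≤ Subgroup.centralizer
      (Cfsg.pCore p (G ⧸ Cfsg.pPrimeCore p G) : Set (G ⧸ Cfsg.pPrimeCore p G)) :=
    Subgroup.commutator_eq_bot_iff_le_centralizer.mp hcomm
  have hle2 := hle.trans (centralizer_quot_le_map P)
  -- the image of the centralizer is p-solvable
  have hE : Cfsg.IsPSolvable p ↥((Subgroup.centralizer (((P : Subgroup ↥(Cfsg.pPrimePCore p G)).map
      (Cfsg.pPrimePCore p G).subtype : Subgroup G) : Set G)).map
      (QuotientGroup.mk' (Cfsg.pPrimeCore p G))) :=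
    isPSolvable_of_surjective ((QuotientGroup.mk' (Cfsg.pPrimeCore p G)).subgroupMap _)
      ((QuotientGroup.mk' (Cfsg.pPrimeCore p G)).subgroupMap_surjective _) hsol
  have hK1 := Cfsg.Agent.Helper13.isPSolvable_subgroup hE (Kb.subgroupOf _)
  have hK2 : Cfsg.IsPSolvable p ↥Kb :=
    isPSolvable_of_mulEquiv (Subgroup.subgroupOfEquivOfLe hle2) hK1
  have hcop := Cfsg.Agent.Helper13.qs_coprime_of_isPSolvable hK2 hKb.2
  have hdvd := Cfsg.Agent.Helper10.comp_quot_dvd p hKb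
  have hp := (Fact.out : p.Prime)
  have := Nat.Coprime.eq_one_of_dvd hcop.symm hdvd
  exact hp.one_lt.ne' this

/-- A group in which the centralizer of a Sylow p-subgroup of O_{p',p}(G) is p-solvable is p-constrained. -/
theorem result {G : Type*} [Group G] [Finite G] {p : ℕ} [Fact p.Prime] (P : Sylow p ↥(Cfsg.pPrimePCore p G)) (hsol : Cfsg.IsPSolvable p ↥(Subgroup.centralizer (((P : Subgroup ↥(Cfsg.pPrimePCore p G)).map (Cfsg.pPrimePCore p G).subtype : Subgroup G) : Set G))) : Cfsg.IsPConstrained p G := by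
  rw [Cfsg.Agent.Helper10.pConstrained_iff, Cfsg.Agent.Helper10.pLayer_eq_bot_iff]
  exact layer_quot_eq_bot P hsol

end Cfsg.Agent.S0629
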