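import Cfsg.Statements.S4227
import Mathlib
import Cfsg.Agent.Helper21.PSer
import Cfsg.Agent.Helper10.PCons
import Cfsg.Agent.Helper10.FStar
import Cfsg.Agent.Helper10.PComp
import Cfsg.Agent.Helper11.CNSolv
import Cfsg.Agent.S0010
import Cfsg.Agent.S0144

set_option autoImplicit false
open Cfsg

namespace Cfsg.Agent.S4227

universe u

theorem exp_quot {G : Type*} [Group G] (h : ∀ x : G, x ^ 6 = 1) (N : Subgroup G) [N.Normal] :
    ∀ x : G ⧸ N, x ^ 6 = 1 := by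
  intro x
  obtain ⟨g, rfl⟩ := QuotientGroup.mk_surjective x
  rw [← QuotientGroup.mk_pow, h g]
  rfl

theorem solvable_of_exp {G : Type*} [Group G] [Finite G] (h : ∀ x : G, x ^ 6 = 1) :
    Group.IsSolvable G := by
  have hprime : ∀ q : ℕ, q.Prime → q ∣ Nat.card G → q = 2 ∨ q = 3 := by
    intro q hq hdvd
    haveI := Fact.mk hq
    obtain ⟨g, hg⟩ := exists_prime_orderOf_dvd_card' q hdvd
    have h6 : orderOf g ∣ 2 * 3 := orderOf_dvd_of_pow_eq_one (h g)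
    rw [hg] at h6
    rcases (Nat.Prime.dvd_mul hq).mp h6 with h2 | h3
    · left; exact (Nat.prime_dvd_prime_iff_eq hq Nat.prime_two).mp h2
    · right; exact (Nat.prime_dvd_prime_iff_eq hq Nat.prime_three).mp h3
  have hn0 : Nat.card G ≠ 0 := Nat.card_pos.ne'
  have h1 : 2 ^ (Nat.card G).factorization 2 * (Nat.card G / 2 ^ (Nat.card G).factorization 2) =
      Nat.card G := Nat.ordProj_mul_ordCompl_eq_self (Nat.card G) 2
  have hn'0 : Nat.card G / 2 ^ (Nat.card G).factorization 2 ≠ 0 :=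
    (Nat.ordCompl_pos 2 hn0).ne'
  have h2 : Nat.card G / 2 ^ (Nat.card G).factorization 2 =
      3 ^ (Nat.card G / 2 ^ (Nat.card G).factorization 2).primeFactorsList.length := by
    apply Nat.eq_prime_pow_of_unique_prime_dvd hn'0
    intro d hd hdvd
    have hdn : d ∣ Nat.card G := hdvd.trans (Nat.ordCompl_dvd (Nat.card G) 2)
    rcases hprime d hd hdn with rfl | rfl
    · exact absurd hdvd (Nat.not_dvd_ordCompl Nat.prime_two hn0)
    · rfl
  rw [h2] at h1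
  exact Cfsg.Agent.S0144.result 2 3 _ _ Nat.prime_two Nat.prime_three h1.symm

theorem cent_pCore_le {X : Type u} [Group X] [Finite X] [Group.IsSolvable X] (p : ℕ)
    [Fact p.Prime] (hX : pPrimeCore p X = ⊥) :
    Subgroup.centralizer (pCore p X : Set X) ≤ pCore p X := by
  have h1 := Cfsg.Agent.Helper10.centralizer_gfitting_le X
  have hlayer : layer X = ⊥ := by
    have : {K : Subgroup X | IsComponent K} = ∅ := by
      ext K
      simp only [Set.mem_setOf_eq, Set.mem_empty_iff_false, iff_false]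
      intro hK
      apply Cfsg.Agent.Helper10.comp_not_solvable hK
      infer_instance
    unfold layer
    rw [this, sSup_empty]
  have h2 : generalizedFittingSubgroup X = pCore p X := by
    unfold generalizedFittingSubgroup
    rw [hlayer, bot_sup_eq, Cfsg.Agent.Helper10.fitting_eq_pCore_of_pPrimeCore_bot p hX]
  rwa [h2] at h1

/-- in a group of exponent 6, elements of a `2`-subgroup square to one -/
theorem sq_of_two {X : Type*} [Group X] (h : ∀ x : X, x ^ 6 = 1) (K : Subgroup X)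
    (hK : IsPGroup 2 K) : ∀ g ∈ K, g ^ 2 = 1 := by
  intro g hg
  obtain ⟨k, hk⟩ := hK ⟨g, hg⟩
  have hk' : g ^ 2 ^ k = 1 := by
    have := congrArg Subtype.val hk
    simpa using this
  have h1 : orderOf g ∣ 2 ^ k := orderOf_dvd_of_pow_eq_one hk'
  obtain ⟨j, _, hj⟩ := (Nat.dvd_prime_pow Nat.prime_two).mp h1
  have h6 : orderOf g ∣ 6 := orderOf_dvd_of_pow_eq_one (h g)
  have hj1 : j ≤ 1 := by
    by_contra hj2
    push_neg at hj2
    have h4 : 2 ^ 2 ∣ orderOf g := by rw [hj]; exact pow_dvd_pow 2 hj2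
    have : 2 ^ 2 ∣ 6 := h4.trans h6
    omega
  apply orderOf_dvd_iff_pow_eq_one.mp
  rw [hj]
  exact (pow_dvd_pow 2 hj1).trans (by norm_num : (2:ℕ) ^ 1 ∣ 2)

/-- in a group of exponent 6, elements of a `3`-subgroup cube to one -/
theorem cube_of_three {X : Type*} [Group X] (h : ∀ x : X, x ^ 6 = 1) (K : Subgroup X)
    (hK : IsPGroup 3 K) : ∀ g ∈ K, g ^ 3 = 1 := by
  intro g hg
  obtain ⟨k, hk⟩ := hK ⟨g, hg⟩
  have hk' : g ^ 3 ^ k = 1 := by
    have := congrArg Subtype.val hk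
    simpa using this
  have h1 : orderOf g ∣ 3 ^ k := orderOf_dvd_of_pow_eq_one hk'
  obtain ⟨j, _, hj⟩ := (Nat.dvd_prime_pow Nat.prime_three).mp h1
  have h6 : orderOf g ∣ 6 := orderOf_dvd_of_pow_eq_one (h g)
  have hj1 : j ≤ 1 := by
    by_contra hj2
    push_neg at hj2
    have h4 : 3 ^ 2 ∣ orderOf g := by rw [hj]; exact pow_dvd_pow 3 hj2
    have : 3 ^ 2 ∣ 6 := h4.trans h6
    omega
  apply orderOf_dvd_iff_pow_eq_one.mp
  rw [hj]
  exact (pow_dvd_pow 3 hj1).trans (by norm_num : (3:ℕ) ^ 1 ∣ 3)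

theorem plength_one_of_index {G : Type u} [Group G] [Finite G] (p : ℕ) [hp : Fact p.Prime]
    (hidx : (pCore p (G ⧸ pPrimeCore p G)).index.Coprime p) : PLengthLE p 1 G := by
  apply Cfsg.Agent.Helper21.plength_of_pser p 1
  have s0 : Cfsg.Agent.Helper21.PSer p 0 (⊥ : Subgroup G) ⊥ :=
    Cfsg.Agent.Helper21.PSer.refl ⊥ inferInstance
  have s1 : Cfsg.Agent.Helper21.PSer p 0 (⊥ : Subgroup G) (pPrimeCore p G) :=
    Cfsg.Agent.Helper21.PSer.pprime s0 bot_le inferInstance (by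
      rw [Subgroup.relIndex_bot_left]; exact Cfsg.Agent.Helper10.pPrimeCore_coprime p G)
  obtain ⟨m, hm⟩ := IsPGroup.iff_card.mp
    (Cfsg.Agent.S0010.pCore_isPGroup (G := G ⧸ pPrimeCore p G) p)
  have s2 : Cfsg.Agent.Helper21.PSer p 1 (⊥ : Subgroup G)
      ((pCore p (G ⧸ pPrimeCore p G)).comap (QuotientGroup.mk' (pPrimeCore p G))) :=
    Cfsg.Agent.Helper21.PSer.pstep s1 (by
        intro g hg
        rw [Subgroup.mem_comap]
        have : (QuotientGroup.mk' (pPrimeCore p G)) g = 1 := (QuotientGroup.eq_one_iff g).mpr hg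
        rw [this]; exact Subgroup.one_mem _)
      (Subgroup.Normal.comap inferInstance _)
      ⟨m, by rw [Cfsg.Agent.Helper21.relIndex_ker_comap, hm]⟩
  exact Cfsg.Agent.Helper21.PSer.pprime s2 le_top inferInstance (by
      rw [Subgroup.relIndex_top_right,
        Subgroup.index_comap_of_surjective _ (QuotientGroup.mk'_surjective _)]
      exact hidx)

theorem index_pCore_two {X : Type u} [Group X] [Finite X] (h : ∀ x : X, x ^ 6 = 1)
    (hX : pPrimeCore 2 X = ⊥) : (pCore 2 X).index.Coprime 2 := by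
  haveI := solvable_of_exp h
  haveI : Fact (Nat.Prime 2) := ⟨Nat.prime_two⟩
  have hC := cent_pCore_le 2 hX
  have hQ2 := sq_of_two h (pCore 2 X) (Cfsg.Agent.S0010.pCore_isPGroup 2)
  by_contra hnc
  have h2 : 2 ∣ (pCore 2 X).index := by
    by_contra h2
    exact hnc ((Nat.Prime.coprime_iff_not_dvd Nat.prime_two).mpr h2).symm
  rw [Subgroup.index_eq_card] at h2
  obtain ⟨tb, htb⟩ := exists_prime_orderOf_dvd_card' 2 h2
  obtain ⟨t₀, rfl⟩ := QuotientGroup.mk_surjective tb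
  obtain ⟨t, ht⟩ : ∃ t, t = t₀ ^ 3 := ⟨_, rfl⟩
  have ht2 : t ^ 2 = 1 := by rw [ht, ← pow_mul]; exact h t₀
  have htQ : t ∉ pCore 2 X := by
    intro hmem
    have h1 : (QuotientGroup.mk t : X ⧸ pCore 2 X) = 1 := (QuotientGroup.eq_one_iff t).mpr hmem
    rw [ht, QuotientGroup.mk_pow] at h1
    have h3 : (QuotientGroup.mk t₀ : X ⧸ pCore 2 X) ^ 2 = 1 := by
      have := pow_orderOf_eq_one (QuotientGroup.mk t₀ : X ⧸ pCore 2 X)
      rwa [htb] at this
    have h4 : (QuotientGroup.mk t₀ : X ⧸ pCore 2 X) = 1 := by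
      calc (QuotientGroup.mk t₀ : X ⧸ pCore 2 X)
          = (QuotientGroup.mk t₀) ^ 3 * ((QuotientGroup.mk t₀) ^ 2)⁻¹ := by group
        _ = 1 := by rw [h1, h3]; simp
    rw [h4, orderOf_one] at htb
    omega
  apply htQ
  apply hC
  rw [Subgroup.mem_centralizer_iff]
  intro q hq
  have hq2 : q ^ 2 = 1 := hQ2 q hq
  have hti : t⁻¹ = t := inv_eq_of_mul_eq_one_right (by rw [← pow_two]; exact ht2)
  have hqi : q⁻¹ = q := inv_eq_of_mul_eq_one_right (by rw [← pow_two]; exact hq2)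
  have hconj : t * q * t⁻¹ ∈ pCore 2 X := (Cfsg.pCore_normal 2 X).conj_mem q hq t
  have hr : (t * q) ^ 2 ∈ pCore 2 X := by
    have e : (t * q) ^ 2 = (t * q * t⁻¹) * q := by
      rw [hti, pow_two]; simp only [mul_assoc]
    rw [e]
    exact Subgroup.mul_mem _ hconj hq
  have hr2 : ((t * q) ^ 2) ^ 2 = 1 := hQ2 _ hr
  have hr3 : ((t * q) ^ 2) ^ 3 = 1 := by rw [← pow_mul]; exact h _
  have hr1 : (t * q) ^ 2 = 1 := by
    calc (t * q) ^ 2 = ((t * q) ^ 2) ^ 3 * (((t * q) ^ 2) ^ 2)⁻¹ := by group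
      _ = 1 := by rw [hr2, hr3]; simp
  -- t q t q = 1
  have e2 : t * q * (t * q) = 1 := by rw [← pow_two]; exact hr1
  calc q * t = q⁻¹ * t⁻¹ := by rw [hqi, hti]
    _ = (t * q)⁻¹ := by group
    _ = t * q := inv_eq_of_mul_eq_one_right e2


theorem p3 {X : Type*} [Monoid X] (z : X) : z ^ 3 = z * z * z := by
  rw [pow_succ, pow_succ, pow_one]

/-- (S0) -/
theorem s0 {X : Type*} [Group X] (Q : Subgroup X) [hQn : Q.Normal] (hQ : ∀ q ∈ Q, q ^ 3 = 1)
    (h : ∀ g : X, g ^ 6 = 1) (y : X) (hy : y ^ 3 = 1) (q : X) (hq : q ∈ Q) :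
    (y * q * y⁻¹) * (y⁻¹ * q * y) * q = 1 := by
  have hy' : y * y * y = 1 := by rw [← p3]; exact hy
  have e : (y * q) ^ 3 = (y * q * y⁻¹) * (y⁻¹ * q * y) * q := by
    have e1 : (y * q) * (y * q) * (y * q) =
        (y * q * y⁻¹) * (y * y * y) * (y⁻¹ * q * y) * q := by group
    rw [p3, e1, hy', mul_one]
  have hmem : (y * q * y⁻¹) * (y⁻¹ * q * y) * q ∈ Q := by
    apply Subgroup.mul_mem _ (Subgroup.mul_mem _ (hQn.conj_mem q hq y) _) hq
    have := hQn.conj_mem q hq y⁻¹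
    rwa [inv_inv] at this
  rw [← e] at hmem ⊢
  have h3 := hQ _ hmem
  have h2 : ((y * q) ^ 3) ^ 2 = 1 := by rw [← pow_mul]; exact h _
  obtain ⟨z, hz⟩ : ∃ z, z = (y * q) ^ 3 := ⟨_, rfl⟩
  rw [← hz] at h2 h3 ⊢
  have h3' : z * z * z = 1 := by rw [← p3]; exact h3
  have h2' : z * z = 1 := by rw [← pow_two]; exact h2
  rw [h2', one_mul] at h3'
  exact h3'

theorem lemE {X : Type*} [Group X] (Q : Subgroup X) [hQn : Q.Normal] (hQ : ∀ q ∈ Q, q ^ 3 = 1)
    (h : ∀ g : X, g ^ 6 = 1) (x a : X) (hx : x ^ 3 = 1) (ha : a ^ 2 = 1)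
    (hxa : (x * a) ^ 3 = 1) (r : X) (hr : r ∈ Q) :
    ((x⁻¹ * a * x) * r * (x⁻¹ * a * x)⁻¹)⁻¹ * (a * r * a⁻¹) =
      (a * (x * r * x⁻¹) * a⁻¹) * (x * r * x⁻¹)⁻¹ := by
  have hai : a⁻¹ = a := inv_eq_of_mul_eq_one_right (by rw [← pow_two]; exact ha)
  have hq : x * r * x⁻¹ ∈ Q := hQn.conj_mem r hr x
  have hq' : a * (x * r * x⁻¹) * a⁻¹ ∈ Q := hQn.conj_mem _ hq a
  have e1 := s0 Q hQ h (x * a) hxa (x * r * x⁻¹) hq
  have e2 := s0 Q hQ h x hx (a * (x * r * x⁻¹) * a⁻¹) hq'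
  have g1 : (x * a)⁻¹ * (x * r * x⁻¹) * (x * a) = a * r * a⁻¹ := by
    have : (x * a)⁻¹ * (x * r * x⁻¹) * (x * a) = a⁻¹ * r * a := by group
    rw [this, hai]
  have g2 : x⁻¹ * (a * (x * r * x⁻¹) * a⁻¹) * x = (x⁻¹ * a * x) * r * (x⁻¹ * a * x)⁻¹ := by
    group
  have g3 : (x * a) * (x * r * x⁻¹) * (x * a)⁻¹ = x * (a * (x * r * x⁻¹) * a⁻¹) * x⁻¹ := by
    group
  rw [g1, g3] at e1
  rw [g2] at e2
  have f1 := eq_inv_of_mul_eq_one_left (by rw [← mul_assoc]; exact e1 :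
    x * (a * (x * r * x⁻¹) * a⁻¹) * x⁻¹ * ((a * r * a⁻¹) * (x * r * x⁻¹)) = 1)
  have f2 := eq_inv_of_mul_eq_one_left (by rw [← mul_assoc]; exact e2 :
    x * (a * (x * r * x⁻¹) * a⁻¹) * x⁻¹ *
      (((x⁻¹ * a * x) * r * (x⁻¹ * a * x)⁻¹) * (a * (x * r * x⁻¹) * a⁻¹)) = 1)
  rw [f1] at f2
  have f3 := inv_injective f2
  rw [inv_mul_eq_iff_eq_mul, ← mul_assoc, eq_mul_inv_iff_mul_eq]
  exact f3

theorem key {X : Type*} [Group X] (Q : Subgroup X) [hQn : Q.Normal] (hQ : ∀ q ∈ Q, q ^ 3 = 1)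
    (h : ∀ g : X, g ^ 6 = 1) (x a : X) (hx : x ^ 3 = 1) (ha : a ^ 2 = 1)
    (hxa : (x * a) ^ 3 = 1) : ∀ q ∈ Q, a * q * a⁻¹ = q := by
  have hai : a⁻¹ = a := inv_eq_of_mul_eq_one_right (by rw [← pow_two]; exact ha)
  have ha' : a * a = 1 := by rw [← pow_two]; exact ha
  have hx' : x * x * x = 1 := by rw [← p3]; exact hx
  have hxa' : (x * a) * (x * a) * (x * a) = 1 := by rw [← p3]; exact hxa
  obtain ⟨b, hb⟩ : ∃ b, b = x * a * x⁻¹ := ⟨_, rfl⟩
  obtain ⟨c, hc⟩ : ∃ c, c = x⁻¹ * a * x := ⟨_, rfl⟩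
  have hb2 : b ^ 2 = 1 := by
    rw [hb, pow_two]
    have : (x * a * x⁻¹) * (x * a * x⁻¹) = x * (a * a) * x⁻¹ := by group
    rw [this, ha']; group
  have hc2 : c ^ 2 = 1 := by
    rw [hc, pow_two]
    have : (x⁻¹ * a * x) * (x⁻¹ * a * x) = x⁻¹ * (a * a) * x := by group
    rw [this, ha']; group
  have hbi : b⁻¹ = b := inv_eq_of_mul_eq_one_right (by rw [← pow_two]; exact hb2)
  have hci : c⁻¹ = c := inv_eq_of_mul_eq_one_right (by rw [← pow_two]; exact hc2)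
  have hxb : (x * b) ^ 3 = 1 := by
    rw [hb, p3]
    have : (x * (x * a * x⁻¹)) * (x * (x * a * x⁻¹)) * (x * (x * a * x⁻¹)) =
        x * ((x * a) * (x * a) * (x * a)) * x⁻¹ := by group
    rw [this, hxa']; group
  have hxc : (x * c) ^ 3 = 1 := by
    rw [hc, p3]
    have : (x * (x⁻¹ * a * x)) * (x * (x⁻¹ * a * x)) * (x * (x⁻¹ * a * x)) =
        x⁻¹ * ((x * a) * (x * a) * (x * a)) * x := by group
    rw [this, hxa']; group
  have hcb : x⁻¹ * b * x = a := by rw [hb]; group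
  have hcc : x⁻¹ * c * x = b := by
    rw [hc, hb]
    have : x⁻¹ * (x⁻¹ * a * x) * x = (x * x * x)⁻¹ * (x * a * x⁻¹) * (x * x * x) := by group
    rw [this, hx']; group
  have hab : a * b = c := by
    rw [hb, hc]
    have : a * (x * a * x⁻¹) =
        x⁻¹ * ((x * a) * (x * a) * (x * a)) * (a * a)⁻¹ * a * (x * x * x)⁻¹ * x := by group
    rw [this, hxa', ha', hx']; group
  have hba : b * a = c := by
    calc b * a = (a⁻¹ * b⁻¹)⁻¹ := by group
      _ = c := by rw [hai, hbi, hab, hci]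
  -- relation (R)
  have hR : ∀ q ∈ Q,
      (a * q * a⁻¹) * q⁻¹ * ((b * q * b⁻¹) * q⁻¹) * ((c * q * c⁻¹) * q⁻¹) = 1 := by
    intro q hq
    have hr : x⁻¹ * q * x ∈ Q := by
      have := hQn.conj_mem q hq x⁻¹
      rwa [inv_inv] at this
    have hxr : x * (x⁻¹ * q * x) * x⁻¹ = q := by group
    have E1 := lemE Q hQ h x a hx ha hxa _ hr
    have E2 := lemE Q hQ h x b hx hb2 hxb _ hr
    have E3 := lemE Q hQ h x c hx hc2 hxc _ hr
    rw [hxr] at E1 E2 E3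
    rw [← hc] at E1
    rw [hcb] at E2
    rw [hcc] at E3
    rw [← E1, ← E2, ← E3]
    group
  intro q hq
  obtain ⟨u, hu⟩ : ∃ u, u = q⁻¹ * (a * q * a⁻¹) := ⟨_, rfl⟩
  have huQ : u ∈ Q := by
    rw [hu]; exact Subgroup.mul_mem _ (Subgroup.inv_mem _ hq) (hQn.conj_mem q hq a)
  have hu3 : u * u * u = 1 := by rw [← p3]; exact hQ u huQ
  have hinv : a * u * a⁻¹ = u⁻¹ := by
    rw [hu]
    have : a * (q⁻¹ * (a * q * a⁻¹)) * a⁻¹ = (a * q⁻¹ * a⁻¹) * (a * a) * q * (a * a)⁻¹ := by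
      group
    rw [this, ha']; group
  have hcu : c * u * c⁻¹ = (b * u * b⁻¹)⁻¹ := by
    calc c * u * c⁻¹ = b * (a * u * a⁻¹) * b⁻¹ := by rw [← hba]; group
      _ = (b * u * b⁻¹)⁻¹ := by rw [hinv]; group
  have hRu := hR u huQ
  rw [hinv, hcu] at hRu
  have e : u⁻¹ * u⁻¹ * ((b * u * b⁻¹) * u⁻¹) * ((b * u * b⁻¹)⁻¹ * u⁻¹) =
      (u * u * u)⁻¹ * ((u * (b * u * b⁻¹)) * u⁻¹ * (u * (b * u * b⁻¹))⁻¹) := by group
  rw [e, hu3, inv_one, one_mul, conj_eq_one_iff, inv_eq_one] at hRu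
  rw [hRu] at hu
  exact (inv_mul_eq_one.mp hu.symm).symm

theorem index_pCore_three {X : Type u} [Group X] [Finite X] (h : ∀ x : X, x ^ 6 = 1)
    (hX : pPrimeCore 3 X = ⊥) : (pCore 3 X).index.Coprime 3 := by
  haveI := solvable_of_exp h
  haveI : Fact (Nat.Prime 3) := ⟨Nat.prime_three⟩
  haveI : Fact (Nat.Prime 2) := ⟨Nat.prime_two⟩
  have hC := cent_pCore_le 3 hX
  have hQ3 := cube_of_three h (pCore 3 X) (Cfsg.Agent.S0010.pCore_isPGroup 3)
  by_contra hnc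
  have h3 : 3 ∣ (pCore 3 X).index := by
    by_contra h3
    exact hnc ((Nat.Prime.coprime_iff_not_dvd Nat.prime_three).mpr h3).symm
  rw [Subgroup.index_eq_card] at h3
  obtain ⟨xb, hxb⟩ := exists_prime_orderOf_dvd_card' 3 h3
  have hQ6 : ∀ g : X ⧸ pCore 3 X, g ^ 6 = 1 := exp_quot h _
  haveI := solvable_of_exp hQ6
  have hO3 : pCore 3 (X ⧸ pCore 3 X) = ⊥ := Cfsg.Agent.Helper11.pCore_quotient_pCore 3
  have hO2' : pPrimeCore 2 (X ⧸ pCore 3 X) = ⊥ := by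
    have hp : IsPGroup 3 (pPrimeCore 2 (X ⧸ pCore 3 X)) := by
      intro g
      refine ⟨1, ?_⟩
      have h6 : g ^ 6 = 1 := Subtype.ext (by simpa using hQ6 g.1)
      have hd6 : orderOf g ∣ 3 * 2 := orderOf_dvd_of_pow_eq_one h6
      have hdc : orderOf g ∣ Nat.card (pPrimeCore 2 (X ⧸ pCore 3 X)) := orderOf_dvd_natCard g
      have hcop : (orderOf g).Coprime 2 :=
        Nat.Coprime.coprime_dvd_left hdc (Cfsg.Agent.Helper10.pPrimeCore_coprime 2 _)
      have hd3 : orderOf g ∣ 3 := hcop.dvd_of_dvd_mul_right hd6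
      rw [pow_one]
      exact orderOf_dvd_iff_pow_eq_one.mp hd3
    have hle := Cfsg.Agent.S0010.le_pCore 3 _ inferInstance hp
    rw [hO3] at hle
    exact le_bot_iff.mp hle
  have hC2 := cent_pCore_le 2 hO2'
  have hK2 := sq_of_two hQ6 (pCore 2 (X ⧸ pCore 3 X)) (Cfsg.Agent.S0010.pCore_isPGroup 2)
  have hxb3 : xb ^ 3 = 1 := by
    have := pow_orderOf_eq_one xb
    rwa [hxb] at this
  have hxbK : xb ∉ pCore 2 (X ⧸ pCore 3 X) := by
    intro hmem
    have h2 := hK2 xb hmem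
    have : orderOf xb ∣ 2 := orderOf_dvd_of_pow_eq_one h2
    rw [hxb] at this
    omega
  have hex : ∃ kb ∈ pCore 2 (X ⧸ pCore 3 X), kb * xb ≠ xb * kb := by
    by_contra hall
    push_neg at hall
    apply hxbK
    apply hC2
    rw [Subgroup.mem_centralizer_iff]
    intro k hk
    exact hall k hk
  obtain ⟨kb, hkb, hne⟩ := hex
  have hkb2 : kb ^ 2 = 1 := hK2 kb hkb
  have hkbi : kb⁻¹ = kb := inv_eq_of_mul_eq_one_right (by rw [← pow_two]; exact hkb2)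
  obtain ⟨vb, hvb⟩ : ∃ vb, vb = kb * (xb * kb * xb⁻¹) := ⟨_, rfl⟩
  have hvbK : vb ∈ pCore 2 (X ⧸ pCore 3 X) := by
    rw [hvb]
    exact Subgroup.mul_mem _ hkb ((Cfsg.pCore_normal 2 _).conj_mem kb hkb xb)
  have hvb2 : vb ^ 2 = 1 := hK2 vb hvbK
  have hvb1 : vb ≠ 1 := by
    intro h1
    rw [hvb] at h1
    have h2 : xb * kb * xb⁻¹ = kb := by
      have := eq_inv_of_mul_eq_one_right h1
      rw [this, hkbi]
    apply hne
    have : xb * kb = kb * xb := mul_inv_eq_iff_eq_mul.mp h2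
    exact this.symm
  have hxv3 : (xb * vb) ^ 3 = 1 := by
    have hkb' : kb * kb = 1 := by rw [← pow_two]; exact hkb2
    have hxb' : xb * xb * xb = 1 := by rw [← p3]; exact hxb3
    rw [hvb, p3]
    have e : (xb * (kb * (xb * kb * xb⁻¹))) * (xb * (kb * (xb * kb * xb⁻¹))) *
        (xb * (kb * (xb * kb * xb⁻¹))) =
        xb * kb * xb * (kb * kb) * xb * (kb * kb) * xb * kb * xb⁻¹ := by
      group
    rw [e, hkb']
    simp only [mul_one]
    have e2 : xb * kb * xb * xb * xb * kb * xb⁻¹ = xb * kb * (xb * xb * xb) * kb * xb⁻¹ := by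
      group
    rw [e2, hxb', mul_one]
    have e3 : xb * kb * kb * xb⁻¹ = xb * (kb * kb) * xb⁻¹ := by group
    rw [e3, hkb']; group
  obtain ⟨x₀, rfl⟩ := QuotientGroup.mk_surjective xb
  obtain ⟨v₀, hv₀⟩ := QuotientGroup.mk_surjective vb
  obtain ⟨x, hx⟩ : ∃ x, x = x₀ ^ 4 := ⟨_, rfl⟩
  obtain ⟨a, ha⟩ : ∃ a, a = v₀ ^ 3 := ⟨_, rfl⟩
  have hx3 : x ^ 3 = 1 := by
    rw [hx, ← pow_mul]
    have : x₀ ^ (4 * 3) = (x₀ ^ 6) ^ 2 := by rw [← pow_mul]
    rw [this, h x₀, one_pow]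
  have ha2 : a ^ 2 = 1 := by rw [ha, ← pow_mul]; exact h v₀
  have hmx : (QuotientGroup.mk x : X ⧸ pCore 3 X) = QuotientGroup.mk x₀ := by
    rw [hx, QuotientGroup.mk_pow]
    calc (QuotientGroup.mk x₀ : X ⧸ pCore 3 X) ^ 4
        = (QuotientGroup.mk x₀) ^ 3 * QuotientGroup.mk x₀ := by group
      _ = QuotientGroup.mk x₀ := by rw [hxb3, one_mul]
  have hma : (QuotientGroup.mk a : X ⧸ pCore 3 X) = vb := by
    rw [ha, QuotientGroup.mk_pow, hv₀]
    calc vb ^ 3 = vb ^ 2 * vb := by group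
      _ = vb := by rw [hvb2, one_mul]
  have hxa3 : (x * a) ^ 3 = 1 := by
    have hmem : (x * a) ^ 3 ∈ pCore 3 X := by
      rw [← QuotientGroup.eq_one_iff, QuotientGroup.mk_pow, QuotientGroup.mk_mul, hmx, hma]
      exact hxv3
    have h3' := hQ3 _ hmem
    have h2' : ((x * a) ^ 3) ^ 2 = 1 := by rw [← pow_mul]; exact h _
    calc (x * a) ^ 3 = ((x * a) ^ 3) ^ 3 * (((x * a) ^ 3) ^ 2)⁻¹ := by group
      _ = 1 := by rw [h2', h3']; simp
  have hkey := key (pCore 3 X) hQ3 h x a hx3 ha2 hxa3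
  have haQ : a ∈ pCore 3 X := by
    apply hC
    rw [Subgroup.mem_centralizer_iff]
    intro q hq
    have := hkey q hq
    exact (mul_inv_eq_iff_eq_mul.mp this).symm
  apply hvb1
  rw [← hma]
  exact (QuotientGroup.eq_one_iff a).mpr haQ

/-- A finite group in which every element has order dividing `6` has `2`-length at most `1` and `3`-length at most `1`. -/
theorem result {G : Type*} [Group G] [Finite G] (h : ∀ x : G, x ^ 6 = 1) : Cfsg.PLengthLE 2 1 G ∧ Cfsg.PLengthLE 3 1 G := by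
  haveI : Fact (Nat.Prime 3) := ⟨Nat.prime_three⟩
  haveI : Fact (Nat.Prime 2) := ⟨Nat.prime_two⟩
  exact ⟨plength_one_of_index 2 (index_pCore_two (exp_quot h _)
      (Cfsg.Agent.Helper10.pPrimeCore_quotient 2 G)),
    plength_one_of_index 3 (index_pCore_three (exp_quot h _)
      (Cfsg.Agent.Helper10.pPrimeCore_quotient 3 G))⟩

end Cfsg.Agent.S4227
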