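import Cfsg.Statements.S0003
import Cfsg.Agent.S0001
import Mathlib

set_option autoImplicit false
open Pointwise
open Cfsg

namespace Cfsg.Agent.S0003

universe u

open Cfsg.Agent.S0001

lemma map_mk_self_eq_bot {D : Type*} [Group D] (M : Subgroup D) [M.Normal] :
    M.map (QuotientGroup.mk' M) = ⊥ := by
  apply (Subgroup.map_eq_bot_iff _).mpr
  rw [QuotientGroup.ker_mk']

lemma le_comap_mk {D : Type*} [Group D] (M : Subgroup D) [M.Normal] (Hb : Subgroup (D ⧸ M)) :
    M ≤ Hb.comap (QuotientGroup.mk' M) := by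
  intro x hx
  rw [Subgroup.mem_comap]
  have : (QuotientGroup.mk' M) x = 1 := (QuotientGroup.eq_one_iff x).mpr hx
  rw [this]; exact Hb.one_mem

/-- In a finite group with a solvable normal Hall subgroup `M`, every subgroup of order coprime to
`|M|` lies in a complement of `M`. -/
theorem exists_compl_ge {D : Type u} [Group D] [Finite D] (M : Subgroup D) [M.Normal]
    (hcop : (Nat.card M).Coprime M.index) (hsol : Group.IsSolvable M) (K : Subgroup D)
    (hK : (Nat.card K).Coprime (Nat.card M)) : ∃ H : Subgroup D, Nat.card H = M.index ∧ K ≤ H := by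
  obtain ⟨H₀, hH₀⟩ := Subgroup.exists_right_complement'_of_coprime hcop
  have hH₀card : Nat.card H₀ = M.index := card_of_compl hH₀
  obtain ⟨L, hL⟩ : ∃ L : Subgroup D, L = K ⊔ M := ⟨_, rfl⟩
  have hKL : K ≤ L := by rw [hL]; exact le_sup_left
  have hML : M ≤ L := by rw [hL]; exact le_sup_right
  have hMK : M ⊓ K = ⊥ := disjoint_iff.mp (Subgroup.disjoint_of_coprime_natCard hK.symm)
  have hMH₀ : M ⊓ H₀ = ⊥ := hH₀.disjoint.eq_bot
  have hH₀top : H₀.map (QuotientGroup.mk' M) = ⊤ := by
    apply Subgroup.eq_top_of_card_eq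
    rw [card_map_mk_of_disjoint hMH₀, hH₀card, Subgroup.index_eq_card]
  have hmapL : L.map (QuotientGroup.mk' M) = K.map (QuotientGroup.mk' M) := by
    rw [hL, Subgroup.map_sup, map_mk_self_eq_bot, sup_bot_eq]
  have hmap : (H₀ ⊓ L).map (QuotientGroup.mk' M) = K.map (QuotientGroup.mk' M) := by
    rw [← hmapL]
    apply le_antisymm
    · exact Subgroup.map_mono inf_le_right
    · intro y hy
      obtain ⟨l, hl, rfl⟩ := Subgroup.mem_map.mp hy
      have hmem : (QuotientGroup.mk' M) l ∈ H₀.map (QuotientGroup.mk' M) := by rw [hH₀top]; trivial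
      obtain ⟨h, hh, hhl⟩ := Subgroup.mem_map.mp hmem
      refine Subgroup.mem_map.mpr ⟨h, Subgroup.mem_inf.mpr ⟨hh, ?_⟩, hhl⟩
      have hm : l⁻¹ * h ∈ M := QuotientGroup.eq.mp hhl.symm
      have e : h = l * (l⁻¹ * h) := by group
      rw [e]; exact L.mul_mem hl (hML hm)
  have hcardHL : Nat.card (H₀ ⊓ L : Subgroup D) = Nat.card K := by
    have hd : M ⊓ (H₀ ⊓ L) = ⊥ := by rw [← inf_assoc, hMH₀, bot_inf_eq]
    rw [← card_map_mk_of_disjoint hd, hmap, card_map_mk_of_disjoint hMK]
  have hM'n : (M.subgroupOf L).Normal := Subgroup.Normal.subgroupOf inferInstance L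
  have hM'card : Nat.card (M.subgroupOf L) = Nat.card M := card_subgroupOf_of_le hML
  have hM'idx : (M.subgroupOf L).index = Nat.card K := by
    change M.relIndex L = _
    rw [hL, Subgroup.relIndex_sup_right, ← Subgroup.inf_relIndex_right, hMK,
      Subgroup.relIndex_bot_left]
  have hM'sol : Group.IsSolvable (M.subgroupOf L) :=
    Group.isSolvable_of_isSolvable_injective (f := (Subgroup.subgroupOfEquivOfLe hML).toMonoidHom)
      (Subgroup.subgroupOfEquivOfLe hML).injective
  have hcopL : (Nat.card (M.subgroupOf L)).Coprime (M.subgroupOf L).index := by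
    rw [hM'card, hM'idx]; exact hK.symm
  obtain ⟨l, hl⟩ := conj_of_card (M.subgroupOf L) hcopL (Or.inl hM'sol)
    ((H₀ ⊓ L).subgroupOf L) (K.subgroupOf L)
    (by rw [card_subgroupOf_of_le inf_le_right, hM'idx, hcardHL])
    (by rw [card_subgroupOf_of_le hKL, hM'idx])
  have hfin := conj_of_subgroupOf inf_le_right hKL l hl
  refine ⟨MulAut.conj (l : D) • H₀, by rw [card_conj_smul, hH₀card], ?_⟩
  rw [← hfin]
  exact Subgroup.pointwise_smul_le_pointwise_smul_iff.mpr inf_le_left

/-- Hall's theorems (containment and conjugacy), by induction on the order. -/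
def Hall (n : ℕ) : Prop :=
  ∀ (G : Type u) [Group G] [Finite G] [Group.IsSolvable G], Nat.card G = n → ∀ m n' : ℕ,
    m * n' = n → m.Coprime n' →
    (∀ K : Subgroup G, (Nat.card K).Coprime n' → ∃ H : Subgroup G, Nat.card H = m ∧ K ≤ H) ∧
    (∀ H₁ H₂ : Subgroup G, Nat.card H₁ = m → Nat.card H₂ = m → ∃ g : G, MulAut.conj g • H₁ = H₂)

theorem hall_all : ∀ n, Hall.{u} n := by
  intro n
  induction n using Nat.strong_induction_on with
  | _ n ih =>
  intro G _ _ _ hcard m n' hmn hcop
  by_cases htriv : Subsingleton G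
  · have hm : m = 1 := by
      have h1 : Nat.card G = 1 := Nat.card_eq_one_iff_unique.mpr ⟨htriv, ⟨1⟩⟩
      rw [hcard] at h1
      rw [h1] at hmn
      exact Nat.eq_one_of_mul_eq_one_right hmn
    constructor
    · intro K _
      refine ⟨K, ?_, le_rfl⟩
      rw [hm]
      exact Nat.card_eq_one_iff_unique.mpr ⟨inferInstance, ⟨1⟩⟩
    · intro H₁ H₂ _ _
      exact ⟨1, Subsingleton.elim _ _⟩
  rw [not_subsingleton_iff_nontrivial] at htriv
  obtain ⟨M, hMn, hMne, hMmin⟩ := Cfsg.Agent.S0048.exists_minimal_normal (G := G)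
  obtain ⟨hMcomm, p, hp, hexp⟩ := Cfsg.Agent.S0043.min_normal_solvable M hMne hMmin
  have hfp : Fact p.Prime := ⟨hp⟩
  have hMp : IsPGroup p M := fun x => ⟨1, by rw [pow_one]; exact Subtype.ext (hexp x x.2)⟩
  obtain ⟨k, hk⟩ := IsPGroup.iff_card.mp hMp
  have hπ : Function.Surjective (QuotientGroup.mk' M) := QuotientGroup.mk'_surjective M
  have hlt : Nat.card (G ⧸ M) < n := by rw [← hcard]; exact card_quotient_lt hMne
  have hQcard : Nat.card (G ⧸ M) * p ^ k = m * n' := by
    rw [← hk, ← Subgroup.card_eq_card_quotient_mul_card_subgroup, hcard, hmn]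
  have hMsol : Group.IsSolvable M := inferInstance
  have hpk_dvd : p ^ k ∣ m * n' := Dvd.intro_left _ hQcard
  have hpkpos : 0 < p ^ k := pow_pos hp.pos k
  have hm0 : m ≠ 0 := by
    rintro rfl
    rw [zero_mul] at hmn
    rw [← hmn] at hcard
    exact (Nat.card_pos (α := G)).ne' hcard
  have hn0 : n' ≠ 0 := by
    rintro rfl
    rw [mul_zero] at hmn
    rw [← hmn] at hcard
    exact (Nat.card_pos (α := G)).ne' hcard
  by_cases hpm : p ∣ m
  · -- Case A : p divides m
    have hpn : ¬ p ∣ n' := by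
      intro h
      have h1 : p ∣ Nat.gcd m n' := Nat.dvd_gcd hpm h
      rw [hcop] at h1
      exact hp.one_lt.ne' (Nat.dvd_one.mp h1)
    have hcop_pk_n : (p ^ k).Coprime n' :=
      Nat.Coprime.pow_left k ((Nat.Prime.coprime_iff_not_dvd hp).mpr hpn)
    have hpkm : p ^ k ∣ m := hcop_pk_n.dvd_of_dvd_mul_right hpk_dvd
    obtain ⟨m', hm'⟩ := hpkm
    have hQ : m' * n' = Nat.card (G ⧸ M) := by
      apply Nat.eq_of_mul_eq_mul_right hpkpos
      rw [hQcard, hm']; ring
    have hcop' : m'.Coprime n' := Nat.Coprime.coprime_dvd_left (Dvd.intro_left _ hm'.symm) hcop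
    obtain ⟨ihC, ihJ⟩ := ih _ hlt (G ⧸ M) rfl m' n' hQ hcop'
    have hMle : ∀ A : Subgroup G, Nat.card A = m → M ≤ A := by
      intro A hA
      obtain ⟨P⟩ := (inferInstance : Nonempty (Sylow p A))
      have hPcard := Sylow.card_eq_multiplicity P
      have hfac : (Nat.card A).factorization p = (Nat.card G).factorization p := by
        rw [hA, hcard, ← hmn, Nat.factorization_mul hm0 hn0]
        simp [Nat.factorization_eq_zero_of_not_dvd hpn]
      have hQc : Nat.card ((P : Subgroup A).map A.subtype) = p ^ (Nat.card G).factorization p := by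
        rw [← hfac, ← hPcard]
        exact (Nat.card_congr ((P : Subgroup A).equivMapOfInjective _ A.subtype_injective).toEquiv).symm
      have hle := hMp.le_sylow_of_normal (Sylow.ofCard _ hQc)
      rw [Sylow.coe_ofCard] at hle
      exact hle.trans (Subgroup.map_subtype_le _)
    constructor
    · intro K hK
      have hK' : (Nat.card (K.map (QuotientGroup.mk' M))).Coprime n' :=
        Nat.Coprime.coprime_dvd_left (Subgroup.card_map_dvd K _) hK
      obtain ⟨Hb, hHb, hKHb⟩ := ihC _ hK'
      refine ⟨Hb.comap (QuotientGroup.mk' M), ?_, ?_⟩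
      · have h1 := card_map_mk_mul_card (le_comap_mk M Hb)
        rw [Subgroup.map_comap_eq_self_of_surjective hπ, hHb, hk] at h1
        rw [← h1, hm', mul_comm]
      · exact (Subgroup.le_comap_map _ K).trans (Subgroup.comap_mono hKHb)
    · intro H₁ H₂ h1 h2
      have hc : ∀ A : Subgroup G, Nat.card A = m → Nat.card (A.map (QuotientGroup.mk' M)) = m' := by
        intro A hA
        have h := card_map_mk_mul_card (hMle A hA)
        rw [hA, hk, hm'] at h
        apply Nat.eq_of_mul_eq_mul_right hpkpos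
        rw [h]; ring
      obtain ⟨gbar, hgbar⟩ := ihJ _ _ (hc H₁ h1) (hc H₂ h2)
      obtain ⟨g, rfl⟩ := hπ gbar
      rw [← map_conj_smul] at hgbar
      have hsup := sup_eq_of_map_eq hgbar
      have hM1 : M ≤ MulAut.conj g • H₁ := by
        rw [← Subgroup.Normal.conj_smul_eq_self g M]
        exact Subgroup.pointwise_smul_le_pointwise_smul_iff.mpr (hMle H₁ h1)
      rw [sup_eq_left.mpr hM1, sup_eq_left.mpr (hMle H₂ h2)] at hsup
      exact ⟨g, hsup⟩
  · -- Case B : p does not divide m
    have hcop_pk_m : (p ^ k).Coprime m :=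
      Nat.Coprime.pow_left k ((Nat.Prime.coprime_iff_not_dvd hp).mpr hpm)
    have hpkn : p ^ k ∣ n' := hcop_pk_m.dvd_of_dvd_mul_left hpk_dvd
    obtain ⟨n'', hn''⟩ := hpkn
    have hQ : m * n'' = Nat.card (G ⧸ M) := by
      apply Nat.eq_of_mul_eq_mul_right hpkpos
      rw [hQcard, hn'']; ring
    have hcop' : m.Coprime n'' := Nat.Coprime.coprime_dvd_right (Dvd.intro_left _ hn''.symm) hcop
    obtain ⟨ihC, ihJ⟩ := ih _ hlt (G ⧸ M) rfl m n'' hQ hcop'
    have hdisj : ∀ A : Subgroup G, (Nat.card A).Coprime n' → M ⊓ A = ⊥ := by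
      intro A hA
      apply disjoint_iff.mp; apply Subgroup.disjoint_of_coprime_natCard
      rw [hk]; exact (Nat.Coprime.coprime_dvd_right (Dvd.intro _ hn''.symm) hA).symm
    have key : ∀ D : Subgroup G, M ≤ D → Nat.card (D.map (QuotientGroup.mk' M)) = m →
        (Nat.card (M.subgroupOf D)).Coprime (M.subgroupOf D).index ∧ (M.subgroupOf D).index = m := by
      intro D hMD hD
      have h1 := card_map_mk_mul_card hMD
      have h2 := Subgroup.card_mul_index (M.subgroupOf D)
      rw [card_subgroupOf_of_le hMD] at h2 ⊢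
      have hidx : (M.subgroupOf D).index = m := by
        have hpos : 0 < Nat.card M := Nat.card_pos
        apply Nat.eq_of_mul_eq_mul_left hpos
        rw [h2, ← h1, hD, mul_comm]
      exact ⟨by rw [hidx, hk]; exact hcop_pk_m, hidx⟩
    have hsolD : ∀ D : Subgroup G, M ≤ D → Group.IsSolvable (M.subgroupOf D) := by
      intro D hMD
      exact Group.isSolvable_of_isSolvable_injective
        (f := (Subgroup.subgroupOfEquivOfLe hMD).toMonoidHom) (Subgroup.subgroupOfEquivOfLe hMD).injective
    constructor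
    · intro K hK
      have hK' : (Nat.card (K.map (QuotientGroup.mk' M))).Coprime n'' :=
        Nat.Coprime.coprime_dvd_left (Subgroup.card_map_dvd K _)
          (Nat.Coprime.coprime_dvd_right (Dvd.intro_left _ hn''.symm) hK)
      obtain ⟨Hb, hHb, hKHb⟩ := ihC _ hK'
      obtain ⟨D, hD⟩ : ∃ D : Subgroup G, D = Hb.comap (QuotientGroup.mk' M) := ⟨_, rfl⟩
      have hMD : M ≤ D := by rw [hD]; exact le_comap_mk M Hb
      have hKD : K ≤ D := by
        rw [hD]; exact (Subgroup.le_comap_map _ K).trans (Subgroup.comap_mono hKHb)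
      have hDmap : Nat.card (D.map (QuotientGroup.mk' M)) = m := by
        rw [hD, Subgroup.map_comap_eq_self_of_surjective hπ, hHb]
      obtain ⟨hcopD, hidxD⟩ := key D hMD hDmap
      have hM'n : (M.subgroupOf D).Normal := Subgroup.Normal.subgroupOf hMn D
      have hKc : (Nat.card (K.subgroupOf D)).Coprime (Nat.card (M.subgroupOf D)) := by
        rw [card_subgroupOf_of_le hKD, card_subgroupOf_of_le hMD, hk]
        exact Nat.Coprime.coprime_dvd_right (Dvd.intro _ hn''.symm) hK
      obtain ⟨H', hH'card, hKH'⟩ :=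
        exists_compl_ge (M.subgroupOf D) hcopD (hsolD D hMD) (K.subgroupOf D) hKc
      refine ⟨H'.map D.subtype, ?_, ?_⟩
      · rw [← hidxD, ← hH'card]
        exact (Nat.card_congr (H'.equivMapOfInjective _ D.subtype_injective).toEquiv).symm
      · rw [← Subgroup.map_subgroupOf_eq_of_le hKD]
        exact Subgroup.map_mono hKH'
    · intro H₁ H₂ h1 h2
      have hc : ∀ A : Subgroup G, Nat.card A = m → Nat.card (A.map (QuotientGroup.mk' M)) = m := by
        intro A hA
        rw [card_map_mk_of_disjoint (hdisj A (by rw [hA]; exact hcop)), hA]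
      obtain ⟨gbar, hgbar⟩ := ihJ _ _ (hc H₁ h1) (hc H₂ h2)
      obtain ⟨g, rfl⟩ := hπ gbar
      rw [← map_conj_smul] at hgbar
      have hsup := sup_eq_of_map_eq hgbar
      obtain ⟨D, hD⟩ : ∃ D : Subgroup G, D = H₂ ⊔ M := ⟨_, rfl⟩
      have hMD : M ≤ D := by rw [hD]; exact le_sup_right
      have hH₂D : H₂ ≤ D := by rw [hD]; exact le_sup_left
      have hH₁D : MulAut.conj g • H₁ ≤ D := by rw [hD, ← hsup]; exact le_sup_left
      have hDmap : Nat.card (D.map (QuotientGroup.mk' M)) = m := by
        rw [hD, Subgroup.map_sup, map_mk_self_eq_bot, sup_bot_eq, hc H₂ h2]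
      obtain ⟨hcopD, hidxD⟩ := key D hMD hDmap
      have hM'n : (M.subgroupOf D).Normal := Subgroup.Normal.subgroupOf hMn D
      obtain ⟨d, hd⟩ := conj_of_card (M.subgroupOf D) hcopD (Or.inl (hsolD D hMD))
        ((MulAut.conj g • H₁).subgroupOf D) (H₂.subgroupOf D)
        (by rw [card_subgroupOf_of_le hH₁D, hidxD, card_conj_smul, h1])
        (by rw [card_subgroupOf_of_le hH₂D, hidxD, h2])
      have hfin := conj_of_subgroupOf hH₁D hH₂D d hd
      exact ⟨(d : G) * g, by rw [conj_mul_smul]; exact hfin⟩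

/-- Hall's theorem: containment. -/
theorem hall_contain {G : Type u} [Group G] [Finite G] [Group.IsSolvable G] (m n : ℕ)
    (hG : Nat.card G = m * n) (hmn : m.Coprime n) (K : Subgroup G) (hK : (Nat.card K).Coprime n) :
    ∃ H : Subgroup G, Nat.card H = m ∧ K ≤ H :=
  (hall_all _ G rfl m n hG.symm hmn).1 K hK

/-- Hall's theorem: conjugacy. -/
theorem hall_conj {G : Type u} [Group G] [Finite G] [Group.IsSolvable G] (m n : ℕ)
    (hG : Nat.card G = m * n) (hmn : m.Coprime n) (H K : Subgroup G)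
    (hH : Nat.card H = m) (hK : Nat.card K = m) : ∃ g : G, MulAut.conj g • H = K :=
  (hall_all _ G rfl m n hG.symm hmn).2 H K hH hK

/-- Hall's Theorem, existence: a finite solvable group of order m * n with m and n coprime has a subgroup of order m. -/
theorem result {G : Type*} [Group G] [Finite G] [Group.IsSolvable G] (m n : ℕ)
    (hG : Nat.card G = m * n) (hmn : m.Coprime n) : ∃ H : Subgroup G, Nat.card H = m := by
  obtain ⟨H, hH, -⟩ := hall_contain m n hG hmn ⊥ (by rw [Subgroup.card_bot]; exact Nat.coprime_one_left n)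
  exact ⟨H, hH⟩

end Cfsg.Agent.S0003
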