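import Cfsg.Statements.S1535
import Mathlib
import Cfsg.Agent.Helper11.Feit2
import Cfsg.Agent.Helper11.Feit3

set_option autoImplicit false
open Cfsg

namespace Cfsg.Agent.S1535

open Cfsg.Agent.Helper11

/-- Let N be a finite group with a proper nontrivial normal subgroup H such that every element commuting with a non-identity element of H lies in H (N is a Frobenius group with kernel H); let e be the index of H and suppose Nat.card H ≠ e + 1. Let S be the set of irreducible characters χ of N with χ h ≠ χ 1 for some h ∈ H, and τ a linear isometry on the integer combinations of S vanishing at 1, with values virtual characters of a finite group G vanishing at 1. Then (S, N minus 1, τ) is coherent, or there is a prime p with Nat.card H a power of p, H non-abelian and [H : [H,H]] ≤ 4e² + 1. -/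
theorem result {N : Type*} [Group N] [Fintype N] {G : Type*} [Group G] [Fintype G] (H : Subgroup N) [H.Normal] (hH1 : H ≠ ⊥) (hH2 : H ≠ ⊤) (hC : ∀ h ∈ H, h ≠ 1 → Subgroup.centralizer ({h} : Set N) ≤ H) (he : Nat.card H ≠ H.index + 1) (τ : (N → ℂ) → (G → ℂ)) (hτ : Cfsg.IsLinearIsometryOn (Cfsg.zspanOn {χ : N → ℂ | Cfsg.IsIrrCharacter N χ ∧ ∃ h ∈ H, χ h ≠ χ 1} {1}ᶜ) τ) (hτ1 : ∀ α ∈ Cfsg.zspanOn {χ : N → ℂ | Cfsg.IsIrrCharacter N χ ∧ ∃ h ∈ H, χ h ≠ χ 1} {1}ᶜ, τ α 1 = 0) : Cfsg.IsCoherent {χ : N → ℂ | Cfsg.IsIrrCharacter N χ ∧ ∃ h ∈ H, χ h ≠ χ 1} {1}ᶜ τ ∨ ∃ p : ℕ, p.Prime ∧ (∃ m : ℕ, Nat.card H = p ^ m) ∧ ¬ IsMulCommutative H ∧ (⁅H, H⁆.subgroupOf H).index ≤ 4 * H.index ^ 2 + 1 := by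
  classical
  have hSeq := frob_irr_set_eq H hC
  rw [hSeq] at hτ hτ1 ⊢
  have hKidx : 0 < H.index := Nat.pos_of_ne_zero Subgroup.index_ne_zero_of_finite
  have hnil : Group.IsNilpotent H := frob_kernel_nilpotent H hC hH2
  have hsolv : Group.IsSolvable H := by
    have _i := hnil
    infer_instance
  have hbotlt : (⊥ : Subgroup N) < H := bot_lt_iff_ne_bot.mpr hH1
  have hH'lt : ⁅H, H⁆ < H := by
    have := commutator_sup_lt H ⊥ hsolv hbotlt
    rwa [sup_bot_eq] at this
  have hdeg1 : ∀ φ ∈ inducedIrrAbove H ⁅H, H⁆, φ 1 = (H.index : ℂ) := by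
    intro φ hφ
    obtain ⟨θ, hθ, rfl⟩ := (mem_inducedIrrAbove_iff H ⁅H, H⁆ φ).mp hφ
    obtain ⟨-, hker⟩ := (mem_irrAbove H ⁅H, H⁆ θ).mp hθ
    have h1 : (θ : H → ℂ) 1 = 1 := by
      apply irr_one_of_commutator_le_ker
      intro a b
      apply hker
      have := Subgroup.commutator_mem_commutator a.2 b.2
      rw [commutatorElement_def] at this
      simpa using this
    rw [Cfsg.Agent.Helper2.indFun_one_apply, h1, mul_one]
  have hdeg1' : ∀ φ ∈ indAbove H ⁅H, H⁆, charDegree φ = H.index := by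
    intro φ hφ
    have hφ' := (mem_indAbove H ⁅H, H⁆ φ).mp hφ
    have h1 := Cfsg.Agent.Helper25.irr_one_eq_degree
      (⟨φ, frob_irr_of_mem H hC hφ'⟩ : IrrCharacter N)
    have h2 : φ 1 = (charDegree φ : ℂ) := h1
    rw [hdeg1 φ hφ'] at h2
    exact_mod_cast h2.symm
  have hcount : (indAbove H ⁅H, H⁆).card * H.index = ⁅H, H⁆.relIndex H - 1 := by
    have h1 := frob_sum_degree_sq H hC ⁅H, H⁆
    rw [Finset.sum_congr rfl (fun φ hφ => by rw [hdeg1' φ hφ]), Finset.sum_const, smul_eq_mul]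
      at h1
    have h2 : H.index * ((indAbove H ⁅H, H⁆).card * H.index) =
        H.index * (⁅H, H⁆.relIndex H - 1) := by
      rw [← h1]
      ring
    exact Nat.eq_of_mul_eq_mul_left hKidx h2
  have hcoh1 : ∀ A : Subgroup N, A = ⁅H, H⁆ → 1 < (indAbove H A).card →
      IsCoherent (inducedIrrAbove H A) {1}ᶜ τ := by
    intro A hA hcard
    obtain ⟨χ, hχ, ψ, hψ, hne⟩ := Finset.one_lt_card.mp hcard
    have hsub : inducedIrrAbove H A ⊆ inducedIrrAbove H ⊥ := inducedIrrAbove_mono H bot_le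
    have := coherent_const_degree_irr (indAbove H A)
      (fun ξ hξ => frob_irr_of_mem H hC ((mem_indAbove H _ ξ).mp hξ)) ⟨χ, hχ, ψ, hψ, hne⟩
      (fun ξ hξ ξ' hξ' => by
        rw [hdeg1 ξ (hA ▸ (mem_indAbove H _ ξ).mp hξ), hdeg1 ξ' (hA ▸ (mem_indAbove H _ ξ').mp hξ')])
      τ (by rw [coe_indAbove]; exact isLinearIsometryOn_mono (zspanOn_mono hsub _) hτ)
      (by rw [coe_indAbove]; exact fun α hα => hτ1 α (zspanOn_mono hsub _ hα))
    rwa [coe_indAbove] at this
  by_cases hab : IsMulCommutative H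
  · left
    have hbot : ⁅H, H⁆ = ⊥ := Subgroup.commutator_self_eq_bot_iff.mpr hab
    apply hcoh1 ⊥ hbot.symm
    rw [hbot, Subgroup.relIndex_bot_left] at hcount
    by_contra hcon
    push Not at hcon
    have hdvd := frob_dvd_relIndex_pred H hC ⊥
    rw [Subgroup.relIndex_bot_left] at hdvd
    have hcardH : 1 < Nat.card H := (Subgroup.one_lt_card_iff_ne_bot H).mpr hH1
    have h1 : H.index ≤ Nat.card H - 1 := Nat.le_of_dvd (by omega) hdvd
    have h2 : (indAbove H ⊥).card * H.index ≤ 1 * H.index := Nat.mul_le_mul_right _ hcon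
    apply he
    omega
  · by_cases hpg : ∃ p m : ℕ, p.Prime ∧ Nat.card H = p ^ m
    · by_cases hsmall : ⁅H, H⁆.relIndex H ≤ 4 * H.index ^ 2 + 1
      · right
        obtain ⟨p, m, hp, hm⟩ := hpg
        exact ⟨p, hp, ⟨m, hm⟩, hab, hsmall⟩
      · left
        push Not at hsmall
        have hcard : 1 < (indAbove H ⁅H, H⁆).card := by
          by_contra hcon
          push Not at hcon
          have h2 : (indAbove H ⁅H, H⁆).card * H.index ≤ 1 * H.index :=
            Nat.mul_le_mul_right _ hcon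
          have h3 : H.index ≤ H.index ^ 2 := by nlinarith
          obtain ⟨E2, hE2⟩ : ∃ E2 : ℕ, E2 = H.index ^ 2 := ⟨_, rfl⟩
          rw [← hE2] at h3 hsmall
          omega
        have h0 := hcoh1 ⁅H, H⁆ rfl hcard
        obtain ⟨k, hk⟩ := commChain_eq_bot H ⁅H, H⁆ hnil hH'lt.le
        have := frob_chain_descent_big H hC hsolv τ hτ hτ1 ⁅H, H⁆ hH'lt (by omega) h0 k
        rwa [hk] at this
    · left
      obtain ⟨P, Q, hPn, hQn, hPH, hQH, hinf, hsup, hcomm, ⟨x₀, hx₀, y₀, hy₀, hxy₀⟩, hQne⟩ :=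
        nilpotent_split H hnil hab hpg
      have _iP := hPn
      have _iQ := hQn
      have hPlt : P < H := by
        refine lt_of_le_of_ne hPH ?_
        intro h
        apply hQne
        have h1 : Q ≤ P ⊓ Q := le_inf (by rw [h]; exact hQH) le_rfl
        rw [hinf] at h1
        exact le_bot_iff.mp h1
      have hQlt : Q < H := by
        refine lt_of_le_of_ne hQH ?_
        intro h
        have h1 : P ≤ P ⊓ Q := le_inf le_rfl (by rw [h]; exact hPH)
        rw [hinf] at h1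
        have h2 : x₀ = 1 := Subgroup.mem_bot.mp (h1 hx₀)
        apply hxy₀
        rw [h2, one_mul, mul_one]
      have hs2 : ⁅H, H⁆ ⊔ Q < H := commutator_sup_lt H Q hsolv hQlt
      have hs2' : ⁅H, H⁆ ⊔ P < H := commutator_sup_lt H P hsolv hPlt
      have hs1 : ¬ Q ≤ ⁅H, H⁆ := by
        intro h
        have h1 : P ⊔ Q ≤ ⁅H, H⁆ ⊔ P := sup_le le_sup_right (le_trans h le_sup_left)
        rw [hsup] at h1
        exact (not_le_of_gt hs2') h1
      have hQ'le : ⁅Q, Q⁆ ≤ ⁅H, H⁆ := Subgroup.commutator_mono hQH hQH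
      have hcard : 1 < (indAbove H ⁅H, H⁆).card := by
        have hXD : ⁅H, H⁆ < ⁅H, H⁆ ⊔ Q :=
          lt_of_le_of_ne le_sup_left (fun h => hs1 (le_of_le_of_eq le_sup_right h.symm))
        have hr := frob_relIndex_ge H hC ⁅H, H⁆ (⁅H, H⁆ ⊔ Q) hXD hs2.le
        have hm := frob_relIndex_ge H hC (⁅H, H⁆ ⊔ Q) H hs2 le_rfl
        have hmul : ⁅H, H⁆.relIndex (⁅H, H⁆ ⊔ Q) * (⁅H, H⁆ ⊔ Q).relIndex H =
            ⁅H, H⁆.relIndex H := Subgroup.relIndex_mul_relIndex _ _ _ hXD.le hs2.le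
        by_contra hcon
        push Not at hcon
        have h2 : (indAbove H ⁅H, H⁆).card * H.index ≤ 1 * H.index :=
          Nat.mul_le_mul_right _ hcon
        have h3 : (H.index + 1) * (H.index + 1) ≤
            ⁅H, H⁆.relIndex (⁅H, H⁆ ⊔ Q) * (⁅H, H⁆ ⊔ Q).relIndex H := Nat.mul_le_mul hr hm
        rw [hmul] at h3
        have h4 : (H.index + 1) * (H.index + 1) = H.index * H.index + 2 * H.index + 1 := by ring
        obtain ⟨E2, hE2⟩ : ∃ E2 : ℕ, E2 = H.index * H.index := ⟨_, rfl⟩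
        rw [h4, ← hE2] at h3
        omega
      have h0 := hcoh1 ⁅H, H⁆ rfl hcard
      have hsw : ∀ y ∈ P ⊔ Q, ∀ x ∈ Q, y * x * y⁻¹ * x⁻¹ ∈ ⁅Q, Q⁆ := by
        apply comm_mem_of_sup
        · intro a ha x hx
          have h1 : a * x * a⁻¹ * x⁻¹ = 1 := by
            rw [hcomm a ha x hx]
            group
          rw [h1]
          exact Subgroup.one_mem _
        · intro b hb x hx
          exact Subgroup.commutator_mem_commutator hb hx
      have hWV : ∀ x ∈ Q, ∀ y ∈ H, x * y * x⁻¹ * y⁻¹ ∈ ⁅Q, Q⁆ := by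
        intro x hx y hy
        rw [← hsup] at hy
        have h1 := Subgroup.inv_mem _ (hsw y hy x hx)
        have h2 : (y * x * y⁻¹ * x⁻¹)⁻¹ = x * y * x⁻¹ * y⁻¹ := by group
        rwa [h2] at h1
      have hst1 : ∀ k, IsCoherent (inducedIrrAbove H (commChain H ⁅H, H⁆ k ⊔ ⁅Q, Q⁆)) {1}ᶜ τ := by
        apply frob_chain_descent H hC hsolv τ hτ hτ1 ⁅H, H⁆ ⁅Q, Q⁆ Q (Subgroup.commutator_le_self Q)
          hWV
        · rw [sup_eq_left.mpr hQ'le]
          exact hs1
        · exact hs2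
        · rw [sup_eq_left.mpr hQ'le]
          exact h0
      obtain ⟨k₁, hk₁⟩ := commChain_eq_bot H ⁅H, H⁆ hnil hH'lt.le
      have hQ'coh : IsCoherent (inducedIrrAbove H ⁅Q, Q⁆) {1}ᶜ τ := by
        have := hst1 k₁
        rwa [hk₁, bot_sup_eq] at this
      have hPchain := commChain_eq_bot H P hnil hPH
      obtain ⟨k₀, hk₀, hmin⟩ : ∃ k₀, commChain H P k₀ = ⊥ ∧ ∀ j < k₀, commChain H P j ≠ ⊥ :=
        ⟨Nat.find hPchain, Nat.find_spec hPchain, fun j hj => Nat.find_min hPchain hj⟩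
      have hc1 : commChain H P 1 ≠ ⊥ := by
        intro h
        have h1 : x₀ * y₀ * x₀⁻¹ * y₀⁻¹ ∈ commChain H P 1 := by
          rw [commChain_succ, commChain_zero]
          exact Subgroup.commutator_mem_commutator hx₀ (hPH hy₀)
        rw [h, Subgroup.mem_bot] at h1
        apply hxy₀
        calc x₀ * y₀ = (x₀ * y₀ * x₀⁻¹ * y₀⁻¹) * (y₀ * x₀) := by group
          _ = y₀ * x₀ := by rw [h1, one_mul]
      have hk₀2 : 2 ≤ k₀ := by
        by_contra hcon
        push Not at hcon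
        interval_cases k₀
        · apply hc1
          rw [commChain_succ, hk₀]
          exact Subgroup.commutator_bot_left H
        · exact hc1 hk₀
      obtain ⟨j, rfl⟩ : ∃ j, k₀ = j + 2 := ⟨k₀ - 2, by omega⟩
      obtain ⟨Z, hZdef⟩ : ∃ Z : Subgroup N, Z = commChain H P (j + 1) := ⟨_, rfl⟩
      have hZn : Z.Normal := by
        rw [hZdef]
        exact commChain_normal H P (j + 1)
      have hZne : Z ≠ ⊥ := by
        rw [hZdef]
        exact hmin (j + 1) (by omega)
      have hZcent : ∀ x ∈ Z, ∀ y ∈ H, x * y * x⁻¹ * y⁻¹ ∈ (⊥ : Subgroup N) := by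
        intro x hx y hy
        have h1 : x * y * x⁻¹ * y⁻¹ ∈ ⁅commChain H P (j + 1), H⁆ :=
          Subgroup.commutator_mem_commutator (hZdef ▸ hx) hy
        have h2 : ⁅commChain H P (j + 1), H⁆ = ⊥ := hk₀
        rw [h2] at h1
        exact h1
      have hZP : Z ≤ P := by
        rw [hZdef]
        exact commChain_le_zero H P (j + 1)
      have hZH' : Z ≤ ⁅H, H⁆ := by
        have h1 : commChain H P (j + 1) ≤ commChain H P 1 :=
          commChain_antitone H P (show 1 ≤ j + 1 by omega)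
        have h2 : commChain H P 1 ≤ ⁅H, H⁆ := by
          rw [commChain_succ, commChain_zero]
          exact Subgroup.commutator_mono hPH le_rfl
        rw [hZdef]
        exact le_trans h1 h2
      have hst2 : ∀ k, IsCoherent (inducedIrrAbove H (commChain H ⁅Q, Q⁆ k ⊔ ⊥)) {1}ᶜ τ := by
        apply frob_chain_descent H hC hsolv τ hτ hτ1 ⁅Q, Q⁆ ⊥ Z bot_le hZcent
        · rw [sup_bot_eq]
          intro h
          apply hZne
          have h1 : Z ≤ P ⊓ Q := le_inf hZP (le_trans h (Subgroup.commutator_le_self Q))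
          rw [hinf] at h1
          exact le_bot_iff.mp h1
        · exact lt_of_le_of_lt (sup_le hQ'le hZH') hH'lt
        · rw [sup_bot_eq]
          exact hQ'coh
      obtain ⟨k₂, hk₂⟩ := commChain_eq_bot H ⁅Q, Q⁆ hnil
        (le_trans (Subgroup.commutator_le_self Q) hQH)
      have := hst2 k₂
      rwa [hk₂, bot_sup_eq] at this

end Cfsg.Agent.S1535
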