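import Cfsg.Statements.S0109
import Cfsg.Agent.Helper5.SL2Syl
import Cfsg.Agent.S0667
import Cfsg.Agent.S0654
import Cfsg.Agent.S0542

set_option autoImplicit false
open Cfsg

namespace Cfsg.Agent.S0109


open scoped commutatorElement
open Cfsg.Agent.Helper5 Cfsg.Agent.S0653

theorem normalizer_le_normalizer_JA {G : Type*} [Group G] [Finite G] (n : ℕ) (P : Subgroup G) :
    Subgroup.normalizer (P : Set G) ≤ Subgroup.normalizer (JA n P : Set G) := by
  intro g hg
  apply Cfsg.Agent.S0650.mem_normalizer_of_conj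
  intro x hx
  have h1 : (MulAut.conj g).toMonoidHom x ∈ (JA n P).map (MulAut.conj g).toMonoidHom :=
    Subgroup.mem_map_of_mem _ hx
  rw [JA_map, map_conj_eq_of_mem_normalizer P hg] at h1
  exact h1

theorem JA_eq_of_le {G : Type*} [Group G] [Finite G] (n : ℕ) (P R : Subgroup G) (hRP : R ≤ P)
    (hJR : JA n P ≤ R) : JA n R = JA n P := by
  obtain ⟨A₀, hA₀⟩ := calA_nonempty n P
  have hA₀R : A₀ ≤ R := (le_sSup hA₀).trans hJR
  have : calA n R = calA n P := by
    ext A
    constructor
    · intro hA; exact calA_mono hRP hA₀ hA₀R hA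
    · intro hA; exact calA_of_le hRP hA ((le_sSup hA).trans hJR)
  unfold JA
  rw [this]
/-- The Thompson factorization Theorem for solvable groups states that, with p odd (and abelian Sylow 2-subgroups when p = 3) and no nontrivial normal subgroup of order prime to p, every element of G is a product of an element normalizing J(P) and an element centralizing the elements of order dividing p in the centre of P. -/
theorem result {G : Type*} [Group G] [Finite G] {p : ℕ} [Fact p.Prime] (hp : p ≠ 2) (hs : Group.IsSolvable G) (h3 : p = 3 → ∀ T : Sylow 2 G, IsMulCommutative T) (hF : ∀ N : Subgroup G, N.Normal → Nat.Coprime (Nat.card N) p → N = ⊥) (P : Sylow p G) (g : G) : ∃ a ∈ Subgroup.normalizer (Cfsg.thompsonSubgroupOf p (P : Subgroup G) : Set G), ∃ c ∈ Subgroup.centralizer {x : G | x ∈ (P : Subgroup G) ∧ (∀ y ∈ (P : Subgroup G), x * y = y * x) ∧ x ^ p = 1}, g = a * c := by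
  haveI := hs
  have hK : Cfsg.pPrimeCore p G = ⊥ := hF _ inferInstance (Cfsg.Agent.S0667.pPrimeCore_coprime' p)
  have hsolv : Cfsg.IsPSolvable p G := isPSolvable_of_isSolvable p
  have hc := Cfsg.Agent.Helper13.centralizer_pCore_le_of_isPSolvable hsolv hK
  have hst : ∀ (V : Subgroup G) [V.Normal], IsPGroup p V → Cfsg.IsPStableOn p V := by
    intro V _ hV a hq
    rcases pstable_psolv_aux hp hsolv _ V hV rfl a hq with h | ⟨h, hs2⟩
    · exact h
    · exfalso
      subst h
      exact not_hasSL2Sec_of_abelian_sylow (h3 rfl) hs2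
  haveI hWn : (WZ p (P : Subgroup G)).Normal := WZ_normal hp p hc hst P
  set C := Subgroup.centralizer (WZ p (P : Subgroup G) : Set G) with hC
  haveI hCn : C.Normal := inferInstance
  have hJC : JA p (P : Subgroup G) ≤ C := by
    intro y hy
    rw [hC, Subgroup.mem_centralizer_iff]
    intro x hx
    exact (Subgroup.mem_centralizer_iff.mp hx.2.1 y hy).symm
  obtain ⟨Q, hQ⟩ := Cfsg.Agent.S0542.result p C (Subgroup.Normal.isSubnormal hCn) P
  have h4 := Sylow.normalizer_sup_eq_top Q
  rw [hQ, Subgroup.subgroupOf_map_subtype] at h4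
  have hJeq : JA p ((P : Subgroup G) ⊓ C) = JA p (P : Subgroup G) :=
    JA_eq_of_le p _ _ inf_le_left (le_inf (JA_le p _) hJC)
  have hN : Subgroup.normalizer (((P : Subgroup G) ⊓ C : Subgroup G) : Set G) ≤
      Subgroup.normalizer (Cfsg.thompsonSubgroupOf p (P : Subgroup G) : Set G) := by
    have := normalizer_le_normalizer_JA p ((P : Subgroup G) ⊓ C)
    rw [hJeq] at this
    unfold Cfsg.thompsonSubgroupOf
    rw [Cfsg.Agent.S0654.thompsonSubgroupOf_eq]
    exact this
  have hCc : C ≤ Subgroup.centralizer {x : G | x ∈ (P : Subgroup G) ∧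
      (∀ y ∈ (P : Subgroup G), x * y = y * x) ∧ x ^ p = 1} := by
    intro c hc'
    rw [Subgroup.mem_centralizer_iff]
    rintro x ⟨hxP, hxc, hxp⟩
    have hxW : x ∈ WZ p (P : Subgroup G) := by
      obtain ⟨A, hA⟩ := calA_nonempty p (P : Subgroup G)
      refine ⟨le_sSup hA (mem_of_centralizes hA hxP hxp
        (fun a ha => (hxc a (hA.1 ha)).symm)), ?_, hxp⟩
      rw [Subgroup.mem_centralizer_iff]
      intro y hy
      exact (hxc y (JA_le p _ hy)).symm
    exact Subgroup.mem_centralizer_iff.mp hc' x hxW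
  have hg : g ∈ Subgroup.normalizer (((P : Subgroup G) ⊓ C : Subgroup G) : Set G) ⊔ C := by
    rw [h4]; trivial
  obtain ⟨a, ha, c, hc', rfl⟩ := Subgroup.mem_sup_of_normal_right.mp hg
  exact ⟨a, hN ha, c, hCc hc', rfl⟩


end Cfsg.Agent.S0109
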