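import Cfsg.Statements.S1969
import Cfsg.Agent.Helper13.Glaub2

set_option autoImplicit false
universe u
open Cfsg

open Cfsg.Agent.Helper13 Cfsg.Agent.Helper17
namespace Cfsg.Agent.S1969

/-- the local hypothesis of the statement on a group `Y`. -/
def LocN (p : ℕ) (W : ∀ (Q : Type u) [Group Q], Subgroup Q) (Y : Type u) [Group Y] : Prop :=
  Subgroup.centralizer ((pCore p Y : Subgroup Y) : Set Y) ≤ pCore p Y →
    ∀ T : Sylow p Y, (inducedFunctor (G := Y) W (T : Subgroup Y)).Normal

theorem locN_of_equiv {p : ℕ} [Fact p.Prime] (W : ∀ (Q : Type u) [Group Q], Subgroup Q)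
    (hW : IsCharPFunctor.{u} p W) {X Y : Type u} [Group X] [Group Y] [Finite X] (e : X ≃* Y)
    (h : LocN p W X) : LocN p W Y := by
  intro hC T
  haveI : Finite Y := Finite.of_equiv X e.toEquiv
  have hCX : Subgroup.centralizer ((pCore p X : Subgroup X) : Set X) ≤ pCore p X :=
    charP_of_equiv e.symm hC
  have hidx : ¬ p ∣ ((T : Subgroup Y).map e.symm.toMonoidHom).index := by
    rw [show (T : Subgroup Y).map e.symm.toMonoidHom = (T : Subgroup Y).map (e.symm : Y →* X) from rfl,
      Subgroup.index_map_equiv]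
    exact T.not_dvd_index
  obtain ⟨T', hT'⟩ : ∃ T' : Sylow p X, (T' : Subgroup X) = (T : Subgroup Y).map e.symm.toMonoidHom :=
    ⟨(T.2.map _).toSylow hidx, rfl⟩
  have hn := h hCX T'
  have hmap : (T : Subgroup Y) = (T' : Subgroup X).map e.toMonoidHom := by
    rw [hT', Subgroup.map_map]
    have h1 : e.toMonoidHom.comp e.symm.toMonoidHom = MonoidHom.id Y := by
      ext y; simp
    rw [h1, Subgroup.map_id]
  rw [hmap, inducedFunctor_map W hW e.toMonoidHom e.injective _ T'.2]
  exact hn.map _ e.surjective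

/-- Let p be a prime, G a finite group and W an isomorphism-invariant p-group functor (W assigns to every group Q a subgroup W(Q), nontrivial whenever Q is a nontrivial finite p-group, and every isomorphism from a finite p-group Q onto a group R carries W(Q) onto W(R)). Suppose that W(S*) is normal in G* whenever G* = K/R is a section of G with C_{G*}(O_p(G*)) ≤ O_p(G*) and S* is a Sylow p-subgroup of G*. Then W controls strong fusion in every section of G: for every section K/R and every Sylow p-subgroup T of K/R, the subgroup W(T) controls strong fusion in K/R. -/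
theorem result {G : Type u} [Group G] [Finite G] {p : ℕ} [Fact p.Prime] (W : ∀ (Q : Type u) [Group Q], Subgroup Q) (hW : Cfsg.IsCharPFunctor.{u} p W) (hloc : ∀ (K R : Subgroup G) [hR : (R.subgroupOf K).Normal], Subgroup.centralizer ((Cfsg.pCore p (↥K ⧸ R.subgroupOf K) : Subgroup (↥K ⧸ R.subgroupOf K)) : Set (↥K ⧸ R.subgroupOf K)) ≤ Cfsg.pCore p (↥K ⧸ R.subgroupOf K) → ∀ T : Sylow p (↥K ⧸ R.subgroupOf K), (Cfsg.inducedFunctor (G := (↥K ⧸ R.subgroupOf K)) W ((T : Subgroup (↥K ⧸ R.subgroupOf K)))).Normal) : ∀ (K R : Subgroup G) [hR : (R.subgroupOf K).Normal], ∀ T : Sylow p (↥K ⧸ R.subgroupOf K), Cfsg.ControlsStrongFusion p (Cfsg.inducedFunctor (G := (↥K ⧸ R.subgroupOf K)) W ((T : Subgroup (↥K ⧸ R.subgroupOf K)))) := by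
  intro K R hR T
  have hW' : ∀ W' ∈ ({W} : Set (∀ (Q : Type u) [Group Q], Subgroup Q)), IsCharPFunctor.{u} p W' := by
    intro W' hW'
    rw [Set.mem_singleton_iff.mp hW']; exact hW
  have hsecG : ∀ (Y : Type u) [Group Y], Sec Y G → LocN p W Y :=
    sec_forall (fun Y _ => LocN p W Y) (fun X Y _ _ _ e h => locN_of_equiv W hW e h)
      (fun K R hR => hloc K R)
  have hsecF : ∀ (Y : Type u) [Group Y], Sec Y G →
      LocHypF p ({W} : Set (∀ (Q : Type u) [Group Q], Subgroup Q)) Y := by
    intro Y _ hY hC T' P x hP _ hxP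
    have hn := hsecG Y hY hC T'
    refine FGood.single ((fst_indFam_iff _ _ _ _).mpr ⟨W, rfl, Subgroup.mem_top _, ?_⟩) hP hxP
    rw [Subgroup.normalizer_eq_top_iff.mpr hn]; exact Subgroup.mem_top _
  have hctl := glaub_main ({W} : Set (∀ (Q : Type u) [Group Q], Subgroup Q)) hW'
    (Nat.card (↥K ⧸ R.subgroupOf K)) (↥K ⧸ R.subgroupOf K) le_rfl
    (fun Y _ hY => hsecF Y (hY.trans ((Sec.of_quotient _).trans (Sec.of_subgroup K)))) T
  refine ⟨T, inducedFunctor_le W _, fun A hA => ⟨hA, fun g hg => ?_⟩⟩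
  obtain ⟨g', hch, hag⟩ := hctl (Subgroup.closure A) g ((Subgroup.closure_le _).mpr hA)
    (Subgroup.mem_top g) (cj_closure_le hg)
  have hg' : g' ∈ Subgroup.normalizer ((inducedFunctor W (T : Subgroup (↥K ⧸ R.subgroupOf K)) :
      Subgroup (↥K ⧸ R.subgroupOf K)) : Set (↥K ⧸ R.subgroupOf K)) := by
    apply hch.mem_of_subgroup
    intro y hy
    obtain ⟨W₀, hW₀, -, hy2⟩ := (fst_indFam_iff _ _ _ y).mp hy
    rw [Set.mem_singleton_iff.mp hW₀] at hy2
    exact hy2
  exact ⟨g', hg', fun a ha => (hag a (Subgroup.subset_closure ha)).symm⟩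

end Cfsg.Agent.S1969
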