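import Cfsg.Statements.S2302

set_option autoImplicit false
open Cfsg

namespace Cfsg.Agent.S2302

theorem two_zero (F : Type*) [Field F] [CharP F 2] : (2 : F) = 0 := by
  have := CharP.cast_eq_zero F 2
  exact_mod_cast this

theorem sq_inj {F : Type*} [Field F] [CharP F 2] (s t : F) (h : s ^ 2 = t ^ 2) : s = t := by
  have h2 := two_zero F
  have : (s - t) ^ 2 = 0 := by
    linear_combination h + (t ^ 2 - s * t) * h2
  have := pow_eq_zero_iff (two_ne_zero) |>.mp this
  exact sub_eq_zero.mp this

theorem sq_surj {F : Type*} [Field F] [Finite F] [CharP F 2] (x : F) : ∃ s : F, s ^ 2 = x := by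
  have hinj : Function.Injective (fun s : F => s ^ 2) := fun s t h => sq_inj s t h
  exact (Finite.injective_iff_surjective.mp hinj) x

theorem char_iff {F : Type*} [Field F] [CharP F 2] (g : Matrix.SpecialLinearGroup (Fin 2) F) :
    orderOf g = 2 ↔ (g.1 0 0 = g.1 1 1 ∧ ¬ (g.1 0 1 = 0 ∧ g.1 1 0 = 0)) := by
  have h2 := two_zero F
  have hdet : g.1 0 0 * g.1 1 1 - g.1 0 1 * g.1 1 0 = 1 := by
    have := g.2
    rw [Matrix.det_fin_two] at this
    exact this
  constructor
  · intro ho
    have hgg : g ^ 2 = 1 := by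
      have := pow_orderOf_eq_one g
      rw [ho] at this
      exact this
    have hg1 : g ≠ 1 := by
      intro h
      rw [h, orderOf_one] at ho
      omega
    have hM : g.1 * g.1 = 1 := by
      have := congrArg (fun x : Matrix.SpecialLinearGroup (Fin 2) F => x.1) hgg
      simpa [pow_two] using this
    have e00 : g.1 0 0 * g.1 0 0 + g.1 0 1 * g.1 1 0 = 1 := by
      have := congrFun (congrFun hM 0) 0
      simpa [Matrix.mul_apply, Fin.sum_univ_two] using this
    have e11 : g.1 1 0 * g.1 0 1 + g.1 1 1 * g.1 1 1 = 1 := by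
      have := congrFun (congrFun hM 1) 1
      simpa [Matrix.mul_apply, Fin.sum_univ_two] using this
    have had : g.1 0 0 = g.1 1 1 := by
      have : (g.1 0 0 - g.1 1 1) ^ 2 = 0 := by
        linear_combination e00 + e11 - 2 * hdet - (2 * g.1 0 1 * g.1 1 0) * h2
      have := pow_eq_zero_iff (two_ne_zero) |>.mp this
      exact sub_eq_zero.mp this
    refine ⟨had, ?_⟩
    rintro ⟨hb, hc⟩
    apply hg1
    have ha : g.1 0 0 = 1 := by
      have : (g.1 0 0 - 1) ^ 2 = 0 := by
        rw [hb] at e00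
        linear_combination e00 + (1 - g.1 0 0) * h2
      have := pow_eq_zero_iff (two_ne_zero) |>.mp this
      exact sub_eq_zero.mp this
    apply Subtype.ext
    ext i j
    fin_cases i <;> fin_cases j
    · simpa using ha
    · simpa using hb
    · simpa using hc
    · simpa using had ▸ ha
  · rintro ⟨had, hbc⟩
    apply orderOf_eq_prime
    · apply Subtype.ext
      rw [pow_two]
      show g.1 * g.1 = 1
      ext i j
      fin_cases i <;> fin_cases j
      · simp only [Matrix.mul_apply, Fin.sum_univ_two]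
        simp
        rw [← had] at hdet
        linear_combination hdet + (g.1 0 1 * g.1 1 0) * h2
      · simp only [Matrix.mul_apply, Fin.sum_univ_two]
        simp
        rw [← had]
        linear_combination (g.1 0 0 * g.1 0 1) * h2
      · simp only [Matrix.mul_apply, Fin.sum_univ_two]
        simp
        rw [← had]
        linear_combination (g.1 0 0 * g.1 1 0) * h2
      · simp only [Matrix.mul_apply, Fin.sum_univ_two]
        simp
        rw [← had] at hdet ⊢
        linear_combination hdet + (g.1 0 1 * g.1 1 0) * h2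
    · intro h
      apply hbc
      rw [h]
      simp

/-- the standard involution -/
def uStd (F : Type*) [Field F] : Matrix.SpecialLinearGroup (Fin 2) F :=
  ⟨!![1, 1; 0, 1], by simp [Matrix.det_fin_two]⟩

theorem conj_std {F : Type*} [Field F] [Finite F] [CharP F 2] (g : Matrix.SpecialLinearGroup (Fin 2) F)
    (hg : g.1 0 0 = g.1 1 1 ∧ ¬ (g.1 0 1 = 0 ∧ g.1 1 0 = 0)) : IsConj (uStd F) g := by
  have h2 := two_zero F
  obtain ⟨had, hbc⟩ := hg
  have hdet : g.1 0 0 * g.1 1 1 - g.1 0 1 * g.1 1 0 = 1 := by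
    have := g.2
    rw [Matrix.det_fin_two] at this
    exact this
  rw [← had] at hdet
  rw [isConj_iff]
  by_cases hc : g.1 1 0 = 0
  · have hb : g.1 0 1 ≠ 0 := fun hb => hbc ⟨hb, hc⟩
    have ha : g.1 0 0 = 1 := by
      have : (g.1 0 0 - 1) ^ 2 = 0 := by
        rw [hc] at hdet
        linear_combination hdet + (1 - g.1 0 0) * h2
      have := pow_eq_zero_iff (two_ne_zero) |>.mp this
      exact sub_eq_zero.mp this
    obtain ⟨t, ht⟩ := sq_surj (g.1 0 1)⁻¹
    have ht' : t ^ 2 * g.1 0 1 = 1 := by rw [ht]; exact inv_mul_cancel₀ hb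
    have hdP : (!![t * g.1 0 1, 0; 0, t] : Matrix (Fin 2) (Fin 2) F).det = 1 := by
      rw [Matrix.det_fin_two]; simp; linear_combination ht'
    let P : Matrix.SpecialLinearGroup (Fin 2) F := ⟨!![t * g.1 0 1, 0; 0, t], hdP⟩
    refine ⟨P, ?_⟩
    rw [mul_inv_eq_iff_eq_mul]
    apply Subtype.ext
    show !![t * g.1 0 1, 0; 0, t] * !![1, 1; 0, 1] = g.1 * !![t * g.1 0 1, 0; 0, t]
    ext i j
    fin_cases i <;> fin_cases j <;>
      simp [Matrix.mul_apply, Fin.sum_univ_two, ha, hc, ← had]
    ring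
  · obtain ⟨t, ht⟩ := sq_surj (g.1 1 0)⁻¹
    have ht' : t ^ 2 * g.1 1 0 = 1 := by rw [ht]; exact inv_mul_cancel₀ hc
    have hdP : (!![t * (g.1 0 0 + 1), t; t * g.1 1 0, 0] : Matrix (Fin 2) (Fin 2) F).det = 1 := by
      rw [Matrix.det_fin_two]; simp; linear_combination ht' - (t ^ 2 * g.1 1 0) * h2
    let P : Matrix.SpecialLinearGroup (Fin 2) F := ⟨!![t * (g.1 0 0 + 1), t; t * g.1 1 0, 0], hdP⟩
    refine ⟨P, ?_⟩
    rw [mul_inv_eq_iff_eq_mul]
    apply Subtype.ext
    show !![t * (g.1 0 0 + 1), t; t * g.1 1 0, 0] * !![1, 1; 0, 1] = g.1 * !![t * (g.1 0 0 + 1), t; t * g.1 1 0, 0]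
    ext i j
    fin_cases i <;> fin_cases j <;>
      simp [Matrix.mul_apply, Fin.sum_univ_two, ← had]
    · linear_combination (-t) * hdet - (t * g.1 0 1 * g.1 1 0) * h2
    · linear_combination t * h2
    · linear_combination (-(t * g.1 0 0 * g.1 1 0)) * h2
    · ring
    

theorem result {F : Type*} [Field F] [Fintype F] [CharP F 2] (g h : Matrix.SpecialLinearGroup (Fin 2) F) (hg : orderOf g = 2) (hh : orderOf h = 2) :
    IsConj g h ∧ Nat.card (ConjClasses.mk g).carrier = Fintype.card F ^ 2 - 1 := by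
  classical
  have h2 := two_zero F
  have c1 := conj_std g ((char_iff g).mp hg)
  have c2 := conj_std h ((char_iff h).mp hh)
  refine ⟨c1.symm.trans c2, ?_⟩
  have hset : (ConjClasses.mk g).carrier = {x : Matrix.SpecialLinearGroup (Fin 2) F |
      x.1 0 0 = x.1 1 1 ∧ ¬ (x.1 0 1 = 0 ∧ x.1 1 0 = 0)} := by
    ext x
    rw [ConjClasses.mem_carrier_iff_mk_eq, ConjClasses.mk_eq_mk_iff_isConj]
    constructor
    · intro hx
      apply (char_iff x).mp
      obtain ⟨c, hc⟩ := isConj_iff.mp hx
      have := (MulAut.conj c).orderOf_eq x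
      rw [MulAut.conj_apply, hc, hg] at this
      exact this.symm
    · intro hx
      exact (conj_std x hx).symm.trans c1
  rw [hset]
  let f : {x : Matrix.SpecialLinearGroup (Fin 2) F | x.1 0 0 = x.1 1 1 ∧ ¬ (x.1 0 1 = 0 ∧ x.1 1 0 = 0)} →
      {bc : F × F // bc ≠ 0} := fun x => ⟨(x.1.1 0 1, x.1.1 1 0), by
        intro h
        apply x.2.2
        exact ⟨congrArg Prod.fst h, congrArg Prod.snd h⟩⟩
  have hf : Function.Bijective f := by
    constructor
    · intro x y hxy
      have hb : x.1.1 0 1 = y.1.1 0 1 := congrArg (fun z : {bc : F × F // bc ≠ 0} => z.1.1) hxy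
      have hc : x.1.1 1 0 = y.1.1 1 0 := congrArg (fun z : {bc : F × F // bc ≠ 0} => z.1.2) hxy
      have hdx : x.1.1 0 0 * x.1.1 1 1 - x.1.1 0 1 * x.1.1 1 0 = 1 := by
        have := x.1.2
        rw [Matrix.det_fin_two] at this
        exact this
      have hdy : y.1.1 0 0 * y.1.1 1 1 - y.1.1 0 1 * y.1.1 1 0 = 1 := by
        have := y.1.2
        rw [Matrix.det_fin_two] at this
        exact this
      have hx1 := x.2.1
      have hy1 := y.2.1
      rw [← hx1] at hdx
      rw [← hy1] at hdy
      have ha : x.1.1 0 0 = y.1.1 0 0 := by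
        apply sq_inj
        rw [hb, hc] at hdx
        linear_combination hdx - hdy
      apply Subtype.ext
      apply Subtype.ext
      ext i j
      fin_cases i <;> fin_cases j
      · exact ha
      · exact hb
      · exact hc
      · show x.1.1 1 1 = y.1.1 1 1
        rw [← hx1, ← hy1]; exact ha
    · rintro ⟨⟨b, c⟩, hbc⟩
      obtain ⟨a, ha⟩ := sq_surj (1 + b * c)
      refine ⟨⟨⟨!![a, b; c, a], by rw [Matrix.det_fin_two]; simp; linear_combination ha⟩, ?_⟩, ?_⟩
      · refine ⟨by simp, ?_⟩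
        rintro ⟨hb, hc⟩
        apply hbc
        simp at hb hc
        rw [hb, hc]
        rfl
      · apply Subtype.ext
        simp [f]
  rw [Nat.card_congr (Equiv.ofBijective f hf), Nat.card_eq_fintype_card, Fintype.card_subtype_compl,
    Fintype.card_prod, Fintype.card_subtype_eq]
  rw [pow_two]

end Cfsg.Agent.S2302
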