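import Mathlib
import Cfsg.Statements.S2298
import Cfsg.Agent.Helper14.GL2Cusp

set_option autoImplicit false
open Cfsg

namespace Cfsg.Agent.S2298

theorem card_four {ι : Type*} [Fintype ι] (p1 p2 p3 p4 : ι → Prop)
    [DecidablePred p1] [DecidablePred p2] [DecidablePred p3] [DecidablePred p4]
    (h : ∀ i, (1 : ℕ) = (if p1 i then 1 else 0) + (if p2 i then 1 else 0) +
      (if p3 i then 1 else 0) + (if p4 i then 1 else 0)) :
    Fintype.card ι = Nat.card {i // p1 i} + Nat.card {i // p2 i} + Nat.card {i // p3 i} +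
      Nat.card {i // p4 i} := by
  rw [Nat.card_eq_fintype_card, Nat.card_eq_fintype_card, Nat.card_eq_fintype_card,
    Nat.card_eq_fintype_card, Fintype.card_subtype, Fintype.card_subtype, Fintype.card_subtype,
    Fintype.card_subtype, Finset.card_filter, Finset.card_filter, Finset.card_filter,
    Finset.card_filter, ← Finset.sum_add_distrib, ← Finset.sum_add_distrib,
    ← Finset.sum_add_distrib, ← Finset.card_univ, Finset.card_eq_sum_ones]
  exact Finset.sum_congr rfl (fun i _ => h i)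


/-- Over a finite field F with q elements, every irreducible complex character of GL₂ has degree 1, q − 1, q or q + 1; and when q ≥ 3 (so that these four numbers are distinct) there are exactly q − 1 irreducible characters of degree 1, exactly q − 1 of degree q, exactly (q − 1)(q − 2)/2 of degree q + 1 and exactly q(q − 1)/2 of degree q − 1. -/
theorem result {F : Type*} [Field F] [Fintype F] :
    (∀ χ : Matrix.GeneralLinearGroup (Fin 2) F → ℂ, Cfsg.IsIrrCharacter (Matrix.GeneralLinearGroup (Fin 2) F) χ →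
      χ 1 = 1 ∨ χ 1 = (Fintype.card F : ℂ) - 1 ∨ χ 1 = (Fintype.card F : ℂ) ∨ χ 1 = (Fintype.card F : ℂ) + 1) ∧
    (3 ≤ Fintype.card F →
      Nat.card {χ : Cfsg.IrrCharacter (Matrix.GeneralLinearGroup (Fin 2) F) // (χ : Matrix.GeneralLinearGroup (Fin 2) F → ℂ) 1 = 1} = Fintype.card F - 1 ∧
      Nat.card {χ : Cfsg.IrrCharacter (Matrix.GeneralLinearGroup (Fin 2) F) // (χ : Matrix.GeneralLinearGroup (Fin 2) F → ℂ) 1 = (Fintype.card F : ℂ)} = Fintype.card F - 1 ∧
      Nat.card {χ : Cfsg.IrrCharacter (Matrix.GeneralLinearGroup (Fin 2) F) // (χ : Matrix.GeneralLinearGroup (Fin 2) F → ℂ) 1 = (Fintype.card F : ℂ) + 1} = (Fintype.card F - 1) * (Fintype.card F - 2) / 2 ∧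
      Nat.card {χ : Cfsg.IrrCharacter (Matrix.GeneralLinearGroup (Fin 2) F) // (χ : Matrix.GeneralLinearGroup (Fin 2) F → ℂ) 1 = (Fintype.card F : ℂ) - 1} = Fintype.card F * (Fintype.card F - 1) / 2) := by
  classical
  haveI : Fintype (MulChar F ℂ) := Fintype.ofFinite _
  haveI : Fintype (Cfsg.IrrCharacter (Matrix.GeneralLinearGroup (Fin 2) F)) := Fintype.ofFinite _
  have hq1 := Cfsg.Agent.Helper14.GL2.one_lt_q (F := F)
  have hdeg : ∀ χ : Matrix.GeneralLinearGroup (Fin 2) F → ℂ,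
      Cfsg.IsIrrCharacter (Matrix.GeneralLinearGroup (Fin 2) F) χ →
      χ 1 = 1 ∨ χ 1 = (Fintype.card F : ℂ) - 1 ∨ χ 1 = (Fintype.card F : ℂ) ∨
        χ 1 = (Fintype.card F : ℂ) + 1 := by
    intro χ hχ
    rcases Cfsg.Agent.Helper14.GL2.classify χ hχ with
      ⟨α, rfl⟩ | ⟨α, rfl⟩ | ⟨α, β, hαβ, rfl⟩ | ⟨h1, _, _⟩
    · left; exact Cfsg.Agent.Helper14.GL2.lin_one α
    · right; right; left; exact Cfsg.Agent.Helper14.GL2.st_one α
    · right; right; right; exact Cfsg.Agent.Helper14.GL2.ps_one α β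
    · right; left; exact h1
  refine ⟨hdeg, fun hq => ?_⟩
  have key : ∀ (c : ℝ), ((Fintype.card F : ℂ) = (c : ℂ)) → (Fintype.card F : ℝ) = c := by
    intro c h
    exact_mod_cast h
  have hq3 : (3 : ℝ) ≤ (Fintype.card F : ℝ) := by exact_mod_cast hq
  -- distinctness of the four degrees
  have n1 : (1 : ℂ) ≠ (Fintype.card F : ℂ) - 1 := by
    intro h
    have := key 2 (by push_cast; linear_combination -h)
    linarith
  have n2 : (1 : ℂ) ≠ (Fintype.card F : ℂ) := by
    intro h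
    have := key 1 (by push_cast; linear_combination -h)
    linarith
  have n3 : (1 : ℂ) ≠ (Fintype.card F : ℂ) + 1 := by
    intro h
    have := key 0 (by push_cast; linear_combination -h)
    linarith
  have n4 : (Fintype.card F : ℂ) - 1 ≠ (Fintype.card F : ℂ) := by
    intro h
    have h2 : (1 : ℂ) = 0 := by linear_combination -h
    exact one_ne_zero h2
  have n5 : (Fintype.card F : ℂ) - 1 ≠ (Fintype.card F : ℂ) + 1 := by
    intro h
    have h2 : (2 : ℂ) = 0 := by linear_combination -h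
    norm_num at h2
  have n6 : (Fintype.card F : ℂ) ≠ (Fintype.card F : ℂ) + 1 := by
    intro h
    have h2 : (1 : ℂ) = 0 := by linear_combination -h
    exact one_ne_zero h2
  have hT : Nat.card (MulChar F ℂ) = Fintype.card F - 1 := by
    rw [Nat.card_eq_fintype_card]
    exact Cfsg.Agent.Helper14.GL2.card_mulChar
  have cA : Nat.card {χ : Cfsg.IrrCharacter (Matrix.GeneralLinearGroup (Fin 2) F) //
      (χ : Matrix.GeneralLinearGroup (Fin 2) F → ℂ) 1 = 1} = Fintype.card F - 1 := by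
    refine (Nat.card_eq_of_bijective (fun α : MulChar F ℂ =>
      (⟨⟨Cfsg.Agent.Helper14.GL2.lin α, Cfsg.Agent.Helper14.GL2.lin_irr α⟩,
        Cfsg.Agent.Helper14.GL2.lin_one α⟩ :
        {χ : Cfsg.IrrCharacter (Matrix.GeneralLinearGroup (Fin 2) F) //
          (χ : Matrix.GeneralLinearGroup (Fin 2) F → ℂ) 1 = 1})) ?_).symm.trans hT
    constructor
    · intro α α' h
      exact Cfsg.Agent.Helper14.GL2.lin_inj α α'
        (congrArg (fun x => (x.1 : Matrix.GeneralLinearGroup (Fin 2) F → ℂ)) h)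
    · rintro ⟨⟨χ, hχ⟩, h1⟩
      rcases Cfsg.Agent.Helper14.GL2.classify χ hχ with
        ⟨α, rfl⟩ | ⟨α, rfl⟩ | ⟨α, β, hαβ, rfl⟩ | ⟨h1', _, _⟩
      · exact ⟨α, rfl⟩
      · exfalso
        change Cfsg.Agent.Helper14.GL2.st α 1 = 1 at h1
        rw [Cfsg.Agent.Helper14.GL2.st_one] at h1
        exact n2 h1.symm
      · exfalso
        change Cfsg.Agent.Helper14.GL2.ps α β 1 = 1 at h1
        rw [Cfsg.Agent.Helper14.GL2.ps_one] at h1
        exact n3 h1.symm
      · exfalso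
        change χ 1 = 1 at h1
        rw [h1'] at h1
        exact n1 h1.symm
  have cC : Nat.card {χ : Cfsg.IrrCharacter (Matrix.GeneralLinearGroup (Fin 2) F) //
      (χ : Matrix.GeneralLinearGroup (Fin 2) F → ℂ) 1 = (Fintype.card F : ℂ)} =
      Fintype.card F - 1 := by
    refine (Nat.card_eq_of_bijective (fun α : MulChar F ℂ =>
      (⟨⟨Cfsg.Agent.Helper14.GL2.st α, Cfsg.Agent.Helper14.GL2.st_irr α⟩,
        Cfsg.Agent.Helper14.GL2.st_one α⟩ :
        {χ : Cfsg.IrrCharacter (Matrix.GeneralLinearGroup (Fin 2) F) //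
          (χ : Matrix.GeneralLinearGroup (Fin 2) F → ℂ) 1 = (Fintype.card F : ℂ)})) ?_).symm.trans hT
    constructor
    · intro α α' h
      exact Cfsg.Agent.Helper14.GL2.st_inj α α'
        (congrArg (fun x => (x.1 : Matrix.GeneralLinearGroup (Fin 2) F → ℂ)) h)
    · rintro ⟨⟨χ, hχ⟩, h1⟩
      rcases Cfsg.Agent.Helper14.GL2.classify χ hχ with
        ⟨α, rfl⟩ | ⟨α, rfl⟩ | ⟨α, β, hαβ, rfl⟩ | ⟨h1', _, _⟩
      · exfalso
        change Cfsg.Agent.Helper14.GL2.lin α 1 = _ at h1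
        rw [Cfsg.Agent.Helper14.GL2.lin_one] at h1
        exact n2 h1
      · exact ⟨α, rfl⟩
      · exfalso
        change Cfsg.Agent.Helper14.GL2.ps α β 1 = _ at h1
        rw [Cfsg.Agent.Helper14.GL2.ps_one] at h1
        exact n6 h1.symm
      · exfalso
        change χ 1 = _ at h1
        rw [h1'] at h1
        exact n4 h1
  have cP : Nat.card {χ : Cfsg.IrrCharacter (Matrix.GeneralLinearGroup (Fin 2) F) //
      (χ : Matrix.GeneralLinearGroup (Fin 2) F → ℂ) 1 = (Fintype.card F : ℂ) + 1} =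
      (Fintype.card F - 1) * (Fintype.card F - 2) / 2 := by
    have e : (Fintype.card F - 1) * (Fintype.card F - 2) / 2 =
        Nat.card {z : Sym2 (MulChar F ℂ) // ¬ z.IsDiag} := by
      rw [Nat.card_eq_fintype_card, Sym2.card_subtype_not_diag,
        Cfsg.Agent.Helper14.GL2.card_mulChar, Nat.choose_two_right]
      rfl
    rw [e]
    symm
    apply Nat.card_eq_of_bijective (fun z : {z : Sym2 (MulChar F ℂ) // ¬ z.IsDiag} =>
      (⟨⟨Cfsg.Agent.Helper14.GL2.psSym z.1, Cfsg.Agent.Helper14.GL2.psSym_irr z.1 z.2⟩,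
        Cfsg.Agent.Helper14.GL2.psSym_one z.1⟩ :
        {χ : Cfsg.IrrCharacter (Matrix.GeneralLinearGroup (Fin 2) F) //
          (χ : Matrix.GeneralLinearGroup (Fin 2) F → ℂ) 1 = (Fintype.card F : ℂ) + 1}))
    constructor
    · intro z z' h
      exact Subtype.ext (Cfsg.Agent.Helper14.GL2.psSym_inj z.1 z'.1
        (congrArg (fun x => (x.1 : Matrix.GeneralLinearGroup (Fin 2) F → ℂ)) h))
    · rintro ⟨⟨χ, hχ⟩, h1⟩
      rcases Cfsg.Agent.Helper14.GL2.classify χ hχ with
        ⟨α, rfl⟩ | ⟨α, rfl⟩ | ⟨α, β, hαβ, rfl⟩ | ⟨h1', _, _⟩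
      · exfalso
        change Cfsg.Agent.Helper14.GL2.lin α 1 = _ at h1
        rw [Cfsg.Agent.Helper14.GL2.lin_one] at h1
        exact n3 h1
      · exfalso
        change Cfsg.Agent.Helper14.GL2.st α 1 = _ at h1
        rw [Cfsg.Agent.Helper14.GL2.st_one] at h1
        exact n6 h1
      · exact ⟨⟨s(α, β), fun hd => hαβ (Sym2.mk_isDiag_iff.mp hd)⟩, rfl⟩
      · exfalso
        change χ 1 = _ at h1
        rw [h1'] at h1
        exact n5 h1
  refine ⟨cA, cC, cP, ?_⟩
  -- the remaining count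
  have hcard : Fintype.card (Cfsg.IrrCharacter (Matrix.GeneralLinearGroup (Fin 2) F)) =
      Fintype.card F ^ 2 - 1 := by
    rw [← Nat.card_eq_fintype_card, Cfsg.Agent.Helper1.card_irr,
      Cfsg.Agent.Helper14.GL2.card_conjClasses]
  have hone : ∀ χ : Cfsg.IrrCharacter (Matrix.GeneralLinearGroup (Fin 2) F),
      (1 : ℕ) = (if (χ : Matrix.GeneralLinearGroup (Fin 2) F → ℂ) 1 = 1 then 1 else 0) +
        (if (χ : Matrix.GeneralLinearGroup (Fin 2) F → ℂ) 1 = (Fintype.card F : ℂ) then 1 else 0) +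
        (if (χ : Matrix.GeneralLinearGroup (Fin 2) F → ℂ) 1 = (Fintype.card F : ℂ) + 1 then 1 else 0) +
        (if (χ : Matrix.GeneralLinearGroup (Fin 2) F → ℂ) 1 = (Fintype.card F : ℂ) - 1 then 1 else 0) := by
    intro χ
    rcases hdeg χ.1 χ.2 with h | h | h | h
    · rw [h, if_pos rfl, if_neg n2, if_neg n3, if_neg n1]
    · rw [h, if_neg n1.symm, if_neg n4, if_neg n5, if_pos rfl]
    · rw [h, if_neg n2.symm, if_pos rfl, if_neg n6, if_neg n4.symm]
    · rw [h, if_neg n3.symm, if_neg n6.symm, if_pos rfl, if_neg n5.symm]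
  have hsum := card_four
    (fun χ : Cfsg.IrrCharacter (Matrix.GeneralLinearGroup (Fin 2) F) =>
      (χ : Matrix.GeneralLinearGroup (Fin 2) F → ℂ) 1 = 1)
    (fun χ : Cfsg.IrrCharacter (Matrix.GeneralLinearGroup (Fin 2) F) =>
      (χ : Matrix.GeneralLinearGroup (Fin 2) F → ℂ) 1 = (Fintype.card F : ℂ))
    (fun χ : Cfsg.IrrCharacter (Matrix.GeneralLinearGroup (Fin 2) F) =>
      (χ : Matrix.GeneralLinearGroup (Fin 2) F → ℂ) 1 = (Fintype.card F : ℂ) + 1)
    (fun χ : Cfsg.IrrCharacter (Matrix.GeneralLinearGroup (Fin 2) F) =>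
      (χ : Matrix.GeneralLinearGroup (Fin 2) F → ℂ) 1 = (Fintype.card F : ℂ) - 1) hone
  obtain ⟨X, hX⟩ : ∃ X, X = Nat.card {χ : Cfsg.IrrCharacter (Matrix.GeneralLinearGroup (Fin 2) F) //
      (χ : Matrix.GeneralLinearGroup (Fin 2) F → ℂ) 1 = (Fintype.card F : ℂ) - 1} := ⟨_, rfl⟩
  rw [← hX]
  rw [← hX] at hsum
  rw [hcard, cA, cC, cP] at hsum
  obtain ⟨k, hk⟩ : ∃ k, Fintype.card F = k + 3 := ⟨Fintype.card F - 3, by omega⟩
  rw [hk] at hsum ⊢
  simp only [show k + 3 - 1 = k + 2 by omega, show k + 3 - 2 = k + 1 by omega] at hsum ⊢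
  have h2 : (k + 2) * (k + 1) / 2 * 2 = (k + 2) * (k + 1) := by
    apply Nat.div_mul_cancel
    have := Nat.even_mul_pred_self (k + 2)
    simpa using even_iff_two_dvd.mp this
  have h3 : (k + 3) ^ 2 - 1 = k ^ 2 + 6 * k + 8 := by
    have : (k + 3) ^ 2 = k ^ 2 + 6 * k + 9 := by ring
    omega
  rw [h3] at hsum
  symm
  apply Nat.div_eq_of_eq_mul_left (by norm_num)
  have h4 : (k + 2) * (k + 1) = k ^ 2 + 3 * k + 2 := by ring
  have h5 : (k + 3) * (k + 2) = k ^ 2 + 5 * k + 6 := by ring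
  rw [h4] at h2
  rw [h5]
  omega

end Cfsg.Agent.S2298
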