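import Cfsg.Statements.S2299
import Mathlib
import Cfsg.Agent.Helper15.SL2D

set_option autoImplicit false
open Cfsg

namespace Cfsg.Agent.S2299

open Cfsg Matrix
open scoped ComplexConjugate
open Cfsg.Agent.Helper15.SL2A Cfsg.Agent.Helper15.SL2B Cfsg.Agent.Helper15.SL2C
open Cfsg.Agent.Helper15.SL2D
open Cfsg.Agent.S2508 (Zm Zm_coe Zm_center Zm_ne_one center_odd)
open Cfsg.Agent.S2430 (two_ne_zero_of_odd)

/-- Over a finite field F with q elements, q odd, every irreducible complex character of SL₂ has degree 1, q, q + 1, q − 1, (q + 1)/2 or (q − 1)/2; and when q ≥ 5 (so that these six numbers are distinct) there are exactly one irreducible character of degree 1, one of degree q, (q − 3)/2 of degree q + 1, (q − 1)/2 of degree q − 1, two of degree (q + 1)/2 and two of degree (q − 1)/2. -/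
theorem result {F : Type*} [Field F] [Fintype F] (hodd : Odd (Fintype.card F)) :
    (∀ χ : Matrix.SpecialLinearGroup (Fin 2) F → ℂ, Cfsg.IsIrrCharacter (Matrix.SpecialLinearGroup (Fin 2) F) χ →
      χ 1 = 1 ∨ χ 1 = (Fintype.card F : ℂ) ∨ χ 1 = (Fintype.card F : ℂ) + 1 ∨ χ 1 = (Fintype.card F : ℂ) - 1 ∨
        χ 1 = (((Fintype.card F + 1) / 2 : ℕ) : ℂ) ∨ χ 1 = (((Fintype.card F - 1) / 2 : ℕ) : ℂ)) ∧
    (5 ≤ Fintype.card F →
      Nat.card {χ : Cfsg.IrrCharacter (Matrix.SpecialLinearGroup (Fin 2) F) // (χ : Matrix.SpecialLinearGroup (Fin 2) F → ℂ) 1 = 1} = 1 ∧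
      Nat.card {χ : Cfsg.IrrCharacter (Matrix.SpecialLinearGroup (Fin 2) F) // (χ : Matrix.SpecialLinearGroup (Fin 2) F → ℂ) 1 = (Fintype.card F : ℂ)} = 1 ∧
      Nat.card {χ : Cfsg.IrrCharacter (Matrix.SpecialLinearGroup (Fin 2) F) // (χ : Matrix.SpecialLinearGroup (Fin 2) F → ℂ) 1 = (Fintype.card F : ℂ) + 1} = (Fintype.card F - 3) / 2 ∧
      Nat.card {χ : Cfsg.IrrCharacter (Matrix.SpecialLinearGroup (Fin 2) F) // (χ : Matrix.SpecialLinearGroup (Fin 2) F → ℂ) 1 = (Fintype.card F : ℂ) - 1} = (Fintype.card F - 1) / 2 ∧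
      Nat.card {χ : Cfsg.IrrCharacter (Matrix.SpecialLinearGroup (Fin 2) F) // (χ : Matrix.SpecialLinearGroup (Fin 2) F → ℂ) 1 = (((Fintype.card F + 1) / 2 : ℕ) : ℂ)} = 2 ∧
      Nat.card {χ : Cfsg.IrrCharacter (Matrix.SpecialLinearGroup (Fin 2) F) // (χ : Matrix.SpecialLinearGroup (Fin 2) F → ℂ) 1 = (((Fintype.card F - 1) / 2 : ℕ) : ℂ)} = 2) := by
  classical
  obtain ⟨C, hN⟩ := exists_nst (F := F) hodd
  have hq3 := card_ge_three hodd
  constructor
  · intro χ hχ
    obtain ⟨n, hn, hcases⟩ := classify_deg hodd hN hχ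
    rw [hn]
    rcases hcases with ⟨-, h⟩ | ⟨-, h⟩ | ⟨-, h⟩ | ⟨-, h⟩ | ⟨-, h⟩ | ⟨-, h⟩
    · left
      rw [h, Nat.cast_one]
    · right; left
      rw [h]
    · right; right; left
      rw [h, Nat.cast_add, Nat.cast_one]
    · right; right; right; right; left
      rw [h]
    · right; right; right; left
      rw [h, Nat.cast_sub (by omega), Nat.cast_one]
    · right; right; right; right; right
      rw [h]
  · intro hq
    obtain ⟨t, ht⟩ := id hodd
    refine ⟨?_, ?_, ?_, ?_, ?_, ?_⟩
    · refine card_one_of (fun χ : IrrCharacter (Matrix.SpecialLinearGroup (Fin 2) F) =>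
        (χ : Matrix.SpecialLinearGroup (Fin 2) F → ℂ) 1 = 1) ⟨triv, triv_irr⟩ rfl ?_
      intro χ hdeg
      obtain ⟨n, hn, hcases⟩ := classify_deg hodd hN χ.2
      have hn' : n = 1 := by exact_mod_cast (hn.symm.trans hdeg)
      rcases hcases with ⟨h, -⟩ | ⟨-, h⟩ | ⟨-, h⟩ | ⟨-, h⟩ | ⟨-, h⟩ | ⟨-, h⟩
      · exact Subtype.ext h
      · omega
      · omega
      · omega
      · omega
      · omega
    · refine card_one_of (fun χ : IrrCharacter (Matrix.SpecialLinearGroup (Fin 2) F) =>
        (χ : Matrix.SpecialLinearGroup (Fin 2) F → ℂ) 1 = (Fintype.card F : ℂ)) ⟨St, St_irr hodd⟩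
        (St_one hodd) ?_
      intro χ hdeg
      obtain ⟨n, hn, hcases⟩ := classify_deg hodd hN χ.2
      have hn' : n = Fintype.card F := by exact_mod_cast (hn.symm.trans hdeg)
      rcases hcases with ⟨-, h⟩ | ⟨h, -⟩ | ⟨-, h⟩ | ⟨-, h⟩ | ⟨-, h⟩ | ⟨-, h⟩
      · omega
      · exact Subtype.ext h
      · omega
      · omega
      · omega
      · omega
    · refine Eq.trans ?_ (card_typeR (F := F) hodd)
      apply Nat.card_congr
      apply Equiv.subtypeEquivRight
      intro χ
      constructor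
      · intro hdeg
        obtain ⟨n, hn, hcases⟩ := classify_deg hodd hN χ.2
        have hn' : n = Fintype.card F + 1 := by exact_mod_cast (hn.symm.trans hdeg)
        rcases hcases with ⟨-, h⟩ | ⟨-, h⟩ | ⟨h, -⟩ | ⟨-, h⟩ | ⟨-, h⟩ | ⟨-, h⟩
        · omega
        · omega
        · exact h
        · omega
        · omega
        · omega
      · rintro ⟨β, hβ, h⟩
        rw [h, R_one_val hodd]
    · refine Eq.trans ?_ (card_typeX hodd hN)
      apply Nat.card_congr
      apply Equiv.subtypeEquivRight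
      intro χ
      constructor
      · intro hdeg
        obtain ⟨n, hn, hcases⟩ := classify_deg hodd hN χ.2
        have hn' : n + 1 = Fintype.card F := by
          have e : ((n + 1 : ℕ) : ℂ) = (Fintype.card F : ℂ) := by
            push_cast
            rw [← hn, hdeg]
            ring
          exact_mod_cast e
        rcases hcases with ⟨-, h⟩ | ⟨-, h⟩ | ⟨-, h⟩ | ⟨-, h⟩ | ⟨h, -⟩ | ⟨-, h⟩
        · omega
        · omega
        · omega
        · omega
        · exact h
        · omega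
      · rintro ⟨θ, hθ, h⟩
        rw [h, Xc_one]
    · refine Eq.trans ?_ (card_typeP (F := F) hodd)
      apply Nat.card_congr
      apply Equiv.subtypeEquivRight
      intro χ
      constructor
      · intro hdeg
        obtain ⟨n, hn, hcases⟩ := classify_deg hodd hN χ.2
        have hn' : n = (Fintype.card F + 1) / 2 := by exact_mod_cast (hn.symm.trans hdeg)
        rcases hcases with ⟨-, h⟩ | ⟨-, h⟩ | ⟨-, h⟩ | ⟨h, -⟩ | ⟨-, h⟩ | ⟨-, h⟩
        · omega
        · omega
        · omega
        · exact h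
        · omega
        · omega
      · intro h
        rw [(typeP hodd hN χ.2 h).2.2.2, half_add_cast hodd]
    · refine Eq.trans ?_ (card_typeM hodd hN)
      apply Nat.card_congr
      apply Equiv.subtypeEquivRight
      intro χ
      constructor
      · intro hdeg
        obtain ⟨n, hn, hcases⟩ := classify_deg hodd hN χ.2
        have hn' : n = (Fintype.card F - 1) / 2 := by exact_mod_cast (hn.symm.trans hdeg)
        rcases hcases with ⟨-, h⟩ | ⟨-, h⟩ | ⟨-, h⟩ | ⟨-, h⟩ | ⟨-, h⟩ | ⟨⟨hcusp, hb, -, hd⟩, -⟩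
        · omega
        · omega
        · omega
        · omega
        · omega
        · rw [hb]
          exact one_ne_zero
      · intro h
        rw [(typeM_of_ne hodd hN χ.2 h).2.2.2, half_sub_cast hodd]

end Cfsg.Agent.S2299
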