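import Cfsg.Statements.S0169
import Mathlib
import Cfsg.Agent.Helper2.CenterDeg
import Cfsg.Agent.Helper7.Clifford
import Cfsg.Agent.Helper7.LinChar
import Cfsg.Agent.Helper7.Brauer
import Cfsg.Agent.S0854
import Cfsg.Agent.Helper25.CharComplete

set_option autoImplicit false
open Cfsg

namespace Cfsg.Agent.S0169

open Cfsg.Agent

/-- Itô's Theorem on character degrees: the degree of an irreducible complex representation of a finite group divides the index of any abelian normal subgroup. -/
theorem result {G : Type*} [Group G] [Finite G] {V : Type*} [AddCommGroup V] [Module ℂ V] [FiniteDimensional ℂ V] (ρ : Representation ℂ G V) [ρ.IsIrreducible] (H : Subgroup G) [H.Normal] (hH : ∀ a ∈ H, ∀ b ∈ H, a * b = b * a) : Module.finrank ℂ V ∣ H.index := by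
  classical
  haveI := Fintype.ofFinite G
  have hχ : IsIrrCharacter G ρ.character := Helper25.isIrrCharacter_of_irreducible ρ inferInstance
  have hχ1 : ρ.character 1 = (Module.finrank ℂ V : ℂ) := Representation.char_one ρ
  have hres : IsCharacter H (fun n : H => ρ.character n) :=
    Helper2.isCharacter_restrict H (Helper2.isCharacter_of_isIrrCharacter hχ)
  obtain ⟨ϑ, hϑc⟩ : ∃ ϑ : IrrCharacter H,
      classInner (fun n : H => ρ.character n) (ϑ : H → ℂ) ≠ 0 := by
    by_contra hcon
    push Not at hcon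
    have h := Helper2.classFun_eq_sum_classInner (Helper2.isClassFunction_of_isCharacter hres)
    have h0 : (fun n : H => ρ.character n) = 0 := by
      rw [h]
      apply Finset.sum_eq_zero
      intro φ _
      rw [hcon φ, zero_smul]
    have h1 := congrFun h0 1
    simp only [OneMemClass.coe_one, Pi.zero_apply] at h1
    exact Helper25.irr_one_ne_zero ⟨ρ.character, hχ⟩ h1
  obtain ⟨ϑ, hϑ⟩ := ϑ
  have hϑ1 : ϑ 1 = 1 := by
    obtain ⟨j, τ, hτ, rfl⟩ := hϑ
    haveI := hτ
    have hd := Helper2.finrank_dvd_index_of_central τ ⊤ (by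
      intro g _ h
      have : g * h = h * g := by
        apply Subtype.ext
        exact hH g g.2 h h.2
      rw [this])
    rw [Subgroup.index_top, Nat.dvd_one, Module.finrank_fin_fun] at hd
    subst hd
    rw [Helper25.rep_char_one]
    simp
  obtain ⟨lam, hlam⟩ :=
    Helper7.exists_hom_of_linear ϑ (Helper2.isCharacter_of_isIrrCharacter hϑ) hϑ1
  have hHT : H ≤ Helper7.inertia H ϑ := by
    intro h hh
    rw [Helper7.mem_inertia]
    intro n
    apply congrArg ϑ
    apply Subtype.ext
    show h * (n : G) * h⁻¹ = n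
    rw [hH h hh n n.2, mul_inv_cancel_right]
  obtain ⟨ψ, hψ, hind, hψc⟩ := S0854.result H ϑ hϑ (Helper7.inertia H ϑ)
    (fun g => Helper7.mem_inertia H ϑ g) hHT ρ.character hχ hϑc
  obtain ⟨k, σ, hσ, rfl⟩ := hψ
  haveI := hσ
  have hdeg : (Module.finrank ℂ V : ℂ) = ((Helper7.inertia H ϑ).index : ℂ) * (k : ℂ) := by
    rw [← hχ1, ← hind, Helper2.indFun_one_apply, Helper25.rep_char_one]
  have hdeg' : Module.finrank ℂ V = (Helper7.inertia H ϑ).index * k := by exact_mod_cast hdeg
  let e := Subgroup.subgroupOfEquivOfLe hHT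
  have hϑ' : IsIrrCharacter (H.subgroupOf (Helper7.inertia H ϑ)) (fun x => ϑ (e x)) :=
    Helper2.isIrrCharacter_comp_of_surjective e.toMonoidHom e.surjective hϑ
  haveI hNn : (H.subgroupOf (Helper7.inertia H ϑ)).Normal := inferInstance
  have hinv : ∀ (g : Helper7.inertia H ϑ) (n : H.subgroupOf (Helper7.inertia H ϑ)),
      (fun x => ϑ (e x)) ⟨g * n * g⁻¹, hNn.conj_mem (n : Helper7.inertia H ϑ) n.2 g⟩
        = (fun x => ϑ (e x)) n := by
    intro g n
    have h1 := (Helper7.mem_inertia H ϑ g).mp g.2 (e n)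
    refine Eq.trans ?_ h1
    apply congrArg ϑ
    apply Subtype.ext
    rfl
  have hcon' : classInner (fun n : H.subgroupOf (Helper7.inertia H ϑ) => σ.character n)
      (fun x => ϑ (e x)) ≠ 0 := by
    have h1 := S0854.classInner_equiv e.toEquiv
      (fun n : H => σ.character ⟨(n : G), hHT n.2⟩) ϑ
    rw [hψc] at h1
    intro h0
    apply hϑc
    rw [← h1]
    exact h0
  obtain ⟨m, hm0, hm, -⟩ := Helper7.clifford_invariant (H.subgroupOf (Helper7.inertia H ϑ))
    (fun x => ϑ (e x)) hϑ' hinv σ.character ⟨k, σ, hσ, rfl⟩ hcon'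
  have hmk : (m : ℂ) = k := by
    have h1 := congrFun hm 1
    simp only [Pi.smul_apply, smul_eq_mul] at h1
    have h2 : ϑ (e 1) = 1 := by rw [map_one]; exact hϑ1
    rw [h2, mul_one] at h1
    rw [← h1]
    simp
  have hscal := Helper7.rep_scalar_of_char (H.subgroupOf (Helper7.inertia H ϑ)) σ
    (lam.comp e.toMonoidHom) (by
      intro n
      have h1 := congrFun hm n
      simp only [Pi.smul_apply, smul_eq_mul] at h1
      rw [h1, hmk]
      show (k : ℂ) * ϑ (e n) = (k : ℂ) * ((lam (e n) : ℂˣ) : ℂ)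
      exact congrArg (fun z => (k : ℂ) * z) (congrFun hlam (e n)))
  have hd := Helper2.finrank_dvd_index_of_central σ (H.subgroupOf (Helper7.inertia H ϑ)) (by
    intro g hg h
    rw [map_mul, map_mul, hscal ⟨g, hg⟩]
    simp)
  rw [Module.finrank_fin_fun] at hd
  rw [hdeg', ← Subgroup.relIndex_mul_index hHT, Nat.mul_comm (Helper7.inertia H ϑ).index k]
  exact Nat.mul_dvd_mul hd (dvd_refl _)

end Cfsg.Agent.S0169
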