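import Mathlib
import Cfsg.Statements.S0764

set_option autoImplicit false
open Cfsg

namespace Cfsg.Agent.S0764

open Matrix

theorem J_mulVec {F : Type*} [CommRing F] (m : ℕ) (v : Fin m ⊕ Fin m → F) :
    Matrix.J (Fin m) F *ᵥ v = Sum.elim (fun i => - v (Sum.inr i)) (fun i => v (Sum.inl i)) := by
  rw [Matrix.J, Matrix.fromBlocks_mulVec]
  ext (i | i) <;> simp [Matrix.neg_mulVec]

theorem dot_J_self {F : Type*} [CommRing F] (m : ℕ) (v : Fin m ⊕ Fin m → F) :
    v ⬝ᵥ (Matrix.J (Fin m) F *ᵥ v) = 0 := by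
  rw [J_mulVec, dotProduct, Fintype.sum_sum_type]
  simp only [Sum.elim_inl, Sum.elim_inr, mul_neg, Finset.sum_neg_distrib]
  rw [neg_add_eq_zero]
  exact Finset.sum_congr rfl fun i _ => mul_comm _ _

theorem J_vecMul_J {F : Type*} [CommRing F] (m : ℕ) (v : Fin m ⊕ Fin m → F) :
    (Matrix.J (Fin m) F *ᵥ v) ᵥ* Matrix.J (Fin m) F = v := by
  rw [← Matrix.vecMul_transpose, Matrix.vecMul_vecMul, Matrix.J_transpose, Matrix.neg_mul,
    Matrix.J_squared, neg_neg, Matrix.vecMul_one]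

theorem J_mulVec_J {F : Type*} [CommRing F] (m : ℕ) (v : Fin m ⊕ Fin m → F) :
    Matrix.J (Fin m) F *ᵥ (Matrix.J (Fin m) F *ᵥ v) = -v := by
  rw [Matrix.mulVec_mulVec, Matrix.J_squared, Matrix.neg_mulVec, Matrix.one_mulVec]

/-- Symplectic transvections are isometries: for every vector v and scalar c the matrix of x ↦ x + c f(x, v) v lies in the symplectic group. -/
theorem result {F : Type*} [Field F] (m : ℕ) (v : Fin m ⊕ Fin m → F) (c : F) : Cfsg.sympTransvection m v c ∈ Matrix.symplecticGroup (Fin m) F := by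
  rw [SymplecticGroup.mem_iff, Cfsg.sympTransvection]
  rw [Matrix.transpose_add, Matrix.transpose_one, Matrix.transpose_smul, Matrix.transpose_vecMulVec]
  have h1 : vecMulVec v (Matrix.J (Fin m) F *ᵥ v) * Matrix.J (Fin m) F = vecMulVec v v := by
    rw [Matrix.vecMulVec_mul, J_vecMul_J]
  have h2 : Matrix.J (Fin m) F * vecMulVec (Matrix.J (Fin m) F *ᵥ v) v = - vecMulVec v v := by
    rw [Matrix.mul_vecMulVec, J_mulVec_J, Matrix.neg_vecMulVec]
  have h3 : vecMulVec v v * vecMulVec (Matrix.J (Fin m) F *ᵥ v) v = 0 := by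
    rw [Matrix.vecMulVec_mul_vecMulVec, dot_J_self, zero_smul, Matrix.vecMulVec_zero]
  rw [Matrix.add_mul, Matrix.one_mul, Matrix.smul_mul, h1, Matrix.mul_add, Matrix.mul_one,
    Matrix.mul_smul, Matrix.add_mul, h2, Matrix.smul_mul, h3]
  simp

end Cfsg.Agent.S0764
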