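import Mathlib
import Cfsg.Statements.S0768
import Cfsg.Agent.Helper6.Symp

set_option autoImplicit false
open scoped LinearAlgebra.Projectivization
open Cfsg

namespace Cfsg.Agent.S0768

open Cfsg.Agent.Helper6
open scoped Matrix Pointwise

variable {F : Type*} [Field F] {m : ℕ}

/-- A symplectic matrix as an element of `spGL`. -/
def toG (A : Matrix.symplecticGroup (Fin m) F) : ↥(Cfsg.spGL m F) :=
  ⟨⟨(A : Matrix (Fin m ⊕ Fin m) (Fin m ⊕ Fin m) F),
    ((A⁻¹ : Matrix.symplecticGroup (Fin m) F) : Matrix (Fin m ⊕ Fin m) (Fin m ⊕ Fin m) F),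
    by rw [← sp_coe_mul, mul_inv_cancel, sp_coe_one],
    by rw [← sp_coe_mul, inv_mul_cancel, sp_coe_one]⟩,
   fun u v => sp_preserves A u v⟩

theorem toG_smul_mk (A : Matrix.symplecticGroup (Fin m) F) (v : Fin m ⊕ Fin m → F) (hv : v ≠ 0)
    (w : Fin m ⊕ Fin m → F) (hw : w ≠ 0) (a : F)
    (h : (A : Matrix (Fin m ⊕ Fin m) (Fin m ⊕ Fin m) F) *ᵥ v = a • w) :
    toG A • Projectivization.mk F v hv = Projectivization.mk F w hw := by
  rw [Subgroup.smul_def, Projectivization.smul_mk, Projectivization.mk_eq_mk_iff']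
  exact ⟨a, h.symm⟩

theorem sf_zero_right (u : Fin m ⊕ Fin m → F) : Cfsg.sympForm m F u 0 = 0 := by
  simp [Cfsg.sympForm]

theorem sf_smul_left' (a : F) (u v : Fin m ⊕ Fin m → F) :
    Cfsg.sympForm m F (a • u) v = a * Cfsg.sympForm m F u v := by
  rw [sf_swap, sf_smul_right, sf_swap v u]; ring

theorem sf_sub_left' (u u' v : Fin m ⊕ Fin m → F) :
    Cfsg.sympForm m F (u - u') v = Cfsg.sympForm m F u v - Cfsg.sympForm m F u' v := by
  rw [sf_swap, sf_sub_right, sf_swap v u, sf_swap v u']; ring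

theorem nondeg (u : Fin m ⊕ Fin m → F) (hu : u ≠ 0) : ∃ x, Cfsg.sympForm m F u x ≠ 0 := by
  obtain ⟨x, -, hx⟩ := sUk_nondeg m u (by intro i hi; exact absurd i.2 (by omega)) hu
  exact ⟨x, hx⟩

theorem top_nondeg : ∀ u ∈ (⊤ : Submodule F (Fin m ⊕ Fin m → F)), u ≠ 0 →
    ∃ x ∈ (⊤ : Submodule F (Fin m ⊕ Fin m → F)), Cfsg.sympForm m F u x ≠ 0 := by
  intro u _ hu
  obtain ⟨x, hx⟩ := nondeg u hu
  exact ⟨x, trivial, hx⟩

theorem stepA1 (B : Set (ℙ F (Fin m ⊕ Fin m → F)))
    (hB : MulAction.IsBlock ↥(Cfsg.spGL m F) B)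
    (x r s : Fin m ⊕ Fin m → F) (hx : x ≠ 0) (hr : r ≠ 0) (hs : s ≠ 0)
    (hxB : Projectivization.mk F x hx ∈ B) (hrB : Projectivization.mk F r hr ∈ B)
    (hxr : Cfsg.sympForm m F x r ≠ 0) (hxs : Cfsg.sympForm m F x s ≠ 0) :
    Projectivization.mk F s hs ∈ B := by
  obtain ⟨A, -, hAx, hAr⟩ := slemma2 (⊤ : Submodule F (Fin m ⊕ Fin m → F)) x
    ((Cfsg.sympForm m F x r)⁻¹ • r) ((Cfsg.sympForm m F x s)⁻¹ • s) trivial trivial trivial
    (by rw [sf_smul_right, inv_mul_cancel₀ hxr]) (by rw [sf_smul_right, inv_mul_cancel₀ hxs])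
  have h1 : toG A • Projectivization.mk F x hx = Projectivization.mk F x hx :=
    toG_smul_mk A x hx x hx 1 (by rw [hAx, one_smul])
  have h2 : toG A • B = B := hB.smul_eq_of_mem hxB (by rw [h1]; exact hxB)
  have h3 : toG A • Projectivization.mk F r hr = Projectivization.mk F s hs := by
    refine toG_smul_mk A r hr s hs (Cfsg.sympForm m F x r * (Cfsg.sympForm m F x s)⁻¹) ?_
    rw [Matrix.mulVec_smul] at hAr
    have h4 := congrArg (fun v => Cfsg.sympForm m F x r • v) hAr
    simp only [smul_smul, mul_inv_cancel₀ hxr, one_smul] at h4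
    exact h4
  rw [← h2, ← h3]
  exact Set.smul_mem_smul_set hrB

theorem stepA (B : Set (ℙ F (Fin m ⊕ Fin m → F)))
    (hB : MulAction.IsBlock ↥(Cfsg.spGL m F) B)
    (x r : Fin m ⊕ Fin m → F) (hx : x ≠ 0) (hr : r ≠ 0)
    (hxB : Projectivization.mk F x hx ∈ B) (hrB : Projectivization.mk F r hr ∈ B)
    (hxr : Cfsg.sympForm m F x r ≠ 0) : B = Set.univ := by
  rw [Set.eq_univ_iff_forall]
  intro S
  induction S using Projectivization.ind with
  | h s hs =>
    by_cases h : Cfsg.sympForm m F x s = 0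
    · obtain ⟨z, hz⟩ := nondeg x hx
      obtain ⟨w, hw⟩ := nondeg s hs
      have hex : ∃ t, Cfsg.sympForm m F x t ≠ 0 ∧ Cfsg.sympForm m F s t ≠ 0 := by
        by_cases h1 : Cfsg.sympForm m F s z = 0
        · by_cases h2 : Cfsg.sympForm m F x w = 0
          · refine ⟨z + w, ?_, ?_⟩
            · rw [sf_add_right, h2, add_zero]; exact hz
            · rw [sf_add_right, h1, zero_add]; exact hw
          · exact ⟨w, h2, hw⟩
        · exact ⟨z, hz, h1⟩
      obtain ⟨t, hxt, hst⟩ := hex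
      have ht : t ≠ 0 := by
        rintro rfl
        exact hxt (sf_zero_right x)
      have htB : Projectivization.mk F t ht ∈ B := stepA1 B hB x r t hx hr ht hxB hrB hxr hxt
      refine stepA1 B hB t x s ht hx hs htB hxB ?_ ?_
      · rw [sf_swap]; exact neg_ne_zero.2 hxt
      · rw [sf_swap]; exact neg_ne_zero.2 hst
    · exact stepA1 B hB x r s hx hr hs hxB hrB hxr h

theorem exists_sep (x y : Fin m ⊕ Fin m → F) (hx : x ≠ 0) (hy : y ≠ 0)
    (hne : Projectivization.mk F x hx ≠ Projectivization.mk F y hy) :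
    ∃ u, Cfsg.sympForm m F x u = 0 ∧ Cfsg.sympForm m F y u ≠ 0 := by
  by_contra hcon
  push Not at hcon
  obtain ⟨z, hz⟩ := nondeg x hx
  apply hne
  rw [Projectivization.mk_eq_mk_iff']
  have hyx : y = (Cfsg.sympForm m F y z / Cfsg.sympForm m F x z) • x := by
    by_contra hyx
    have hd : y - (Cfsg.sympForm m F y z / Cfsg.sympForm m F x z) • x ≠ 0 := by
      intro h0; exact hyx (sub_eq_zero.1 h0)
    obtain ⟨v, hv⟩ := nondeg _ hd
    apply hv
    have h1 := hcon (v - (Cfsg.sympForm m F x v / Cfsg.sympForm m F x z) • z) (by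
      rw [sf_sub_right, sf_smul_right]; field_simp; ring)
    rw [sf_sub_right, sf_smul_right] at h1
    rw [sf_sub_left', sf_smul_left']
    field_simp
    field_simp at h1
    linear_combination h1
  have hc : Cfsg.sympForm m F y z / Cfsg.sympForm m F x z ≠ 0 := by
    intro h0
    rw [h0, zero_smul] at hyx
    exact hy hyx
  obtain ⟨c, hcd⟩ : ∃ c, c = Cfsg.sympForm m F y z / Cfsg.sympForm m F x z := ⟨_, rfl⟩
  rw [← hcd] at hyx hc
  refine ⟨c⁻¹, ?_⟩
  rw [hyx, smul_smul, inv_mul_cancel₀ hc, one_smul]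

theorem stepB (B : Set (ℙ F (Fin m ⊕ Fin m → F)))
    (hB : MulAction.IsBlock ↥(Cfsg.spGL m F) B)
    (x y : Fin m ⊕ Fin m → F) (hx : x ≠ 0) (hy : y ≠ 0)
    (hxB : Projectivization.mk F x hx ∈ B) (hyB : Projectivization.mk F y hy ∈ B)
    (hne : Projectivization.mk F x hx ≠ Projectivization.mk F y hy) : B = Set.univ := by
  by_cases hxy : Cfsg.sympForm m F x y = 0
  · obtain ⟨u, hxu, hyu⟩ := exists_sep x y hx hy hne
    obtain ⟨A, hA⟩ : ∃ A : Matrix.symplecticGroup (Fin m) F,
        (A : Matrix (Fin m ⊕ Fin m) (Fin m ⊕ Fin m) F) = Cfsg.sympTransvection m u 1 :=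
      ⟨⟨Cfsg.sympTransvection m u 1, Cfsg.Agent.S0764.result m u 1⟩, rfl⟩
    have hAx : (A : Matrix (Fin m ⊕ Fin m) (Fin m ⊕ Fin m) F) *ᵥ x = x := by
      rw [hA, tv_mulVec, hxu, mul_zero, zero_smul, add_zero]
    have hAy : (A : Matrix (Fin m ⊕ Fin m) (Fin m ⊕ Fin m) F) *ᵥ y
        = y + Cfsg.sympForm m F y u • u := by
      rw [hA, tv_mulVec, one_mul]
    have hf : Cfsg.sympForm m F y (y + Cfsg.sympForm m F y u • u) ≠ 0 := by
      rw [sf_add_right, sf_self, sf_smul_right, zero_add]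
      exact mul_ne_zero hyu hyu
    have hAy0 : y + Cfsg.sympForm m F y u • u ≠ 0 := by
      intro h0
      rw [h0] at hf
      exact hf (sf_zero_right y)
    have h1 : toG A • Projectivization.mk F x hx = Projectivization.mk F x hx :=
      toG_smul_mk A x hx x hx 1 (by rw [hAx, one_smul])
    have h2 : toG A • B = B := hB.smul_eq_of_mem hxB (by rw [h1]; exact hxB)
    have h3 : toG A • Projectivization.mk F y hy
        = Projectivization.mk F (y + Cfsg.sympForm m F y u • u) hAy0 :=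
      toG_smul_mk A y hy _ hAy0 1 (by rw [hAy, one_smul])
    have h4 : Projectivization.mk F (y + Cfsg.sympForm m F y u • u) hAy0 ∈ B := by
      rw [← h2, ← h3]
      exact Set.smul_mem_smul_set hyB
    exact stepA B hB y _ hy hAy0 hyB h4 hf
  · exact stepA B hB x y hx hy hxB hyB hxy

/-- Primitivity: for m ≥ 1 and F finite, the symplectic group of the form sympForm (as a subgroup of the general linear group) acts primitively on the projective space of F^(2m). -/
theorem result {F : Type*} [Field F] [Finite F] (m : ℕ) (hm : 1 ≤ m) : MulAction.IsPreprimitive ↥(Cfsg.spGL m F) (ℙ F (Fin m ⊕ Fin m → F)) := by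
  haveI : MulAction.IsPretransitive ↥(Cfsg.spGL m F) (ℙ F (Fin m ⊕ Fin m → F)) := by
    constructor
    intro P Q
    induction P using Projectivization.ind with
    | h x hx =>
      induction Q using Projectivization.ind with
      | h y hy =>
        obtain ⟨A, -, hA, -⟩ := slemma1 (⊤ : Submodule F (Fin m ⊕ Fin m → F)) top_nondeg x y
          trivial trivial hx hy
        exact ⟨toG A, toG_smul_mk A x hx y hy 1 (by rw [hA, one_smul])⟩
  refine ⟨fun {B} hB => ?_⟩
  by_cases hs : B.Subsingleton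
  · exact Or.inl hs
  · right
    rw [Set.not_subsingleton_iff] at hs
    obtain ⟨P, hP, Q, hQ, hne⟩ := hs
    induction P using Projectivization.ind with
    | h x hx =>
      induction Q using Projectivization.ind with
      | h y hy => exact stepB B hB x y hx hy hP hQ hne

end Cfsg.Agent.S0768
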