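import Mathlib
import Cfsg.Statements.S0771

set_option autoImplicit false
open Cfsg

namespace Cfsg.Agent.S0771

open Matrix

/-- the splitting equivalence -/
def splitEquiv (n k : ℕ) (hk : k ≤ n) : Fin k ⊕ Fin (n - k) ≃ Fin n :=
  finSumFinEquiv.trans (finCongr (by omega))

lemma splitEquiv_inl (n k : ℕ) (hk : k ≤ n) (a : Fin k) :
    ((splitEquiv n k hk (Sum.inl a) : Fin n) : ℕ) = a := by
  simp [splitEquiv]

lemma splitEquiv_inr (n k : ℕ) (hk : k ≤ n) (b : Fin (n - k)) :
    ((splitEquiv n k hk (Sum.inr b) : Fin n) : ℕ) = k + b := by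
  simp [splitEquiv]

lemma mem_stab {F : Type*} [Field F] [Fintype F] (n k : ℕ) (g : GL (Fin n) F) :
    g ∈ Cfsg.stabilizing (Cfsg.glToMat (Fin n) F)
        {v : Fin n → F | ∀ i : Fin n, k ≤ (i : ℕ) → v i = 0} ↔
      ∀ i j : Fin n, k ≤ (i : ℕ) → (j : ℕ) < k → (g : Matrix (Fin n) (Fin n) F) i j = 0 := by
  classical
  constructor
  · intro hg i j hi hj
    have h1 : (Pi.single j (1 : F) : Fin n → F) ∈
        {v : Fin n → F | ∀ i : Fin n, k ≤ (i : ℕ) → v i = 0} := by
      intro i' hi'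
      have : i' ≠ j := by
        intro h; rw [h] at hi'; omega
      simp [this]
    have h2 := (hg _).1 h1 i hi
    have h3 : (Cfsg.glToMat (Fin n) F) g = (g : Matrix (Fin n) (Fin n) F) := rfl
    rw [h3, Matrix.mulVec_single_one] at h2
    exact h2
  · intro hg
    have hfwd : ∀ v : Fin n → F, v ∈ {v : Fin n → F | ∀ i : Fin n, k ≤ (i : ℕ) → v i = 0} →
        (g : Matrix (Fin n) (Fin n) F) *ᵥ v ∈
          {v : Fin n → F | ∀ i : Fin n, k ≤ (i : ℕ) → v i = 0} := by
      intro v hv i hi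
      simp only [Matrix.mulVec, dotProduct]
      apply Finset.sum_eq_zero
      intro j _
      by_cases hj : (j : ℕ) < k
      · rw [hg i j hi hj, zero_mul]
      · rw [hv j (by omega), mul_zero]
    have hinj : Function.Injective (fun v : Fin n → F => (g : Matrix (Fin n) (Fin n) F) *ᵥ v) := by
      intro v w hvw
      have h := congrArg (fun x => ((g⁻¹ : GL (Fin n) F) : Matrix (Fin n) (Fin n) F) *ᵥ x) hvw
      simp only [Matrix.mulVec_mulVec] at h
      have h1 : ((g⁻¹ : GL (Fin n) F) : Matrix (Fin n) (Fin n) F) * (g : Matrix (Fin n) (Fin n) F) = 1 := by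
        rw [← Units.val_mul, inv_mul_cancel, Units.val_one]
      rw [h1, Matrix.one_mulVec, Matrix.one_mulVec] at h
      exact h
    let φ : {v : Fin n → F // v ∈ {v : Fin n → F | ∀ i : Fin n, k ≤ (i : ℕ) → v i = 0}} →
        {v : Fin n → F // v ∈ {v : Fin n → F | ∀ i : Fin n, k ≤ (i : ℕ) → v i = 0}} :=
      fun v => ⟨(g : Matrix (Fin n) (Fin n) F) *ᵥ v.1, hfwd v.1 v.2⟩
    have hφinj : Function.Injective φ := by
      intro v w hvw
      apply Subtype.ext
      exact hinj (congrArg Subtype.val hvw)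
    have hφsurj : Function.Surjective φ := Finite.injective_iff_surjective.1 hφinj
    intro v
    constructor
    · intro hv
      exact hfwd v hv
    · intro hv
      obtain ⟨w, hw⟩ := hφsurj ⟨_, hv⟩
      have h1 : (g : Matrix (Fin n) (Fin n) F) *ᵥ w.1 = (g : Matrix (Fin n) (Fin n) F) *ᵥ v :=
        congrArg Subtype.val hw
      have h2 : w.1 = v := hinj h1
      rw [← h2]
      exact w.2

theorem result {F : Type*} [Field F] [Fintype F] {q : ℕ} (hF : Fintype.card F = q) (n k : ℕ) (hk : k ≤ n) : Nat.card ↥(Cfsg.stabilizing (Cfsg.glToMat (Fin n) F) {v : Fin n → F | ∀ i : Fin n, k ≤ (i : ℕ) → v i = 0}) = q ^ (k * (n - k)) * (∏ i : Fin k, (q ^ k - q ^ (i : ℕ))) * ∏ i : Fin (n - k), (q ^ (n - k) - q ^ (i : ℕ)) := by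
  classical
  subst hF
  obtain ⟨e, he⟩ : ∃ e, e = splitEquiv n k hk := ⟨_, rfl⟩
  have hel : ∀ a : Fin k, ((e (Sum.inl a) : Fin n) : ℕ) = a := by
    intro a; rw [he]; exact splitEquiv_inl n k hk a
  have her : ∀ b : Fin (n - k), ((e (Sum.inr b) : Fin n) : ℕ) = k + b := by
    intro b; rw [he]; exact splitEquiv_inr n k hk b
  have hdet : ∀ x : (GL (Fin k) F × GL (Fin (n - k)) F) × Matrix (Fin k) (Fin (n - k)) F,
      ((Matrix.fromBlocks (x.1.1 : Matrix (Fin k) (Fin k) F) x.2 0
        (x.1.2 : Matrix (Fin (n - k)) (Fin (n - k)) F)).submatrix e.symm e.symm).det ≠ 0 := by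
    intro x
    rw [Matrix.det_submatrix_equiv_self, Matrix.det_fromBlocks_zero₂₁]
    exact mul_ne_zero (Matrix.isUnits_det_units x.1.1).ne_zero
      (Matrix.isUnits_det_units x.1.2).ne_zero
  have hmemΦ : ∀ x : (GL (Fin k) F × GL (Fin (n - k)) F) × Matrix (Fin k) (Fin (n - k)) F,
      Matrix.GeneralLinearGroup.mkOfDetNeZero _ (hdet x) ∈
        Cfsg.stabilizing (Cfsg.glToMat (Fin n) F)
          {v : Fin n → F | ∀ i : Fin n, k ≤ (i : ℕ) → v i = 0} := by
    intro x
    rw [mem_stab]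
    intro i j hi hj
    have hval : ((Matrix.GeneralLinearGroup.mkOfDetNeZero _ (hdet x) : GL (Fin n) F) :
        Matrix (Fin n) (Fin n) F) = (Matrix.fromBlocks (x.1.1 : Matrix (Fin k) (Fin k) F) x.2 0
        (x.1.2 : Matrix (Fin (n - k)) (Fin (n - k)) F)).submatrix e.symm e.symm := rfl
    rw [hval, Matrix.submatrix_apply]
    obtain ⟨i', hi'⟩ : ∃ i', e.symm i = i' := ⟨_, rfl⟩
    obtain ⟨j', hj'⟩ : ∃ j', e.symm j = j' := ⟨_, rfl⟩
    have hi2 : i = e i' := by rw [← hi', Equiv.apply_symm_apply]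
    have hj2 : j = e j' := by rw [← hj', Equiv.apply_symm_apply]
    rw [hi', hj']
    rcases i' with a | b
    · exfalso
      have := hel a
      rw [← hi2] at this
      have ha := a.2
      omega
    · rcases j' with a' | b'
      · rfl
      · exfalso
        have := her b'
        rw [← hj2] at this
        omega
  let Φ : (GL (Fin k) F × GL (Fin (n - k)) F) × Matrix (Fin k) (Fin (n - k)) F →
      ↥(Cfsg.stabilizing (Cfsg.glToMat (Fin n) F)
          {v : Fin n → F | ∀ i : Fin n, k ≤ (i : ℕ) → v i = 0}) :=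
    fun x => ⟨Matrix.GeneralLinearGroup.mkOfDetNeZero _ (hdet x), hmemΦ x⟩
  have hΦval : ∀ x, (((Φ x : GL (Fin n) F)) : Matrix (Fin n) (Fin n) F) =
      (Matrix.fromBlocks (x.1.1 : Matrix (Fin k) (Fin k) F) x.2 0
        (x.1.2 : Matrix (Fin (n - k)) (Fin (n - k)) F)).submatrix e.symm e.symm := fun x => rfl
  have hbij : Function.Bijective Φ := by
    constructor
    · intro x y hxy
      have h1 : (((Φ x : GL (Fin n) F)) : Matrix (Fin n) (Fin n) F) =
          (((Φ y : GL (Fin n) F)) : Matrix (Fin n) (Fin n) F) := by rw [hxy]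
      rw [hΦval, hΦval] at h1
      have h2 : Matrix.fromBlocks (x.1.1 : Matrix (Fin k) (Fin k) F) x.2 0
          (x.1.2 : Matrix (Fin (n - k)) (Fin (n - k)) F) =
          Matrix.fromBlocks (y.1.1 : Matrix (Fin k) (Fin k) F) y.2 0
          (y.1.2 : Matrix (Fin (n - k)) (Fin (n - k)) F) := by
        ext i j
        have := congrFun (congrFun h1 (e i)) (e j)
        simpa [Matrix.submatrix_apply] using this
      rw [Matrix.fromBlocks_inj] at h2
      obtain ⟨h3, h4, -, h5⟩ := h2
      apply Prod.ext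
      · apply Prod.ext
        · exact Units.ext h3
        · exact Units.ext h5
      · exact h4
    · intro g
      obtain ⟨M, hM⟩ : ∃ M, M = ((g : GL (Fin n) F) : Matrix (Fin n) (Fin n) F).submatrix e e :=
        ⟨_, rfl⟩
      have hg := (mem_stab n k (g : GL (Fin n) F)).1 g.2
      have h21 : M.toBlocks₂₁ = 0 := by
        ext b a
        rw [hM]
        simp only [Matrix.toBlocks₂₁, Matrix.of_apply, Matrix.submatrix_apply, Matrix.zero_apply]
        apply hg
        · rw [her]; omega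
        · rw [hel]; exact a.2
      have hMeq : M = Matrix.fromBlocks M.toBlocks₁₁ M.toBlocks₁₂ 0 M.toBlocks₂₂ := by
        rw [← h21, Matrix.fromBlocks_toBlocks]
      have hdetM : M.det ≠ 0 := by
        rw [hM, Matrix.det_submatrix_equiv_self]
        exact (Matrix.isUnits_det_units (g : GL (Fin n) F)).ne_zero
      rw [hMeq, Matrix.det_fromBlocks_zero₂₁] at hdetM
      have hA : M.toBlocks₁₁.det ≠ 0 := left_ne_zero_of_mul hdetM
      have hD : M.toBlocks₂₂.det ≠ 0 := right_ne_zero_of_mul hdetM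
      refine ⟨((Matrix.GeneralLinearGroup.mkOfDetNeZero _ hA,
        Matrix.GeneralLinearGroup.mkOfDetNeZero _ hD), M.toBlocks₁₂), ?_⟩
      apply Subtype.ext
      apply Units.ext
      rw [hΦval]
      have hvA : ((Matrix.GeneralLinearGroup.mkOfDetNeZero _ hA : GL (Fin k) F) :
          Matrix (Fin k) (Fin k) F) = M.toBlocks₁₁ := rfl
      have hvD : ((Matrix.GeneralLinearGroup.mkOfDetNeZero _ hD : GL (Fin (n - k)) F) :
          Matrix (Fin (n - k)) (Fin (n - k)) F) = M.toBlocks₂₂ := rfl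
      simp only [hvA, hvD]
      rw [← hMeq, hM]
      ext i j
      simp [Matrix.submatrix_apply]
  rw [← Nat.card_congr (Equiv.ofBijective Φ hbij), Nat.card_prod, Nat.card_prod,
    Matrix.card_GL_field, Matrix.card_GL_field]
  have hmat : Nat.card (Matrix (Fin k) (Fin (n - k)) F) = Fintype.card F ^ (k * (n - k)) := by
    rw [Nat.card_eq_fintype_card]
    have h1 : Fintype.card (Matrix (Fin k) (Fin (n - k)) F) =
        Fintype.card (Fin k → Fin (n - k) → F) := rfl
    rw [h1, Fintype.card_fun, Fintype.card_fun, Fintype.card_fin, Fintype.card_fin, ← pow_mul,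
      mul_comm]
  rw [hmat]
  ring

end Cfsg.Agent.S0771
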