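import Mathlib
import Cfsg.Statements.S0776
import Cfsg.Agent.Helper6.Symp2
import Cfsg.Agent.S0771

set_option autoImplicit false
open Cfsg

namespace Cfsg.Agent.S0776

open Matrix Cfsg.Agent.Helper6

/-- reindexing equivalence -/
def eqv (m k : ℕ) (hk : k ≤ m) :
    (Fin k ⊕ Fin k) ⊕ (Fin (m - k) ⊕ Fin (m - k)) ≃ Fin m ⊕ Fin m :=
  (Equiv.sumSumSumComm (Fin k) (Fin k) (Fin (m - k)) (Fin (m - k))).trans
    (Equiv.sumCongr (Cfsg.Agent.S0771.splitEquiv m k hk) (Cfsg.Agent.S0771.splitEquiv m k hk))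

lemma eqv_ll (m k : ℕ) (hk : k ≤ m) (a : Fin k) :
    eqv m k hk (Sum.inl (Sum.inl a)) = Sum.inl (Cfsg.Agent.S0771.splitEquiv m k hk (Sum.inl a)) :=
  rfl

lemma eqv_lr (m k : ℕ) (hk : k ≤ m) (a : Fin k) :
    eqv m k hk (Sum.inl (Sum.inr a)) = Sum.inr (Cfsg.Agent.S0771.splitEquiv m k hk (Sum.inl a)) :=
  rfl

lemma eqv_rl (m k : ℕ) (hk : k ≤ m) (b : Fin (m - k)) :
    eqv m k hk (Sum.inr (Sum.inl b)) = Sum.inl (Cfsg.Agent.S0771.splitEquiv m k hk (Sum.inr b)) :=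
  rfl

lemma eqv_rr (m k : ℕ) (hk : k ≤ m) (b : Fin (m - k)) :
    eqv m k hk (Sum.inr (Sum.inr b)) = Sum.inr (Cfsg.Agent.S0771.splitEquiv m k hk (Sum.inr b)) :=
  rfl

lemma J_reindex {F : Type*} [Field F] (m k : ℕ) (hk : k ≤ m) :
    (Matrix.J (Fin m) F).submatrix (eqv m k hk) (eqv m k hk) =
      Matrix.fromBlocks (Matrix.J (Fin k) F) 0 0 (Matrix.J (Fin (m - k)) F) := by
  ext x y
  rcases x with (a | a) | (b | b) <;> rcases y with (a' | a') | (b' | b') <;>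
    simp [Matrix.J, eqv_ll, eqv_lr, eqv_rl, eqv_rr, Matrix.one_apply]

lemma sUk_iff {F : Type*} [Field F] (m k : ℕ) (hk : k ≤ m) (x : Fin m ⊕ Fin m → F) :
    x ∈ sUk F m k ↔ ∀ z : Fin (m - k) ⊕ Fin (m - k), x (eqv m k hk (Sum.inr z)) = 0 := by
  constructor
  · intro hx z
    rcases z with b | b
    · rw [eqv_rl]
      exact (hx _ (by rw [Cfsg.Agent.S0771.splitEquiv_inr]; omega)).1
    · rw [eqv_rr]
      exact (hx _ (by rw [Cfsg.Agent.S0771.splitEquiv_inr]; omega)).2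
  · intro hx i hi
    obtain ⟨y, hy⟩ := (Cfsg.Agent.S0771.splitEquiv m k hk).surjective i
    rcases y with a | b
    · exfalso
      have h1 := Cfsg.Agent.S0771.splitEquiv_inl m k hk a
      rw [hy] at h1
      have := a.2
      omega
    · constructor
      · have h1 := hx (Sum.inl b)
        rw [eqv_rl, hy] at h1
        exact h1
      · have h1 := hx (Sum.inr b)
        rw [eqv_rr, hy] at h1
        exact h1

/-- block-diagonal embedding -/
def emb {F : Type*} [Field F] (m k : ℕ) (hk : k ≤ m)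
    (A1 : Matrix (Fin k ⊕ Fin k) (Fin k ⊕ Fin k) F)
    (A2 : Matrix (Fin (m - k) ⊕ Fin (m - k)) (Fin (m - k) ⊕ Fin (m - k)) F) :
    Matrix (Fin m ⊕ Fin m) (Fin m ⊕ Fin m) F :=
  (Matrix.fromBlocks A1 0 0 A2).submatrix (eqv m k hk).symm (eqv m k hk).symm

lemma emb_mul {F : Type*} [Field F] (m k : ℕ) (hk : k ≤ m)
    (A1 B1 : Matrix (Fin k ⊕ Fin k) (Fin k ⊕ Fin k) F)
    (A2 B2 : Matrix (Fin (m - k) ⊕ Fin (m - k)) (Fin (m - k) ⊕ Fin (m - k)) F) :
    emb m k hk (A1 * B1) (A2 * B2) = emb m k hk A1 A2 * emb m k hk B1 B2 := by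
  unfold emb
  rw [Matrix.submatrix_mul_equiv, Matrix.fromBlocks_multiply]
  simp

lemma emb_one {F : Type*} [Field F] (m k : ℕ) (hk : k ≤ m) :
    emb (F := F) m k hk 1 1 = 1 := by
  unfold emb
  rw [Matrix.fromBlocks_one, Matrix.submatrix_one_equiv]

lemma emb_transpose {F : Type*} [Field F] (m k : ℕ) (hk : k ≤ m)
    (A1 : Matrix (Fin k ⊕ Fin k) (Fin k ⊕ Fin k) F)
    (A2 : Matrix (Fin (m - k) ⊕ Fin (m - k)) (Fin (m - k) ⊕ Fin (m - k)) F) :
    (emb m k hk A1 A2)ᵀ = emb m k hk A1ᵀ A2ᵀ := by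
  unfold emb
  rw [Matrix.transpose_submatrix, Matrix.fromBlocks_transpose]
  simp

lemma J_emb {F : Type*} [Field F] (m k : ℕ) (hk : k ≤ m) :
    Matrix.J (Fin m) F = emb m k hk (Matrix.J (Fin k) F) (Matrix.J (Fin (m - k)) F) := by
  unfold emb
  rw [← J_reindex m k hk]
  ext x y
  simp

lemma emb_symp {F : Type*} [Field F] (m k : ℕ) (hk : k ≤ m)
    (A1 : Matrix (Fin k ⊕ Fin k) (Fin k ⊕ Fin k) F)
    (A2 : Matrix (Fin (m - k) ⊕ Fin (m - k)) (Fin (m - k) ⊕ Fin (m - k)) F)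
    (hA1 : A1 ∈ Matrix.symplecticGroup (Fin k) F)
    (hA2 : A2 ∈ Matrix.symplecticGroup (Fin (m - k)) F) :
    emb m k hk A1 A2 ∈ Matrix.symplecticGroup (Fin m) F := by
  rw [SymplecticGroup.mem_iff] at *
  rw [J_emb m k hk, emb_transpose, ← emb_mul, ← emb_mul, hA1, hA2]

lemma emb_inj {F : Type*} [Field F] (m k : ℕ) (hk : k ≤ m)
    (A1 B1 : Matrix (Fin k ⊕ Fin k) (Fin k ⊕ Fin k) F)
    (A2 B2 : Matrix (Fin (m - k) ⊕ Fin (m - k)) (Fin (m - k) ⊕ Fin (m - k)) F)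
    (h : emb m k hk A1 A2 = emb m k hk B1 B2) : A1 = B1 ∧ A2 = B2 := by
  unfold emb at h
  have h2 : Matrix.fromBlocks A1 0 0 A2 = Matrix.fromBlocks B1 0 0 B2 := by
    ext x y
    have := congrFun (congrFun h (eqv m k hk x)) (eqv m k hk y)
    simpa using this
  rw [Matrix.fromBlocks_inj] at h2
  exact ⟨h2.1, h2.2.2.2⟩

lemma emb_mulVec_apply {F : Type*} [Field F] (m k : ℕ) (hk : k ≤ m)
    (A1 : Matrix (Fin k ⊕ Fin k) (Fin k ⊕ Fin k) F)
    (A2 : Matrix (Fin (m - k) ⊕ Fin (m - k)) (Fin (m - k) ⊕ Fin (m - k)) F)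
    (x : Fin m ⊕ Fin m → F) (z : Fin (m - k) ⊕ Fin (m - k)) :
    (emb m k hk A1 A2 *ᵥ x) (eqv m k hk (Sum.inr z)) =
      ∑ z', A2 z z' * x (eqv m k hk (Sum.inr z')) := by
  show ∑ y, emb m k hk A1 A2 (eqv m k hk (Sum.inr z)) y * x y = _
  rw [← Equiv.sum_comp (eqv m k hk), Fintype.sum_sum_type]
  simp [emb]

/-- the block-diagonal hom -/
def Psi {F : Type*} [Field F] (m k : ℕ) (hk : k ≤ m) :
    Matrix.symplecticGroup (Fin k) F × Matrix.symplecticGroup (Fin (m - k)) F →*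
      Matrix.symplecticGroup (Fin m) F where
  toFun x := ⟨emb m k hk x.1.1 x.2.1, emb_symp m k hk _ _ x.1.2 x.2.2⟩
  map_one' := Subtype.ext (emb_one m k hk)
  map_mul' x y := Subtype.ext (emb_mul m k hk _ _ _ _)

lemma Psi_val {F : Type*} [Field F] (m k : ℕ) (hk : k ≤ m)
    (x : Matrix.symplecticGroup (Fin k) F × Matrix.symplecticGroup (Fin (m - k)) F) :
    ((Psi m k hk x : Matrix.symplecticGroup (Fin m) F) :
      Matrix (Fin m ⊕ Fin m) (Fin m ⊕ Fin m) F) = emb m k hk x.1.1 x.2.1 := rfl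

lemma Psi_fwd {F : Type*} [Field F] (m k : ℕ) (hk : k ≤ m)
    (x : Matrix.symplecticGroup (Fin k) F × Matrix.symplecticGroup (Fin (m - k)) F)
    (v : Fin m ⊕ Fin m → F) (hv : v ∈ sUk F m k) :
    ((Psi m k hk x : Matrix.symplecticGroup (Fin m) F) :
      Matrix (Fin m ⊕ Fin m) (Fin m ⊕ Fin m) F) *ᵥ v ∈ sUk F m k := by
  rw [sUk_iff m k hk] at hv ⊢
  intro z
  rw [Psi_val, emb_mulVec_apply]
  apply Finset.sum_eq_zero
  intro z' _
  rw [hv z', mul_zero]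

lemma Psi_mem {F : Type*} [Field F] (m k : ℕ) (hk : k ≤ m)
    (x : Matrix.symplecticGroup (Fin k) F × Matrix.symplecticGroup (Fin (m - k)) F) :
    Psi m k hk x ∈ Cfsg.stabilizing (Cfsg.spToMat m F) (sUk F m k : Set (Fin m ⊕ Fin m → F)) := by
  intro v
  show v ∈ sUk F m k ↔ ((Psi m k hk x : Matrix.symplecticGroup (Fin m) F) :
      Matrix (Fin m ⊕ Fin m) (Fin m ⊕ Fin m) F) *ᵥ v ∈ sUk F m k
  constructor
  · exact Psi_fwd m k hk x v
  · intro hv
    have h1 := Psi_fwd m k hk x⁻¹ _ hv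
    rw [map_inv, sp_inv_mulVec] at h1
    exact h1

lemma stab_blocks {F : Type*} [Field F] (m k : ℕ) (hk : k ≤ m)
    (A : Matrix.symplecticGroup (Fin m) F)
    (hA : A ∈ Cfsg.stabilizing (Cfsg.spToMat m F) (sUk F m k : Set (Fin m ⊕ Fin m → F))) :
    ∃ x : Matrix.symplecticGroup (Fin k) F × Matrix.symplecticGroup (Fin (m - k)) F,
      Psi m k hk x = A := by
  classical
  obtain ⟨N, hN⟩ : ∃ N, N = (A : Matrix (Fin m ⊕ Fin m) (Fin m ⊕ Fin m) F).submatrix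
      (eqv m k hk) (eqv m k hk) := ⟨_, rfl⟩
  have h21 : N.toBlocks₂₁ = 0 := by
    ext z y
    show N (Sum.inr z) (Sum.inl y) = 0
    rw [hN, Matrix.submatrix_apply]
    have h1 : (Pi.single (eqv m k hk (Sum.inl y)) (1 : F) : Fin m ⊕ Fin m → F) ∈ sUk F m k := by
      rw [sUk_iff m k hk]
      intro z'
      have hne : eqv m k hk (Sum.inr z') ≠ eqv m k hk (Sum.inl y) := by
        intro h
        have := (eqv m k hk).injective h
        exact Sum.inr_ne_inl this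
      exact Pi.single_eq_of_ne hne _
    have h2 : (A : Matrix (Fin m ⊕ Fin m) (Fin m ⊕ Fin m) F) *ᵥ
        Pi.single (eqv m k hk (Sum.inl y)) (1 : F) ∈ sUk F m k := (hA _).1 h1
    rw [sUk_iff m k hk] at h2
    have h3 := h2 z
    rw [Matrix.mulVec_single_one] at h3
    exact h3
  have hNeq : N = Matrix.fromBlocks N.toBlocks₁₁ N.toBlocks₁₂ 0 N.toBlocks₂₂ := by
    have h := Matrix.fromBlocks_toBlocks N
    rw [h21] at h
    exact h.symm
  obtain ⟨N11, hN11⟩ : ∃ N11, N11 = N.toBlocks₁₁ := ⟨_, rfl⟩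
  obtain ⟨N12, hN12⟩ : ∃ N12, N12 = N.toBlocks₁₂ := ⟨_, rfl⟩
  obtain ⟨N22, hN22⟩ : ∃ N22, N22 = N.toBlocks₂₂ := ⟨_, rfl⟩
  rw [← hN11, ← hN12, ← hN22] at hNeq
  have hsymp : N * Matrix.fromBlocks (Matrix.J (Fin k) F) 0 0 (Matrix.J (Fin (m - k)) F) * Nᵀ =
      Matrix.fromBlocks (Matrix.J (Fin k) F) 0 0 (Matrix.J (Fin (m - k)) F) := by
    have h1 := SymplecticGroup.mem_iff.1 A.2
    have h2 := congrArg (fun M : Matrix (Fin m ⊕ Fin m) (Fin m ⊕ Fin m) F =>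
      M.submatrix (eqv m k hk) (eqv m k hk)) h1
    rw [← Matrix.submatrix_mul_equiv _ _ _ (eqv m k hk), ← Matrix.submatrix_mul_equiv _ _ _ (eqv m k hk),
      J_reindex, ← Matrix.transpose_submatrix, ← hN] at h2
    exact h2
  rw [hNeq, Matrix.fromBlocks_multiply, Matrix.fromBlocks_transpose, Matrix.fromBlocks_multiply,
    Matrix.fromBlocks_inj] at hsymp
  obtain ⟨e1, e2, -, e4⟩ := hsymp
  have hN22s : N22 ∈ Matrix.symplecticGroup (Fin (m - k)) F := by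
    rw [SymplecticGroup.mem_iff]
    simpa using e4
  have hN12 : N12 = 0 := by
    have h5 : N12 * Matrix.J (Fin (m - k)) F * N22ᵀ = 0 := by simpa using e2
    have h6 := SymplecticGroup.mem_iff'.1 hN22s
    have h7 : N12 * Matrix.J (Fin (m - k)) F * N22ᵀ * Matrix.J (Fin (m - k)) F * N22 = -N12 := by
      calc N12 * Matrix.J (Fin (m - k)) F * N22ᵀ * Matrix.J (Fin (m - k)) F * N22
          = N12 * Matrix.J (Fin (m - k)) F * (N22ᵀ * Matrix.J (Fin (m - k)) F * N22) := by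
            simp only [Matrix.mul_assoc]
        _ = N12 * (Matrix.J (Fin (m - k)) F * Matrix.J (Fin (m - k)) F) := by
            rw [h6, Matrix.mul_assoc]
        _ = -N12 := by rw [Matrix.J_squared]; simp
    rw [h5] at h7
    simp only [Matrix.zero_mul] at h7
    exact neg_eq_zero.1 h7.symm
  have hN11s : N11 ∈ Matrix.symplecticGroup (Fin k) F := by
    rw [SymplecticGroup.mem_iff]
    rw [hN12] at e1
    simpa using e1
  refine ⟨(⟨N11, hN11s⟩, ⟨N22, hN22s⟩), ?_⟩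
  apply Subtype.ext
  rw [Psi_val]
  show emb m k hk N11 N22 = _
  unfold emb
  rw [hN12] at hNeq
  rw [← hNeq, hN]
  ext x y
  simp

theorem result {F : Type*} [Field F] (m k : ℕ) (hk : k ≤ m) (W : Submodule F (Fin m ⊕ Fin m → F)) (hWk : Module.finrank F W = 2 * k) (hW : ∀ u ∈ W, (∀ v ∈ W, Cfsg.sympForm m F u v = 0) → u = 0) : Nonempty (↥(Cfsg.stabilizing (Cfsg.spToMat m F) (W : Set (Fin m ⊕ Fin m → F))) ≃* Matrix.symplecticGroup (Fin k) F × Matrix.symplecticGroup (Fin (m - k)) F) := by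
  classical
  obtain ⟨g, hg⟩ := exists_sp_map_sUk k hk W hW hWk
  -- conjugation equivalence
  have hconj1 : ∀ A : Matrix.symplecticGroup (Fin m) F,
      A ∈ Cfsg.stabilizing (Cfsg.spToMat m F) (W : Set (Fin m ⊕ Fin m → F)) →
      g⁻¹ * A * g ∈ Cfsg.stabilizing (Cfsg.spToMat m F) (sUk F m k : Set (Fin m ⊕ Fin m → F)) := by
    intro A hA v
    show v ∈ sUk F m k ↔ ((g⁻¹ * A * g : Matrix.symplecticGroup (Fin m) F) :
      Matrix (Fin m ⊕ Fin m) (Fin m ⊕ Fin m) F) *ᵥ v ∈ sUk F m k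
    rw [sp_coe_mul, sp_coe_mul, ← Matrix.mulVec_mulVec, ← Matrix.mulVec_mulVec, hg v, hg,
      sp_mulVec_inv]
    exact hA _
  have hconj2 : ∀ B : Matrix.symplecticGroup (Fin m) F,
      B ∈ Cfsg.stabilizing (Cfsg.spToMat m F) (sUk F m k : Set (Fin m ⊕ Fin m → F)) →
      g * B * g⁻¹ ∈ Cfsg.stabilizing (Cfsg.spToMat m F) (W : Set (Fin m ⊕ Fin m → F)) := by
    intro B hB w
    show w ∈ W ↔ ((g * B * g⁻¹ : Matrix.symplecticGroup (Fin m) F) :
      Matrix (Fin m ⊕ Fin m) (Fin m ⊕ Fin m) F) *ᵥ w ∈ W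
    rw [sp_coe_mul, sp_coe_mul, ← Matrix.mulVec_mulVec, ← Matrix.mulVec_mulVec, ← hg]
    have h1 : w ∈ W ↔ ((g⁻¹ : Matrix.symplecticGroup (Fin m) F) :
        Matrix (Fin m ⊕ Fin m) (Fin m ⊕ Fin m) F) *ᵥ w ∈ sUk F m k := by
      rw [hg, sp_mulVec_inv]
    rw [h1]
    exact hB _
  let e1 : ↥(Cfsg.stabilizing (Cfsg.spToMat m F) (W : Set (Fin m ⊕ Fin m → F))) ≃*
      ↥(Cfsg.stabilizing (Cfsg.spToMat m F) (sUk F m k : Set (Fin m ⊕ Fin m → F))) :=
    { toFun := fun A => ⟨g⁻¹ * A.1 * g, hconj1 A.1 A.2⟩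
      invFun := fun B => ⟨g * B.1 * g⁻¹, hconj2 B.1 B.2⟩
      left_inv := fun A => Subtype.ext (by simp [mul_assoc])
      right_inv := fun B => Subtype.ext (by simp [mul_assoc])
      map_mul' := fun A B => Subtype.ext (by simp [mul_assoc]) }
  let Ψ' : Matrix.symplecticGroup (Fin k) F × Matrix.symplecticGroup (Fin (m - k)) F →*
      ↥(Cfsg.stabilizing (Cfsg.spToMat m F) (sUk F m k : Set (Fin m ⊕ Fin m → F))) :=
    (Psi m k hk).codRestrict _ (Psi_mem m k hk)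
  have hbij : Function.Bijective Ψ' := by
    constructor
    · intro x y hxy
      have h1 : Psi m k hk x = Psi m k hk y := congrArg Subtype.val hxy
      have h2 := congrArg Subtype.val h1
      rw [Psi_val, Psi_val] at h2
      obtain ⟨h3, h4⟩ := emb_inj m k hk _ _ _ _ h2
      exact Prod.ext (Subtype.ext h3) (Subtype.ext h4)
    · intro A
      obtain ⟨x, hx⟩ := stab_blocks m k hk A.1 A.2
      exact ⟨x, Subtype.ext hx⟩
  exact ⟨e1.trans (MulEquiv.ofBijective Ψ' hbij).symm⟩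

end Cfsg.Agent.S0776
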