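import Cfsg.Statements.S0246
import Mathlib

set_option autoImplicit false
open Cfsg

namespace Cfsg.Agent.S0246

open Matrix

lemma upper_mem {F : Type*} [Field F] (m : ℕ) (X : Matrix (Fin m) (Fin m) F) (hX : Xᵀ = X) :
    fromBlocks (1 : Matrix (Fin m) (Fin m) F) X 0 1 ∈ Matrix.symplecticGroup (Fin m) F := by
  rw [SymplecticGroup.mem_iff, Matrix.J, fromBlocks_transpose, fromBlocks_multiply,
    fromBlocks_multiply]
  simp [hX]

lemma center_scalar {F : Type*} [Field F] (m : ℕ) (hm : 1 ≤ m)
    (Z : Matrix.symplecticGroup (Fin m) F)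
    (hZ : Z ∈ Subgroup.center (Matrix.symplecticGroup (Fin m) F)) :
    (Z : Matrix (Fin m ⊕ Fin m) (Fin m ⊕ Fin m) F) = 1 ∨
      (Z : Matrix (Fin m ⊕ Fin m) (Fin m ⊕ Fin m) F) = -1 := by
  classical
  rw [Subgroup.mem_center_iff] at hZ
  obtain ⟨Zm, hZm⟩ := Z
  obtain ⟨P, Q, R, S, hZe⟩ : ∃ P Q R S : Matrix (Fin m) (Fin m) F, Zm = fromBlocks P Q R S :=
    ⟨_, _, _, _, (fromBlocks_toBlocks Zm).symm⟩
  subst hZe
  have hU : ∀ X : Matrix (Fin m) (Fin m) F, Xᵀ = X → X * R = 0 ∧ X * S = P * X := by
    intro X hX
    have h1 := congrArg Subtype.val (hZ ⟨_, upper_mem m X hX⟩)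
    simp only [Submonoid.coe_mul] at h1
    rw [fromBlocks_multiply, fromBlocks_multiply, fromBlocks_inj] at h1
    obtain ⟨h11, h12, h21, h22⟩ := h1
    simp only [Matrix.one_mul, Matrix.mul_one, Matrix.mul_zero, add_zero, Matrix.zero_mul,
      zero_add] at h11 h12 h21 h22
    refine ⟨?_, ?_⟩
    · exact add_eq_left.mp h11
    · have : Q + X * S = Q + P * X := by rw [h12]; abel
      exact add_left_cancel this
  have hR : R = 0 := by simpa using (hU 1 transpose_one).1
  have hS : P = S := (by simpa using (hU 1 transpose_one).2 : S = P).symm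
  subst hR hS
  have hQ : Q = 0 := by
    have h2 := congrArg Subtype.val (hZ (SymplecticGroup.symJ (Fin m) F))
    simp only [Submonoid.coe_mul, SymplecticGroup.coe_J] at h2
    rw [Matrix.J, fromBlocks_multiply, fromBlocks_multiply, fromBlocks_inj] at h2
    obtain ⟨h11, h12, h21, h22⟩ := h2
    simpa using h11.symm
  subst hQ
  have hdiag : ∀ a i : Fin m, a ≠ i → P a i = 0 := by
    intro a i hai
    have h := (hU (Matrix.single i i 1) (by simp [Matrix.transpose_single])).2
    have h' := congrFun (congrFun h a) i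
    simp [Matrix.mul_apply, Matrix.single_apply, hai, Ne.symm hai] at h'
    exact h'.symm
  have hconst : ∀ i j : Fin m, P i i = P j j := by
    intro i j
    by_cases hij : i = j
    · rw [hij]
    have h := (hU (Matrix.single i j 1 + Matrix.single j i 1)
      (by simp [Matrix.transpose_single, Matrix.transpose_add, add_comm])).2
    have h' := congrFun (congrFun h i) j
    simp [Matrix.mul_apply, Matrix.single_apply, Matrix.add_apply, hij, Ne.symm hij,
      Finset.sum_add_distrib, add_mul, mul_add] at h'
    exact h'.symm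
  let i0 : Fin m := ⟨0, hm⟩
  have hP : P = (P i0 i0) • (1 : Matrix (Fin m) (Fin m) F) := by
    ext a b
    by_cases hab : a = b
    · subst hab; simp [hconst a i0]
    · simp [hab, hdiag a b hab]
  have hZ1 : fromBlocks P 0 0 P = (P i0 i0) • (1 : Matrix (Fin m ⊕ Fin m) (Fin m ⊕ Fin m) F) := by
    rw [← fromBlocks_one, fromBlocks_smul, smul_zero, ← hP]
  rw [SymplecticGroup.mem_iff, hZ1] at hZm
  have hcc : P i0 i0 * P i0 i0 = 1 := by
    have h' := congrFun (congrFun hZm (Sum.inl i0)) (Sum.inr i0)
    simp [Matrix.J] at h'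
    exact h'
  have hc : P i0 i0 = 1 ∨ P i0 i0 = -1 := by
    have : (P i0 i0 - 1) * (P i0 i0 + 1) = 0 := by linear_combination hcc
    rcases mul_eq_zero.mp this with h | h
    · left; exact sub_eq_zero.mp h
    · right; exact eq_neg_of_add_eq_zero_left h
  show fromBlocks P 0 0 P = 1 ∨ fromBlocks P 0 0 P = -1
  rw [hZ1]
  rcases hc with h | h
  · left; rw [h, one_smul]
  · right; rw [h, neg_one_smul]

/-- The centre of Sp_{2m}(q), m at least 1, is {1, -1}: it has order gcd(2, q-1). -/
theorem result {F : Type*} [Field F] [Fintype F] {q : ℕ} (hF : Fintype.card F = q) (m : ℕ) (hm : 1 ≤ m) : Nat.card (Subgroup.center (Matrix.symplecticGroup (Fin m) F)) = Nat.gcd 2 (q - 1) := by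
  classical
  let negOne : Matrix.symplecticGroup (Fin m) F := ⟨-1, SymplecticGroup.neg_mem (one_mem _)⟩
  have hneg_central : negOne ∈ Subgroup.center (Matrix.symplecticGroup (Fin m) F) := by
    rw [Subgroup.mem_center_iff]
    intro g
    apply Subtype.ext
    simp [negOne]
  have hset : ((Subgroup.center (Matrix.symplecticGroup (Fin m) F) :
      Subgroup (Matrix.symplecticGroup (Fin m) F)) : Set (Matrix.symplecticGroup (Fin m) F))
      = {1, negOne} := by
    ext Z
    constructor
    · intro hZ
      rcases center_scalar m hm Z hZ with h | h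
      · left; exact Subtype.ext h
      · right; exact Subtype.ext h
    · rintro (rfl | rfl)
      · exact one_mem _
      · exact hneg_central
  have hcard : Nat.card (Subgroup.center (Matrix.symplecticGroup (Fin m) F))
      = ({1, negOne} : Set (Matrix.symplecticGroup (Fin m) F)).ncard := by
    rw [← hset]; rfl
  rw [hcard]
  have hq2 : 2 ≤ q := by
    rw [← hF]; exact Fintype.one_lt_card
  by_cases h2 : (2 : F) = 0
  · have h1 : (1 : Matrix.symplecticGroup (Fin m) F) = negOne := by
      apply Subtype.ext
      show (1 : Matrix (Fin m ⊕ Fin m) (Fin m ⊕ Fin m) F) = -1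
      have e : (-1 : F) = 1 := by linear_combination -h2
      rw [← neg_one_smul F (1 : Matrix (Fin m ⊕ Fin m) (Fin m ⊕ Fin m) F), e, one_smul]
    rw [← h1, Set.pair_eq_singleton, Set.ncard_singleton]
    have hch : ringChar F = 2 := CharP.ringChar_of_prime_eq_zero Nat.prime_two (by simpa using h2)
    have := FiniteField.even_card_of_char_two hch
    rw [hF] at this
    have h3 : (q - 1) % 2 = 1 := by omega
    rw [Nat.gcd_rec, h3]
    rfl
  · have h1 : (1 : Matrix.symplecticGroup (Fin m) F) ≠ negOne := by
      intro h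
      have h' := congrArg Subtype.val h
      have h'' := congrFun (congrFun h' (Sum.inl ⟨0, hm⟩)) (Sum.inl ⟨0, hm⟩)
      simp [negOne] at h''
      apply h2
      linear_combination h''
    rw [Set.ncard_pair h1]
    have hch : ringChar F ≠ 2 := by
      intro hch
      apply h2
      have := CharP.cast_eq_zero F (ringChar F)
      rw [hch] at this
      simpa using this
    have := FiniteField.odd_card_of_char_ne_two hch
    rw [hF] at this
    have h3 : (q - 1) % 2 = 0 := by omega
    rw [Nat.gcd_rec, h3]
    rfl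

end Cfsg.Agent.S0246
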