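import Cfsg.Statements.S0039
import Mathlib

set_option autoImplicit false
open Cfsg

namespace Cfsg.Agent.S0039

open Pointwise

lemma mem_conj_smul {G : Type*} [Group G] (H : Subgroup G) (g x : G) :
    x ∈ MulAut.conj g • H ↔ g⁻¹ * x * g ∈ H := by
  rw [Subgroup.mem_pointwise_smul_iff_inv_smul_mem]
  simp [MulAut.smul_def]

/-- In a finite group that is a semidirect product of a normal subgroup K by a nontrivial subgroup H, H is a Frobenius complement exactly when each nonidentity element of H acts without nonidentity fixed points on K by conjugation. -/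
theorem result {G : Type*} [Group G] [Finite G] (K H : Subgroup G) [K.Normal]
    (hc : Subgroup.IsComplement' K H) (hK : K ≠ ⊥) (hH : H ≠ ⊥) :
    Cfsg.IsFrobeniusComplement H ↔ ∀ h ∈ H, h ≠ 1 → K ⊓ Subgroup.centralizer {h} = ⊥ := by
  have hdisj : K ⊓ H = ⊥ := hc.disjoint.eq_bot
  have hKH1 : ∀ z, z ∈ K → z ∈ H → z = 1 := by
    intro z hzK hzH
    have : z ∈ K ⊓ H := Subgroup.mem_inf.mpr ⟨hzK, hzH⟩
    rw [hdisj] at this
    exact this
  constructor
  · rintro ⟨-, -, hF⟩ h hh hh1
    rw [eq_bot_iff]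
    intro k hk
    obtain ⟨hkK, hkC⟩ := Subgroup.mem_inf.mp hk
    rw [Subgroup.mem_bot]
    have hcomm : h * k = k * h := by
      rw [Subgroup.mem_centralizer_iff] at hkC
      exact hkC h rfl
    by_contra hk1
    have hkH : k ∉ H := fun hkH => hk1 (hKH1 k hkK hkH)
    have hbot := hF k hkH
    have hmem : h ∈ H ⊓ MulAut.conj k • H := by
      refine Subgroup.mem_inf.mpr ⟨hh, ?_⟩
      rw [mem_conj_smul]
      have : k⁻¹ * h * k = h := by rw [mul_assoc, hcomm, ← mul_assoc, inv_mul_cancel, one_mul]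
      rw [this]; exact hh
    rw [hbot] at hmem
    exact hh1 hmem
  · intro hfix
    refine ⟨hH, ?_, ?_⟩
    · rintro rfl
      apply hK
      rw [← hdisj]; simp
    · intro g hg
      rw [eq_bot_iff]
      intro x hx
      obtain ⟨hxH, hxg⟩ := Subgroup.mem_inf.mp hx
      rw [Subgroup.mem_bot]
      obtain ⟨k, hk, h', hh', rfl⟩ : ∃ k ∈ K, ∃ h' ∈ H, k * h' = g := by
        have : g ∈ K ⊔ H := by rw [hc.sup_eq_top]; trivial
        rw [← SetLike.mem_coe, Subgroup.normal_mul] at this
        exact Set.mem_mul.mp this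
      have hk1 : k ≠ 1 := by
        rintro rfl; apply hg; simpa using hh'
      rw [mem_conj_smul] at hxg
      obtain ⟨y, hy⟩ : ∃ y, y = k⁻¹ * x * k := ⟨_, rfl⟩
      have hyH : y ∈ H := by
        have : y = h' * ((k * h')⁻¹ * x * (k * h')) * h'⁻¹ := by rw [hy]; group
        rw [this]; exact H.mul_mem (H.mul_mem hh' hxg) (H.inv_mem hh')
      have h1 : x * y⁻¹ ∈ K := by
        have : x * y⁻¹ = (x * k⁻¹ * x⁻¹) * k := by rw [hy]; group
        rw [this]
        exact K.mul_mem ((inferInstance : K.Normal).conj_mem _ (K.inv_mem hk) x) hk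
      have h2 : x * y⁻¹ ∈ H := H.mul_mem hxH (H.inv_mem hyH)
      have h3 : x * y⁻¹ = 1 := hKH1 _ h1 h2
      have hxy : x = y := mul_inv_eq_one.mp h3
      by_contra hx1
      have hkC : k ∈ K ⊓ Subgroup.centralizer {x} := by
        refine Subgroup.mem_inf.mpr ⟨hk, ?_⟩
        rw [Subgroup.mem_centralizer_iff]
        intro z hz
        rw [Set.mem_singleton_iff] at hz
        subst hz
        have e1 : k * y = z * k := by rw [hy]; group
        rw [← hxy] at e1
        exact e1.symm
      rw [hfix x hxH hx1] at hkC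
      exact hk1 hkC

end Cfsg.Agent.S0039
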