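import Cfsg.Statements.S3939
import Mathlib

set_option autoImplicit false
set_option linter.style.haveILetI false
open Cfsg

namespace Cfsg.Agent.S3939

universe u

/-- Elements of coprime order commute in a nilpotent group. -/
theorem commute_of_coprime_nilpotent (G : Type*) [Group G] [Group.IsNilpotent G] :
    ∀ x u : G, Nat.Coprime (orderOf x) (orderOf u) → x * u = u * x := by
  refine Group.nilpotent_center_quotient_ind
    (P := fun G _ _ => ∀ x u : G, Nat.Coprime (orderOf x) (orderOf u) → x * u = u * x) G ?_ ?_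
  · intro G _ _ x u _
    exact Subsingleton.elim _ _
  · intro G _ _ ih x u hcop
    have h1 := ih (QuotientGroup.mk x) (QuotientGroup.mk u)
      (Nat.Coprime.coprime_dvd_left (orderOf_map_dvd (QuotientGroup.mk' _) x)
        (Nat.Coprime.coprime_dvd_right (orderOf_map_dvd (QuotientGroup.mk' _) u) hcop))
    have hc : x * u * x⁻¹ * u⁻¹ ∈ Subgroup.center G := by
      rw [← QuotientGroup.eq_one_iff]
      simp only [QuotientGroup.mk_mul, QuotientGroup.mk_inv]
      rw [h1]; group
    obtain ⟨c, hcdef⟩ : ∃ c, c = x * u * x⁻¹ * u⁻¹ := ⟨_, rfl⟩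
    rw [← hcdef] at hc
    have hcc : ∀ y, y * c = c * y := fun y => Subgroup.mem_center_iff.mp hc y
    have e1 : x * u * x⁻¹ = c * u := by rw [hcdef]; group
    have e2 : u * x * u⁻¹ = c⁻¹ * x := by rw [hcdef]; group
    have p1 : c ^ orderOf u = 1 := by
      have h := (Commute.mul_pow (show Commute c u from (hcc u).symm) (orderOf u))
      rw [← e1, conj_pow, pow_orderOf_eq_one] at h
      simpa using h.symm
    have p2 : c ^ orderOf x = 1 := by
      have h := (Commute.mul_pow
        (show Commute c⁻¹ x from (show Commute c x from (hcc x).symm).inv_left) (orderOf x))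
      rw [← e2, conj_pow, pow_orderOf_eq_one] at h
      have : c⁻¹ ^ orderOf x = 1 := by simpa using h.symm
      rwa [inv_pow, inv_eq_one] at this
    have hd : orderOf c ∣ Nat.gcd (orderOf x) (orderOf u) :=
      Nat.dvd_gcd (orderOf_dvd_of_pow_eq_one p2) (orderOf_dvd_of_pow_eq_one p1)
    rw [Nat.Coprime.gcd_eq_one hcop, Nat.dvd_one, orderOf_eq_one_iff] at hd
    have h3 : x * u * x⁻¹ * u⁻¹ = 1 := hcdef.symm.trans hd
    calc x * u = (x * u * x⁻¹ * u⁻¹) * u * x := by group
      _ = u * x := by rw [h3]; group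

/-- A nontrivial normal subgroup of a nilpotent group meets the centre nontrivially. -/
theorem normal_inf_center_ne_bot {Q : Type*} [Group Q] [Group.IsNilpotent Q]
    (W : Subgroup Q) [W.Normal] (hW : W ≠ ⊥) : ∃ w ∈ W, w ≠ 1 ∧ ∀ y : Q, y * w = w * y := by
  classical
  obtain ⟨n, hn⟩ := (inferInstance : Group.IsNilpotent Q).nilpotent'
  have hex : ∃ i, W ⊓ Subgroup.upperCentralSeries Q i ≠ ⊥ := ⟨n, by rw [hn, inf_top_eq]; exact hW⟩
  have hmin : ∀ m, m < Nat.find hex → ¬ (W ⊓ Subgroup.upperCentralSeries Q m ≠ ⊥) :=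
    fun m hm => Nat.find_min hex hm
  have hspec := Nat.find_spec hex
  rcases Nat.eq_zero_or_pos (Nat.find hex) with h0 | hpos
  · rw [h0, Subgroup.upperCentralSeries_zero, inf_bot_eq] at hspec
    exact absurd rfl hspec
  · obtain ⟨j, hj⟩ := Nat.exists_eq_succ_of_ne_zero hpos.ne'
    have hjb : W ⊓ Subgroup.upperCentralSeries Q j = ⊥ := by
      by_contra hne
      exact hmin j (by omega) hne
    rw [hj] at hspec
    obtain ⟨⟨w, hw⟩, hw1⟩ := (Subgroup.ne_bot_iff_exists_ne_one).mp hspec
    have hw1' : w ≠ 1 := fun h => hw1 (Subtype.ext h)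
    obtain ⟨hwW, hwZ⟩ := Subgroup.mem_inf.mp hw
    refine ⟨w, hwW, hw1', fun y => ?_⟩
    have h1 : w * y * w⁻¹ * y⁻¹ ∈ Subgroup.upperCentralSeries Q j := by
      have := Subgroup.mem_upperCentralSeries_succ_iff.mp hwZ y
      rwa [commutatorElement_def] at this
    have h2 : w * y * w⁻¹ * y⁻¹ ∈ W := by
      have : w * y * w⁻¹ * y⁻¹ = w * (y * w⁻¹ * y⁻¹) := by group
      rw [this]
      exact W.mul_mem hwW (Subgroup.Normal.conj_mem inferInstance _ (W.inv_mem hwW) y)
    have h3 : w * y * w⁻¹ * y⁻¹ ∈ W ⊓ Subgroup.upperCentralSeries Q j := Subgroup.mem_inf.mpr ⟨h2, h1⟩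
    rw [hjb, Subgroup.mem_bot] at h3
    calc y * w = (w * y * w⁻¹ * y⁻¹)⁻¹ * w * y := by group
      _ = w * y := by rw [h3]; group

theorem center_ne_bot_of_hyp {G : Type*} [Group G] [Finite G] (g : G) (hg1 : g ≠ 1)
    (hyp : ∀ x : G, Group.IsNilpotent ↥(Subgroup.closure ({x, g} : Set G))) :
    Subgroup.center G ≠ ⊥ := by
  have ho : orderOf g ≠ 1 := by rwa [Ne, orderOf_eq_one_iff]
  obtain ⟨p, hp, hpd⟩ := Nat.exists_prime_and_dvd ho
  haveI : Fact p.Prime := ⟨hp⟩
  have ho0 : orderOf g ≠ 0 := (orderOf_pos g).ne'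
  obtain ⟨u, hu⟩ : ∃ u, u = g ^ (orderOf g / p) := ⟨_, rfl⟩
  have hou : orderOf u = p := by rw [hu]; exact orderOf_pow_orderOf_div ho0 hpd
  have hu1 : u ≠ 1 := by
    intro h
    rw [h, orderOf_one] at hou
    exact hp.one_lt.ne hou
  -- step 2
  have hcomm : ∀ x : G, Nat.Coprime (orderOf x) p → x * u = u * x := by
    intro x hx
    haveI := hyp x
    have hxH : x ∈ Subgroup.closure ({x, g} : Set G) := Subgroup.subset_closure (by simp)
    have hgH : g ∈ Subgroup.closure ({x, g} : Set G) := Subgroup.subset_closure (by simp)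
    have huH : u ∈ Subgroup.closure ({x, g} : Set G) := by rw [hu]; exact Subgroup.pow_mem _ hgH _
    have := commute_of_coprime_nilpotent ↥(Subgroup.closure ({x, g} : Set G)) ⟨x, hxH⟩ ⟨u, huH⟩
      (by rw [Subgroup.orderOf_mk, Subgroup.orderOf_mk, hou]; exact hx)
    exact congrArg Subtype.val this
  -- the centralizer of the p'-elements
  let S : Set G := {x | Nat.Coprime (orderOf x) p}
  have hSconj : ∀ x ∈ S, ∀ y : G, y⁻¹ * x * y ∈ S := by
    intro x hx y
    show Nat.Coprime (orderOf (y⁻¹ * x * y)) p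
    have := (MulAut.conj y⁻¹).orderOf_eq x
    rw [MulAut.conj_apply, inv_inv] at this
    rw [this]; exact hx
  have hNn : (Subgroup.centralizer S).Normal := by
    refine ⟨fun n hn y => ?_⟩
    rw [Subgroup.mem_centralizer_iff] at hn ⊢
    intro h hh
    have e := hn _ (hSconj h hh y)
    calc h * (y * n * y⁻¹) = y * (y⁻¹ * h * y * n) * y⁻¹ := by group
      _ = y * (n * (y⁻¹ * h * y)) * y⁻¹ := by rw [e]
      _ = y * n * y⁻¹ * h := by group
  have huN : u ∈ Subgroup.centralizer S := by
    rw [Subgroup.mem_centralizer_iff]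
    intro h hh
    exact hcomm h hh
  -- a Sylow subgroup containing u
  have hzp : IsPGroup p (Subgroup.zpowers u) := by
    refine IsPGroup.of_card (n := 1) ?_
    rw [Nat.card_zpowers, hou, pow_one]
  obtain ⟨Q, hQ⟩ := hzp.exists_le_sylow
  have huQ : u ∈ (Q : Subgroup G) := hQ (Subgroup.mem_zpowers u)
  haveI : Group.IsNilpotent ↥(Q : Subgroup G) := Q.isPGroup'.isNilpotent
  haveI : ((Subgroup.centralizer S).subgroupOf (Q : Subgroup G)).Normal := inferInstance
  have hWne : (Subgroup.centralizer S).subgroupOf (Q : Subgroup G) ≠ ⊥ := by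
    intro h
    have : (⟨u, huQ⟩ : ↥(Q : Subgroup G)) ∈ (Subgroup.centralizer S).subgroupOf (Q : Subgroup G) := by
      rw [Subgroup.mem_subgroupOf]; exact huN
    rw [h, Subgroup.mem_bot] at this
    exact hu1 (congrArg Subtype.val this)
  obtain ⟨z, hzW, hz1, hzc⟩ := normal_inf_center_ne_bot _ hWne
  rw [Subgroup.mem_subgroupOf] at hzW
  have hd1 : (z : G) ≠ 1 := fun h => hz1 (Subtype.ext h)
  have hdQ : ∀ q ∈ (Q : Subgroup G), q * (z : G) = (z : G) * q := by
    intro q hq
    exact congrArg Subtype.val (hzc ⟨q, hq⟩)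
  have hdS : ∀ x : G, Nat.Coprime (orderOf x) p → x * (z : G) = (z : G) * x := by
    intro x hx
    exact (Subgroup.mem_centralizer_iff.mp hzW) x hx
  -- the centralizer of d has index one
  have hSyl : ∀ q : ℕ, q.Prime → ∃ T : Subgroup G, ¬ q ∣ T.index ∧
      T ≤ Subgroup.centralizer ({(z : G)} : Set G) := by
    intro q hq
    haveI : Fact q.Prime := ⟨hq⟩
    rcases eq_or_ne q p with rfl | hqp
    · refine ⟨Q, Q.not_dvd_index, fun x hx => ?_⟩
      rw [Subgroup.mem_centralizer_iff]
      intro h hh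
      rw [Set.mem_singleton_iff] at hh
      rw [hh]; exact (hdQ x hx).symm
    · obtain ⟨T⟩ := (inferInstance : Nonempty (Sylow q G))
      refine ⟨T, T.not_dvd_index, fun x hx => ?_⟩
      rw [Subgroup.mem_centralizer_iff]
      intro h hh
      rw [Set.mem_singleton_iff] at hh
      rw [hh]
      obtain ⟨k, hk⟩ := T.isPGroup' ⟨x, hx⟩
      have hk' : x ^ q ^ k = 1 := congrArg Subtype.val hk
      have hcop : Nat.Coprime (orderOf x) p :=
        Nat.Coprime.coprime_dvd_left (orderOf_dvd_of_pow_eq_one hk')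
          (Nat.Coprime.pow_left k ((Nat.coprime_primes hq hp).mpr hqp))
      exact (hdS x hcop).symm
  have hidx : (Subgroup.centralizer ({(z : G)} : Set G)).index = 1 := by
    by_contra hne
    obtain ⟨q, hq, hqd⟩ := Nat.exists_prime_and_dvd hne
    obtain ⟨T, hT, hTle⟩ := hSyl q hq
    exact hT (hqd.trans (Subgroup.index_dvd_of_le hTle))
  rw [Subgroup.index_eq_one] at hidx
  intro hbot
  have hzc' : (z : G) ∈ Subgroup.center G := by
    rw [Subgroup.mem_center_iff]
    intro y
    have hy : y ∈ Subgroup.centralizer ({(z : G)} : Set G) := by rw [hidx]; trivial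
    exact ((Subgroup.mem_centralizer_iff.mp hy) _ rfl).symm
  rw [hbot, Subgroup.mem_bot] at hzc'
  exact hd1 hzc'

theorem main_aux : ∀ (n : ℕ) (G : Type u) [Group G] [Finite G], Nat.card G ≤ n → ∀ g : G,
    (∀ x : G, Group.IsNilpotent ↥(Subgroup.closure ({x, g} : Set G))) →
    g ∈ ⨆ n : ℕ, Subgroup.upperCentralSeries G n := by
  intro n
  induction n with
  | zero =>
    intro G _ _ hcard g _
    have := Nat.card_pos (α := G)
    omega
  | succ n ih =>
    intro G _ _ hcard g hyp
    by_cases hg1 : g = 1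
    · rw [hg1]; exact one_mem _
    have hZ := center_ne_bot_of_hyp g hg1 hyp
    have hcardlt : Nat.card (G ⧸ Subgroup.center G) ≤ n := by
      have h1 := Subgroup.card_eq_card_quotient_mul_card_subgroup (Subgroup.center G)
      have h2 : 1 < Nat.card (Subgroup.center G) := by
        rw [Subgroup.one_lt_card_iff_ne_bot]; exact hZ
      have h3 := Nat.card_pos (α := G ⧸ Subgroup.center G)
      have : Nat.card (G ⧸ Subgroup.center G) < Nat.card G := by
        rw [h1]; nlinarith
      omega
    have hyp' : ∀ x : G ⧸ Subgroup.center G, Group.IsNilpotent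
        ↥(Subgroup.closure ({x, (QuotientGroup.mk g : G ⧸ Subgroup.center G)} : Set (G ⧸ Subgroup.center G))) := by
      intro x
      obtain ⟨x, rfl⟩ := QuotientGroup.mk_surjective x
      haveI := hyp x
      have hEq : Subgroup.closure ({(QuotientGroup.mk x : G ⧸ Subgroup.center G), (QuotientGroup.mk g : G ⧸ Subgroup.center G)} : Set (G ⧸ Subgroup.center G))
          = (Subgroup.closure ({x, g} : Set G)).map (QuotientGroup.mk' (Subgroup.center G)) := by
        rw [MonoidHom.map_closure, Set.image_pair]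
        rfl
      rw [hEq]
      exact Group.nilpotent_of_surjective
        ((QuotientGroup.mk' (Subgroup.center G)).subgroupMap (Subgroup.closure ({x, g} : Set G)))
        (MonoidHom.subgroupMap_surjective _ _)
    have hq := ih (G ⧸ Subgroup.center G) hcardlt (QuotientGroup.mk g) hyp'
    obtain ⟨m, hm⟩ := (Subgroup.mem_iSup_of_directed
      (Monotone.directed_le (Subgroup.upperCentralSeries_mono _))).mp hq
    have hm' : g ∈ (Subgroup.upperCentralSeries (G ⧸ Subgroup.center G) m).comap
        (QuotientGroup.mk' (Subgroup.center G)) := hm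
    rw [Subgroup.comap_upperCentralSeries_quotient_center] at hm'
    exact Subgroup.mem_iSup_of_mem (m + 1) hm'

theorem nil_of_mem_ucs {G : Type*} [Group G] (g x : G) (n : ℕ)
    (hg : g ∈ Subgroup.upperCentralSeries G n) :
    Group.IsNilpotent ↥(Subgroup.closure ({x, g} : Set G)) := by
  have key : ∀ i, ∀ h : ↥(Subgroup.closure ({x, g} : Set G)),
      (h : G) ∈ Subgroup.upperCentralSeries G i →
      h ∈ Subgroup.upperCentralSeries ↥(Subgroup.closure ({x, g} : Set G)) i := by
    intro i
    induction i with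
    | zero =>
      intro h hh
      rw [Subgroup.upperCentralSeries_zero, Subgroup.mem_bot] at hh ⊢
      exact Subtype.ext hh
    | succ i ih =>
      intro h hh
      rw [Subgroup.mem_upperCentralSeries_succ_iff] at hh ⊢
      intro y
      have := hh (y : G)
      rw [commutatorElement_def] at this
      exact ih _ (by rw [commutatorElement_def]; exact this)
  have hxH : x ∈ Subgroup.closure ({x, g} : Set G) := Subgroup.subset_closure (by simp)
  have hgH : g ∈ Subgroup.closure ({x, g} : Set G) := Subgroup.subset_closure (by simp)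
  have hgK := key n ⟨g, hgH⟩ hg
  have hT : Subgroup.upperCentralSeries ↥(Subgroup.closure ({x, g} : Set G)) n ⊔
      Subgroup.zpowers (⟨x, hxH⟩ : ↥(Subgroup.closure ({x, g} : Set G))) = ⊤ := by
    rw [eq_top_iff, ← Subgroup.closure_closure_coe_preimage (k := ({x, g} : Set G)),
      Subgroup.closure_le]
    intro h hh
    have hh' : (h : G) = x ∨ (h : G) = g := hh
    rcases hh' with h1 | h1
    · have : h = ⟨x, hxH⟩ := Subtype.ext h1
      rw [this]
      exact Subgroup.mem_sup_right (Subgroup.mem_zpowers _)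
    · have : h = ⟨g, hgH⟩ := Subtype.ext h1
      rw [this]
      exact Subgroup.mem_sup_left hgK
  have hdec : ∀ a : ↥(Subgroup.closure ({x, g} : Set G)), ∃ i : ℤ,
      (QuotientGroup.mk a : _ ⧸ Subgroup.upperCentralSeries ↥(Subgroup.closure ({x, g} : Set G)) n)
        = (QuotientGroup.mk (⟨x, hxH⟩ : ↥(Subgroup.closure ({x, g} : Set G)))) ^ i := by
    intro a
    have ha : a ∈ ((Subgroup.upperCentralSeries ↥(Subgroup.closure ({x, g} : Set G)) n ⊔
      Subgroup.zpowers (⟨x, hxH⟩ : ↥(Subgroup.closure ({x, g} : Set G))) : Subgroup _) : Set _) := by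
      rw [hT]; trivial
    rw [Subgroup.normal_mul] at ha
    obtain ⟨k, hk, z, hz, rfl⟩ := Set.mem_mul.mp ha
    obtain ⟨i, rfl⟩ := Subgroup.mem_zpowers_iff.mp hz
    refine ⟨i, ?_⟩
    rw [QuotientGroup.mk_mul, (QuotientGroup.eq_one_iff k).mpr hk, one_mul, QuotientGroup.mk_zpow]
  refine ⟨⟨n + 1, eq_top_iff.mpr fun a _ => Subgroup.mem_upperCentralSeries_succ_iff.mpr fun b => ?_⟩⟩
  obtain ⟨i, hi⟩ := hdec a
  obtain ⟨j, hj⟩ := hdec b
  rw [commutatorElement_def, ← QuotientGroup.eq_one_iff]
  simp only [QuotientGroup.mk_mul, QuotientGroup.mk_inv]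
  rw [hi, hj]
  have hcomm := (Commute.zpow_zpow_self
    (QuotientGroup.mk (⟨x, hxH⟩ : ↥(Subgroup.closure ({x, g} : Set G))) :
      _ ⧸ Subgroup.upperCentralSeries ↥(Subgroup.closure ({x, g} : Set G)) n) i j).eq
  rw [hcomm]; group

/-- In a finite group G the set of elements g such that the subgroup generated by g and x is nilpotent for every x ∈ G is exactly the hypercenter of G (the last term of the upper central series). -/
theorem result {G : Type*} [Group G] [Finite G] (g : G) :
    (∀ x : G, Group.IsNilpotent ↥(Subgroup.closure ({x, g} : Set G))) ↔ g ∈ ⨆ n : ℕ, Subgroup.upperCentralSeries G n := by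
  constructor
  · intro h
    exact main_aux (Nat.card G) G le_rfl g h
  · intro h x
    obtain ⟨m, hm⟩ := (Subgroup.mem_iSup_of_directed
      (Monotone.directed_le (Subgroup.upperCentralSeries_mono _))).mp h
    exact nil_of_mem_ucs g x m hm

end Cfsg.Agent.S3939
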