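import Cfsg.Statements.S0567
import Mathlib

set_option autoImplicit false
open Cfsg

namespace Cfsg.Agent.S0567

open scoped commutatorElement

theorem le_normalizer_of_conj_mem {G : Type*} [Group G] (X K : Subgroup G)
    (h : ∀ x ∈ X, ∀ n ∈ K, x * n * x⁻¹ ∈ K) : X ≤ Subgroup.normalizer (K : Set G) := by
  intro x hx
  rw [Subgroup.mem_normalizer_iff]
  intro n
  constructor
  · exact h x hx n
  · intro hn
    have := h x⁻¹ (X.inv_mem hx) _ hn
    simpa [mul_assoc] using this

theorem conj_mem_commutator_left {G : Type*} [Group G] (A B : Subgroup G) :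
    ∀ x ∈ A, ∀ n ∈ ⁅A, B⁆, x * n * x⁻¹ ∈ ⁅A, B⁆ := by
  intro x hx
  have : ⁅A, B⁆ ≤ (⁅A, B⁆).comap (MulAut.conj x).toMonoidHom := by
    rw [Subgroup.commutator_le]
    intro g₁ h₁ g₂ h₂
    rw [Subgroup.mem_comap]
    have e : (MulAut.conj x).toMonoidHom ⁅g₁, g₂⁆ = ⁅x * g₁, g₂⁆ * ⁅x, g₂⁆⁻¹ := by
      simp only [MulEquiv.coe_toMonoidHom, MulAut.conj_apply, commutatorElement_def]
      group
    rw [e]
    exact Subgroup.mul_mem _ (Subgroup.commutator_mem_commutator (A.mul_mem hx h₁) h₂)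
      (Subgroup.inv_mem _ (Subgroup.commutator_mem_commutator hx h₂))
  intro n hn
  exact this hn

theorem conj_mem_commutator_right {G : Type*} [Group G] (A B : Subgroup G) :
    ∀ x ∈ B, ∀ n ∈ ⁅A, B⁆, x * n * x⁻¹ ∈ ⁅A, B⁆ := by
  intro x hx
  have : ⁅A, B⁆ ≤ (⁅A, B⁆).comap (MulAut.conj x).toMonoidHom := by
    rw [Subgroup.commutator_le]
    intro g₁ h₁ g₂ h₂
    rw [Subgroup.mem_comap]
    have e : (MulAut.conj x).toMonoidHom ⁅g₁, g₂⁆ = ⁅g₁, x⁆⁻¹ * ⁅g₁, x * g₂⁆ := by
      simp only [MulEquiv.coe_toMonoidHom, MulAut.conj_apply, commutatorElement_def]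
      group
    rw [e]
    exact Subgroup.mul_mem _ (Subgroup.inv_mem _ (Subgroup.commutator_mem_commutator h₁ hx))
      (Subgroup.commutator_mem_commutator h₁ (B.mul_mem hx h₂))
  intro n hn
  exact this hn

theorem subnormal_sup_iter {G : Type*} [Group G] (H : Subgroup G) (m : ℕ) :
    (H ⊔ (fun K : Subgroup G => ⁅K, H⁆)^[m] ⊤).IsSubnormal := by
  induction m with
  | zero => simp
  | succ m ih =>
    rw [Function.iterate_succ_apply']
    generalize (fun K : Subgroup G => ⁅K, H⁆)^[m] ⊤ = L at ih ⊢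
    have hle : H ⊔ ⁅L, H⁆ ≤ H ⊔ L := by
      apply sup_le le_sup_left
      rw [Subgroup.commutator_le]
      intro g₁ h₁ g₂ h₂
      rw [commutatorElement_def]
      have a1 : g₁ ∈ H ⊔ L := (le_sup_right : L ≤ H ⊔ L) h₁
      have a2 : g₂ ∈ H ⊔ L := (le_sup_left : H ≤ H ⊔ L) h₂
      exact Subgroup.mul_mem _ (Subgroup.mul_mem _ (Subgroup.mul_mem _ a1 a2)
        (Subgroup.inv_mem _ a1)) (Subgroup.inv_mem _ a2)
    refine Subgroup.IsSubnormal.step _ _ hle ih ?_
    rw [Subgroup.normal_subgroupOf_iff_le_normalizer hle]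
    refine sup_le (le_normalizer_of_conj_mem _ _ ?_) (le_normalizer_of_conj_mem _ _ ?_)
    · intro x hx
      have : H ⊔ ⁅L, H⁆ ≤ (H ⊔ ⁅L, H⁆).comap (MulAut.conj x).toMonoidHom := by
        apply sup_le
        · intro n hn
          rw [Subgroup.mem_comap]
          exact (le_sup_left : H ≤ H ⊔ ⁅L, H⁆) (H.mul_mem (H.mul_mem hx hn) (H.inv_mem hx))
        · intro n hn
          rw [Subgroup.mem_comap]
          exact (le_sup_right : ⁅L, H⁆ ≤ H ⊔ ⁅L, H⁆) (conj_mem_commutator_right L H x hx n hn)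
      intro n hn
      exact this hn
    · intro x hx
      have : H ⊔ ⁅L, H⁆ ≤ (H ⊔ ⁅L, H⁆).comap (MulAut.conj x).toMonoidHom := by
        apply sup_le
        · intro n hn
          rw [Subgroup.mem_comap]
          have e : (MulAut.conj x).toMonoidHom n = ⁅x, n⁆ * n := by
            simp only [MulEquiv.coe_toMonoidHom, MulAut.conj_apply, commutatorElement_def]
            group
          rw [e]
          exact Subgroup.mul_mem _
            ((le_sup_right : ⁅L, H⁆ ≤ H ⊔ ⁅L, H⁆) (Subgroup.commutator_mem_commutator hx hn))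
            ((le_sup_left : H ≤ H ⊔ ⁅L, H⁆) hn)
        · intro n hn
          rw [Subgroup.mem_comap]
          exact (le_sup_right : ⁅L, H⁆ ≤ H ⊔ ⁅L, H⁆) (conj_mem_commutator_left L H x hx n hn)
      intro n hn
      exact this hn

theorem iter_le_of_le {G : Type*} [Group G] (H K : Subgroup G) (h : H ≤ K) (m : ℕ) :
    (fun X : Subgroup G => ⁅X, H⁆)^[m] ⊤ ≤ (fun X : Subgroup G => ⁅X, K⁆)^[m] ⊤ := by
  induction m with
  | zero => exact le_rfl
  | succ m ih =>
    rw [Function.iterate_succ_apply', Function.iterate_succ_apply']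
    exact Subgroup.commutator_mono ih h

/-- A subgroup H of a group G is subnormal exactly when, for some m, the subgroup obtained from G by taking the commutator with H m times in succession is contained in H. -/
theorem result {G : Type*} [Group G] (H : Subgroup G) : H.IsSubnormal ↔ ∃ m : ℕ, (fun K : Subgroup G => ⁅K, H⁆)^[m] ⊤ ≤ H := by
  constructor
  · intro hH
    induction hH with
    | top => exact ⟨0, le_top⟩
    | step H K h_le hK hN ih =>
      obtain ⟨m, hm⟩ := ih
      refine ⟨m + 1, ?_⟩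
      rw [Function.iterate_succ_apply']
      have h1 : (fun X : Subgroup G => ⁅X, H⁆)^[m] ⊤ ≤ K := (iter_le_of_le H K h_le m).trans hm
      refine (Subgroup.commutator_mono h1 le_rfl).trans ?_
      rw [Subgroup.commutator_le]
      intro k hk h hh
      rw [Subgroup.normal_subgroupOf_iff_le_normalizer h_le] at hN
      have := (Subgroup.mem_normalizer_iff.mp (hN hk) h).mp hh
      rw [commutatorElement_def]
      exact H.mul_mem this (H.inv_mem hh)
  · rintro ⟨m, hm⟩
    have := subnormal_sup_iter H m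
    rwa [sup_eq_left.mpr hm] at this

end Cfsg.Agent.S0567
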