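import Cfsg.Statements.S0538
import Cfsg.Agent.S0567
import Cfsg.Agent.S0001
import Mathlib

set_option autoImplicit false
open Cfsg

namespace Cfsg.Agent.S0538

open scoped Pointwise

universe u

/-- the set of nontrivial `N`-invariant subgroups of `M` is stable under `G`-conjugation, for
normal `M` and `N`. -/
theorem conj_mem_inv {G : Type*} [Group G] (M N : Subgroup G) [hMn : M.Normal] [hNn : N.Normal]
    (K : Subgroup G) (hK : K ≤ M ∧ K ≠ ⊥ ∧ N ≤ Subgroup.normalizer (K : Set G)) (g : G) :
    MulAut.conj g • K ≤ M ∧ MulAut.conj g • K ≠ ⊥ ∧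
      N ≤ Subgroup.normalizer ((MulAut.conj g • K : Subgroup G) : Set G) := by
  obtain ⟨hKM, hKne, hKN⟩ := hK
  refine ⟨?_, ?_, ?_⟩
  · intro y hy
    rw [Subgroup.mem_smul_pointwise_iff_exists] at hy
    obtain ⟨k, hk, rfl⟩ := hy
    exact hMn.conj_mem k (hKM hk) g
  · intro h
    apply hKne
    rw [Subgroup.eq_bot_iff_forall]
    intro k hk
    have h1 : MulAut.conj g • k ∈ MulAut.conj g • K := Subgroup.smul_mem_pointwise_smul k _ K hk
    rw [h, Subgroup.mem_bot] at h1
    have h2 : g * k * g⁻¹ = 1 := h1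
    calc k = g⁻¹ * (g * k * g⁻¹) * g := by group
      _ = 1 := by rw [h2]; group
  · apply Cfsg.Agent.S0567.le_normalizer_of_conj_mem
    intro x hx n hn
    rw [Subgroup.mem_smul_pointwise_iff_exists] at hn ⊢
    obtain ⟨k, hk, rfl⟩ := hn
    have h1 : g⁻¹ * x * g ∈ N := by
      have := hNn.conj_mem x hx g⁻¹
      rwa [inv_inv] at this
    have h2 := (Subgroup.mem_normalizer_iff.mp (hKN h1) k).mp hk
    refine ⟨_, h2, ?_⟩
    simp only [MulAut.smul_def, MulAut.conj_apply]
    group

/-- A minimal normal subgroup of a finite group normalizes every subnormal subgroup. -/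
theorem min_normal_le_normalizer : ∀ (n : ℕ) (G : Type u) [Group G] [Finite G], Nat.card G = n →
    ∀ H : Subgroup G, H.IsSubnormal → ∀ M : Subgroup G, M.Normal →
    (∀ K : Subgroup G, K.Normal → K ≤ M → K = ⊥ ∨ K = M) →
    M ≤ Subgroup.normalizer (H : Set G) := by
  intro n
  induction n using Nat.strong_induction_on with
  | _ n ih =>
  intro G _ _ hn H hH M hMn hMmin
  by_cases hHtop : H = ⊤
  · rw [hHtop]
    exact le_top.trans Subgroup.le_normalizer
  obtain ⟨N, hNn, hHN, hNlt⟩ := hH.exists_normal_and_le_and_lt_top_of_ne hHtop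
  by_cases hM : M = ⊥
  · rw [hM]
    exact bot_le
  rcases hMmin (M ⊓ N) inferInstance inf_le_left with h | h
  · -- M and N commute
    have hcomm : ⁅M, N⁆ = ⊥ := by
      have h1 : ⁅M, N⁆ ≤ M ⊓ N :=
        le_inf (Subgroup.commutator_le_left _ _) (Subgroup.commutator_le_right _ _)
      rw [h] at h1
      exact le_bot_iff.mp h1
    have hMC : M ≤ Subgroup.centralizer (N : Set G) :=
      Subgroup.commutator_eq_bot_iff_le_centralizer.mp hcomm
    apply Cfsg.Agent.S0567.le_normalizer_of_conj_mem
    intro x hx y hy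
    have h1 := Subgroup.mem_centralizer_iff.mp (hMC hx) y (hHN hy)
    have h2 : x * y * x⁻¹ = y := by rw [← h1]; group
    rw [h2]
    exact hy
  · have hMN : M ≤ N := by rw [← h]; exact inf_le_right
    have hlt : Nat.card N < n := by
      rw [← hn]
      exact Cfsg.Agent.S0001.card_lt_of_ne_top hNlt.ne
    -- claim (A)
    have hA : ∀ K : Subgroup G,
        Minimal (fun K : Subgroup G => K ≤ M ∧ K ≠ ⊥ ∧ N ≤ Subgroup.normalizer (K : Set G)) K →
        K ≤ Subgroup.normalizer (H : Set G) := by
      intro K hKmin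
      obtain ⟨⟨hKM, hKne, hKN⟩, hKle⟩ := hKmin
      have hKNle : K ≤ N := hKM.trans hMN
      have hnormal : (K.subgroupOf N).Normal :=
        (Subgroup.normal_subgroupOf_iff_le_normalizer hKNle).mpr hKN
      have hmin' : ∀ K' : Subgroup N, K'.Normal → K' ≤ K.subgroupOf N →
          K' = ⊥ ∨ K' = K.subgroupOf N := by
        intro K' hK'n hK'le
        have hmaple : K'.map N.subtype ≤ K := by
          rintro _ ⟨y, hy, rfl⟩
          exact Subgroup.mem_subgroupOf.mp (hK'le hy)
        have hmapN : N ≤ Subgroup.normalizer ((K'.map N.subtype : Subgroup G) : Set G) := by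
          apply Cfsg.Agent.S0567.le_normalizer_of_conj_mem
          rintro x hx _ ⟨y, hy, rfl⟩
          exact ⟨⟨x, hx⟩ * y * ⟨x, hx⟩⁻¹, hK'n.conj_mem y hy ⟨x, hx⟩, rfl⟩
        by_cases hbot : K'.map N.subtype = ⊥
        · left
          exact (Subgroup.map_eq_bot_iff_of_injective K' N.subtype_injective).mp hbot
        · right
          have h1 : K ≤ K'.map N.subtype := hKle ⟨hmaple.trans hKM, hbot, hmapN⟩ hmaple
          have h2 : K'.map N.subtype = K := le_antisymm hmaple h1
          rw [← h2]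
          exact (Subgroup.comap_map_eq_self_of_injective N.subtype_injective K').symm
      have hih := ih (Nat.card N) hlt N rfl (H.subgroupOf N) hH.subgroupOf (K.subgroupOf N)
        hnormal hmin'
      apply Cfsg.Agent.S0567.le_normalizer_of_conj_mem
      intro x hx y hy
      have hx' : (⟨x, hKNle hx⟩ : N) ∈ K.subgroupOf N := Subgroup.mem_subgroupOf.mpr hx
      have hy' : (⟨y, hHN hy⟩ : N) ∈ H.subgroupOf N := Subgroup.mem_subgroupOf.mpr hy
      have h3 := (Subgroup.mem_normalizer_iff.mp (hih hx') ⟨y, hHN hy⟩).mp hy'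
      exact Subgroup.mem_subgroupOf.mp h3
    -- claim (B)
    have hB : ∀ K : Subgroup G,
        Minimal (fun K : Subgroup G => K ≤ M ∧ K ≠ ⊥ ∧ N ≤ Subgroup.normalizer (K : Set G)) K →
        ∀ g : G,
        Minimal (fun K : Subgroup G => K ≤ M ∧ K ≠ ⊥ ∧ N ≤ Subgroup.normalizer (K : Set G))
          (MulAut.conj g • K) := by
      intro K hKmin g
      refine ⟨conj_mem_inv M N K hKmin.1 g, ?_⟩
      intro Y hY hYle
      have h1 : (MulAut.conj g)⁻¹ • Y ≤ K := Subgroup.subset_pointwise_smul_iff.mp hYle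
      have h2 := conj_mem_inv M N Y hY g⁻¹
      rw [map_inv] at h2
      have h3 : K ≤ (MulAut.conj g)⁻¹ • Y := hKmin.2 h2 h1
      exact Subgroup.pointwise_smul_subset_iff.mpr h3
    -- the join of the minimal invariant subgroups
    obtain ⟨K₀, -, hK₀min⟩ := Finite.exists_le_minimal
      (p := fun K : Subgroup G => K ≤ M ∧ K ≠ ⊥ ∧ N ≤ Subgroup.normalizer (K : Set G)) (a := M)
      ⟨le_rfl, hM, Subgroup.le_normalizer_of_normal⟩
    have hJM : sSup {K : Subgroup G | Minimal
        (fun K : Subgroup G => K ≤ M ∧ K ≠ ⊥ ∧ N ≤ Subgroup.normalizer (K : Set G)) K} ≤ M :=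
      sSup_le (fun K hK => hK.1.1)
    have hJH : sSup {K : Subgroup G | Minimal
        (fun K : Subgroup G => K ≤ M ∧ K ≠ ⊥ ∧ N ≤ Subgroup.normalizer (K : Set G)) K} ≤
        Subgroup.normalizer (H : Set G) :=
      sSup_le (fun K hK => hA K hK)
    have hJn : (sSup {K : Subgroup G | Minimal
        (fun K : Subgroup G => K ≤ M ∧ K ≠ ⊥ ∧ N ≤ Subgroup.normalizer (K : Set G)) K}).Normal := by
      constructor
      intro x hx g
      have hle : sSup {K : Subgroup G | Minimal
          (fun K : Subgroup G => K ≤ M ∧ K ≠ ⊥ ∧ N ≤ Subgroup.normalizer (K : Set G)) K} ≤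
          (sSup {K : Subgroup G | Minimal
          (fun K : Subgroup G => K ≤ M ∧ K ≠ ⊥ ∧ N ≤ Subgroup.normalizer (K : Set G)) K}).comap
            (MulAut.conj g).toMonoidHom := by
        apply sSup_le
        intro K hK y hy
        rw [Subgroup.mem_comap]
        have h1 : MulAut.conj g • y ∈ MulAut.conj g • K := Subgroup.smul_mem_pointwise_smul y _ K hy
        exact (le_sSup (hB K hK g) : MulAut.conj g • K ≤ _) h1
      exact hle hx
    have hJne : sSup {K : Subgroup G | Minimal
        (fun K : Subgroup G => K ≤ M ∧ K ≠ ⊥ ∧ N ≤ Subgroup.normalizer (K : Set G)) K} ≠ ⊥ := by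
      intro hbot
      have h1 : K₀ ≤ sSup {K : Subgroup G | Minimal
        (fun K : Subgroup G => K ≤ M ∧ K ≠ ⊥ ∧ N ≤ Subgroup.normalizer (K : Set G)) K} :=
        le_sSup hK₀min
      rw [hbot] at h1
      exact hK₀min.1.2.1 (le_bot_iff.mp h1)
    rcases hMmin _ hJn hJM with h' | h'
    · exact absurd h' hJne
    · rw [← h']
      exact hJH

theorem le_normalizer_sup {G : Type*} [Group G] (X A B : Subgroup G)
    (hA : X ≤ Subgroup.normalizer (A : Set G)) (hB : X ≤ Subgroup.normalizer (B : Set G)) :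
    X ≤ Subgroup.normalizer ((A ⊔ B : Subgroup G) : Set G) :=
  (le_inf hA hB).trans (Subgroup.normalizer_inf_normalizer_le_normalizer_sup A B)

/-- Wielandt: the join of two subnormal subgroups of a finite group is subnormal. -/
theorem join_subnormal : ∀ (n : ℕ) (G : Type u) [Group G] [Finite G], Nat.card G = n →
    ∀ A B : Subgroup G, A.IsSubnormal → B.IsSubnormal → (A ⊔ B).IsSubnormal := by
  intro n
  induction n using Nat.strong_induction_on with
  | _ n ih =>
  intro G _ _ hn A B hA hB
  by_cases hnt : Nontrivial G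
  · obtain ⟨M, hMn, hM, hMmin⟩ := Cfsg.Agent.S0048.exists_minimal_normal (G := G)
    have hMA := min_normal_le_normalizer _ G rfl A hA M hMn hMmin
    have hMB := min_normal_le_normalizer _ G rfl B hB M hMn hMmin
    have hlt : Nat.card (G ⧸ M) < n := by
      rw [← hn]
      exact Cfsg.Agent.S0001.card_quotient_lt hM
    have h1 := ih _ hlt (G ⧸ M) rfl (A.map (QuotientGroup.mk' M)) (B.map (QuotientGroup.mk' M))
      hA.quotient hB.quotient
    have h2 := h1.comap (QuotientGroup.mk' M)
    rw [← Subgroup.map_sup, Subgroup.comap_map_eq, QuotientGroup.ker_mk'] at h2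
    refine Subgroup.IsSubnormal.step (A ⊔ B) (A ⊔ B ⊔ M) le_sup_left h2 ?_
    rw [Subgroup.normal_subgroupOf_iff_le_normalizer le_sup_left]
    exact sup_le Subgroup.le_normalizer (le_normalizer_sup M A B hMA hMB)
  · rw [not_nontrivial_iff_subsingleton] at hnt
    have : A ⊔ B = ⊤ := by
      rw [Subgroup.eq_top_iff']
      intro x
      rw [Subsingleton.elim x 1]
      exact Subgroup.one_mem _
    rw [this]
    exact Subgroup.IsSubnormal.top

/-- The join of two subnormal subgroups of a finite group is subnormal. -/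
theorem result {G : Type*} [Group G] [Finite G] (A B : Subgroup G) (hA : A.IsSubnormal) (hB : B.IsSubnormal) : (A ⊔ B).IsSubnormal :=
  join_subnormal _ G rfl A B hA hB

end Cfsg.Agent.S0538
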