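-- Statement S4018: abelian Sylow 3 with small normalizer, TI centralizer, small even subgroups: not simple.
import Cfsg.Statements.S4018
import Cfsg.Agent.Helper17.Inv18c

set_option autoImplicit false
open Cfsg

namespace Cfsg.Agent.S4018

open Cfsg.Agent.Helper17 in
/-- Let G be a finite group with an abelian Sylow 3-subgroup P such that the normalizer of P has order 4·#P, the centralizer C of P has order 2·#P, C meets each of its conjugates by elements outside its normalizer trivially, and every proper subgroup of G of even order has order dividing 4·#P. Then G is not simple. -/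
theorem result {G : Type*} [Group G] [Finite G]
    (P : Sylow 3 G) (hab : IsMulCommutative P)
    (hN : Nat.card (Subgroup.normalizer ((P : Subgroup G) : Set G)) = 4 * Nat.card P)
    (hC : Nat.card (Subgroup.centralizer (P : Set G)) = 2 * Nat.card P)
    (hTI : Cfsg.IsTISubset (Subgroup.centralizer (P : Set G) : Set G))
    (heven : ∀ H : Subgroup G, H ≠ ⊤ → 2 ∣ Nat.card H → Nat.card H ∣ 4 * Nat.card P) :
    ¬ IsSimpleGroup G := by
  intro hs
  classical
  let C : Subgroup G := Subgroup.centralizer ((P : Subgroup G) : Set G)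
  have hCc : Nat.card C = 2 * Nat.card P := hC
  have hCmem : ∀ z : G, z ∈ C ↔ ∀ y ∈ (P : Subgroup G), y * z = z * y :=
    fun z => Subgroup.mem_centralizer_iff
  have hPpos : 0 < Nat.card P := Nat.card_pos
  have hPC : ∀ y ∈ (P : Subgroup G), y ∈ C := by
    intro y hy
    rw [hCmem]
    intro z hz
    have := hab.is_comm.comm (⟨z, hz⟩ : ↥P) ⟨y, hy⟩
    exact congrArg Subtype.val this
  have hnc : ¬ ∀ a b : G, a * b = b * a := by
    intro hcomm
    have h1 : C = ⊤ := by
      rw [eq_top_iff]
      intro z _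
      rw [hCmem]
      intro y _
      exact hcomm y z
    have h2 : Subgroup.normalizer ((P : Subgroup G) : Set G) = ⊤ := by
      rw [eq_top_iff]
      intro z _
      rw [Subgroup.mem_normalizer_iff]
      intro y
      rw [hcomm z y, mul_inv_cancel_right]
    rw [h1] at hCc
    rw [h2] at hN
    omega
  have hZ : ∀ z : G, z ≠ 1 → ∃ g : G, g * z ≠ z * g := by
    intro z hz
    by_contra hall
    push Not at hall
    have hzc : z ∈ Subgroup.center G := Subgroup.mem_center_iff.mpr hall
    rcases hs.eq_bot_or_eq_top_of_normal (Subgroup.center G) inferInstance with hb | ht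
    · rw [hb, Subgroup.mem_bot] at hzc
      exact hz hzc
    · apply hnc
      intro a b
      have : b ∈ Subgroup.center G := by rw [ht]; trivial
      exact Subgroup.mem_center_iff.mp this a
  have h4 : 4 ∣ Nat.card G := by
    have := Subgroup.card_subgroup_dvd_card (Subgroup.normalizer ((P : Subgroup G) : Set G))
    rw [hN] at this
    exact (Dvd.intro _ rfl).trans this
  have h8 : ¬ 8 ∣ Nat.card G := by
    intro h8
    obtain ⟨S⟩ : Nonempty (Sylow 2 G) := inferInstance
    have hS8 : 2 ^ 3 ∣ Nat.card S := S.pow_dvd_card_of_pow_dvd_card (by simpa using h8)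
    have hS2 : 2 ∣ Nat.card S := (by norm_num : 2 ∣ 2 ^ 3).trans hS8
    have hSne : (S : Subgroup G) ≠ ⊤ := by
      intro hS
      have hG2 : IsPGroup 2 G := by
        have := S.isPGroup'
        rw [hS] at this
        exact this.of_equiv Subgroup.topEquiv
      haveI : Nontrivial G := hs.toNontrivial
      have hcn := hG2.center_nontrivial
      rcases hs.eq_bot_or_eq_top_of_normal (Subgroup.center G) inferInstance with hb | ht
      · rw [hb] at hcn
        exact not_nontrivial _ hcn
      · apply hnc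
        intro a b
        have : b ∈ Subgroup.center G := by rw [ht]; trivial
        exact Subgroup.mem_center_iff.mp this a
    have hSd := heven _ hSne hS2
    obtain ⟨a, ha⟩ := IsPGroup.iff_card.mp P.isPGroup'
    rw [ha] at hSd
    have h83 : 2 ^ 3 ∣ 4 * 3 ^ a := hS8.trans hSd
    have hco : Nat.Coprime (2 ^ 3) (3 ^ a) := Nat.Coprime.pow 3 a (by norm_num)
    have := hco.dvd_of_dvd_mul_right h83
    norm_num at this
  have h2C : 2 ∣ Nat.card C := by
    rw [hCc]
    exact Dvd.intro _ rfl
  obtain ⟨⟨t, htC⟩, ht'⟩ := exists_prime_orderOf_dvd_card' (G := C) 2 h2C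
  have ht : orderOf t = 2 := by
    rw [← Subgroup.orderOf_mk t htC]
    exact ht'
  have hinvP : ∀ z : G, orderOf z = 2 → z ∉ (P : Subgroup G) := by
    intro z hz hzP
    obtain ⟨j, hj⟩ := Inv18.pow_three_of_mem P hzP
    have h1 : orderOf z ∣ 3 ^ j := orderOf_dvd_of_pow_eq_one hj
    rw [hz] at h1
    have := Nat.Prime.dvd_of_dvd_pow Nat.prime_two h1
    omega
  have hidx : ((P : Subgroup G).subgroupOf C).index = 2 := by
    have h1 := Subgroup.card_mul_index ((P : Subgroup G).subgroupOf C)
    have h2 : Nat.card ((P : Subgroup G).subgroupOf C) = Nat.card P :=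
      Nat.card_congr (Subgroup.subgroupOfEquivOfLe (fun y hy => hPC y hy)).toEquiv
    rw [h2, hCc] at h1
    exact Nat.eq_of_mul_eq_mul_left hPpos (by linarith)
  have hC1 : ∀ z ∈ C, orderOf z = 2 → z = t := by
    intro z hzC hz
    have h1 := Subgroup.mul_mem_iff_of_index_two hidx (a := (⟨z, hzC⟩ : C)) (b := ⟨t, htC⟩)
    have hzP : (⟨z, hzC⟩ : C) ∉ (P : Subgroup G).subgroupOf C :=
      fun hm => hinvP z hz (Subgroup.mem_subgroupOf.mp hm)
    have htP : (⟨t, htC⟩ : C) ∉ (P : Subgroup G).subgroupOf C :=
      fun hm => hinvP t ht (Subgroup.mem_subgroupOf.mp hm)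
    have h2 : (⟨z, hzC⟩ : C) * ⟨t, htC⟩ ∈ (P : Subgroup G).subgroupOf C :=
      h1.mpr ⟨fun hm => absurd hm hzP, fun hm => absurd hm htP⟩
    have h3 : z * t ∈ (P : Subgroup G) := Subgroup.mem_subgroupOf.mp h2
    have h4' : (z * t) * t = t * (z * t) := (hCmem t).mp htC _ h3
    have hzt : z * t = t * z := by
      have e : z * t * t = z := by rw [mul_assoc, Inv18.sq_of_inv ht, mul_one]
      rw [e] at h4'
      calc z * t = t * (t * (z * t)) := by rw [← mul_assoc, Inv18.sq_of_inv ht, one_mul]
        _ = t * z := by rw [← h4']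
    have h5 : (z * t) ^ 2 = 1 := by
      rw [pow_two]
      calc z * t * (z * t) = z * (t * z) * t := by group
        _ = z * (z * t) * t := by rw [hzt]
        _ = (z * z) * (t * t) := by group
        _ = 1 := by rw [Inv18.sq_of_inv hz, Inv18.sq_of_inv ht, one_mul]
    obtain ⟨j, hj⟩ := Inv18.pow_three_of_mem P h3
    have h6 : orderOf (z * t) ∣ 2 := orderOf_dvd_of_pow_eq_one h5
    have h7 : orderOf (z * t) ∣ 3 ^ j := orderOf_dvd_of_pow_eq_one hj
    have h8' : orderOf (z * t) = 1 := by
      have := Nat.dvd_gcd h6 h7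
      have hg : Nat.gcd 2 (3 ^ j) = 1 := Nat.Coprime.pow_right j (by norm_num)
      rw [hg] at this
      exact Nat.dvd_one.mp this
    have h9 : z * t = 1 := orderOf_eq_one_iff.mp h8'
    rw [← Inv18.inv_of_inv ht]
    exact eq_inv_of_mul_eq_one_left h9
  have hTI' : ∀ g x : G, x ∈ C → x ≠ 1 → g * x * g⁻¹ ∈ C → ∀ c ∈ C, g * c * g⁻¹ ∈ C := by
    intro g x hx hx1 hgx c hc
    have hg : g ∈ Subgroup.normalizer ((C : Subgroup G) : Set G) := by
      by_contra hg
      exact hx1 (hTI g hg x hx hgx)
    exact (Subgroup.mem_normalizer_iff.mp hg c).mp hc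
  have hCP : ∀ z ∈ C, ∀ y ∈ (P : Subgroup G), y * z = z * y := fun z hz => (hCmem z).mp hz
  exact Inv18.Pkg.contradiction (P := P) (C := C) (t := t)
    ⟨hs, ht, htC, hC1, hTI', hPC, hCP, heven, h4, h8, hZ⟩

end Cfsg.Agent.S4018
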