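import Cfsg.Statements.S0579
import Cfsg.Agent.S0580
import Cfsg.Agent.S0528
import Cfsg.Agent.S0529
import Cfsg.Agent.S0667
import Cfsg.Agent.S0650
import Cfsg.Agent.Helper5.Eigen
import Cfsg.Agent.Helper4.Supersolvable
import Cfsg.Agent.Helper4.MinNormal
import Cfsg.Agent.Helper13.PSolv
import Cfsg.Agent.Helper13.Omega
import Cfsg.Agent.Helper1.CycIdx
import Cfsg.Agent.Lead.Quat

set_option autoImplicit false
open Cfsg

namespace Cfsg.Agent.S0579


open scoped commutatorElement

universe u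

theorem isPSolvable_of_supersolvable {Γ : Type*} [Group Γ] [Finite Γ] (p : ℕ) [Fact p.Prime]
    (hss : Cfsg.IsSupersolvable Γ) : Cfsg.IsPSolvable p Γ := by
  obtain ⟨n, H, h0, hlast, hn, hstep, -⟩ := Cfsg.Agent.S0529.result hss
  refine ⟨n, H, h0, hlast, Fin.monotone_iff_le_succ.mpr (fun i => (hstep i).1), hn, ?_⟩
  intro i
  by_cases hq : (H i.castSucc).relIndex (H i.succ) = p
  · left; exact ⟨1, by rw [hq, pow_one]⟩
  · right
    exact (Nat.coprime_primes (hstep i).2 Fact.out).mpr hq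

/-- elements acting trivially on all factors of a chain of normal subgroups -/
def chainStab {Γ : Type*} [Group Γ] {n : ℕ} (K : Fin (n + 1) → Subgroup Γ)
    (hK : ∀ j, (K j).Normal) : Subgroup Γ where
  carrier := {g | ∀ j : Fin n, ∀ x ∈ K j.succ, x⁻¹ * g * x * g⁻¹ ∈ K j.castSucc}
  mul_mem' := by
    intro g h hg hh j x hx
    have e : x⁻¹ * (g * h) * x * (g * h)⁻¹ =
        (x⁻¹ * g * x * g⁻¹) * (g * (x⁻¹ * h * x * h⁻¹) * g⁻¹) := by group
    rw [e]
    exact mul_mem (hg j x hx) ((hK _).conj_mem _ (hh j x hx) g)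
  one_mem' := by
    intro j x hx
    have e : x⁻¹ * 1 * x * (1 : Γ)⁻¹ = 1 := by group
    rw [e]; exact one_mem _
  inv_mem' := by
    intro g hg j x hx
    have e : x⁻¹ * g⁻¹ * x * g⁻¹⁻¹ = g⁻¹ * (x⁻¹ * g * x * g⁻¹)⁻¹ * g⁻¹⁻¹ := by group
    rw [e]
    exact (hK _).conj_mem _ (inv_mem (hg j x hx)) g⁻¹

theorem mem_chainStab {Γ : Type*} [Group Γ] {n : ℕ} (K : Fin (n + 1) → Subgroup Γ)
    (hK : ∀ j, (K j).Normal) (g : Γ) :
    g ∈ chainStab K hK ↔ ∀ j : Fin n, ∀ x ∈ K j.succ, x⁻¹ * g * x * g⁻¹ ∈ K j.castSucc := Iff.rfl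

theorem chainStab_normal {Γ : Type*} [Group Γ] {n : ℕ} (K : Fin (n + 1) → Subgroup Γ)
    (hK : ∀ j, (K j).Normal) : (chainStab K hK).Normal := by
  constructor
  intro g hg h
  rw [mem_chainStab] at hg ⊢
  intro j x hx
  have hx' : h⁻¹ * x * h ∈ K j.succ := by
    have := (hK j.succ).conj_mem x hx h⁻¹
    rwa [inv_inv] at this
  have e : x⁻¹ * (h * g * h⁻¹) * x * (h * g * h⁻¹)⁻¹ =
      h * ((h⁻¹ * x * h)⁻¹ * g * (h⁻¹ * x * h) * g⁻¹) * h⁻¹ := by group
  rw [e]
  exact (hK _).conj_mem _ (hg j _ hx') h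

theorem centralizes_of_chainStab {Γ : Type*} [Group Γ] {p : ℕ} {n : ℕ}
    (K : Fin (n + 1) → Subgroup Γ) (hK : ∀ j, (K j).Normal) (hK0 : K 0 = ⊥)
    (hKp : ∀ j, IsPGroup p (K j)) (g : Γ) (hg : g ∈ chainStab K hK)
    (hcop : (orderOf g).Coprime p) :
    ∀ j : Fin (n + 1), g ∈ Subgroup.centralizer (K j : Set Γ) := by
  intro j
  induction j using Fin.induction with
  | zero =>
    rw [hK0]
    refine Subgroup.mem_centralizer_iff.mpr ?_
    intro x hx
    have hx1 : x = 1 := Subgroup.mem_bot.mp hx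
    rw [hx1, one_mul, mul_one]
  | succ i ih =>
    have hKn := hK i.succ
    apply Cfsg.Agent.Helper13.centralizes_of_fixes_comm (K i.succ) (hKp _) g
      (by rw [Subgroup.normalizer_eq_top]; trivial) hcop
    intro x hx
    have h1 := hg i x hx
    have h2 := Subgroup.mem_centralizer_iff.mp ih _ h1
    have e : x⁻¹ * (g * x * g⁻¹) = x⁻¹ * g * x * g⁻¹ := by group
    rw [e, ← h2]; group

theorem comm_pow_mem_chainStab {Γ : Type*} [Group Γ] [Finite Γ] {p : ℕ} [Fact p.Prime] {n : ℕ}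
    (K : Fin (n + 1) → Subgroup Γ) (hK : ∀ j, (K j).Normal) (hKp : ∀ j, IsPGroup p (K j))
    (hidx : ∀ j : Fin n, (K j.castSucc).relIndex (K j.succ) = 1 ∨
      ((K j.castSucc).relIndex (K j.succ)).Prime) :
    (∀ a b : Γ, ⁅a, b⁆ ∈ chainStab K hK) ∧ ∀ a : Γ, a ^ (p - 1) ∈ chainStab K hK := by
  have hp : p.Prime := Fact.out
  -- common setup
  have key : ∀ j : Fin n, ∀ g : Γ, (∀ a b : Γ, g = ⁅a, b⁆ → ∀ x ∈ K j.succ,
      x⁻¹ * g * x * g⁻¹ ∈ K j.castSucc) ∧ (∀ a : Γ, g = a ^ (p - 1) → ∀ x ∈ K j.succ,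
      x⁻¹ * g * x * g⁻¹ ∈ K j.castSucc) := by
    intro j g
    have hKn := hK j.castSucc
    obtain ⟨π, hπdef⟩ : ∃ π : Γ →* Γ ⧸ K j.castSucc, π = QuotientGroup.mk' (K j.castSucc) :=
      ⟨_, rfl⟩
    have hπs : Function.Surjective π := hπdef ▸ QuotientGroup.mk'_surjective _
    have hker : ∀ y : Γ, π y = 1 → y ∈ K j.castSucc := by
      intro y hy
      rw [hπdef, QuotientGroup.mk'_apply, QuotientGroup.eq_one_iff] at hy
      exact hy
    obtain ⟨C, hCdef⟩ : ∃ C : Subgroup (Γ ⧸ K j.castSucc), C = (K j.succ).map π := ⟨_, rfl⟩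
    have hCn : C.Normal := hCdef ▸ Subgroup.Normal.map (hK j.succ) π hπs
    have hCp : IsPGroup p C := hCdef ▸ (hKp j.succ).map π
    have hcard : Nat.card C = (K j.castSucc).relIndex (K j.succ) := by
      have h2 : K j.castSucc = (⊥ : Subgroup (Γ ⧸ K j.castSucc)).comap π := by
        rw [MonoidHom.comap_bot, hπdef, QuotientGroup.ker_mk']
      conv_rhs => rw [h2]
      rw [Subgroup.relIndex_comap, Subgroup.relIndex_bot_left, hCdef]
    have hC : IsCyclic C := by
      rcases hidx j with h1 | hq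
      · have : Subsingleton C := (Nat.card_eq_one_iff_unique.mp (hcard.trans h1)).1
        exact isCyclic_of_subsingleton
      · haveI : Fact ((K j.castSucc).relIndex (K j.succ)).Prime := ⟨hq⟩
        exact isCyclic_of_prime_card hcard
    -- commuting in the quotient gives membership
    have hmem : ∀ x ∈ K j.succ, π g * π x = π x * π g → x⁻¹ * g * x * g⁻¹ ∈ K j.castSucc := by
      intro x _ hcomm
      apply hker
      rw [map_mul, map_mul, map_mul, map_inv, map_inv, mul_assoc (π x)⁻¹, hcomm]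
      group
    constructor
    · rintro a b rfl x hx
      apply hmem x hx
      obtain ⟨c₀, hc₀⟩ := hC.exists_generator
      have hCz : C = Subgroup.zpowers (c₀ : Γ ⧸ K j.castSucc) := by
        apply le_antisymm
        · intro y hy
          obtain ⟨i, hi⟩ := Subgroup.mem_zpowers_iff.mp (hc₀ ⟨y, hy⟩)
          refine Subgroup.mem_zpowers_iff.mpr ⟨i, ?_⟩
          have := congrArg Subtype.val hi
          simpa only [Subgroup.coe_zpow] using this
        · rw [Subgroup.zpowers_le]; exact c₀.2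
      have hzn : (Subgroup.zpowers (c₀ : Γ ⧸ K j.castSucc)).Normal := hCz ▸ hCn
      have h1 := Cfsg.Agent.Helper4.commutator_le_centralizer_of_normal_zpowers _ hzn
      have h2 : π ⁅a, b⁆ ∈ commutator (Γ ⧸ K j.castSucc) := by
        rw [map_commutatorElement, commutator_def]
        exact Subgroup.commutator_mem_commutator (Subgroup.mem_top _) (Subgroup.mem_top _)
      have h3 : π x ∈ Subgroup.zpowers (c₀ : Γ ⧸ K j.castSucc) := by
        rw [← hCz, hCdef]; exact Subgroup.mem_map_of_mem _ hx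
      exact (Subgroup.mem_centralizer_iff.mp (h1 h2) _ h3).symm
    · rintro a rfl x hx
      apply hmem x hx
      obtain ⟨k, hk⟩ := Cfsg.Agent.Helper1.conj_pow_of_cyclic C hCn hC (π a)
      have hxC : π x ∈ C := by rw [hCdef]; exact Subgroup.mem_map_of_mem _ hx
      have h1 := Cfsg.Agent.Helper1.conj_pow_iter (π a) (π x) k (hk _ hxC) (p - 1)
      have h2 : π x ^ (k ^ (p - 1)) = π x := by
        by_cases hc1 : π x = 1
        · rw [hc1, one_pow]
        · -- order of `π x` is `p`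
          have hord1 : orderOf (π x) ∣ Nat.card C := by
            have := orderOf_dvd_natCard (⟨π x, hxC⟩ : C)
            rwa [Subgroup.orderOf_mk] at this
          have hordne : orderOf (π x) ≠ 1 := fun h => hc1 (orderOf_eq_one_iff.mp h)
          obtain ⟨i, hi⟩ := hCp ⟨π x, hxC⟩
          have hi' : π x ^ p ^ i = 1 := by
            have := congrArg Subtype.val hi
            simpa only [Subgroup.coe_pow, Subgroup.coe_one] using this
          have hord2 : orderOf (π x) ∣ p ^ i := orderOf_dvd_of_pow_eq_one hi'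
          have hordp : orderOf (π x) = p := by
            rcases hidx j with h1' | hq
            · rw [hcard, h1', Nat.dvd_one] at hord1
              exact absurd hord1 hordne
            · rw [hcard] at hord1
              rcases (Nat.dvd_prime hq).mp hord1 with h | h
              · exact absurd h hordne
              · have hqp : (K j.castSucc).relIndex (K j.succ) = p := by
                  rw [h] at hord2
                  exact (Nat.prime_dvd_prime_iff_eq hq hp).mp (hq.dvd_of_dvd_pow hord2)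
                rw [h, hqp]
          have hkp : Nat.Coprime k p := by
            rw [Nat.coprime_comm, hp.coprime_iff_not_dvd]
            intro hdvd
            have h3 : π x ^ k = 1 := by
              rw [← hordp] at hdvd
              exact orderOf_dvd_iff_pow_eq_one.mp hdvd
            have h4 := hk _ hxC
            rw [h3] at h4
            apply hc1
            have : π x = (π a)⁻¹ * (π a * π x * (π a)⁻¹) * π a := by group
            rw [this, h4]; group
          have h5 : k ^ (p - 1) ≡ 1 [MOD p] := by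
            have := Nat.ModEq.pow_totient hkp
            rwa [Nat.totient_prime hp] at this
          have h6 : π x ^ (k ^ (p - 1)) = π x ^ 1 := by
            rw [pow_eq_pow_iff_modEq, hordp]; exact h5
          rw [h6, pow_one]
      rw [h2] at h1
      rw [map_pow]
      calc π a ^ (p - 1) * π x = (π a ^ (p - 1) * π x * (π a ^ (p - 1))⁻¹) * π a ^ (p - 1) := by
            group
        _ = π x * π a ^ (p - 1) := by rw [h1]
  constructor
  · intro a b
    rw [mem_chainStab]
    intro j x hx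
    exact (key j ⁅a, b⁆).1 a b rfl x hx
  · intro a
    rw [mem_chainStab]
    intro j x hx
    exact (key j (a ^ (p - 1))).2 a rfl x hx

/-- a finite supersolvable group with trivial `p'`-core: a normal `p`-subgroup containing all
commutators and all `(p-1)`-th powers -/
theorem ss_core {Γ : Type*} [Group Γ] [Finite Γ] {p : ℕ} [Fact p.Prime]
    (hss : Cfsg.IsSupersolvable Γ) (hO : Cfsg.pPrimeCore p Γ = ⊥) :
    ∃ Y : Subgroup Γ, Y.Normal ∧ IsPGroup p Y ∧ (∀ a b : Γ, ⁅a, b⁆ ∈ Y) ∧
      ∀ a : Γ, a ^ (p - 1) ∈ Y := by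
  obtain ⟨n, H, h0, hlast, hn, hstep, -⟩ := Cfsg.Agent.S0529.result hss
  have hQC := Cfsg.Agent.Helper13.centralizer_pCore_le_of_isPSolvable
    (isPSolvable_of_supersolvable p hss) hO
  obtain ⟨Q, hQdef⟩ : ∃ Q, Q = Cfsg.pCore p Γ := ⟨_, rfl⟩
  rw [← hQdef] at hQC
  have hQn : Q.Normal := hQdef ▸ Cfsg.pCore_normal p Γ
  have hQp : IsPGroup p Q := hQdef ▸ Sylow.sSup_of_normal _ (fun _ h => h.2) (fun _ h => h.1)
  have hK : ∀ j, (Q ⊓ H j).Normal := fun j => by
    have := hn j
    infer_instance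
  have hKp : ∀ j, IsPGroup p (Q ⊓ H j : Subgroup Γ) := fun j => hQp.to_le inf_le_left
  have hidx : ∀ j : Fin n, (Q ⊓ H j.castSucc).relIndex (Q ⊓ H j.succ) = 1 ∨
      ((Q ⊓ H j.castSucc).relIndex (Q ⊓ H j.succ)).Prime := by
    intro j
    have hHn := hn j.castSucc
    have e : Q ⊓ H j.castSucc = H j.castSucc ⊓ (Q ⊓ H j.succ) := by
      rw [inf_left_comm, inf_eq_left.mpr (hstep j).1]
    have hdvd : (Q ⊓ H j.castSucc).relIndex (Q ⊓ H j.succ) ∣
        (H j.castSucc).relIndex (H j.succ) := by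
      rw [e, Subgroup.inf_relIndex_right]
      exact Cfsg.Agent.Helper13.relIndex_dvd_of_le_right_normal (H j.castSucc) (Q ⊓ H j.succ)
        (H j.succ) inf_le_right
    rcases (Nat.dvd_prime (hstep j).2).mp hdvd with h | h
    · exact Or.inl h
    · exact Or.inr (h ▸ (hstep j).2)
  obtain ⟨hcomm, hpow⟩ := comm_pow_mem_chainStab (fun j => Q ⊓ H j) hK hKp hidx
  refine ⟨chainStab (fun j => Q ⊓ H j) hK, chainStab_normal _ hK, ?_, hcomm, hpow⟩
  rintro ⟨y, hy⟩
  obtain ⟨u, c, -, hcz, hyuc, ⟨k, hk⟩, hcop⟩ := Cfsg.Agent.S0667.exists_p_decomp p y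
  have hcY : c ∈ chainStab (fun j => Q ⊓ H j) hK := (Subgroup.zpowers_le.mpr hy) hcz
  have h1 := centralizes_of_chainStab (fun j => Q ⊓ H j) hK (by rw [h0, inf_bot_eq]) hKp c hcY
    hcop (Fin.last n)
  rw [hlast, inf_top_eq] at h1
  have hcQ : c ∈ Q := hQC h1
  obtain ⟨i, hi⟩ := hQp ⟨c, hcQ⟩
  have hi' : c ^ p ^ i = 1 := by
    have := congrArg Subtype.val hi
    simpa only [Subgroup.coe_pow, Subgroup.coe_one] using this
  have hc1 : c = 1 := by
    have h2 : orderOf c ∣ p ^ i := orderOf_dvd_of_pow_eq_one hi'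
    have h3 : orderOf c = 1 := Nat.eq_one_of_dvd_coprimes (Nat.Coprime.pow_right i hcop) dvd_rfl h2
    exact orderOf_eq_one_iff.mp h3
  refine ⟨k, Subtype.ext ?_⟩
  show y ^ p ^ k = 1
  rw [hyuc, hc1, mul_one, hk]

/-- a minimal normal elementary abelian `p`-subgroup on which commutators and `(p-1)`-th powers
act trivially is cyclic -/
theorem conj_scalar {G : Type*} [Group G] [Finite G] {p : ℕ} [Fact p.Prime] (N : Subgroup G)
    [hNn : N.Normal] (hNc : ∀ x ∈ N, ∀ y ∈ N, x * y = y * x) (hNp : ∀ x ∈ N, x ^ p = 1)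
    (hN1 : N ≠ ⊥) (hmin : ∀ K : Subgroup G, K.Normal → K ≤ N → K ≠ ⊥ → K = N)
    (hcomm : ∀ a b : G, ∀ x ∈ N, ⁅a, b⁆ * x = x * ⁅a, b⁆)
    (hpow : ∀ a : G, ∀ x ∈ N, a ^ (p - 1) * x = x * a ^ (p - 1)) : IsCyclic N := by
  -- every element acts as a power map
  have hscal : ∀ g : G, ∃ c : ℕ, ∀ x ∈ N, g * x * g⁻¹ = x ^ c := by
    intro g
    letI : CommGroup ↥N :=
      { (inferInstance : Group ↥N) with
        mul_comm := fun a b => Subtype.ext (hNc a a.2 b b.2) }
    haveI : Nontrivial ↥N := (Subgroup.nontrivial_iff_ne_bot N).mpr hN1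
    obtain ⟨φ, hφdef⟩ : ∃ φ : ↥N →* ↥N, ∀ x : ↥N, ((φ x : ↥N) : G) = g * x * g⁻¹ :=
      ⟨{ toFun := fun x => ⟨g * x * g⁻¹, hNn.conj_mem x x.2 g⟩
         map_one' := Subtype.ext (by simp)
         map_mul' := fun x y => Subtype.ext (by simp) }, fun x => rfl⟩
    have hiter : ∀ (m : ℕ) (x : ↥N), ((φ^[m] x : ↥N) : G) = g ^ m * x * (g ^ m)⁻¹ := by
      intro m
      induction m with
      | zero => intro x; simp
      | succ m ih =>
        intro x
        rw [Function.iterate_succ_apply', hφdef, ih, pow_succ']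
        group
    obtain ⟨c, v, hv, hφv⟩ := Cfsg.Agent.Helper5.exists_eigen_comm (p := p)
      (fun a : ↥N => Subtype.ext (by
        simpa only [Subgroup.coe_pow, Subgroup.coe_one] using hNp a a.2)) φ (fun a => by
        apply Subtype.ext
        rw [hiter, hpow g a a.2]
        group)
    have hv1 : (v : G) ≠ 1 := fun h => hv (Subtype.ext h)
    have hgv : g * (v : G) * g⁻¹ = (v : G) ^ c := by
      rw [← hφdef, hφv]; rfl
    -- the eigenspace is a normal subgroup
    let E : Subgroup G :=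
      { carrier := {x | x ∈ N ∧ g * x * g⁻¹ = x ^ c}
        mul_mem' := by
          rintro x y ⟨hx1, hx2⟩ ⟨hy1, hy2⟩
          refine ⟨N.mul_mem hx1 hy1, ?_⟩
          have hc : Commute x y := hNc x hx1 y hy1
          rw [hc.mul_pow, ← hx2, ← hy2]; group
        one_mem' := ⟨N.one_mem, by simp⟩
        inv_mem' := by
          rintro x ⟨hx1, hx2⟩
          refine ⟨N.inv_mem hx1, ?_⟩
          rw [inv_pow, ← hx2]; group }
    have hEn : E.Normal := by
      constructor
      rintro x ⟨hx1, hx2⟩ h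
      refine ⟨hNn.conj_mem x hx1 h, ?_⟩
      have hd := hcomm g⁻¹ h⁻¹ x hx1
      have e1 : g * (h * x * h⁻¹) * g⁻¹ = h * (g * (⁅g⁻¹, h⁻¹⁆ * x) * ⁅g⁻¹, h⁻¹⁆⁻¹ * g⁻¹) * h⁻¹ := by
        rw [commutatorElement_def]; group
      rw [e1, hd]
      have e2 : h * (g * (x * ⁅g⁻¹, h⁻¹⁆) * ⁅g⁻¹, h⁻¹⁆⁻¹ * g⁻¹) * h⁻¹ = h * (g * x * g⁻¹) * h⁻¹ := by
        group
      rw [e2, hx2, conj_pow]
    have hEN : E ≤ N := fun x hx => hx.1
    have hE1 : E ≠ ⊥ := by
      intro hbot
      have : (v : G) ∈ E := ⟨v.2, hgv⟩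
      rw [hbot, Subgroup.mem_bot] at this
      exact hv1 this
    have hEeq := hmin E hEn hEN hE1
    refine ⟨c, fun x hx => ?_⟩
    have : x ∈ E := by rw [hEeq]; exact hx
    exact this.2
  obtain ⟨v₁, hv₁N, hv₁⟩ : ∃ v₁ ∈ N, v₁ ≠ 1 := by
    by_contra hcon
    push Not at hcon
    apply hN1
    rw [Subgroup.eq_bot_iff_forall]
    exact hcon
  have hzn : (Subgroup.zpowers v₁).Normal := by
    constructor
    intro y hy g
    obtain ⟨i, rfl⟩ := Subgroup.mem_zpowers_iff.mp hy
    obtain ⟨c, hc⟩ := hscal g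
    have e : g * v₁ ^ i * g⁻¹ = (g * v₁ * g⁻¹) ^ i := by
      have := map_zpow (MulAut.conj g) v₁ i
      simpa only [MulAut.conj_apply] using this
    rw [e, hc v₁ hv₁N]
    exact Subgroup.zpow_mem _ (Subgroup.pow_mem _ (Subgroup.mem_zpowers v₁) c) i
  have hzN : Subgroup.zpowers v₁ ≤ N := by rw [Subgroup.zpowers_le]; exact hv₁N
  have hz1 : Subgroup.zpowers v₁ ≠ ⊥ := by
    intro hbot
    have := Subgroup.mem_zpowers v₁
    rw [hbot, Subgroup.mem_bot] at this
    exact hv₁ this
  have hzeq := hmin _ hzn hzN hz1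
  rw [← hzeq]
  infer_instance


theorem aux : ∀ (n : ℕ) (G : Type u) [Group G] [Finite G], Nat.card G = n →
    (∀ M : Subgroup G, IsCoatom M → M.index.Prime) → Cfsg.IsSupersolvable G := by
  intro n
  induction n using Nat.strong_induction_on with
  | _ n ih =>
  intro G _ _ hcard h
  by_cases htriv : Subsingleton G
  · exact Cfsg.Agent.Helper4.isSupersolvable_of_isCyclic
  have hnt : Nontrivial G := not_subsingleton_iff_nontrivial.mp htriv
  haveI hsol : Group.IsSolvable G := Cfsg.Agent.S0580.result h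
  -- quotients
  have hquot : ∀ (N : Subgroup G) [N.Normal], N ≠ ⊥ → Cfsg.IsSupersolvable (G ⧸ N) := by
    intro N _ hN
    have hlt : Nat.card (G ⧸ N) < n := by
      rw [← hcard, ← Subgroup.index_eq_card, ← Subgroup.card_mul_index N]
      have h1 : 1 < Nat.card N := (Subgroup.one_lt_card_iff_ne_bot (H := N)).mpr hN
      have h2 : 0 < N.index := Nat.pos_of_ne_zero Subgroup.index_ne_zero_of_finite
      nlinarith
    apply ih _ hlt (G ⧸ N) rfl
    intro M hM
    have hco := Cfsg.Agent.S0580.isCoatom_comap (QuotientGroup.mk' N)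
      (QuotientGroup.mk'_surjective N) M hM
    have := h _ hco
    rwa [Subgroup.index_comap_of_surjective _ (QuotientGroup.mk'_surjective N)] at this
  -- a minimal normal subgroup
  classical
  have hne : ({N : Subgroup G | N.Normal ∧ N ≠ ⊥}).Nonempty :=
    ⟨⊤, inferInstance, top_ne_bot⟩
  obtain ⟨N, ⟨hNn, hN1⟩, hNmin⟩ := Set.exists_min_image _ (fun N : Subgroup G => Nat.card N)
    (Set.toFinite _) hne
  have hmin : ∀ K : Subgroup G, K.Normal → K ≤ N → K ≠ ⊥ → K = N := by
    intro K hKn hKN hK1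
    exact Subgroup.eq_of_le_of_card_ge hKN (hNmin K ⟨hKn, hK1⟩)
  have hmin' : ∀ K : Subgroup G, K.Normal → K ≤ N → K = ⊥ ∨ K = N := by
    intro K hKn hKN
    by_cases hK1 : K = ⊥
    · exact Or.inl hK1
    · exact Or.inr (hmin K hKn hKN hK1)
  have hNc := Cfsg.Agent.Helper4.abelian_of_min_normal N hN1 hmin'
  obtain ⟨p, hp, hNp⟩ := Cfsg.Agent.Helper4.exponent_of_min_normal N hN1 hmin'
  haveI : Fact p.Prime := ⟨hp⟩
  have hqN := hquot N hN1
  by_cases hA : ∃ M : Subgroup G, IsCoatom M ∧ ¬ N ≤ M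
  · -- Case A
    obtain ⟨M, hM, hNM⟩ := hA
    have hsup : M ⊔ N = ⊤ := by
      apply hM.2
      refine lt_of_le_of_ne le_sup_left ?_
      intro heq
      apply hNM
      rw [heq]; exact le_sup_right
    have hinfn : (M ⊓ N).Normal := by
      rw [← Subgroup.normalizer_eq_top_iff]
      apply top_le_iff.mp
      rw [← hsup]
      apply sup_le
      · intro m hm
        apply Cfsg.Agent.S0650.mem_normalizer_of_conj
        rintro x ⟨hx1, hx2⟩
        exact ⟨M.mul_mem (M.mul_mem hm hx1) (M.inv_mem hm), hNn.conj_mem x hx2 m⟩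
      · intro y hy
        apply Cfsg.Agent.S0650.mem_normalizer_of_conj
        rintro x ⟨hx1, hx2⟩
        have e : y * x * y⁻¹ = x := by rw [hNc y hy x hx2]; group
        rw [e]; exact ⟨hx1, hx2⟩
    have hinf : M ⊓ N = ⊥ := by
      rcases hmin' (M ⊓ N) hinfn inf_le_right with h0 | h0
      · exact h0
      · exact absurd (h0 ▸ inf_le_left : N ≤ M) hNM
    have hcompl : Subgroup.IsComplement' M N := by
      apply Subgroup.isComplement'_of_disjoint_and_mul_eq_univ (disjoint_iff.mpr hinf)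
      rw [← Subgroup.mul_normal, hsup, Subgroup.coe_top]
    have hc := hcompl.card_mul_card
    have hi := Subgroup.card_mul_index M
    have hMpos : 0 < Nat.card M := Nat.card_pos
    have hidx : M.index = Nat.card N := by
      have : Nat.card M * M.index = Nat.card M * Nat.card N := by rw [hi, hc]
      exact Nat.eq_of_mul_eq_mul_left hMpos this
    haveI : Fact (Nat.card N).Prime := ⟨hidx ▸ h M hM⟩
    haveI : IsCyclic N := isCyclic_of_prime_card rfl
    exact Cfsg.Agent.S0528.result N hqN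
  push Not at hA
  by_cases hB : ∃ N₂ : Subgroup G, N₂.Normal ∧ N₂ ≠ ⊥ ∧ N ⊓ N₂ = ⊥
  · -- Case B1: embed into a product
    obtain ⟨N₂, hN₂n, hN₂1, hdisj⟩ := hB
    have hqN₂ := hquot N₂ hN₂1
    have hprod := Cfsg.Agent.Helper4.isSupersolvable_prod hqN hqN₂
    obtain ⟨f, hfdef⟩ : ∃ f : G →* (G ⧸ N) × (G ⧸ N₂),
        f = (QuotientGroup.mk' N).prod (QuotientGroup.mk' N₂) := ⟨_, rfl⟩
    have hinj : Function.Injective f := by
      rw [injective_iff_map_eq_one]
      intro x hx
      rw [hfdef, MonoidHom.prod_apply, Prod.mk_eq_one] at hx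
      have h1 : x ∈ N := (QuotientGroup.eq_one_iff x).mp hx.1
      have h2 : x ∈ N₂ := (QuotientGroup.eq_one_iff x).mp hx.2
      have : x ∈ N ⊓ N₂ := ⟨h1, h2⟩
      rw [hdisj, Subgroup.mem_bot] at this
      exact this
    have hrange := Cfsg.Agent.Helper4.isSupersolvable_subgroup f.range hprod
    exact Cfsg.Agent.Helper4.isSupersolvable_of_surjective
      (MonoidHom.ofInjective hinj).symm.toMonoidHom (MonoidHom.ofInjective hinj).symm.surjective
      hrange
  push Not at hB
  -- Case B2: `N` lies in every nontrivial normal subgroup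
  have huniq : ∀ K : Subgroup G, K.Normal → K ≠ ⊥ → N ≤ K := by
    intro K hKn hK1
    have h1 : (N ⊓ K).Normal := inferInstance
    have h2 := hmin (N ⊓ K) h1 inf_le_left (hB K hKn hK1)
    exact h2 ▸ inf_le_right
  have hNpg : IsPGroup p N := fun x => ⟨1, Subtype.ext (by
    simpa only [Subgroup.coe_pow, Subgroup.coe_one, pow_one] using hNp x x.2)⟩
  -- `O_{p'}(G/N) = 1`
  have hO : Cfsg.pPrimeCore p (G ⧸ N) = ⊥ := by
    by_contra hL
    haveI : Group.IsSolvable (G ⧸ N) :=
      Group.isSolvable_of_surjective (QuotientGroup.mk'_surjective N)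
    have hne2 : ({L : Subgroup (G ⧸ N) | L.Normal ∧ L ≠ ⊥ ∧ L ≤ Cfsg.pPrimeCore p (G ⧸ N)}).Nonempty :=
      ⟨_, inferInstance, hL, le_rfl⟩
    obtain ⟨Lb, ⟨hLn, hL1, hLle⟩, hLmin⟩ := Set.exists_min_image _
      (fun L : Subgroup (G ⧸ N) => Nat.card L) (Set.toFinite _) hne2
    have hLmin' : ∀ K : Subgroup (G ⧸ N), K.Normal → K ≤ Lb → K = ⊥ ∨ K = Lb := by
      intro K hKn hKL
      by_cases hK1 : K = ⊥
      · exact Or.inl hK1
      · exact Or.inr (Subgroup.eq_of_le_of_card_ge hKL (hLmin K ⟨hKn, hK1, hKL.trans hLle⟩))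
    obtain ⟨q, hq, hLq⟩ := Cfsg.Agent.Helper4.isPGroup_of_min_normal Lb hL1 hLmin'
    haveI : Fact q.Prime := ⟨hq⟩
    haveI : Nontrivial Lb := (Subgroup.nontrivial_iff_ne_bot Lb).mpr hL1
    obtain ⟨b, hb0, hb⟩ := hLq.nontrivial_iff_card.mp inferInstance
    have hqp : q ≠ p := by
      intro hqp
      have h1 : p ∣ Nat.card Lb := by rw [hb, hqp]; exact dvd_pow_self p hb0.ne'
      have h2 : Nat.card Lb ∣ Nat.card (Cfsg.pPrimeCore p (G ⧸ N)) := Subgroup.card_dvd_of_le hLle
      have h3 := Cfsg.Agent.S0667.pPrimeCore_coprime' (G := G ⧸ N) p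
      exact hp.one_lt.ne' (Nat.eq_one_of_dvd_coprimes h3 (h1.trans h2) dvd_rfl)
    obtain ⟨L, hLdef⟩ : ∃ L : Subgroup G, L = Lb.comap (QuotientGroup.mk' N) := ⟨_, rfl⟩
    have hLnG : L.Normal := by rw [hLdef]; infer_instance
    have hNL : N ≤ L := by
      rw [hLdef]
      intro x hx
      show QuotientGroup.mk' N x ∈ Lb
      rw [QuotientGroup.mk'_apply, (QuotientGroup.eq_one_iff x).mpr hx]
      exact one_mem _
    obtain ⟨Q₁⟩ : Nonempty (Sylow q ↥L) := inferInstance
    obtain ⟨Q, hQdef⟩ : ∃ Q : Subgroup G, Q = (Q₁ : Subgroup ↥L).map L.subtype := ⟨_, rfl⟩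
    have hfrat := Sylow.normalizer_sup_eq_top Q₁
    rw [← hQdef] at hfrat
    have hQL : Q ≤ L := by rw [hQdef]; exact Subgroup.map_subtype_le _
    have hQq : IsPGroup q Q := by rw [hQdef]; exact Q₁.isPGroup'.map _
    -- `L = Q ⊔ N`
    have hLQN : L ≤ Q ⊔ N := by
      rw [← Subgroup.relIndex_eq_one]
      have h1 : (Q ⊔ N).relIndex L ∣ Q.relIndex L := Subgroup.relIndex_dvd_of_le_left L le_sup_left
      have h2 : (Q ⊔ N).relIndex L ∣ N.relIndex L := Subgroup.relIndex_dvd_of_le_left L le_sup_right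
      have h3 : N.relIndex L = q ^ b := by
        have h4 : N = (⊥ : Subgroup (G ⧸ N)).comap (QuotientGroup.mk' N) := by
          rw [MonoidHom.comap_bot, QuotientGroup.ker_mk']
        conv_lhs => rw [h4]
        rw [Subgroup.relIndex_comap, Subgroup.relIndex_bot_left, hLdef,
          Subgroup.map_comap_eq_self_of_surjective (QuotientGroup.mk'_surjective N), hb]
      have h5 : ¬ q ∣ Q.relIndex L := by
        have h6 : Q.relIndex L = (Q₁ : Subgroup ↥L).index := by
          unfold Subgroup.relIndex Subgroup.subgroupOf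
          rw [hQdef, Subgroup.comap_map_eq_self_of_injective (Subgroup.subtype_injective _)]
        rw [h6]
        exact Q₁.not_dvd_index
      rw [h3] at h2
      obtain ⟨i, -, hi⟩ := (Nat.dvd_prime_pow hq).mp h2
      rcases Nat.eq_zero_or_pos i with h0 | hpos
      · rw [hi, h0, pow_zero]
      · exfalso
        apply h5
        exact (hi ▸ dvd_pow_self q hpos.ne' : q ∣ (Q ⊔ N).relIndex L).trans h1
    have hnormQ : Subgroup.normalizer (Q : Set G) = ⊤ := by
      by_contra hnot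
      obtain ⟨M, hM, hle⟩ := (eq_top_or_exists_le_coatom (Subgroup.normalizer (Q : Set G))).resolve_left hnot
      have h1 : (⊤ : Subgroup G) ≤ M := by
        rw [← hfrat]
        apply sup_le hle
        exact hLQN.trans (sup_le (Subgroup.le_normalizer.trans hle) (hA M hM))
      exact hM.1 (top_le_iff.mp h1)
    have hQn : Q.Normal := Subgroup.normalizer_eq_top_iff.mp hnormQ
    have hQ1 : Q ≠ ⊥ := by
      intro hbot
      rw [hbot, bot_sup_eq] at hLQN
      have h1 : Lb = ⊥ := by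
        have h2 : Lb = L.map (QuotientGroup.mk' N) := by
          rw [hLdef, Subgroup.map_comap_eq_self_of_surjective (QuotientGroup.mk'_surjective N)]
        rw [h2, Subgroup.map_eq_bot_iff, QuotientGroup.ker_mk']
        exact hLQN
      exact hL1 h1
    have hNQ := huniq Q hQn hQ1
    -- a nontrivial element of `N` has order a power of `p` and of `q`
    obtain ⟨x, hxN, hx1⟩ : ∃ x ∈ N, x ≠ 1 := by
      by_contra hcon
      push Not at hcon
      apply hN1
      rw [Subgroup.eq_bot_iff_forall]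
      exact hcon
    obtain ⟨i, hi⟩ := hQq ⟨x, hNQ hxN⟩
    have hi' : x ^ q ^ i = 1 := by
      have := congrArg Subtype.val hi
      simpa only [Subgroup.coe_pow, Subgroup.coe_one] using this
    have h1 : orderOf x ∣ q ^ i := orderOf_dvd_of_pow_eq_one hi'
    have h2 : orderOf x ∣ p := orderOf_dvd_of_pow_eq_one (hNp x hxN)
    have h3 : Nat.Coprime (q ^ i) p := Nat.Coprime.pow_left i ((Nat.coprime_primes hq hp).mpr hqp)
    exact hx1 (orderOf_eq_one_iff.mp (Nat.eq_one_of_dvd_coprimes h3 h1 h2))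
  obtain ⟨Yb, hYbn, hYbp, hYbc, hYbpow⟩ := ss_core hqN hO
  obtain ⟨Y, hYdef⟩ : ∃ Y : Subgroup G, Y = Yb.comap (QuotientGroup.mk' N) := ⟨_, rfl⟩
  have hYn : Y.Normal := by rw [hYdef]; infer_instance
  have hNY : N ≤ Y := by
    rw [hYdef]
    intro x hx
    show QuotientGroup.mk' N x ∈ Yb
    rw [QuotientGroup.mk'_apply, (QuotientGroup.eq_one_iff x).mpr hx]
    exact one_mem _
  have hYp : IsPGroup p Y := by
    rintro ⟨y, hy⟩
    rw [hYdef] at hy
    obtain ⟨k, hk⟩ := hYbp ⟨QuotientGroup.mk' N y, hy⟩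
    have hk' : (QuotientGroup.mk' N y) ^ p ^ k = 1 := by
      have := congrArg Subtype.val hk
      simpa only [Subgroup.coe_pow, Subgroup.coe_one] using this
    rw [← map_pow, QuotientGroup.mk'_apply, QuotientGroup.eq_one_iff] at hk'
    refine ⟨k + 1, Subtype.ext ?_⟩
    show y ^ p ^ (k + 1) = 1
    rw [pow_succ, pow_mul]
    exact hNp _ hk'
  -- `Y` centralizes `N`
  have hYcent : ∀ y ∈ Y, ∀ x ∈ N, y * x = x * y := by
    have hsub1 : N.subgroupOf Y ≠ ⊥ := by
      intro hbot
      apply hN1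
      rw [Subgroup.eq_bot_iff_forall]
      intro x hx
      have : (⟨x, hNY hx⟩ : ↥Y) ∈ N.subgroupOf Y := Subgroup.mem_subgroupOf.mpr hx
      rw [hbot, Subgroup.mem_bot] at this
      exact congrArg Subtype.val this
    obtain ⟨b, hbN, hb1, hbZ⟩ := Cfsg.Agent.Lead.normal_inf_center_ne_bot' p hYp
      (N.subgroupOf Y) hsub1
    have hZn : (N ⊓ Subgroup.centralizer (Y : Set G)).Normal := inferInstance
    have hZ1 : N ⊓ Subgroup.centralizer (Y : Set G) ≠ ⊥ := by
      intro hbot
      have : (b : G) ∈ N ⊓ Subgroup.centralizer (Y : Set G) := by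
        refine ⟨Subgroup.mem_subgroupOf.mp hbN, Subgroup.mem_centralizer_iff.mpr ?_⟩
        intro y hy
        have := Subgroup.mem_center_iff.mp hbZ ⟨y, hy⟩
        exact congrArg Subtype.val this
      rw [hbot, Subgroup.mem_bot] at this
      exact hb1 (Subtype.ext this)
    have hZeq := hmin _ hZn inf_le_left hZ1
    intro y hy x hx
    have hxZ : x ∈ N ⊓ Subgroup.centralizer (Y : Set G) := by rw [hZeq]; exact hx
    exact Subgroup.mem_centralizer_iff.mp hxZ.2 y hy
  have hcomm : ∀ a b : G, ∀ x ∈ N, ⁅a, b⁆ * x = x * ⁅a, b⁆ := by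
    intro a b x hx
    apply hYcent _ _ x hx
    rw [hYdef]
    show QuotientGroup.mk' N ⁅a, b⁆ ∈ Yb
    rw [map_commutatorElement]
    exact hYbc _ _
  have hpow : ∀ a : G, ∀ x ∈ N, a ^ (p - 1) * x = x * a ^ (p - 1) := by
    intro a x hx
    apply hYcent _ _ x hx
    rw [hYdef]
    show QuotientGroup.mk' N (a ^ (p - 1)) ∈ Yb
    rw [map_pow]
    exact hYbpow _
  haveI : IsCyclic N := conj_scalar N hNc hNp hN1 hmin hcomm hpow
  exact Cfsg.Agent.S0528.result N hqN


/-- Huppert's supersolvability criterion: if every maximal subgroup of a finite group has prime index, then the group is supersolvable. -/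
theorem result {G : Type*} [Group G] [Finite G] (h : ∀ M : Subgroup G, IsCoatom M → M.index.Prime) : Cfsg.IsSupersolvable G := aux _ G rfl h

end Cfsg.Agent.S0579
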