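import Mathlib
import Cfsg.Statements.S0739
import Cfsg.Agent.Helper18.OddTI
import Cfsg.Agent.Helper3.Zassenhaus
import Cfsg.Agent.Helper11.CNSolv

set_option autoImplicit false
open Cfsg

namespace Cfsg.Agent.S0739

/-- In a finite Zassenhaus group whose two-point stabiliser `H = G_{a,b}` has odd order `d`, and which has no normal `q`-complement for any prime `q ∣ d`, `H` is cyclic, `C_G(H) = H`, and every element swapping `a` and `b` inverts each element of `H`. -/
theorem result {G Ω : Type*} [Group G] [Finite G] [MulAction G Ω] [Fintype Ω] (hZ : Cfsg.IsZassenhausGroup G Ω) {a b : Ω} (hab : a ≠ b) (hodd : Odd (Nat.card ↥(MulAction.stabilizer G a ⊓ MulAction.stabilizer G b))) (hnil : ∀ q : ℕ, q.Prime → q ∣ Nat.card ↥(MulAction.stabilizer G a ⊓ MulAction.stabilizer G b) → ¬ ∃ N : Subgroup G, N.Normal ∧ N.index = q ^ (Nat.card G).factorization q) : IsCyclic ↥(MulAction.stabilizer G a ⊓ MulAction.stabilizer G b) ∧ Subgroup.centralizer ((MulAction.stabilizer G a ⊓ MulAction.stabilizer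 G b : Subgroup G) : Set G) = MulAction.stabilizer G a ⊓ MulAction.stabilizer G b ∧ ∀ s : G, s • a = b → s • b = a → ∀ h ∈ MulAction.stabilizer G a ⊓ MulAction.stabilizer G b, s * h * s⁻¹ = h⁻¹ := by
  classical
  have Z := Cfsg.Agent.Helper3.zdata_of hZ
  obtain ⟨K, hK1, hK2, hK3, hK4, hK5⟩ := Z.exists_ker a
  obtain ⟨H, hH⟩ : ∃ H : Subgroup G,
      H = MulAction.stabilizer G a ⊓ MulAction.stabilizer G b := ⟨_, rfl⟩
  rw [← hH] at hodd hnil ⊢
  have hmem : ∀ g : G, g ∈ H ↔ g • a = a ∧ g • b = b := by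
    intro g
    rw [hH, Subgroup.mem_inf, MulAction.mem_stabilizer_iff, MulAction.mem_stabilizer_iff]
  obtain ⟨S, hS⟩ : ∃ S : Set G, S = {s : G | s • a = b ∧ s • b = a} := ⟨_, rfl⟩
  have hSmem : ∀ s : G, s ∈ S ↔ s • a = b ∧ s • b = a := by
    intro s; rw [hS]; exact Iff.rfl
  have hHodd : ∀ h ∈ H, Odd (orderOf h) := by
    intro h hh
    have h1 : orderOf h ∣ Nat.card H := by
      have := orderOf_dvd_natCard (⟨h, hh⟩ : H)
      rwa [Subgroup.orderOf_mk] at this
    exact Odd.of_dvd_nat hodd h1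
  have hSn : ∀ s ∈ S, ∀ h ∈ H, s * h * s⁻¹ ∈ H := by
    intro s hs h hh
    obtain ⟨hs1, hs2⟩ := (hSmem s).mp hs
    obtain ⟨hh1, hh2⟩ := (hmem h).mp hh
    have hsia : s⁻¹ • a = b := by rw [inv_smul_eq_iff, hs2]
    have hsib : s⁻¹ • b = a := by rw [inv_smul_eq_iff, hs1]
    rw [hmem]
    constructor
    · rw [mul_smul, mul_smul, hsia, hh2, hs2]
    · rw [mul_smul, mul_smul, hsib, hh1, hs1]
  have hSnot : ∀ s ∈ S, s ∉ H := by
    intro s hs hsH
    obtain ⟨hs1, hs2⟩ := (hSmem s).mp hs
    obtain ⟨hh1, hh2⟩ := (hmem s).mp hsH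
    exact hab (hh1.symm.trans hs1)
  have hSS : ∀ s ∈ S, ∀ t ∈ S, s * t ∈ H := by
    intro s hs t ht
    obtain ⟨hs1, hs2⟩ := (hSmem s).mp hs
    obtain ⟨ht1, ht2⟩ := (hSmem t).mp ht
    rw [hmem]
    constructor
    · rw [mul_smul, ht1, hs2]
    · rw [mul_smul, ht2, hs1]
  have hSH : ∀ s ∈ S, ∀ h ∈ H, s * h ∈ S := by
    intro s hs h hh
    obtain ⟨hs1, hs2⟩ := (hSmem s).mp hs
    obtain ⟨hh1, hh2⟩ := (hmem h).mp hh
    rw [hSmem]
    constructor
    · rw [mul_smul, hh1, hs1]
    · rw [mul_smul, hh2, hs2]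
  have hTI : ∀ y ∈ H, y ≠ 1 → ∀ g : G, g⁻¹ * y * g ∈ H → g ∈ H ∨ g ∈ S := by
    intro y hy hy1 g hg
    obtain ⟨hy1a, hy1b⟩ := (hmem y).mp hy
    obtain ⟨hg1, hg2⟩ := (hmem _).mp hg
    have hya : y • (g • a) = g • a := by
      rw [mul_smul, mul_smul, inv_smul_eq_iff] at hg1; exact hg1
    have hyb : y • (g • b) = g • b := by
      rw [mul_smul, mul_smul, inv_smul_eq_iff] at hg2; exact hg2
    have hfix : ∀ c : Ω, y • c = c → c = a ∨ c = b := by
      intro c hc
      by_contra hcon
      rw [not_or] at hcon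
      exact hy1 (Z.three y a b c hab (Ne.symm hcon.2) (Ne.symm hcon.1) hy1a hy1b hc)
    have hgab : g • a ≠ g • b := fun h => hab (smul_left_cancel g h)
    rcases hfix _ hya with h1 | h1
    · rcases hfix _ hyb with h2 | h2
      · exact absurd (h1.trans h2.symm) hgab
      · left; exact (hmem g).mpr ⟨h1, h2⟩
    · rcases hfix _ hyb with h2 | h2
      · right; exact (hSmem g).mpr ⟨h1, h2⟩
      · exact absurd (h1.trans h2.symm) hgab
  have hcyc : ∀ (q : ℕ) [Fact q.Prime] (P : Subgroup G), P ≤ H → IsPGroup q P → IsCyclic P := by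
    intro q _ P hPH hP
    have hHA : H ≤ MulAction.stabilizer G a := by rw [hH]; exact inf_le_left
    have hPA : P ≤ MulAction.stabilizer G a := hPH.trans hHA
    have hKn : (K.subgroupOf (MulAction.stabilizer G a)).Normal := by
      constructor
      intro n hn g
      rw [Subgroup.mem_subgroupOf] at hn ⊢
      exact hK2 g g.2 n hn
    have hKbot : K.subgroupOf (MulAction.stabilizer G a) ≠ ⊥ := by
      obtain ⟨c, hca, hcb⟩ := Z.exists_three a b hab
      obtain ⟨k, hk, hkc⟩ := hK4 b c hab.symm hca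
      intro hbot
      have h1 : (⟨k, hK1 k hk⟩ : MulAction.stabilizer G a) ∈
          K.subgroupOf (MulAction.stabilizer G a) := by
        rw [Subgroup.mem_subgroupOf]; exact hk
      rw [hbot, Subgroup.mem_bot] at h1
      have h2 : k = 1 := congrArg Subtype.val h1
      rw [h2, one_smul] at hkc
      exact hcb hkc.symm
    have hfpf : ∀ s ∈ P.subgroupOf (MulAction.stabilizer G a), s ≠ 1 →
        K.subgroupOf (MulAction.stabilizer G a) ⊓ Subgroup.centralizer {s} = ⊥ := by
      intro s hs hs1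
      rw [eq_bot_iff]
      intro k hk
      obtain ⟨hkK, hkc⟩ := Subgroup.mem_inf.mp hk
      rw [Subgroup.mem_bot]
      by_contra hk1
      have hk1' : (k : G) ≠ 1 := fun h => hk1 (Subtype.ext h)
      rw [Subgroup.mem_subgroupOf] at hkK hs
      rw [Subgroup.mem_centralizer_iff] at hkc
      have hsk : (s : G) * (k : G) = (k : G) * (s : G) := by
        have h1 := hkc s (Set.mem_singleton s)
        exact congrArg Subtype.val h1
      have hkb : (k : G) • b ≠ b := hK3 k hkK hk1' b hab.symm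
      obtain ⟨hsa, hsb⟩ := (hmem _).mp (hPH hs)
      have hskb : (s : G) • ((k : G) • b) = (k : G) • b := by
        rw [← mul_smul, hsk, mul_smul, hsb]
      have hkba : (k : G) • b ≠ a := by
        intro h
        have h1 : (k : G) • b = (k : G) • a := by rw [hK1 k hkK]; exact h
        exact hab (smul_left_cancel _ h1).symm
      have h3 := Z.three (s : G) a b ((k : G) • b) hab (Ne.symm hkb) (Ne.symm hkba) hsa hsb hskb
      exact hs1 (Subtype.ext h3)
    have hoddP : Odd (Nat.card (P.subgroupOf (MulAction.stabilizer G a))) := by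
      rw [Nat.card_congr (Subgroup.subgroupOfEquivOfLe hPA).toEquiv]
      exact Odd.of_dvd_nat hodd (Subgroup.card_dvd_of_le hPH)
    have hc := Cfsg.Agent.Helper11.fpf_isCyclic_of_odd
      (K.subgroupOf (MulAction.stabilizer G a)) hKbot q
      (P.subgroupOf (MulAction.stabilizer G a)) hP.comap_subtype hfpf hoddP
    exact isCyclic_of_surjective (Subgroup.subgroupOfEquivOfLe hPA)
      (Subgroup.subgroupOfEquivOfLe hPA).surjective
  have hmain := Cfsg.Agent.Helper18.odd_ti_invert H S hodd hSn hSnot hSS hSH hTI hcyc hnil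
  obtain ⟨s0, hs0a, hs0b⟩ := Z.two hab hab.symm
  have hs0 : s0 ∈ S := (hSmem s0).mpr ⟨hs0a, hs0b⟩
  have hcomm : ∀ h ∈ H, ∀ h' ∈ H, h * h' = h' * h := by
    intro h hh h' hh'
    have h1 := hmain s0 hs0 (h * h') (H.mul_mem hh hh')
    have h2 := hmain s0 hs0 h hh
    have h3 := hmain s0 hs0 h' hh'
    have h4 : s0 * (h * h') * s0⁻¹ = (s0 * h * s0⁻¹) * (s0 * h' * s0⁻¹) := by group
    rw [h4, h2, h3] at h1
    have h5 : (h⁻¹ * h'⁻¹)⁻¹ = ((h * h')⁻¹)⁻¹ := by rw [h1]
    rw [mul_inv_rev, inv_inv, inv_inv, inv_inv] at h5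
    exact h5.symm
  refine ⟨?_, ?_, ?_⟩
  · have hnilp : Group.IsNilpotent H := by
      refine ⟨1, ?_⟩
      rw [Subgroup.upperCentralSeries_one, eq_top_iff]
      intro g _
      rw [Subgroup.mem_center_iff]
      intro h
      exact Subtype.ext (hcomm h h.2 g g.2)
    have hZG : IsZGroup H := by
      constructor
      intro p hp P
      have : Fact p.Prime := ⟨hp⟩
      have h1 : IsCyclic ((P : Subgroup H).map H.subtype) :=
        hcyc p _ (Subgroup.map_subtype_le _) (P.isPGroup'.map _)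
      exact isCyclic_of_surjective
        ((P : Subgroup H).equivMapOfInjective H.subtype H.subtype_injective).symm
        ((P : Subgroup H).equivMapOfInjective H.subtype H.subtype_injective).symm.surjective
    infer_instance
  · ext g
    rw [Subgroup.mem_centralizer_iff]
    constructor
    · intro hg
      obtain ⟨y, hy1, hya, hyb⟩ := Z.exists_fix2 a b hab
      have hyH : y ∈ H := (hmem y).mpr ⟨hya, hyb⟩
      have hgy : y * g = g * y := hg y hyH
      rcases hTI y hyH hy1 g (by rw [mul_assoc, hgy, ← mul_assoc, inv_mul_cancel, one_mul]; exact hyH)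
        with h | h
      · exact h
      · exfalso
        have h1 := hmain g h y hyH
        rw [← hgy, mul_inv_cancel_right] at h1
        have h2 : y ^ 2 = 1 := by
          rw [pow_two]
          nth_rewrite 1 [h1]
          exact inv_mul_cancel y
        have h3 : orderOf y ∣ 2 := orderOf_dvd_of_pow_eq_one h2
        have h4 := hHodd y hyH
        have h5 : orderOf y = 1 := by
          rcases (Nat.dvd_prime Nat.prime_two).mp h3 with h | h
          · exact h
          · rw [h] at h4; exact absurd h4 (by decide)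
        exact hy1 (orderOf_eq_one_iff.mp h5)
    · intro hg h hh
      exact hcomm h hh g hg
  · intro s hsa hsb h hh
    exact hmain s ((hSmem s).mpr ⟨hsa, hsb⟩) h hh

end Cfsg.Agent.S0739
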