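import Cfsg.Statements.S0046
import Mathlib
import Cfsg.Agent.S0035
import Cfsg.Agent.Lead.Coprime
import Cfsg.Agent.Lead.Glauberman

set_option autoImplicit false
open Cfsg

namespace Cfsg.Agent.S0046

open Cfsg.Agent
open scoped Pointwise

lemma isCoatom_comap' {G H : Type*} [Group G] [Group H] (f : G →* H)
    (hf : Function.Surjective f) (M : Subgroup H) (hM : IsCoatom M) : IsCoatom (M.comap f) := by
  refine ⟨?_, ?_⟩
  · intro h
    apply hM.1
    rw [← Subgroup.map_comap_eq_self_of_surjective hf M, h, Subgroup.map_top_of_surjective _ hf]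
  · intro L hL
    have hker : f.ker ≤ L := (Subgroup.ker_le_comap f M).trans hL.le
    have hL' : (L.map f).comap f = L := by rw [Subgroup.comap_map_eq, sup_eq_left.mpr hker]
    have h1 : M < L.map f := by
      rw [← Subgroup.comap_lt_comap_of_surjective hf, hL']; exact hL
    have h2 := hM.2 _ h1
    rw [← hL', h2, Subgroup.comap_top]

lemma top_le_smul_top {G : Type*} [Group G] (a : MulAut G) : ⊤ ≤ a • (⊤ : Subgroup G) :=
  Subgroup.subset_pointwise_smul_iff.mpr le_top

lemma isCoatom_smul {G : Type*} [Group G] (a : MulAut G) (M : Subgroup G) (hM : IsCoatom M) :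
    IsCoatom (a • M) := by
  refine ⟨fun htop => hM.1 ?_, fun K hK => ?_⟩
  · rw [eq_top_iff]
    have h1 : ⊤ ≤ a • M := htop.ge
    exact (top_le_smul_top a⁻¹).trans (Subgroup.subset_pointwise_smul_iff.mp h1)
  · have h1 : M < a⁻¹ • K := by
      refine lt_of_le_of_ne (Subgroup.pointwise_smul_subset_iff.mp hK.le) ?_
      intro h
      apply hK.ne
      rw [h, smul_inv_smul]
    have h2 := hM.2 _ h1
    rw [eq_top_iff]
    have h3 : ⊤ ≤ a⁻¹ • K := h2.ge
    have h4 := Subgroup.subset_pointwise_smul_iff.mp h3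
    rw [inv_inv] at h4
    exact (top_le_smul_top a).trans h4

lemma exists_mem_normalizer_not_mem' {G : Type*} [Group G] {H T : Subgroup G}
    (hT : Group.IsNilpotent T) (hlt : H < T) :
    ∃ x ∈ T, x ∉ H ∧ x ∈ Subgroup.normalizer (H : Set G) := by
  have h1 : H.subgroupOf T < ⊤ := by
    rw [lt_top_iff_ne_top]
    intro h
    rw [Subgroup.subgroupOf_eq_top] at h
    exact absurd h (not_le_of_gt hlt)
  have h2 := Group.normalizerCondition_of_isNilpotent (H.subgroupOf T) h1
  obtain ⟨x, hxN, hxH⟩ := SetLike.exists_of_lt h2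
  refine ⟨x, x.2, fun h => hxH (Subgroup.mem_subgroupOf.mpr h), ?_⟩
  rw [Subgroup.mem_normalizer_iff] at hxN ⊢
  intro h
  constructor
  · intro hh
    have := (hxN ⟨h, hlt.le hh⟩).mp (Subgroup.mem_subgroupOf.mpr hh)
    exact Subgroup.mem_subgroupOf.mp this
  · intro hh
    have hT' : h ∈ T := by
      have := T.mul_mem (T.mul_mem (T.inv_mem x.2) (hlt.le hh)) x.2
      simpa [mul_assoc] using this
    exact Subgroup.mem_subgroupOf.mp ((hxN ⟨h, hT'⟩).mpr (Subgroup.mem_subgroupOf.mpr hh))

lemma card_lt_of_lt' {G : Type*} [Group G] [Finite G] {H K : Subgroup G} (h : H < K) :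
    Nat.card H < Nat.card K :=
  lt_of_le_of_ne (Subgroup.card_le_of_le h.le)
    (fun heq => h.ne (Subgroup.eq_of_le_of_card_ge h.le heq.ge))

lemma coatom_inf {G : Type*} [Group G] [Finite G] [IsSimpleGroup G]
    (h : ∀ M : Subgroup G, IsCoatom M → Group.IsNilpotent M) :
    ∀ M L : Subgroup G, IsCoatom M → IsCoatom L → M ≠ L → M ⊓ L = ⊥ := by
  by_contra hcon
  push Not at hcon
  haveI : Nonempty {q : Subgroup G × Subgroup G //
      IsCoatom q.1 ∧ IsCoatom q.2 ∧ q.1 ≠ q.2 ∧ q.1 ⊓ q.2 ≠ ⊥} := by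
    obtain ⟨M, L, h1, h2, h3, h4⟩ := hcon
    exact ⟨⟨(M, L), h1, h2, h3, h4⟩⟩
  obtain ⟨⟨⟨M, L⟩, hM, hL, hne, hD⟩, hmax⟩ := Finite.exists_max
    (fun q : {q : Subgroup G × Subgroup G //
      IsCoatom q.1 ∧ IsCoatom q.2 ∧ q.1 ≠ q.2 ∧ q.1 ⊓ q.2 ≠ ⊥} =>
      Nat.card (q.1.1 ⊓ q.1.2 : Subgroup G))
  simp only at hM hL hne hD hmax
  have hNtop : Subgroup.normalizer ((M ⊓ L : Subgroup G) : Set G) ≠ ⊤ := by
    intro htop
    have hn : (M ⊓ L).Normal := Subgroup.normalizer_eq_top_iff.mp htop
    rcases IsSimpleGroup.eq_bot_or_eq_top_of_normal _ hn with h' | h'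
    · exact hD h'
    · apply hM.1
      rw [eq_top_iff, ← h']
      exact inf_le_left
  obtain ⟨K, hK, hNK⟩ := (eq_top_or_exists_le_coatom _).resolve_left hNtop
  have key : ∀ M' : Subgroup G, IsCoatom M' → M ⊓ L < M' → K = M' := by
    intro M' hM' hlt
    by_contra hKM
    obtain ⟨x, hxM, hxD, hxN⟩ := exists_mem_normalizer_not_mem' (h M' hM') hlt
    have hDK : M ⊓ L ≤ K ⊓ M' := le_inf (Subgroup.le_normalizer.trans hNK) hlt.le
    have hlt' : M ⊓ L < K ⊓ M' := by
      refine lt_of_le_of_ne hDK ?_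
      intro heq
      apply hxD
      rw [heq]
      exact ⟨hNK hxN, hxM⟩
    have hne' : K ⊓ M' ≠ ⊥ := by
      intro h0
      rw [h0] at hDK
      exact hD (le_bot_iff.mp hDK)
    have h1 := hmax ⟨(K, M'), hK, hM', hKM, hne'⟩
    simp only at h1
    exact absurd (card_lt_of_lt' hlt') (not_lt.mpr h1)
  have hDM : M ⊓ L < M := by
    refine lt_of_le_of_ne inf_le_left ?_
    intro heq
    have hML : M ≤ L := inf_eq_left.mp heq
    rcases eq_or_lt_of_le hML with h' | h'
    · exact hne h'
    · exact hL.1 (hM.2 _ h')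
  have hDL : M ⊓ L < L := by
    refine lt_of_le_of_ne inf_le_right ?_
    intro heq
    have hLM : L ≤ M := inf_eq_right.mp heq
    rcases eq_or_lt_of_le hLM with h' | h'
    · exact hne h'.symm
    · exact hM.1 (hL.2 _ h')
  exact hne ((key M hM hDM).symm.trans (key L hL hDL))

lemma simple_case {G : Type*} [Group G] [Finite G] [IsSimpleGroup G]
    (h : ∀ M : Subgroup G, IsCoatom M → Group.IsNilpotent M) : Group.IsSolvable G := by
  obtain ⟨M, hM⟩ : ∃ M : Subgroup G, IsCoatom M := by
    rcases eq_top_or_exists_le_coatom (⊥ : Subgroup G) with h0 | ⟨M, hM, _⟩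
    · exact absurd h0 bot_ne_top
    · exact ⟨M, hM⟩
  by_cases hMbot : M = ⊥
  · subst hMbot
    obtain ⟨g, hg⟩ := exists_ne (1 : G)
    have hz : Subgroup.zpowers g = ⊤ :=
      hM.2 _ (bot_lt_iff_ne_bot.mpr (Subgroup.zpowers_ne_bot.mpr hg))
    apply Group.isSolvable_of_comm
    intro a b
    have ha : a ∈ Subgroup.zpowers g := by rw [hz]; trivial
    have hb : b ∈ Subgroup.zpowers g := by rw [hz]; trivial
    obtain ⟨i, rfl⟩ := Subgroup.mem_zpowers_iff.mp ha
    obtain ⟨j, rfl⟩ := Subgroup.mem_zpowers_iff.mp hb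
    rw [← zpow_add, ← zpow_add, add_comm]
  · exfalso
    have hfrob : Cfsg.IsFrobeniusComplement M := by
      refine ⟨hMbot, hM.1, ?_⟩
      intro g hg
      apply coatom_inf h M (MulAut.conj g • M) hM (isCoatom_smul _ M hM)
      intro heq
      have hgN : g ∈ Subgroup.normalizer (M : Set G) :=
        Lead.mem_normalizer_iff_conj_smul.mpr heq.symm
      have hN : Subgroup.normalizer (M : Set G) = ⊤ := by
        apply hM.2
        exact lt_of_le_of_ne Subgroup.le_normalizer (fun h' => hg (h' ▸ hgN))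
      have hMn : M.Normal := Subgroup.normalizer_eq_top_iff.mp hN
      rcases IsSimpleGroup.eq_bot_or_eq_top_of_normal M hMn with h' | h'
      · exact hMbot h'
      · exact hM.1 h'
    obtain ⟨N, -, hNn, hNc⟩ := Cfsg.Agent.S0035.result M hfrob
    rcases IsSimpleGroup.eq_bot_or_eq_top_of_normal N hNn with h' | h'
    · rw [h'] at hNc; exact absurd (Subgroup.isComplement'_bot_left.mp hNc) hM.1
    · rw [h'] at hNc; exact absurd (Subgroup.isComplement'_top_left.mp hNc) hMbot

theorem aux : ∀ (n : ℕ) (G : Type*) [Group G] [Finite G], Nat.card G = n →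
    (∀ M : Subgroup G, IsCoatom M → Group.IsNilpotent M) → Group.IsSolvable G := by
  intro n
  induction n using Nat.strong_induction_on with
  | _ n ih =>
  intro G _ _ hcard h
  by_cases hsimple : ∀ N : Subgroup G, N.Normal → N = ⊥ ∨ N = ⊤
  · by_cases hnt : Nontrivial G
    · haveI : IsSimpleGroup G :=
        { toNontrivial := hnt, eq_bot_or_eq_top_of_normal := hsimple }
      exact simple_case h
    · rw [not_nontrivial_iff_subsingleton] at hnt
      exact Group.isSolvable_of_comm (fun a b => Subsingleton.elim _ _)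
  · push Not at hsimple
    obtain ⟨N, hNn, hN0, hN1⟩ := hsimple
    haveI := hNn
    obtain ⟨M, hM, hNM⟩ := (eq_top_or_exists_le_coatom N).resolve_left hN1
    haveI hMnil := h M hM
    haveI hNsol : Group.IsSolvable N := Lead.isSolvable_of_le hNM inferInstance
    haveI hQsol : Group.IsSolvable (G ⧸ N) := by
      apply ih (Nat.card (G ⧸ N)) ?_ (G ⧸ N) rfl
      · intro M' hM'
        have hco := isCoatom_comap' (QuotientGroup.mk' N) (QuotientGroup.mk'_surjective N) M' hM'
        haveI := h _ hco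
        exact Group.nilpotent_of_surjective ((QuotientGroup.mk' N).subgroupComap M')
          (MonoidHom.subgroupComap_surjective_of_surjective _ _ (QuotientGroup.mk'_surjective N))
      · have h1 := Subgroup.card_eq_card_quotient_mul_card_subgroup N
        have h2 : 1 < Nat.card N := by
          rw [Finite.one_lt_card_iff_nontrivial]
          exact (Subgroup.nontrivial_iff_ne_bot _).mpr hN0
        have h3 : 0 < Nat.card (G ⧸ N) := Nat.card_pos
        rw [hcard] at h1
        nlinarith
    exact Group.isSolvable_of_ker_le_range (N.subtype) (QuotientGroup.mk' N)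
      (by rw [QuotientGroup.ker_mk', Subgroup.range_subtype])

/-- Schmidt's Theorem on minimal non-nilpotent groups: a finite group in which every maximal subgroup is nilpotent is solvable. -/
theorem result {G : Type*} [Group G] [Finite G]
    (h : ∀ M : Subgroup G, IsCoatom M → Group.IsNilpotent M) : Group.IsSolvable G := by
  exact aux _ G rfl h

end Cfsg.Agent.S0046
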