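import Cfsg.Statements.S0539
import Cfsg.Agent.S0538
import Mathlib

set_option autoImplicit false
open Cfsg

namespace Cfsg.Agent.S0539

open scoped Pointwise
open scoped commutatorElement

theorem finset_sup_subnormal {G : Type*} [Group G] [Finite G] (s : Finset (Subgroup G))
    (hs : ∀ U ∈ s, U.IsSubnormal) : (s.sup id).IsSubnormal := by
  classical
  induction s using Finset.induction_on with
  | empty => simp
  | insert a s ha ih =>
    rw [Finset.sup_insert]
    exact Cfsg.Agent.S0538.result _ _ (hs a (Finset.mem_insert_self a s))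
      (ih (fun U hU => hs U (Finset.mem_insert_of_mem hU)))

/-- the join of any family of subnormal subgroups of a finite group is subnormal. -/
theorem sSup_subnormal {G : Type*} [Group G] [Finite G] (S : Set (Subgroup G))
    (hS : ∀ U ∈ S, U.IsSubnormal) : (sSup S).IsSubnormal := by
  have h := finset_sup_subnormal (Set.toFinite S).toFinset
    (fun U hU => hS U ((Set.Finite.mem_toFinset _).mp hU))
  rwa [Finset.sup_id_eq_sSup, Set.Finite.coe_toFinset] at h

theorem sup_le_normalizer_sup_commutator {G : Type*} [Group G] (H L : Subgroup G) :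
    H ⊔ L ≤ Subgroup.normalizer ((H ⊔ ⁅L, H⁆ : Subgroup G) : Set G) := by
  refine sup_le (Cfsg.Agent.S0567.le_normalizer_of_conj_mem _ _ ?_)
    (Cfsg.Agent.S0567.le_normalizer_of_conj_mem _ _ ?_)
  · intro x hx
    have : H ⊔ ⁅L, H⁆ ≤ (H ⊔ ⁅L, H⁆).comap (MulAut.conj x).toMonoidHom := by
      apply sup_le
      · intro n hn
        rw [Subgroup.mem_comap]
        exact (le_sup_left : H ≤ H ⊔ ⁅L, H⁆) (H.mul_mem (H.mul_mem hx hn) (H.inv_mem hx))
      · intro n hn
        rw [Subgroup.mem_comap]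
        exact (le_sup_right : ⁅L, H⁆ ≤ H ⊔ ⁅L, H⁆)
          (Cfsg.Agent.S0567.conj_mem_commutator_right L H x hx n hn)
    intro n hn
    exact this hn
  · intro x hx
    have : H ⊔ ⁅L, H⁆ ≤ (H ⊔ ⁅L, H⁆).comap (MulAut.conj x).toMonoidHom := by
      apply sup_le
      · intro n hn
        rw [Subgroup.mem_comap]
        have e : (MulAut.conj x).toMonoidHom n = ⁅x, n⁆ * n := by
          simp only [MulEquiv.coe_toMonoidHom, MulAut.conj_apply, commutatorElement_def]
          group
        rw [e]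
        exact Subgroup.mul_mem _
          ((le_sup_right : ⁅L, H⁆ ≤ H ⊔ ⁅L, H⁆) (Subgroup.commutator_mem_commutator hx hn))
          ((le_sup_left : H ≤ H ⊔ ⁅L, H⁆) hn)
      · intro n hn
        rw [Subgroup.mem_comap]
        exact (le_sup_right : ⁅L, H⁆ ≤ H ⊔ ⁅L, H⁆)
          (Cfsg.Agent.S0567.conj_mem_commutator_left L H x hx n hn)
    intro n hn
    exact this hn

/-- Let S be a family of subnormal subgroups of a finite group that is closed under conjugation, and S₀ a proper subfamily. Then some member of S not in S₀ normalizes the join of S₀. -/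
theorem result {G : Type*} [Group G] [Finite G] (S S₀ : Set (Subgroup G)) (hS : ∀ U ∈ S, U.IsSubnormal) (hconj : ∀ U ∈ S, ∀ g : G, MulAut.conj g • U ∈ S) (h₀ : S₀ ⊂ S) : ∃ X ∈ S, X ∉ S₀ ∧ X ≤ Subgroup.normalizer ((sSup S₀ : Subgroup G) : Set G) := by
  obtain ⟨Y, hY⟩ : ∃ Y : Subgroup G, Y = sSup S₀ := ⟨_, rfl⟩
  rw [← hY]
  have hYsub : Y.IsSubnormal := by
    rw [hY]
    exact sSup_subnormal S₀ (fun U hU => hS U (h₀.subset hU))
  have hS₀Y : ∀ Z ∈ S₀, Z ≤ Y := fun Z hZ => by rw [hY]; exact le_sSup hZ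
  by_cases hall : ∀ X ∈ S, X ≤ Y
  · obtain ⟨X, hXS, hXS₀⟩ := Set.exists_of_ssubset h₀
    exact ⟨X, hXS, hXS₀, (hall X hXS).trans Subgroup.le_normalizer⟩
  push Not at hall
  obtain ⟨X₀, hX₀S, hX₀Y⟩ := hall
  obtain ⟨m, hm⟩ := (Cfsg.Agent.S0567.result Y).mp hYsub
  have key : ∀ k i : ℕ, i + k = m → ∀ X ∈ S, ¬ X ≤ Y →
      X ≤ Y ⊔ (fun K : Subgroup G => ⁅K, Y⁆)^[i] ⊤ →
      ∃ X ∈ S, X ∉ S₀ ∧ X ≤ Subgroup.normalizer (Y : Set G) := by
    intro k
    induction k with
    | zero =>
      intro i hi X hXS hXY hXL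
      exfalso
      apply hXY
      rw [add_zero] at hi
      rw [hi] at hXL
      exact hXL.trans (sup_le le_rfl hm)
    | succ k ih =>
      intro i hi X hXS hXY hXL
      by_cases hXN : X ≤ Subgroup.normalizer (Y : Set G)
      · exact ⟨X, hXS, fun h => hXY (hS₀Y X h), hXN⟩
      · have hex : ∃ x ∈ X, ∃ Z ∈ S₀, ¬ MulAut.conj x • Z ≤ Y := by
          by_contra hcon
          push Not at hcon
          apply hXN
          apply Cfsg.Agent.S0567.le_normalizer_of_conj_mem
          intro x hx n hn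
          have hle : sSup S₀ ≤ Y.comap (MulAut.conj x).toMonoidHom := by
            apply sSup_le
            intro Z hZ z hz
            rw [Subgroup.mem_comap]
            exact hcon x hx Z hZ (Subgroup.smul_mem_pointwise_smul z _ Z hz)
          rw [← hY] at hle
          exact hle hn
        obtain ⟨x, hx, Z, hZ, hZx⟩ := hex
        apply ih (i + 1) (by omega) (MulAut.conj x • Z) (hconj Z (h₀.subset hZ) x) hZx
        rw [Function.iterate_succ_apply']
        have hxN := (sup_le_normalizer_sup_commutator Y ((fun K : Subgroup G => ⁅K, Y⁆)^[i] ⊤))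
          (hXL hx)
        intro w hw
        rw [Subgroup.mem_smul_pointwise_iff_exists] at hw
        obtain ⟨z, hz, rfl⟩ := hw
        exact (Subgroup.mem_normalizer_iff.mp hxN z).mp ((le_sup_left : Y ≤ _) (hS₀Y Z hZ hz))
  exact key m 0 (by omega) X₀ hX₀S hX₀Y (by simp)

end Cfsg.Agent.S0539
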