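import Cfsg.Statements.S0540
import Cfsg.Agent.S0539
import Mathlib

set_option autoImplicit false
open Cfsg

namespace Cfsg.Agent.S0540

open scoped Pointwise

theorem subgroupOf_conj {G : Type*} [Group G] (V B : Subgroup G) (hB : B ≤ V) (v : V) :
    (MulAut.conj (v : G) • B).subgroupOf V = MulAut.conj v • (B.subgroupOf V) := by
  ext y
  rw [Subgroup.mem_subgroupOf, Subgroup.mem_smul_pointwise_iff_exists,
    Subgroup.mem_smul_pointwise_iff_exists]
  constructor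
  · rintro ⟨b, hb, hby⟩
    refine ⟨⟨b, hB hb⟩, Subgroup.mem_subgroupOf.mpr hb, ?_⟩
    apply Subtype.ext
    exact hby
  · rintro ⟨b', hb', rfl⟩
    exact ⟨(b' : G), Subgroup.mem_subgroupOf.mp hb', rfl⟩

theorem sSup_subgroupOf {G : Type*} [Group G] (V : Subgroup G) (T : Set (Subgroup G))
    (hT : ∀ B ∈ T, B ≤ V) :
    sSup ((fun B : Subgroup G => B.subgroupOf V) '' T) = (sSup T).subgroupOf V := by
  apply le_antisymm
  · apply sSup_le
    rintro _ ⟨B, hB, rfl⟩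
    exact Subgroup.comap_mono (le_sSup hB)
  · have h1 : sSup T ≤ (sSup ((fun B : Subgroup G => B.subgroupOf V) '' T)).map V.subtype := by
      apply sSup_le
      intro B hB
      have : B = (B.subgroupOf V).map V.subtype :=
        (Subgroup.map_subgroupOf_eq_of_le (hT B hB)).symm
      rw [this]
      exact Subgroup.map_mono (le_sSup ⟨B, hB, rfl⟩)
    intro y hy
    have hy' := h1 (Subgroup.mem_subgroupOf.mp hy)
    obtain ⟨z, hz, hzy⟩ := hy'
    have : z = y := Subtype.ext hzy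
    rw [← this]
    exact hz

theorem le_normalizer_of_subgroupOf {G : Type*} [Group G] (V B X : Subgroup G) (hB : B ≤ V)
    (hX : X ≤ V)
    (h : B.subgroupOf V ≤ Subgroup.normalizer ((X.subgroupOf V : Subgroup V) : Set V)) :
    B ≤ Subgroup.normalizer (X : Set G) := by
  apply Cfsg.Agent.S0567.le_normalizer_of_conj_mem
  intro x hx y hy
  have hx' : (⟨x, hB hx⟩ : V) ∈ B.subgroupOf V := Subgroup.mem_subgroupOf.mpr hx
  have hy' : (⟨y, hX hy⟩ : V) ∈ X.subgroupOf V := Subgroup.mem_subgroupOf.mpr hy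
  have h3 := (Subgroup.mem_normalizer_iff.mp (h hx') ⟨y, hX hy⟩).mp hy'
  exact Subgroup.mem_subgroupOf.mp h3

/-- relative form of the zipper lemma: a family `T` of subgroups of `V`, subnormal in `V` and
closed under `V`-conjugation, with a proper subfamily `T₀`. -/
theorem zipper_rel {G : Type*} [Group G] [Finite G] (V : Subgroup G) (T T₀ : Set (Subgroup G))
    (hTV : ∀ B ∈ T, B ≤ V) (hTs : ∀ B ∈ T, (B.subgroupOf V).IsSubnormal)
    (hTc : ∀ B ∈ T, ∀ v ∈ V, MulAut.conj v • B ∈ T) (h₀ : T₀ ⊂ T) :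
    ∃ B ∈ T, B ∉ T₀ ∧ B ≤ Subgroup.normalizer ((sSup T₀ : Subgroup G) : Set G) := by
  have hT₀V : ∀ B ∈ T₀, B ≤ V := fun B hB => hTV B (h₀.subset hB)
  have hinj : ∀ B ∈ T, ∀ B' ∈ T, B.subgroupOf V = B'.subgroupOf V → B = B' := by
    intro B hB B' hB' h
    rw [← Subgroup.map_subgroupOf_eq_of_le (hTV B hB), h,
      Subgroup.map_subgroupOf_eq_of_le (hTV B' hB')]
  obtain ⟨X', ⟨B, hBT, rfl⟩, hX'₀, hX'N⟩ := Cfsg.Agent.S0539.result
    ((fun B : Subgroup G => B.subgroupOf V) '' T) ((fun B : Subgroup G => B.subgroupOf V) '' T₀)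
    (by rintro _ ⟨B, hB, rfl⟩; exact hTs B hB)
    (by
      rintro _ ⟨B, hB, rfl⟩ v
      refine ⟨MulAut.conj (v : G) • B, hTc B hB v v.2, ?_⟩
      exact subgroupOf_conj V B (hTV B hB) v)
    (by
      refine Set.ssubset_def.mpr ⟨Set.image_mono h₀.subset, ?_⟩
      intro hsub
      obtain ⟨B, hBT, hBT₀⟩ := Set.exists_of_ssubset h₀
      obtain ⟨B', hB'T₀, hB'⟩ := hsub ⟨B, hBT, rfl⟩
      have := hinj B' (h₀.subset hB'T₀) B hBT hB'
      exact hBT₀ (this ▸ hB'T₀))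
  refine ⟨B, hBT, fun h => hX'₀ ⟨B, h, rfl⟩, ?_⟩
  rw [sSup_subgroupOf V T₀ hT₀V] at hX'N
  exact le_normalizer_of_subgroupOf V B (sSup T₀) (hTV B hBT) (sSup_le hT₀V) hX'N

/-- A uniqueness lemma of zipper type. Let A be a subgroup of a finite group G and U a nonempty family of subgroups. For V in U write S(V) for the set of conjugates of A that lie in V and are subnormal in V. Assume: A belongs to S(V) for every V in U; a member of some S(W) that lies in V belongs to S(V); and for all V, W in U the normalizer of the join of S(V) ∩ S(W) lies in some member of U. Then U has a greatest element. -/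
theorem result {G : Type*} [Group G] [Finite G] (A : Subgroup G) (U : Set (Subgroup G)) (hU : U.Nonempty) (S : Subgroup G → Set (Subgroup G)) (hS : ∀ V B : Subgroup G, B ∈ S V ↔ (∃ g : G, B = MulAut.conj g • A) ∧ B ≤ V ∧ (B.subgroupOf V).IsSubnormal) (h1 : ∀ V ∈ U, A ∈ S V) (h2 : ∀ V ∈ U, ∀ W ∈ U, ∀ B ∈ S W, B ≤ V → B ∈ S V) (h3 : ∀ V ∈ U, ∀ W ∈ U, ∃ X ∈ U, Subgroup.normalizer ((sSup (S V ∩ S W) : Subgroup G) : Set G) ≤ X) : ∃ M ∈ U, ∀ V ∈ U, V ≤ M := by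
  classical
  by_contra hno
  push Not at hno
  have hSV : ∀ V B, B ∈ S V → B ≤ V := fun V B hB => ((hS V B).mp hB).2.1
  have hconjS : ∀ V : Subgroup G, ∀ B ∈ S V, ∀ v ∈ V, MulAut.conj v • B ∈ S V := by
    intro V B hB v hv
    obtain ⟨⟨g, hg⟩, hBV, hBs⟩ := (hS V B).mp hB
    rw [hS]
    refine ⟨⟨v * g, ?_⟩, ?_, ?_⟩
    · rw [hg, map_mul, mul_smul]
    · exact Subgroup.conj_smul_le_of_le hBV ⟨v, hv⟩
    · have e : (MulAut.conj v • B).subgroupOf V = MulAut.conj (⟨v, hv⟩ : V) • (B.subgroupOf V) :=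
        subgroupOf_conj V B hBV ⟨v, hv⟩
      rw [e]
      exact hBs.smul _
  have hVN : ∀ V : Subgroup G, V ≤ Subgroup.normalizer ((sSup (S V) : Subgroup G) : Set G) := by
    intro V
    apply Cfsg.Agent.S0567.le_normalizer_of_conj_mem
    intro v hv n hn
    have hle : sSup (S V) ≤ (sSup (S V)).comap (MulAut.conj v).toMonoidHom := by
      apply sSup_le
      intro B hB z hz
      rw [Subgroup.mem_comap]
      exact (le_sSup (hconjS V B hB v hv) : MulAut.conj v • B ≤ sSup (S V))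
        (Subgroup.smul_mem_pointwise_smul z _ B hz)
    exact hle hn
  have hmaxex : ∀ V ∈ U, ∃ M, V ≤ M ∧ Maximal (· ∈ U) M :=
    fun V hV => Finite.exists_le_maximal hV
  have hL : ∀ M M' M₃ : Subgroup G, Maximal (· ∈ U) M → Maximal (· ∈ U) M' →
      Maximal (· ∈ U) M₃ →
      Subgroup.normalizer ((sSup (S M ∩ S M') : Subgroup G) : Set G) ≤ M₃ →
      (∀ M'' : Subgroup G, Maximal (· ∈ U) M'' → M ≠ M'' →
        (S M ∩ S M'').ncard ≤ (S M ∩ S M').ncard) →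
      M = M₃ := by
    intro M M' M₃ hM hM' hM₃ hN hopt
    by_cases hSig : S M ∩ S M' = S M
    · rw [hSig] at hN
      have hle : M ≤ M₃ := (hVN M).trans hN
      exact le_antisymm hle (hM.2 hM₃.1 hle)
    · have hss : S M ∩ S M' ⊂ S M := Set.ssubset_iff_subset_ne.mpr ⟨Set.inter_subset_left, hSig⟩
      obtain ⟨B, hBM, hBSig, hBN⟩ := zipper_rel M (S M) (S M ∩ S M') (fun B hB => hSV M B hB)
        (fun B hB => ((hS M B).mp hB).2.2) (hconjS M) hss
      by_contra hne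
      have hBM₃ : B ∈ S M₃ := h2 M₃ hM₃.1 M hM.1 B hBM (hBN.trans hN)
      have hsub : S M ∩ S M' ⊂ S M ∩ S M₃ := by
        refine Set.ssubset_def.mpr ⟨?_, fun hrev => hBSig (hrev ⟨hBM, hBM₃⟩)⟩
        intro C hC
        refine ⟨hC.1, ?_⟩
        have hCle : C ≤ M₃ := (le_sSup hC).trans (Subgroup.le_normalizer.trans hN)
        exact h2 M₃ hM₃.1 M hM.1 C hC.1 hCle
      have hlt : (S M ∩ S M').ncard < (S M ∩ S M₃).ncard :=
        Set.ncard_lt_ncard hsub (Set.toFinite _)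
      have := hopt M₃ hM₃ hne
      omega
  obtain ⟨V₀, hV₀⟩ := hU
  obtain ⟨Ma, -, hMa⟩ := hmaxex V₀ hV₀
  obtain ⟨V₁, hV₁, hV₁Ma⟩ := hno Ma hMa.1
  obtain ⟨Mb, hV₁Mb, hMb⟩ := hmaxex V₁ hV₁
  have hab : Ma ≠ Mb := by
    intro h
    rw [← h] at hV₁Mb
    exact hV₁Ma hV₁Mb
  obtain ⟨⟨M₁, M₂⟩, ⟨hM₁, hM₂, h12⟩, hopt⟩ := Set.exists_max_image
    {P : Subgroup G × Subgroup G | Maximal (· ∈ U) P.1 ∧ Maximal (· ∈ U) P.2 ∧ P.1 ≠ P.2}
    (fun P => (S P.1 ∩ S P.2).ncard) (Set.toFinite _) ⟨(Ma, Mb), hMa, hMb, hab⟩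
  obtain ⟨X, hXU, hNX⟩ := h3 M₁ hM₁.1 M₂ hM₂.1
  obtain ⟨M₃, hXM₃, hM₃⟩ := hmaxex X hXU
  have e1 : M₁ = M₃ := hL M₁ M₂ M₃ hM₁ hM₂ hM₃ (hNX.trans hXM₃)
    (fun M'' hM'' hne => hopt (M₁, M'') ⟨hM₁, hM'', hne⟩)
  have e2 : M₂ = M₃ := hL M₂ M₁ M₃ hM₂ hM₁ hM₃
    (by rw [Set.inter_comm]; exact hNX.trans hXM₃)
    (fun M'' hM'' hne => by
      have h4 := hopt (M₂, M'') ⟨hM₂, hM'', hne⟩
      rw [Set.inter_comm (S M₂) (S M₁)]
      exact h4)
  exact h12 (e1.trans e2.symm)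

end Cfsg.Agent.S0540
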