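import Cfsg.Statements.S4333
import Mathlib
import Cfsg.Agent.S0540

set_option autoImplicit false
open Pointwise
open Cfsg

universe u

namespace Cfsg.Agent.S4333


/-- transport of relative subnormality along a homomorphism (comap form). -/
theorem sn_comap {G H : Type*} [Group G] [Group H] (f : H →* G) (A L : Subgroup G)
    (h : (A.subgroupOf L).IsSubnormal) : ((A.comap f).subgroupOf (L.comap f)).IsSubnormal := by
  have e : (A.comap f).subgroupOf (L.comap f) = (A.subgroupOf L).comap (f.subgroupComap L) := by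
    ext y
    exact Iff.rfl
  rw [e]
  exact Subgroup.IsSubnormal.comap _ h

theorem conj_eq_comap {G : Type*} [Group G] (g : G) (A : Subgroup G) :
    MulAut.conj g • A = A.comap (MulAut.conj g⁻¹).toMonoidHom := by
  ext x
  rw [Subgroup.mem_pointwise_smul_iff_inv_smul_mem, Subgroup.mem_comap]
  simp [MulAut.smul_def]

theorem sn_conj {G : Type*} [Group G] (g : G) (A L : Subgroup G)
    (h : (A.subgroupOf L).IsSubnormal) :
    ((MulAut.conj g • A).subgroupOf (MulAut.conj g • L)).IsSubnormal := by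
  rw [conj_eq_comap g A, conj_eq_comap g L]
  exact sn_comap _ A L h

theorem sn_of_le {G : Type*} [Group G] (A J V : Subgroup G) (hJV : J ≤ V)
    (h : (A.subgroupOf V).IsSubnormal) : (A.subgroupOf J).IsSubnormal := by
  have e : A.subgroupOf J = (A.subgroupOf V).comap (Subgroup.inclusion hJV) := by
    ext y
    simp [Subgroup.mem_subgroupOf]
  rw [e]
  exact Subgroup.IsSubnormal.comap _ h

theorem hyp_subgroupOf {G : Type*} [Group G] (A K : Subgroup G) (hAK : A ≤ K)
    (h : ∀ a ∈ A, ∀ g : G, (A.subgroupOf (A ⊔ MulAut.conj (g⁻¹ * a * g) • A)).IsSubnormal) :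
    ∀ a ∈ A.subgroupOf K, ∀ g : K, ((A.subgroupOf K).subgroupOf
      (A.subgroupOf K ⊔ MulAut.conj (g⁻¹ * a * g) • A.subgroupOf K)).IsSubnormal := by
  intro a ha g
  have h1 := h (a : G) (Subgroup.mem_subgroupOf.mp ha) (g : G)
  have h2 := sn_comap K.subtype A _ h1
  have hx : ((g⁻¹ * a * g : K) : G) = (g : G)⁻¹ * (a : G) * (g : G) := by simp
  have hle : MulAut.conj ((g : G)⁻¹ * (a : G) * (g : G)) • A ≤ K := by
    rw [← hx]
    exact Subgroup.conj_smul_le_of_le hAK _
  have e : (A ⊔ MulAut.conj ((g : G)⁻¹ * (a : G) * (g : G)) • A).comap K.subtype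
      = A.subgroupOf K ⊔ MulAut.conj (g⁻¹ * a * g) • A.subgroupOf K := by
    change (A ⊔ MulAut.conj ((g : G)⁻¹ * (a : G) * (g : G)) • A).subgroupOf K = _
    rw [Subgroup.subgroupOf_sup hAK hle, ← hx, Cfsg.Agent.S0540.subgroupOf_conj K A hAK]
  rw [e] at h2
  exact h2

theorem main : ∀ (n : ℕ) (G : Type u) [Group G] [Finite G], Nat.card G = n →
    ∀ A : Subgroup G,
    (∀ a ∈ A, ∀ g : G, (A.subgroupOf (A ⊔ MulAut.conj (g⁻¹ * a * g) • A)).IsSubnormal) →
    A.IsSubnormal := by
  intro n
  induction n using Nat.strong_induction_on with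
  | _ n ih =>
  intro G _ _ hn A h
  by_contra hns
  -- Step 1: A is subnormal in every proper subgroup containing it
  have step1 : ∀ K : Subgroup G, K ≠ ⊤ → A ≤ K → (A.subgroupOf K).IsSubnormal := by
    intro K hK hAK
    have hlt : Nat.card K < n := by
      rw [← hn]
      exact lt_of_le_of_ne (Subgroup.card_le_card_group _)
        (fun heq => hK (Subgroup.eq_top_of_card_eq _ heq))
    exact ih (Nat.card K) hlt K rfl (A.subgroupOf K) (hyp_subgroupOf A K hAK h)
  have hconj_top : ∀ (g : G) (V : Subgroup G), V ≠ ⊤ → MulAut.conj g • V ≠ ⊤ := by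
    intro g V hV htop
    apply hV
    rw [eq_top_iff]
    intro y _
    have : MulAut.conj g • y ∈ MulAut.conj g • V := htop ▸ Subgroup.mem_top _
    exact Subgroup.smul_mem_pointwise_smul_iff.mp this
  have step1' : ∀ (g : G) (V : Subgroup G), V ≠ ⊤ → MulAut.conj g • A ≤ V →
      ((MulAut.conj g • A).subgroupOf V).IsSubnormal := by
    intro g V hV hle
    have hA : A ≤ MulAut.conj g⁻¹ • V := by
      have := (Subgroup.pointwise_smul_le_pointwise_smul_iff (a := MulAut.conj g⁻¹)).mpr hle
      rw [map_inv] at this ⊢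
      rwa [inv_smul_smul] at this
    have h1 := step1 _ (hconj_top g⁻¹ V hV) hA
    have h2 := sn_conj g _ _ h1
    rwa [map_inv, smul_inv_smul] at h2
  have hAtop : A ≠ ⊤ := fun h => hns (h ▸ Subgroup.IsSubnormal.top)
  -- Step 2: zipper lemma
  obtain ⟨M, ⟨hAM, hMtop⟩, hM⟩ := Cfsg.Agent.S0540.result A {V | A ≤ V ∧ V ≠ ⊤} ⟨A, le_refl A, hAtop⟩
    (fun V => {B | (∃ g : G, B = MulAut.conj g • A) ∧ B ≤ V ∧ (B.subgroupOf V).IsSubnormal})
    (fun V B => Iff.rfl)
    (fun V hV => ⟨⟨1, by simp⟩, hV.1, step1 V hV.2 hV.1⟩)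
    (fun V hV W hW B hB hBV => by
      obtain ⟨⟨g, rfl⟩, -, -⟩ := hB
      exact ⟨⟨g, rfl⟩, hBV, step1' g V hV.2 hBV⟩)
    (fun V hV W hW => by
      set J := sSup ({B | (∃ g : G, B = MulAut.conj g • A) ∧ B ≤ V ∧ (B.subgroupOf V).IsSubnormal} ∩
        {B | (∃ g : G, B = MulAut.conj g • A) ∧ B ≤ W ∧ (B.subgroupOf W).IsSubnormal}) with hJ
      have hAJ : A ≤ J := le_sSup ⟨⟨⟨1, by simp⟩, hV.1, step1 V hV.2 hV.1⟩,
        ⟨⟨1, by simp⟩, hW.1, step1 W hW.2 hW.1⟩⟩
      have hJV : J ≤ V := sSup_le (fun B hB => hB.1.2.1)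
      refine ⟨Subgroup.normalizer (J : Set G), ⟨hAJ.trans Subgroup.le_normalizer, ?_⟩, le_refl _⟩
      intro htop
      have hJn : J.Normal := Subgroup.normalizer_eq_top_iff.mp htop
      exact hns (Subgroup.IsSubnormal.trans hAJ (sn_of_le A J V hJV (step1 V hV.2 hV.1))
        hJn.isSubnormal))
  -- Step 3
  have hxM : ∀ a ∈ A, ∀ g : G, g⁻¹ * a * g ∈ Subgroup.normalizer (M : Set G) := by
    intro a ha g
    set x := g⁻¹ * a * g with hx
    have hL : A ⊔ MulAut.conj x • A ≠ ⊤ := by
      intro htop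
      have := h a ha g
      exact hns (Subgroup.IsSubnormal.trans le_sup_left this (htop ▸ Subgroup.IsSubnormal.top))
    have hLM : A ⊔ MulAut.conj x • A ≤ M := hM _ ⟨le_sup_left, hL⟩
    have hxA : MulAut.conj x • A ≤ M := le_sup_right.trans hLM
    have hA' : A ≤ MulAut.conj x⁻¹ • M := by
      have := (Subgroup.pointwise_smul_le_pointwise_smul_iff (a := MulAut.conj x⁻¹)).mpr hxA
      rw [map_inv] at this ⊢
      rwa [inv_smul_smul] at this
    have hle : MulAut.conj x⁻¹ • M ≤ M := hM _ ⟨hA', hconj_top x⁻¹ M hMtop⟩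
    have hxinv : x⁻¹ ∈ Subgroup.normalizer (M : Set G) := by
      apply Subgroup.mem_normalizer_iff.mpr
      have hcard : Nat.card (MulAut.conj x⁻¹ • M : Subgroup G) = Nat.card M :=
        (Nat.card_congr (Subgroup.equivSMul (MulAut.conj x⁻¹) M).toEquiv).symm
      have heq : MulAut.conj x⁻¹ • M = M :=
        Subgroup.eq_of_le_of_card_ge hle hcard.ge
      intro y
      constructor
      · intro hy
        have : x⁻¹ * y * x⁻¹⁻¹ ∈ MulAut.conj x⁻¹ • M :=
          Subgroup.smul_mem_pointwise_smul y (MulAut.conj x⁻¹) M hy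
        rw [heq] at this
        exact this
      · intro hy
        rw [← heq, Subgroup.mem_pointwise_smul_iff_inv_smul_mem] at hy
        have e : (MulAut.conj x⁻¹)⁻¹ • (x⁻¹ * y * x⁻¹⁻¹) = y := by
          simp [MulAut.smul_def, mul_assoc]
        rwa [e] at hy
    exact inv_inv x ▸ Subgroup.inv_mem _ hxinv
  by_cases hNM : Subgroup.normalizer (M : Set G) = ⊤
  · have hMn : M.Normal := Subgroup.normalizer_eq_top_iff.mp hNM
    exact hns (Subgroup.IsSubnormal.trans hAM (step1 M hMtop hAM) hMn.isSubnormal)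
  · have hNle : Subgroup.normalizer (M : Set G) ≤ M :=
      hM _ ⟨hAM.trans Subgroup.le_normalizer, hNM⟩
    have hNC : Subgroup.normalClosure (A : Set G) ≤ M := by
      rw [Subgroup.normalClosure]
      apply (Subgroup.closure_le _).mpr
      intro y hy
      obtain ⟨a, ha, hconj⟩ := Group.mem_conjugatesOfSet_iff.mp hy
      obtain ⟨c, rfl⟩ := isConj_iff.mp hconj
      have := hNle (hxM a ha c⁻¹)
      simpa using this
    have hNCtop : Subgroup.normalClosure (A : Set G) ≠ ⊤ := by
      intro htop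
      rw [htop] at hNC
      exact hMtop (top_le_iff.mp hNC)
    exact hns (Subgroup.IsSubnormal.trans Subgroup.le_normalClosure
      (step1 _ hNCtop Subgroup.le_normalClosure)
      (Subgroup.normalClosure_normal).isSubnormal)

/-- Let A be a subgroup of a finite group G. If A is subnormal in the subgroup generated by A and its conjugate by g⁻¹ a g, for every a ∈ A and every g ∈ G, then A is subnormal in G. (A sharpening of Wielandt's subnormality criterion: only conjugates of A by conjugates of elements of A are needed.) -/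
theorem result {G : Type*} [Group G] [Finite G]
    (A : Subgroup G)
    (h : ∀ a ∈ A, ∀ g : G, (A.subgroupOf (A ⊔ MulAut.conj (g⁻¹ * a * g) • A)).IsSubnormal) :
    A.IsSubnormal := by
  exact main _ G rfl A h

end Cfsg.Agent.S4333
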