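import Cfsg.Statements.S0961
import Mathlib
import Cfsg.Agent.Helper25.BlockBrauer
import Cfsg.Agent.Helper2.Artin

set_option autoImplicit false
open Cfsg

namespace Cfsg.Agent.S0961

open Cfsg.Agent.Helper25

/-- Let χ be an irreducible character of the finite group G and let p ^ a be the largest power of the prime p dividing the order of G. Then the function equal to p ^ a * χ x at elements x of order prime to p and to 0 elsewhere is a generalized character (a difference of characters). -/
theorem result {G : Type*} [Group G] [Finite G] (p : ℕ) [Fact p.Prime] (χ : Cfsg.IrrCharacter G) : Cfsg.IsGeneralizedCharacter G (fun x : G => if p ∣ orderOf x then 0 else ((p ^ (Nat.card G).factorization p : ℕ) : ℂ) * (χ : G → ℂ) x) := by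
  classical
  haveI : Fintype G := Fintype.ofFinite G
  have hp : p.Prime := Fact.out
  have h1 := isGeneralizedCharacter_pRegular (G := G) hp
  have h2 := Cfsg.Agent.Helper2.isGeneralizedCharacter_mul_char h1 (isCharacter_of_irr χ.2)
  have h3 : (fun x : G => if p ∣ orderOf x then 0
      else ((p ^ (Nat.card G).factorization p : ℕ) : ℂ) * (χ : G → ℂ) x)
      = (fun x => ((p ^ (Nat.card G).factorization p : ℕ) : ℂ) *
        pRegularPart p (fun _ : G => (1 : ℂ)) x) * (χ : G → ℂ) := by
    funext x
    rw [Pi.mul_apply]
    by_cases hx : p ∣ orderOf x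
    · rw [if_pos hx, pRegularPart_of_sing hx, mul_zero, zero_mul]
    · rw [if_neg hx, pRegularPart_of_reg hx, mul_one]
  rw [h3]
  exact h2

end Cfsg.Agent.S0961
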