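import Cfsg.Statements.S3808
import Mathlib
import Cfsg.Agent.Lead.Quat

set_option autoImplicit false
set_option linter.style.haveILetI false
open Cfsg

namespace Cfsg.Agent.S3808

theorem normal_of_index_p {S : Type*} [Group S] [Finite S] (p : ℕ) [Fact p.Prime]
    (hS : IsPGroup p S) (Q : Subgroup S) (hQi : Q.index = p) : Q.Normal := by
  have hp : p.Prime := Fact.out
  obtain ⟨r, hr⟩ := IsPGroup.iff_card.mp hS
  have hr0 : r ≠ 0 := by
    rintro rfl
    rw [pow_zero] at hr
    have h1 := Subgroup.card_mul_index Q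
    rw [hr, hQi] at h1
    have h2 : p ∣ 1 := ⟨Nat.card Q, by rw [mul_comm]; exact h1.symm⟩
    exact hp.one_lt.ne' (Nat.dvd_one.mp h2)
  apply Subgroup.normal_of_index_eq_minFac_card
  rw [hQi, hr, Nat.pow_minFac hr0, hp.minFac_eq]

theorem mem_zq {S : Type*} [Group S] (Q : Subgroup S) (z : S) :
    z ∈ (Subgroup.center ↥Q).map Q.subtype ↔ z ∈ Q ∧ ∀ q ∈ Q, q * z = z * q := by
  constructor
  · rintro ⟨w, hw, rfl⟩
    refine ⟨w.2, fun q hq => ?_⟩
    have := Subgroup.mem_center_iff.mp hw ⟨q, hq⟩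
    exact congrArg Subtype.val this
  · rintro ⟨hz, hc⟩
    exact ⟨⟨z, hz⟩, Subgroup.mem_center_iff.mpr (fun q => Subtype.ext (hc q q.2)), rfl⟩

theorem zq_normal {S : Type*} [Group S] (Q : Subgroup S) [hQn : Q.Normal] :
    ((Subgroup.center ↥Q).map Q.subtype).Normal := ⟨fun z hz g => by
  rw [mem_zq] at hz ⊢
  refine ⟨hQn.conj_mem z hz.1 g, fun q hq => ?_⟩
  have h1 := hz.2 (g⁻¹ * q * g) (by have := hQn.conj_mem q hq g⁻¹; simpa using this)
  calc q * (g * z * g⁻¹) = g * ((g⁻¹ * q * g) * z) * g⁻¹ := by group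
    _ = g * (z * (g⁻¹ * q * g)) * g⁻¹ := by rw [h1]
    _ = g * z * g⁻¹ * q := by group⟩

theorem zq_le_center {S : Type*} [Group S] [Finite S] (p : ℕ) [Fact p.Prime]
    (hS : IsPGroup p S) (Q : Subgroup S) [hQn : Q.Normal]
    (hZ : Nat.card (Subgroup.center ↥Q) = p) :
    (Subgroup.center ↥Q).map Q.subtype ≤ Subgroup.center S := by
  have hp : p.Prime := Fact.out
  set ZQ := (Subgroup.center ↥Q).map Q.subtype with hZQ
  have hcard : Nat.card ZQ = p := by rw [hZQ, Subgroup.card_subtype]; exact hZ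
  haveI hZn : ZQ.Normal := zq_normal Q
  have hne : ZQ ≠ ⊥ := by
    intro h
    rw [h, Subgroup.card_bot] at hcard
    exact hp.one_lt.ne hcard
  obtain ⟨b, hb, hb1, hbz⟩ := Cfsg.Agent.Lead.normal_inf_center_ne_bot' p hS ZQ hne
  have hzb : Subgroup.zpowers b = ZQ := by
    apply Subgroup.eq_of_le_of_card_ge (Subgroup.zpowers_le.mpr hb)
    rw [hcard, Nat.card_zpowers]
    have h1 : orderOf b ∣ p := by
      have := Subgroup.card_dvd_of_le (Subgroup.zpowers_le.mpr hb)
      rwa [Nat.card_zpowers, hcard] at this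
    rcases (Nat.dvd_prime hp).mp h1 with h | h
    · exact absurd (orderOf_eq_one_iff.mp h) hb1
    · exact h.ge
  rw [← hzb]
  exact Subgroup.zpowers_le.mpr hbz

/-- Let S be a finite p-group with an extraspecial subgroup Q of index p. Then either Z(S) = Z(Q), or S = Q·Z(S) and Z(S) has order p². -/
theorem result {S : Type*} [Group S] [Finite S] (p : ℕ) [Fact p.Prime] (hS : IsPGroup p S) (Q : Subgroup S) (hQ : Cfsg.IsExtraspecial p ↥Q) (hQi : Q.index = p) :
    Subgroup.center S = (Subgroup.center ↥Q).map Q.subtype ∨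
      (Q ⊔ Subgroup.center S = ⊤ ∧ Nat.card (Subgroup.center S) = p ^ 2) := by
  have hp : p.Prime := Fact.out
  haveI hQn : Q.Normal := normal_of_index_p p hS Q hQi
  have hZ : Nat.card (Subgroup.center ↥Q) = p := hQ.2
  have hle := zq_le_center p hS Q hZ
  have hinf : Subgroup.center S ⊓ Q ≤ (Subgroup.center ↥Q).map Q.subtype := by
    intro z hz
    exact (mem_zq Q z).mpr ⟨hz.2, fun q _ => Subgroup.mem_center_iff.mp hz.1 q⟩
  by_cases hc : Subgroup.center S ≤ Q
  · left
    exact le_antisymm (fun z hz => hinf ⟨hz, hc hz⟩) hle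
  · right
    have htop : Q ⊔ Subgroup.center S = ⊤ := by
      have h1 := Subgroup.relIndex_mul_index (le_sup_left : Q ≤ Q ⊔ Subgroup.center S)
      rw [hQi] at h1
      have h2 : (Q ⊔ Subgroup.center S).index ∣ p := Dvd.intro_left _ h1
      rcases (Nat.dvd_prime hp).mp h2 with h | h
      · exact Subgroup.index_eq_one.mp h
      · exfalso
        rw [h] at h1
        have h3 : Q.relIndex (Q ⊔ Subgroup.center S) = 1 :=
          Nat.eq_of_mul_eq_mul_right hp.pos (h1.trans (one_mul p).symm)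
        exact hc (le_sup_right.trans (Subgroup.relIndex_eq_one.mp h3))
    refine ⟨htop, ?_⟩
    have hinfeq : Q ⊓ Subgroup.center S = (Subgroup.center ↥Q).map Q.subtype := by
      apply le_antisymm
      · intro z hz; exact hinf ⟨hz.2, hz.1⟩
      · exact le_inf (Subgroup.map_subtype_le _) hle
    have h1 : Q.relIndex (Subgroup.center S) = p := by
      rw [← Subgroup.relIndex_sup_right (H := Subgroup.center S) (K := Q), sup_comm, htop,
        Subgroup.relIndex_top_right, hQi]
    have h2 := Subgroup.relIndex_mul_relIndex (H := ⊥) (K := Q ⊓ Subgroup.center S)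
      (L := Subgroup.center S) bot_le inf_le_right
    rw [Subgroup.relIndex_bot_left, Subgroup.relIndex_bot_left, Subgroup.inf_relIndex_right, h1,
      hinfeq, Subgroup.card_subtype, hZ] at h2
    rw [← h2, sq]

end Cfsg.Agent.S3808
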