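import Cfsg.Statements.S0605

set_option autoImplicit false
open Cfsg

namespace Cfsg.Agent.S0605

theorem adjoin_comm {S : Type*} [Group S] (A : Subgroup S) (hA : IsMulCommutative A) (x : S)
    (hx : ∀ a ∈ A, a * x = x * a) :
    IsMulCommutative (Subgroup.closure ((A : Set S) ∪ {x})) := by
  apply Subgroup.isMulCommutative_closure
  intro y hy z hz
  rcases hy with hy | hy <;> rcases hz with hz | hz
  · exact setLike_mul_comm hy hz
  · rw [Set.mem_singleton_iff] at hz; subst hz; exact hx y hy
  · rw [Set.mem_singleton_iff] at hy; subst hy; exact (hx z hz).symm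
  · rw [Set.mem_singleton_iff] at hy hz; subst hy; subst hz; rfl

theorem elab_adjoin {G : Type*} [Group G] (p : ℕ) (A : Subgroup G)
    (hA : Cfsg.IsElementaryAbelian p A) (x : G) (hx : ∀ a ∈ A, a * x = x * a) (hxp : x ^ p = 1) :
    Cfsg.IsElementaryAbelian p (Subgroup.closure ((A : Set G) ∪ {x})) := by
  have hc := adjoin_comm A hA.1 x hx
  refine ⟨hc, ?_⟩
  intro b hb
  induction hb using Subgroup.closure_induction with
  | mem y hy =>
    rcases hy with hy | hy
    · exact hA.2 y hy
    · rw [Set.mem_singleton_iff] at hy; rw [hy, hxp]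
  | one => simp
  | mul y z hy hz ihy ihz =>
    have hcomm : Commute y z := setLike_mul_comm hy hz
    rw [hcomm.mul_pow, ihy, ihz, one_mul]
  | inv y hy ih => rw [inv_pow, ih, inv_one]

theorem exists_max (p : ℕ) (G : Type*) [Group G] [Finite G] :
    (Cfsg.maxElementaryAbelianSubgroups p G).Nonempty := by
  obtain ⟨A, hA⟩ := Set.Finite.exists_maximalFor (fun A : Subgroup G => Nat.card A)
    {A : Subgroup G | Cfsg.IsElementaryAbelian p A} (Set.toFinite _)
    ⟨⊥, ⟨inferInstance, fun a ha => by rw [Subgroup.mem_bot.mp ha, one_pow]⟩⟩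
  refine ⟨A, hA.1, fun B hB => ?_⟩
  rcases le_total (Nat.card B) (Nat.card A) with h | h
  · exact h
  · exact hA.2 hB h

/-- Elements of order p in the centralizer of the Thompson subgroup belong to the Thompson subgroup (so to its centre). -/
theorem result {G : Type*} [Group G] [Finite G] {p : ℕ} [Fact p.Prime] (x : G) (hx : x ∈ Subgroup.centralizer (Cfsg.thompsonSubgroup p G : Set G)) (ho : orderOf x = p) : x ∈ Cfsg.thompsonSubgroup p G := by
  obtain ⟨A, hA⟩ := exists_max p G
  have hAJ : A ≤ Cfsg.thompsonSubgroup p G := le_sSup hA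
  have hxA : ∀ a ∈ A, a * x = x * a := fun a ha => hx a (hAJ ha)
  have hxp : x ^ p = 1 := by rw [← ho]; exact pow_orderOf_eq_one x
  have hB := elab_adjoin p A hA.1 x hxA hxp
  have hle : A ≤ Subgroup.closure ((A : Set G) ∪ {x}) := fun a ha =>
    Subgroup.subset_closure (Or.inl ha)
  have hcard := hA.2 _ hB
  have heq : A = Subgroup.closure ((A : Set G) ∪ {x}) := Subgroup.eq_of_le_of_card_ge hle hcard
  apply hAJ
  rw [heq]
  exact Subgroup.subset_closure (Or.inr rfl)

end Cfsg.Agent.S0605
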