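import Cfsg.Statements.S0862
import Mathlib
import Cfsg.Agent.Helper7.DetChar

set_option autoImplicit false
open Cfsg

namespace Cfsg.Agent.S0862

theorem bez_root {A : Type*} [CommGroup A] (γ : A) (m d : ℕ) (hcop : Nat.Coprime m d)
    (hγ : γ ^ m = 1) : ∃ b : ℤ, (γ ^ b) ^ d = γ := by
  have hbez := Nat.gcd_eq_gcd_ab m d
  rw [Nat.Coprime.gcd_eq_one hcop] at hbez
  refine ⟨Nat.gcdB m d, ?_⟩
  rw [← zpow_natCast, ← zpow_mul]
  have h1 : Nat.gcdB m d * (d : ℤ) = 1 - (m : ℤ) * Nat.gcdA m d := by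
    push_cast at hbez
    linarith
  rw [h1, zpow_sub, zpow_one, zpow_mul, zpow_natCast, hγ, one_zpow, inv_one, mul_one]

theorem hom_zpow_apply {G : Type*} [Group G] (γ : G →* ℂˣ) (b : ℤ) (g : G) :
    (γ ^ b) g = (γ g) ^ b :=
  map_zpow (MonoidHom.eval g) γ b

theorem hom_pow_apply {G : Type*} [Group G] (γ : G →* ℂˣ) (b : ℕ) (g : G) :
    (γ ^ b) g = (γ g) ^ b :=
  map_pow (MonoidHom.eval g) γ b

theorem hom_mul_inv_apply {G : Type*} [Group G] (f δ : G →* ℂˣ) (g : G) :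
    (f * δ⁻¹) g = f g * (δ g)⁻¹ := rfl

/-- Let N be a normal subgroup of the finite group G and ϑ an irreducible character of N of degree d coprime to the index of N, which is the restriction of some irreducible character of G. Let μ be a character of G of degree 1 whose restriction to N is the determinantal character of ϑ. Then there is exactly one irreducible character χ of G restricting to ϑ whose determinantal character is μ. -/
theorem result {G : Type*} [Group G] [Finite G] (N : Subgroup G) [N.Normal] (ϑ : N → ℂ) (hϑ : Cfsg.IsIrrCharacter N ϑ) (d : ℕ) (hd : ϑ 1 = d) (hcop : Nat.Coprime N.index d) (hext : ∃ η : G → ℂ, Cfsg.IsIrrCharacter G η ∧ (∀ n : N, η n = ϑ n)) (μ : G → ℂ) (hμ : Cfsg.IsCharacter G μ ∧ μ 1 = 1) (hμN : ∀ n : N, μ n = Cfsg.detChar ϑ n) : ∃! χ : G → ℂ, Cfsg.IsIrrCharacter G χ ∧ (∀ n : N, χ n = ϑ n) ∧ Cfsg.detChar χ = μ := by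
  classical
  obtain ⟨η, hη, hηN⟩ := hext
  obtain ⟨f, hf⟩ := Helper7.exists_hom_of_linear μ hμ.1 hμ.2
  have hηc : Cfsg.IsCharacter G η := Helper2.isCharacter_of_isIrrCharacter hη
  have hη1 : η 1 = d := by
    rw [← hd]
    exact hηN 1
  obtain ⟨k, ρ, hρ⟩ := hηc
  obtain ⟨δ₀, hδ₀⟩ : ∃ δ₀ : G →* ℂˣ, δ₀ = Helper7.detHom ρ := ⟨_, rfl⟩
  have hdetη : Cfsg.detChar η = fun g => ((δ₀ g : ℂˣ) : ℂ) := by
    rw [← hρ, Helper7.detChar_rep, hδ₀]
    rfl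
  have hϑeq : ϑ = fun n : N => η n := by
    funext n
    exact (hηN n).symm
  have hdetϑ : ∀ n : N, Cfsg.detChar ϑ n = ((δ₀ n : ℂˣ) : ℂ) := by
    intro n
    rw [hϑeq, Helper7.detChar_restrict N η ⟨k, ρ, hρ⟩]
    show Cfsg.detChar η n = _
    rw [hdetη]
  obtain ⟨γ, hγ⟩ : ∃ γ : G →* ℂˣ, γ = f * δ₀⁻¹ := ⟨_, rfl⟩
  have hγN : ∀ n : N, γ n = 1 := by
    intro n
    have h1 : ((f n : ℂˣ) : ℂ) = ((δ₀ n : ℂˣ) : ℂ) := by
      rw [← hdetϑ n, ← hμN n, hf]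
    have h2 : f n = δ₀ n := Units.ext h1
    rw [hγ, hom_mul_inv_apply, h2, mul_inv_cancel]
  have hγi : γ ^ N.index = 1 := Helper7.hom_pow_index_eq_one N γ hγN
  obtain ⟨b, hb⟩ := bez_root γ N.index d hcop hγi
  obtain ⟨β, hβ⟩ : ∃ β : G →* ℂˣ, β = γ ^ b := ⟨_, rfl⟩
  rw [← hβ] at hb
  have hβN : ∀ n : N, β n = 1 := by
    intro n
    rw [hβ, hom_zpow_apply, hγN, one_zpow]
  have hμne : ∀ g, μ g ≠ 0 := by
    intro g
    rw [hf]
    exact Units.ne_zero _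
  have hdet : Cfsg.detChar (fun g => ((β g : ℂˣ) : ℂ) * η g) = μ := by
    rw [Helper7.detChar_mul_hom η ⟨k, ρ, hρ⟩ d hη1 β, hdetη, hf]
    funext g
    show ((β g : ℂˣ) : ℂ) ^ d * ((δ₀ g : ℂˣ) : ℂ) = ((f g : ℂˣ) : ℂ)
    have h3 : (β g) ^ d = γ g := by
      rw [← hom_pow_apply, hb]
    rw [← Units.val_pow_eq_pow_val, h3, hγ, hom_mul_inv_apply, ← Units.val_mul,
      inv_mul_cancel_right]
  refine ⟨fun g => ((β g : ℂˣ) : ℂ) * η g,
    ⟨Helper7.isIrrCharacter_hom_mul β η hη, ?_, hdet⟩, ?_⟩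
  · intro n
    show ((β n : ℂˣ) : ℂ) * η n = ϑ n
    rw [hβN, Units.val_one, one_mul, hηN]
  · rintro χ' ⟨hχ', hχ'N, hχ'det⟩
    have hχ : Cfsg.IsCharacter G (fun g => ((β g : ℂˣ) : ℂ) * η g) :=
      Helper2.isCharacter_of_isIrrCharacter (Helper7.isIrrCharacter_hom_mul β η hη)
    obtain ⟨β', hβ'N, hβ'χ, hβ'det⟩ := Helper7.exists_hom_of_two_char_extensions N ϑ hϑ d hd
      (fun g => ((β g : ℂˣ) : ℂ) * η g) χ' hχ (Helper2.isCharacter_of_isIrrCharacter hχ')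
      (fun n => by
        show ((β n : ℂˣ) : ℂ) * η n = ϑ n
        rw [hβN, Units.val_one, one_mul, hηN]) hχ'N
    funext g
    rw [hβ'χ g]
    have h1 := hβ'det g
    rw [hχ'det, hdet] at h1
    have h2 : ((β' g : ℂˣ) : ℂ) ^ d = 1 := by
      have h3 : ((β' g : ℂˣ) : ℂ) ^ d * μ g = 1 * μ g := by rw [one_mul]; exact h1.symm
      exact mul_right_cancel₀ (hμne g) h3
    have h4 : (β' g) ^ d = 1 := Units.ext (by rw [Units.val_pow_eq_pow_val, h2]; rfl)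
    have h5 : (β' g) ^ N.index = 1 := by
      rw [← hom_pow_apply, Helper7.hom_pow_index_eq_one N β' hβ'N]
      rfl
    have h6 := pow_gcd_eq_one.mpr ⟨h5, h4⟩
    rw [Nat.Coprime.gcd_eq_one hcop, pow_one] at h6
    rw [h6, Units.val_one, one_mul]

end Cfsg.Agent.S0862
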