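import Cfsg.Statements.S0886
import Mathlib
import Cfsg.Agent.Helper1.CharEquiv
import Cfsg.Agent.Helper25.CharMore

set_option autoImplicit false
open Cfsg

namespace Cfsg.Agent.S0886

theorem cyclic_ext_hom {G Γ : Type*} [Group G] [Group Γ] (N : Subgroup G) [hN : N.Normal]
    (Xu : N →* Γ) (g : G) (U : Γ) (m : ℕ)
    (h1 : ∀ x : G, ∃ i : ℤ, (g ^ i)⁻¹ * x ∈ N)
    (h2 : ∀ k : ℤ, g ^ k ∈ N → (m : ℤ) ∣ k)
    (hgm : g ^ m ∈ N) (h3 : U ^ m = Xu ⟨g ^ m, hgm⟩)
    (h4 : ∀ n : N, Xu (MulAut.conjNormal g n) = U * Xu n * U⁻¹) :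
    ∃ R : G →* Γ, ∀ n : N, R n = Xu n := by
  classical
  let RelSub : Subgroup (G × Γ) :=
    { carrier := {p | ∀ n : N, Xu (MulAut.conjNormal p.1 n) = p.2 * Xu n * p.2⁻¹}
      mul_mem' := by
        rintro ⟨a, A⟩ ⟨b, B⟩ ha hb n
        show Xu (MulAut.conjNormal (a * b) n) = (A * B) * Xu n * (A * B)⁻¹
        rw [map_mul, MulAut.mul_apply, ha, hb]
        group
      one_mem' := by
        intro n
        show Xu (MulAut.conjNormal (1 : G) n) = 1 * Xu n * 1⁻¹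
        rw [map_one, MulAut.one_apply]
        group
      inv_mem' := by
        rintro ⟨a, A⟩ ha n
        show Xu (MulAut.conjNormal a⁻¹ n) = A⁻¹ * Xu n * A⁻¹⁻¹
        have h := ha (MulAut.conjNormal a⁻¹ n)
        rw [map_inv, MulAut.apply_inv_self] at h
        rw [map_inv]
        show Xu ((MulAut.conjNormal a)⁻¹ n) = A⁻¹ * Xu n * A⁻¹⁻¹
        rw [h]
        group }
  have hrel : ∀ (k : ℤ) (n : N), Xu (MulAut.conjNormal (g ^ k) n) = U ^ k * Xu n * (U ^ k)⁻¹ := by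
    intro k
    have hmem : ((g, U) : G × Γ) ∈ RelSub := h4
    have := RelSub.zpow_mem hmem k
    exact this
  choose ι hι using h1
  let ν : G → N := fun x => ⟨(g ^ ι x)⁻¹ * x, hι x⟩
  have hx : ∀ x, g ^ ι x * (ν x : G) = x := by
    intro x
    show g ^ ι x * ((g ^ ι x)⁻¹ * x) = x
    group
  let R : G → Γ := fun x => U ^ ι x * Xu (ν x)
  have key : ∀ (x : G) (i : ℤ) (n : N), x = g ^ i * (n : G) → R x = U ^ i * Xu n := by
    intro x i n hxi
    have e : g ^ ι x * (ν x : G) = g ^ i * (n : G) := (hx x).trans hxi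
    have h5 : g ^ (i - ι x) = (ν x : G) * (n : G)⁻¹ := by
      have : (ν x : G) = (g ^ ι x)⁻¹ * (g ^ i * (n : G)) := by rw [← e]; group
      rw [this, zpow_sub]
      group
    obtain ⟨k, hk⟩ := h2 (i - ι x) (by rw [h5]; exact N.mul_mem (ν x).2 (N.inv_mem n.2))
    have hi : i = ι x + m * k := by linarith
    have h6 : ν x = (⟨g ^ m, hgm⟩ : N) ^ k * n := by
      apply Subtype.ext
      rw [Subgroup.coe_mul, Subgroup.coe_zpow]
      show (ν x : G) = (g ^ m) ^ k * n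
      rw [hi, zpow_add, zpow_mul, zpow_natCast, mul_assoc] at e
      exact mul_left_cancel e
    show U ^ ι x * Xu (ν x) = U ^ i * Xu n
    rw [h6, map_mul, map_zpow, ← h3, hi, zpow_add, zpow_mul, zpow_natCast, mul_assoc]
  have hmul : ∀ x y, R (x * y) = R x * R y := by
    intro x y
    have e : x * y = g ^ (ι x + ι y) *
        (((MulAut.conjNormal (g ^ (-ι y)) (ν x)) * ν y : N) : G) := by
      calc x * y = (g ^ ι x * (ν x : G)) * (g ^ ι y * (ν y : G)) := by rw [hx x, hx y]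
        _ = _ := by
          rw [Subgroup.coe_mul, MulAut.conjNormal_apply, zpow_add, zpow_neg]
          group
    rw [key (x * y) _ _ e, map_mul, hrel]
    show U ^ (ι x + ι y) * (U ^ (-ι y) * Xu (ν x) * (U ^ (-ι y))⁻¹ * Xu (ν y))
      = U ^ ι x * Xu (ν x) * (U ^ ι y * Xu (ν y))
    rw [zpow_add, zpow_neg]
    group
  refine ⟨MonoidHom.mk' R hmul, ?_⟩
  intro n
  show R (n : G) = Xu n
  rw [key (n : G) 0 n (by simp)]
  simp

theorem irr_of_restrict {G : Type*} [Group G] (N : Subgroup G) {V : Type*} [AddCommGroup V]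
    [Module ℂ V] (ρ : Representation ℂ G V) (X : Representation ℂ N V) (hX : X.IsIrreducible)
    (hres : ∀ n : N, ρ (n : G) = X n) : ρ.IsIrreducible := by
  haveI : Nontrivial (Subrepresentation ρ) := by
    haveI := Cfsg.Agent.Helper25.nontrivial_of_irreducible X hX
    refine ⟨⟨⊥, ⊤, ?_⟩⟩
    intro h
    have h1 : (⊥ : Submodule ℂ V) = ⊤ := congrArg Subrepresentation.toSubmodule h
    exact bot_ne_top h1
  refine ⟨fun W => ?_⟩
  let W' : Subrepresentation X := ⟨W.toSubmodule, fun n v hv => by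
    have := W.apply_mem_toSubmodule (n : G) hv
    rwa [hres] at this⟩
  rcases hX.eq_bot_or_eq_top W' with h | h
  · left
    apply Subrepresentation.toSubmodule_injective
    have h1 : W'.toSubmodule = (⊥ : Subrepresentation X).toSubmodule :=
      congrArg Subrepresentation.toSubmodule h
    exact h1
  · right
    apply Subrepresentation.toSubmodule_injective
    have h1 : W'.toSubmodule = (⊤ : Subrepresentation X).toSubmodule :=
      congrArg Subrepresentation.toSubmodule h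
    exact h1

theorem ext_cyclic {G : Type*} [Group G] [Finite G] (N : Subgroup G) [hN : N.Normal]
    (hcyc : IsCyclic (G ⧸ N)) {d : ℕ} (X : Representation ℂ N (Fin d → ℂ)) (hX : X.IsIrreducible)
    (hinv : ∀ (g : G) (n : N), X.character (MulAut.conjNormal g n) = X.character n) :
    ∃ ρ : Representation ℂ G (Fin d → ℂ), ∀ n : N, ρ (n : G) = X n := by
  classical
  haveI := hX
  letI : Fintype N := Fintype.ofFinite N
  obtain ⟨q₀, hq₀⟩ := hcyc.exists_generator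
  obtain ⟨g, rfl⟩ := QuotientGroup.mk_surjective q₀
  obtain ⟨m, hm⟩ : ∃ m, m = orderOf (QuotientGroup.mk g : G ⧸ N) := ⟨_, rfl⟩
  have hmpos : 0 < m := by rw [hm]; exact orderOf_pos _
  have hmem_iff : ∀ k : ℤ, g ^ k ∈ N ↔ (m : ℤ) ∣ k := by
    intro k
    rw [hm, orderOf_dvd_iff_zpow_eq_one, ← QuotientGroup.mk_zpow, QuotientGroup.eq_one_iff]
  have hgm : g ^ m ∈ N := by
    have := (hmem_iff m).mpr dvd_rfl
    simpa using this
  have h1 : ∀ x : G, ∃ i : ℤ, (g ^ i)⁻¹ * x ∈ N := by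
    intro x
    obtain ⟨i, hi⟩ := Subgroup.mem_zpowers_iff.mp (hq₀ (QuotientGroup.mk x))
    refine ⟨i, ?_⟩
    rw [← QuotientGroup.eq, QuotientGroup.mk_zpow]
    exact hi
  let Xg : Representation ℂ N (Fin d → ℂ) := X.comp (MulAut.conjNormal g : N ≃* N).toMonoidHom
  have hchar : X.character = Xg.character := by
    funext n
    exact (hinv g n).symm
  obtain ⟨φ⟩ := Cfsg.Agent.Helper1.nonempty_equiv_of_character_eq X Xg hchar
  let e : (Fin d → ℂ) ≃ₗ[ℂ] (Fin d → ℂ) := φ.toLinearEquiv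
  have he : ∀ n : N, (e : Module.End ℂ (Fin d → ℂ)) * X n
      = X (MulAut.conjNormal g n) * (e : Module.End ℂ (Fin d → ℂ)) := fun n => φ.isIntertwining' n
  let U₀ : (Module.End ℂ (Fin d → ℂ))ˣ :=
    ⟨(e : Module.End ℂ (Fin d → ℂ)), (e.symm : Module.End ℂ (Fin d → ℂ)),
      by ext v; simp, by ext v; simp⟩
  let Xu : N →* (Module.End ℂ (Fin d → ℂ))ˣ := (X : N →* Module.End ℂ (Fin d → ℂ)).toHomUnits
  have h4₀ : ∀ n : N, Xu (MulAut.conjNormal g n) = U₀ * Xu n * U₀⁻¹ := by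
    intro n
    rw [eq_mul_inv_iff_mul_eq]
    apply Units.ext
    show X (MulAut.conjNormal g n) * (e : Module.End ℂ (Fin d → ℂ)) = (e : Module.End ℂ _) * X n
    exact (he n).symm
  let gm : N := ⟨g ^ m, hgm⟩
  have hconj_gm : ∀ n : N, MulAut.conjNormal (g ^ m) n = gm * n * gm⁻¹ := by
    intro n
    apply Subtype.ext
    rw [MulAut.conjNormal_apply]
    rfl
  have hpow : ∀ (j : ℕ) (n : N), Xu (MulAut.conjNormal (g ^ j) n) = U₀ ^ j * Xu n * (U₀ ^ j)⁻¹ := by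
    intro j
    induction j with
    | zero => intro n; simp
    | succ j ih =>
      intro n
      rw [pow_succ', map_mul, MulAut.mul_apply, h4₀, ih, pow_succ']
      group
  have hZcomm : ∀ n : N, (Xu gm)⁻¹ * U₀ ^ m * Xu n = Xu n * ((Xu gm)⁻¹ * U₀ ^ m) := by
    intro n
    have h := hpow m n
    rw [hconj_gm, map_mul, map_mul, map_inv] at h
    have h' : U₀ ^ m * Xu n = Xu gm * Xu n * (Xu gm)⁻¹ * U₀ ^ m := by rw [h]; group
    calc (Xu gm)⁻¹ * U₀ ^ m * Xu n = (Xu gm)⁻¹ * (U₀ ^ m * Xu n) := by group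
      _ = (Xu gm)⁻¹ * (Xu gm * Xu n * (Xu gm)⁻¹ * U₀ ^ m) := by rw [h']
      _ = _ := by group
  obtain ⟨c, hc⟩ := Cfsg.Agent.Helper1.exists_scalar_of_commute X
    (((Xu gm)⁻¹ * U₀ ^ m : (Module.End ℂ (Fin d → ℂ))ˣ) : Module.End ℂ (Fin d → ℂ)) (by
      intro n
      have := congrArg Units.val (hZcomm n)
      exact this)
  haveI hnt : Nontrivial (Fin d → ℂ) := Cfsg.Agent.Helper25.nontrivial_of_irreducible X hX
  have hc0 : c ≠ 0 := by
    rintro rfl
    rw [zero_smul] at hc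
    exact (Units.ne_zero _) hc
  obtain ⟨μ, hμ⟩ := IsAlgClosed.exists_pow_nat_eq c hmpos
  have hμ0 : μ ≠ 0 := by
    rintro rfl
    rw [zero_pow hmpos.ne'] at hμ
    exact hc0 hμ.symm
  let sU : (Module.End ℂ (Fin d → ℂ))ˣ :=
    ⟨μ • (1 : Module.End ℂ (Fin d → ℂ)), μ⁻¹ • (1 : Module.End ℂ (Fin d → ℂ)), by rw [smul_mul_smul_comm, mul_inv_cancel₀ hμ0, one_mul, one_smul],
      by rw [smul_mul_smul_comm, inv_mul_cancel₀ hμ0, one_mul, one_smul]⟩
  have hsU : ∀ V : (Module.End ℂ (Fin d → ℂ))ˣ, sU * V = V * sU := by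
    intro V
    apply Units.ext
    show (μ • (1 : Module.End ℂ (Fin d → ℂ))) * (V : Module.End ℂ _) = (V : Module.End ℂ _) * (μ • (1 : Module.End ℂ (Fin d → ℂ)))
    rw [smul_mul_assoc, mul_smul_comm, one_mul, mul_one]
  have hsUm : sU ^ m = (Xu gm)⁻¹ * U₀ ^ m := by
    apply Units.ext
    rw [Units.val_pow_eq_pow_val, hc]
    show (μ • (1 : Module.End ℂ (Fin d → ℂ))) ^ m = c • LinearMap.id
    rw [smul_pow, one_pow, hμ]
    rfl
  have hU₀m : U₀ ^ m = Xu gm * sU ^ m := by rw [hsUm]; group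
  have hcomm2 : Commute ((sU ^ m)⁻¹) (Xu gm) := ((show Commute sU (Xu gm) from hsU _).pow_left m).inv_left
  have h3 : (sU⁻¹ * U₀) ^ m = Xu gm := by
    calc (sU⁻¹ * U₀) ^ m = (sU⁻¹) ^ m * U₀ ^ m :=
          (Commute.inv_left (show Commute sU U₀ from hsU U₀)).mul_pow m
      _ = (sU ^ m)⁻¹ * (Xu gm * sU ^ m) := by rw [inv_pow, hU₀m]
      _ = Xu gm := by rw [← mul_assoc, hcomm2.eq, mul_assoc, inv_mul_cancel, mul_one]
  have h4 : ∀ n : N, Xu (MulAut.conjNormal g n) = (sU⁻¹ * U₀) * Xu n * (sU⁻¹ * U₀)⁻¹ := by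
    intro n
    rw [h4₀]
    have := hsU (U₀ * Xu n * U₀⁻¹)
    calc U₀ * Xu n * U₀⁻¹ = sU⁻¹ * (sU * (U₀ * Xu n * U₀⁻¹)) := by group
      _ = sU⁻¹ * ((U₀ * Xu n * U₀⁻¹) * sU) := by rw [this]
      _ = _ := by group
  obtain ⟨R, hR⟩ := cyclic_ext_hom N Xu g (sU⁻¹ * U₀) m h1 (fun k hk => (hmem_iff k).mp hk) hgm h3 h4
  refine ⟨(Units.coeHom _).comp R, ?_⟩
  intro n
  show ((R (n : G) : (Module.End ℂ (Fin d → ℂ))ˣ) : Module.End ℂ (Fin d → ℂ)) = X n
  rw [hR]
  rfl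

/-- Let N be a normal subgroup of the finite group G with G / N cyclic, and ϑ an irreducible character of N invariant under conjugation by G. Then ϑ is the restriction of some irreducible character of G. -/
theorem result {G : Type*} [Group G] [Finite G] (N : Subgroup G) [hN : N.Normal] (hcyc : IsCyclic (G ⧸ N)) (ϑ : N → ℂ) (hϑ : Cfsg.IsIrrCharacter N ϑ) (hinv : ∀ (g : G) (n : N), ϑ ⟨g * n * g⁻¹, hN.conj_mem (n : G) n.2 g⟩ = ϑ n) : ∃ χ : G → ℂ, Cfsg.IsIrrCharacter G χ ∧ ∀ n : N, χ n = ϑ n := by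
  classical
  obtain ⟨d, X, hX, rfl⟩ := hϑ
  obtain ⟨ρ, hρ⟩ := ext_cyclic N hcyc X hX (by
    intro g n
    have := hinv g n
    rw [← this]
    congr 1)
  refine ⟨ρ.character, ⟨d, ρ, irr_of_restrict N ρ X hX hρ, rfl⟩, ?_⟩
  intro n
  show LinearMap.trace ℂ _ (ρ (n : G)) = LinearMap.trace ℂ _ (X n)
  rw [hρ]

end Cfsg.Agent.S0886
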