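import Cfsg.Statements.S0863
import Mathlib
import Cfsg.Agent.Helper7.DetChar
import Cfsg.Agent.S0862
import Cfsg.Agent.S0886
import Cfsg.Agent.Helper2.IndNormal

set_option autoImplicit false
open Cfsg

namespace Cfsg.Agent.S0863

universe u

theorem ext_of_det (k : ℕ) : ∀ {G : Type u} [Group G] [Finite G] (N : Subgroup G)
    [hN : N.Normal], N.index = k → Group.IsSolvable (G ⧸ N) → ∀ (ϑ : N → ℂ),
    Cfsg.IsIrrCharacter N ϑ →
    (∀ (g : G) (n : N), ϑ ⟨g * n * g⁻¹, hN.conj_mem (n : G) n.2 g⟩ = ϑ n) →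
    ∀ (d : ℕ), ϑ 1 = d → Nat.Coprime N.index d → ∀ (μ : G →* ℂˣ),
    (∀ n : N, ((μ n : ℂˣ) : ℂ) = Cfsg.detChar ϑ n) →
    ∃ χ : G → ℂ, Cfsg.IsIrrCharacter G χ ∧ ∀ n : N, χ n = ϑ n := by
  induction k using Nat.strong_induction_on with
  | _ k ih =>
    intro G _ _ N hN hk hsolv ϑ hϑ hinv d hd hcop μ hμ
    by_cases htop : N = ⊤
    · have hmem : ∀ g : G, g ∈ N := fun g => by rw [htop]; trivial
      let f : G →* N :=
        { toFun := fun g => ⟨g, hmem g⟩, map_one' := rfl, map_mul' := fun _ _ => rfl }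
      have hf : Function.Surjective f := fun n => ⟨n, rfl⟩
      exact ⟨fun g => ϑ (f g), Helper2.isIrrCharacter_comp_of_surjective f hf hϑ, fun n => rfl⟩
    · obtain ⟨M, hMn, hNM, hMtop, g₀, hg₀⟩ := Helper7.exists_normal_cyclic_quotient N hsolv htop
      haveI := hMn
      have hcyc : IsCyclic (G ⧸ M) := Helper7.isCyclic_quotient_of_gen M g₀ hg₀
      have hidx : N.relIndex M * M.index = N.index := Subgroup.relIndex_mul_index hNM
      have hMi : 1 < M.index := by
        have h0 : M.index ≠ 0 := Subgroup.index_ne_zero_of_finite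
        have h1 : M.index ≠ 1 := fun h => hMtop (Subgroup.index_eq_one.mp h)
        omega
      have hNi : N.index ≠ 0 := Subgroup.index_ne_zero_of_finite
      have hlt : (N.subgroupOf M).index < k := by
        show N.relIndex M < k
        rw [← hk, ← hidx]
        have h2 : N.relIndex M ≠ 0 := fun h => hNi (by rw [← hidx, h, zero_mul])
        have h3 : 0 < N.relIndex M := Nat.pos_of_ne_zero h2
        nlinarith
      have hsolv' : Group.IsSolvable (↥M ⧸ N.subgroupOf M) := by
        let φ : ↥M ⧸ N.subgroupOf M →* G ⧸ N :=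
          QuotientGroup.map (N.subgroupOf M) N M.subtype (fun x hx => hx)
        have hφ : Function.Injective φ := by
          rw [injective_iff_map_eq_one]
          intro q
          induction q using QuotientGroup.induction_on with
          | H x =>
            intro hx
            have hx' : ((x : G) : G ⧸ N) = 1 := hx
            rw [QuotientGroup.eq_one_iff] at hx' ⊢
            exact hx'
        exact Group.isSolvable_of_isSolvable_injective hφ
      let f : N.subgroupOf M →* N :=
        { toFun := fun x => ⟨((x : M) : G), x.2⟩, map_one' := rfl, map_mul' := fun _ _ => rfl }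
      have hf : Function.Surjective f := fun n => ⟨⟨⟨n, hNM n.2⟩, n.2⟩, rfl⟩
      have hϑ' : Cfsg.IsIrrCharacter (N.subgroupOf M) (fun x => ϑ (f x)) :=
        Helper2.isIrrCharacter_comp_of_surjective f hf hϑ
      have hinv' : ∀ (m : M) (x : N.subgroupOf M), (fun x => ϑ (f x))
          ⟨m * x * m⁻¹, (inferInstance : (N.subgroupOf M).Normal).conj_mem (x : M) x.2 m⟩
            = (fun x => ϑ (f x)) x := by
        intro m x
        exact hinv (m : G) (f x)
      have hd' : (fun x => ϑ (f x)) 1 = d := by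
        show ϑ (f 1) = d
        rw [map_one]
        exact hd
      have hcop' : Nat.Coprime (N.subgroupOf M).index d :=
        Nat.Coprime.coprime_dvd_left (Dvd.intro _ hidx) hcop
      have hμ' : ∀ x : N.subgroupOf M, ((((μ.comp M.subtype) (x : M)) : ℂˣ) : ℂ)
          = Cfsg.detChar (fun x => ϑ (f x)) x := by
        intro x
        rw [Helper7.detChar_comp f ϑ (Helper2.isCharacter_of_isIrrCharacter hϑ)]
        exact hμ (f x)
      obtain ⟨η₀, hη₀, hη₀N⟩ := ih (N.subgroupOf M).index hlt (N.subgroupOf M) rfl hsolv'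
        (fun x => ϑ (f x)) hϑ' hinv' d hd' hcop' (μ.comp M.subtype) hμ'
      obtain ⟨η, ⟨hη, hηN, hηdet⟩, huniq⟩ := Cfsg.Agent.S0862.result (N.subgroupOf M)
        (fun x => ϑ (f x)) hϑ' d hd' hcop' ⟨η₀, hη₀, hη₀N⟩
        (fun m : M => ((((μ.comp M.subtype) m) : ℂˣ) : ℂ))
        ⟨Helper7.isCharacter_of_hom (μ.comp M.subtype), by simp⟩ hμ'
      have hηinv : ∀ g : G, Helper2.conjChar M η g = η := by
        intro g
        apply huniq
        refine ⟨Helper2.isIrrCharacter_conjChar M hη g, ?_, ?_⟩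
        · intro x
          have h1 : Helper2.conjChar M η g (x : M)
              = η ((⟨⟨g * ((x : M) : G) * g⁻¹, hMn.conj_mem _ (x : M).2 g⟩,
                  hN.conj_mem _ x.2 g⟩ : N.subgroupOf M) : M) := rfl
          rw [h1, hηN]
          exact hinv g (f x)
        · have hcc : Helper2.conjChar M η g
              = fun m => η ((MulAut.conjNormal g : M ≃* M).toMonoidHom m) := by
            funext m
            rw [Helper2.conjChar_apply]
            congr 1
          rw [hcc, Helper7.detChar_comp _ η (Helper2.isCharacter_of_isIrrCharacter hη), hηdet]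
          funext m
          show ((μ (((MulAut.conjNormal g : M ≃* M) m : M) : G) : ℂˣ) : ℂ) = ((μ (m : G) : ℂˣ) : ℂ)
          rw [MulAut.conjNormal_apply, map_mul, map_mul, map_inv, mul_comm, inv_mul_cancel_left]
      obtain ⟨χ, hχ, hχM⟩ := Cfsg.Agent.S0886.result M hcyc η hη
        (fun g m => congrFun (hηinv g) m)
      refine ⟨χ, hχ, fun n => ?_⟩
      have h2 := hχM ⟨n, hNM n.2⟩
      have h3 := hηN ⟨⟨n, hNM n.2⟩, n.2⟩
      exact h2.trans h3

/-- Let N be a normal subgroup of the finite group G with G / N solvable, and ϑ an irreducible character of N, invariant under conjugation by G, of degree d coprime to the index of N. Then ϑ is the restriction of an irreducible character of G if and only if the determinantal character of ϑ is the restriction of a character of G of degree 1. -/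
theorem result {G : Type*} [Group G] [Finite G] (N : Subgroup G) [hN : N.Normal] (hsolv : Group.IsSolvable (G ⧸ N)) (ϑ : N → ℂ) (hϑ : Cfsg.IsIrrCharacter N ϑ) (hinv : ∀ (g : G) (n : N), ϑ ⟨g * n * g⁻¹, hN.conj_mem (n : G) n.2 g⟩ = ϑ n) (d : ℕ) (hd : ϑ 1 = d) (hcop : Nat.Coprime N.index d) : (∃ χ : G → ℂ, Cfsg.IsIrrCharacter G χ ∧ (∀ n : N, χ n = ϑ n)) ↔ ∃ μ : G → ℂ, Cfsg.IsCharacter G μ ∧ μ 1 = 1 ∧ ∀ n : N, μ n = Cfsg.detChar ϑ n := by
  constructor
  · rintro ⟨χ, hχ, hχN⟩
    have hχc := Helper2.isCharacter_of_isIrrCharacter hχ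
    obtain ⟨δ, hδ⟩ := Helper7.exists_hom_detChar χ hχc
    refine ⟨fun g => ((δ g : ℂˣ) : ℂ), Helper7.isCharacter_of_hom δ, by simp, ?_⟩
    intro n
    have hϑeq : ϑ = fun n : N => χ n := by
      funext n
      exact (hχN n).symm
    rw [hϑeq, Helper7.detChar_restrict N χ hχc, hδ]
  · rintro ⟨μ, hμ, hμ1, hμN⟩
    obtain ⟨f, hf⟩ := Helper7.exists_hom_of_linear μ hμ hμ1
    exact ext_of_det N.index N rfl hsolv ϑ hϑ hinv d hd hcop f (fun n => by rw [← hμN n, hf])

end Cfsg.Agent.S0863
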