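import Cfsg.Statements.S0856
import Mathlib
import Cfsg.Agent.Helper7.Clifford

set_option autoImplicit false
open Cfsg

namespace Cfsg.Agent.S0856

/-- Let N be a normal subgroup of the finite group G and φ, ϑ irreducible characters of N that are invariant under conjugation by G, such that the pointwise product φ * ϑ is irreducible and ϑ is the restriction of an irreducible character χ of G. Then multiplication by χ is a bijection from the set of irreducible characters of G having nonzero inner product with the function induced from φ onto the set of those having nonzero inner product with the function induced from φ * ϑ. -/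
theorem result {G : Type*} [Group G] [Fintype G] (N : Subgroup G) [hN : N.Normal] (φ ϑ : N → ℂ) (hφ : Cfsg.IsIrrCharacter N φ) (hϑ : Cfsg.IsIrrCharacter N ϑ) (hφinv : ∀ (g : G) (n : N), φ ⟨g * n * g⁻¹, hN.conj_mem (n : G) n.2 g⟩ = φ n) (hϑinv : ∀ (g : G) (n : N), ϑ ⟨g * n * g⁻¹, hN.conj_mem (n : G) n.2 g⟩ = ϑ n) (hprod : Cfsg.IsIrrCharacter N (φ * ϑ)) (χ : G → ℂ) (hχ : Cfsg.IsIrrCharacter G χ) (hext : ∀ n : N, χ n = ϑ n) : Set.BijOn (fun β : G → ℂ => β * χ) {β : G → ℂ | Cfsg.IsIrrCharacter G β ∧ Cfsg.classInner (Cfsg.indFun N φ) β ≠ 0} {ψ : G → ℂ | Cfsg.IsIrrCharacter G ψ ∧ Cfsg.classInner (Cfsg.indFun N (φ * ϑ)) ψ ≠ 0} := by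
  classical
  letI : Fintype N := Fintype.ofFinite N
  have hχc := Cfsg.Agent.Helper2.isCharacter_of_isIrrCharacter hχ
  have hχcl := Cfsg.Agent.Helper2.isClassFunction_of_isCharacter hχc
  have hφc := Cfsg.Agent.Helper2.isCharacter_of_isIrrCharacter hφ
  have hΦc : Cfsg.IsCharacter G (Cfsg.indFun N φ) := Cfsg.Agent.Helper2.isCharacter_indFun N hφc
  have hΨ : Cfsg.indFun N (φ * ϑ) = Cfsg.indFun N φ * χ := by
    rw [← Cfsg.Agent.Helper7.indFun_mul_classFunction N φ χ hχcl]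
    congr 1
    funext n
    rw [Pi.mul_apply, hext]
  have ha : ∀ β : Cfsg.IrrCharacter G, ∃ a : ℕ, Cfsg.classInner (Cfsg.indFun N φ) (β : G → ℂ) = (a : ℂ) :=
    fun β => Cfsg.Agent.Helper2.classInner_char_nat hΦc (Cfsg.Agent.Helper2.isCharacter_of_isIrrCharacter β.2)
  choose a ha using ha
  have hm : ∀ β β' : Cfsg.IrrCharacter G, ∃ m : ℕ,
      Cfsg.classInner ((β : G → ℂ) * χ) ((β' : G → ℂ) * χ) = (m : ℂ) :=
    fun β β' => Cfsg.Agent.Helper2.classInner_char_nat
      (Cfsg.Agent.Helper2.isCharacter_mul (Cfsg.Agent.Helper2.isCharacter_of_isIrrCharacter β.2) hχc)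
      (Cfsg.Agent.Helper2.isCharacter_mul (Cfsg.Agent.Helper2.isCharacter_of_isIrrCharacter β'.2) hχc)
  choose m hm using hm
  have hm1 : ∀ β, 1 ≤ m β β := by
    intro β
    by_contra h
    have h0 : m β β = 0 := by omega
    have := hm β β
    rw [h0, Nat.cast_zero, Cfsg.Agent.Helper2.classInner_self_eq_zero_iff] at this
    have h1 := congrFun this 1
    simp only [Pi.mul_apply, Pi.zero_apply] at h1
    rcases mul_eq_zero.mp h1 with h | h
    · exact Cfsg.Agent.Helper25.irr_one_ne_zero β h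
    · exact Cfsg.Agent.Helper25.irr_one_ne_zero ⟨χ, hχ⟩ h
  have hΦdec : Cfsg.indFun N φ = ∑ β : Cfsg.IrrCharacter G, (a β : ℂ) • (β : G → ℂ) := by
    have := Cfsg.Agent.Helper2.classFun_eq_sum_classInner (Cfsg.Agent.Helper2.isClassFunction_of_isCharacter hΦc)
    simp only [ha] at this
    exact this
  have hΨdec : Cfsg.indFun N (φ * ϑ) = ∑ β : Cfsg.IrrCharacter G, (a β : ℂ) • ((β : G → ℂ) * χ) := by
    rw [hΨ]
    conv_lhs => rw [hΦdec]
    rw [Finset.sum_mul]
    apply Finset.sum_congr rfl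
    intro β _
    rw [smul_mul_assoc]
  have hinvprod : ∀ (g : G) (n : N),
      (φ * ϑ) ⟨g * n * g⁻¹, hN.conj_mem (n : G) n.2 g⟩ = (φ * ϑ) n := by
    intro g n
    rw [Pi.mul_apply, Pi.mul_apply, hφinv, hϑinv]
  have hnorm : ∀ (θ : N → ℂ), Cfsg.IsIrrCharacter N θ →
      (∀ (g : G) (n : N), θ ⟨g * n * g⁻¹, hN.conj_mem (n : G) n.2 g⟩ = θ n) →
      Cfsg.classInner (Cfsg.indFun N θ) (Cfsg.indFun N θ) = (N.index : ℂ) := by
    intro θ hθ hθinv
    rw [Cfsg.Agent.Helper2.frobenius_reciprocity N θ (Cfsg.indFun N θ)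
      (Cfsg.Agent.Helper2.indFun_isClassFunction N θ)]
    have h1 : (fun n : N => Cfsg.indFun N θ (n : G)) = (N.index : ℂ) • θ := by
      funext n
      rw [Cfsg.Agent.Helper7.indFun_apply_invariant N θ hθinv n]
      rfl
    rw [h1, Cfsg.Agent.Helper2.classInner_smul_right, Complex.conj_natCast]
    have h2 := Cfsg.Agent.Helper25.irr_classInner (⟨θ, hθ⟩ : Cfsg.IrrCharacter N) ⟨θ, hθ⟩
    rw [if_pos rfl] at h2
    rw [h2, mul_one]
  have hΦΦ := hnorm φ hφ hφinv
  have hΨΨ := hnorm (φ * ϑ) hprod hinvprod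
  have hE1 : ∑ β : Cfsg.IrrCharacter G, a β * a β = N.index := by
    have h1 := Cfsg.Agent.Helper2.classInner_eq_sum_mul
      (Cfsg.Agent.Helper2.isClassFunction_of_isCharacter hΦc) (Cfsg.indFun N φ)
    rw [hΦΦ] at h1
    simp only [ha, Complex.conj_natCast] at h1
    exact_mod_cast h1.symm
  have hE2 : ∑ β : Cfsg.IrrCharacter G, ∑ β' : Cfsg.IrrCharacter G, a β * a β' * m β β' = N.index := by
    have h1 : Cfsg.classInner (Cfsg.indFun N (φ * ϑ)) (Cfsg.indFun N (φ * ϑ))
        = ∑ β : Cfsg.IrrCharacter G, ∑ β' : Cfsg.IrrCharacter G, ((a β * a β' * m β β' : ℕ) : ℂ) := by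
      rw [hΨdec, Cfsg.Agent.Helper2.classInner_sum_left]
      apply Finset.sum_congr rfl; intro β _
      rw [Cfsg.Agent.Helper2.classInner_sum_right]
      apply Finset.sum_congr rfl; intro β' _
      rw [Cfsg.Agent.Helper2.classInner_smul_left, Cfsg.Agent.Helper2.classInner_smul_right,
        Complex.conj_natCast, hm]
      push_cast
      ring
    rw [hΨΨ] at h1
    exact_mod_cast h1.symm
  have hrow : ∀ β : Cfsg.IrrCharacter G,
      ∑ β' : Cfsg.IrrCharacter G, a β * a β' * m β β' = a β * a β := by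
    have hle : ∀ β ∈ (Finset.univ : Finset (Cfsg.IrrCharacter G)),
        a β * a β ≤ ∑ β' : Cfsg.IrrCharacter G, a β * a β' * m β β' := by
      intro β _
      calc a β * a β ≤ a β * a β * m β β := Nat.le_mul_of_pos_right _ (hm1 β)
        _ ≤ _ := Finset.single_le_sum (f := fun β' => a β * a β' * m β β')
            (fun _ _ => Nat.zero_le _) (Finset.mem_univ β)
    have h1 := (Finset.sum_eq_sum_iff_of_le hle).mp (hE1.trans hE2.symm)
    intro β
    exact (h1 β (Finset.mem_univ β)).symm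
  have hdiag : ∀ β, a β ≠ 0 → m β β = 1 := by
    intro β hβ
    have h1 := hrow β
    rw [← Finset.add_sum_erase Finset.univ _ (Finset.mem_univ β)] at h1
    have h2 : a β * a β * m β β ≤ a β * a β * 1 := by
      rw [mul_one]
      exact Nat.le.intro h1
    have h3 : m β β ≤ 1 := Nat.le_of_mul_le_mul_left h2 (Nat.mul_pos (Nat.pos_of_ne_zero hβ) (Nat.pos_of_ne_zero hβ))
    exact le_antisymm h3 (hm1 β)
  have hoff : ∀ β β', β ≠ β' → a β ≠ 0 → a β' ≠ 0 → m β β' = 0 := by
    intro β β' hne hβ hβ'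
    have h1 := hrow β
    rw [← Finset.add_sum_erase Finset.univ _ (Finset.mem_univ β), hdiag β hβ, mul_one] at h1
    have h2 : ∑ x ∈ Finset.univ.erase β, a β * a x * m β x = 0 :=
      Nat.add_left_cancel (h1.trans (Nat.add_zero _).symm)
    have h3 := (Finset.sum_eq_zero_iff.mp h2) β' (Finset.mem_erase.mpr ⟨hne.symm, Finset.mem_univ _⟩)
    rcases Nat.mul_eq_zero.mp h3 with h | h
    · rcases Nat.mul_eq_zero.mp h with h | h
      · exact absurd h hβ
      · exact absurd h hβ'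
    · exact h
  have hΨβ : ∀ β₀ : Cfsg.IrrCharacter G, a β₀ ≠ 0 →
      Cfsg.classInner (Cfsg.indFun N (φ * ϑ)) ((β₀ : G → ℂ) * χ) = (a β₀ : ℂ) := by
    intro β₀ h0
    rw [hΨdec, Cfsg.Agent.Helper2.classInner_sum_left, Finset.sum_eq_single β₀]
    · rw [Cfsg.Agent.Helper2.classInner_smul_left, hm, hdiag β₀ h0]
      simp
    · intro β _ hne
      rw [Cfsg.Agent.Helper2.classInner_smul_left, hm]
      by_cases hβ : a β = 0
      · rw [hβ]; simp
      · rw [hoff β β₀ hne hβ h0]; simp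
    · intro h
      exact absurd (Finset.mem_univ _) h
  have hirr : ∀ β : Cfsg.IrrCharacter G, a β ≠ 0 → Cfsg.IsIrrCharacter G ((β : G → ℂ) * χ) := by
    intro β h0
    apply Cfsg.Agent.Helper2.isIrrCharacter_of_classInner_self
      (Cfsg.Agent.Helper2.isCharacter_mul (Cfsg.Agent.Helper2.isCharacter_of_isIrrCharacter β.2) hχc)
    have := hm β β
    rw [hdiag β h0, Nat.cast_one] at this
    exact this
  have ha0 : ∀ (β : G → ℂ) (hβ : Cfsg.IsIrrCharacter G β),
      Cfsg.classInner (Cfsg.indFun N φ) β ≠ 0 → a ⟨β, hβ⟩ ≠ 0 := by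
    intro β hβ hβne h
    apply hβne
    have := ha ⟨β, hβ⟩
    rw [h, Nat.cast_zero] at this
    exact this
  refine ⟨?_, ?_, ?_⟩
  · rintro β ⟨hβ, hβne⟩
    have h0 := ha0 β hβ hβne
    refine ⟨hirr ⟨β, hβ⟩ h0, ?_⟩
    have h1 := hΨβ ⟨β, hβ⟩ h0
    show Cfsg.classInner (Cfsg.indFun N (φ * ϑ)) (β * χ) ≠ 0
    intro h
    rw [h] at h1
    exact h0 (by exact_mod_cast h1.symm)
  · rintro β ⟨hβ, hβne⟩ β' ⟨hβ', hβ'ne⟩ heq
    by_contra hne
    have hne' : (⟨β, hβ⟩ : Cfsg.IrrCharacter G) ≠ ⟨β', hβ'⟩ := fun h => hne (congrArg Subtype.val h)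
    have h0 := ha0 β hβ hβne
    have h0' := ha0 β' hβ' hβ'ne
    have h1 : Cfsg.classInner (β * χ) (β' * χ) = 0 := by
      have := hm ⟨β, hβ⟩ ⟨β', hβ'⟩
      rw [hoff _ _ hne' h0 h0', Nat.cast_zero] at this
      exact this
    have h2 : Cfsg.classInner (β * χ) (β * χ) = 1 := by
      have := hm ⟨β, hβ⟩ ⟨β, hβ⟩
      rw [hdiag _ h0, Nat.cast_one] at this
      exact this
    have heq' : β * χ = β' * χ := heq
    rw [← heq', h2] at h1
    exact one_ne_zero h1
  · rintro ψ ⟨hψ, hψne⟩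
    have h1 : Cfsg.classInner (Cfsg.indFun N (φ * ϑ)) ψ
        = ∑ β : Cfsg.IrrCharacter G, (a β : ℂ) * Cfsg.classInner ((β : G → ℂ) * χ) ψ := by
      rw [hΨdec, Cfsg.Agent.Helper2.classInner_sum_left]
      apply Finset.sum_congr rfl
      intro β _
      rw [Cfsg.Agent.Helper2.classInner_smul_left]
    rw [h1] at hψne
    obtain ⟨β, _, hβ⟩ := Finset.exists_ne_zero_of_sum_ne_zero hψne
    have h0 : a β ≠ 0 := by
      intro h
      apply hβ
      rw [h]
      simp
    have hinner : Cfsg.classInner ((β : G → ℂ) * χ) ψ ≠ 0 := by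
      intro h
      apply hβ
      rw [h, mul_zero]
    have heq : (β : G → ℂ) * χ = ψ := by
      have := Cfsg.Agent.Helper25.irr_classInner (⟨_, hirr β h0⟩ : Cfsg.IrrCharacter G) ⟨ψ, hψ⟩
      by_contra hne
      rw [if_neg (fun h => hne (congrArg Subtype.val h))] at this
      exact hinner this
    refine ⟨(β : G → ℂ), ⟨β.2, ?_⟩, heq⟩
    rw [ha]
    exact_mod_cast h0

end Cfsg.Agent.S0856
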