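import Cfsg.Statements.S0868
import Mathlib
import Cfsg.Agent.Helper25.CharMore
import Cfsg.Agent.Helper7.Clifford
import Cfsg.Agent.S0856

set_option autoImplicit false
open scoped ComplexConjugate
open Cfsg

namespace Cfsg.Agent.S0868

/-- Let N be a normal subgroup of the finite group G, χ an irreducible character of G whose restriction ϑ to N is irreducible, and ψ an irreducible character of G. Define η on G by η g = (1 / order of N) * Σ over n in N of ψ (n * g) * conj (χ (n * g)). Then: if the restriction of ψ to N has nonzero inner product with ϑ, η is an irreducible character of G; if that inner product is zero, η vanishes identically; and if ψ = χ then η is identically 1. -/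
theorem result {G : Type*} [Group G] [Fintype G] (N : Subgroup G) [N.Normal] [Fintype N] (χ : G → ℂ) (hχ : Cfsg.IsIrrCharacter G χ) (hχN : Cfsg.IsIrrCharacter N (fun n : N => χ n)) (ψ : G → ℂ) (hψ : Cfsg.IsIrrCharacter G ψ) (η : G → ℂ) (hη : η = fun g => (Nat.card N : ℂ)⁻¹ * ∑ n : N, ψ ((n : G) * g) * conj (χ ((n : G) * g))) : (Cfsg.classInner (fun n : N => ψ n) (fun n : N => χ n) ≠ 0 → Cfsg.IsIrrCharacter G η) ∧ (Cfsg.classInner (fun n : N => ψ n) (fun n : N => χ n) = 0 → η = 0) ∧ (ψ = χ → η = fun _ => 1) := by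
  classical
  have hχc := Cfsg.Agent.Helper2.isCharacter_of_isIrrCharacter hχ
  have hχcl := Cfsg.Agent.Helper2.isClassFunction_of_isCharacter hχc
  have hψc := Cfsg.Agent.Helper2.isCharacter_of_isIrrCharacter hψ
  have hNne : (Nat.card N : ℂ) ≠ 0 := Nat.cast_ne_zero.mpr Nat.card_pos.ne'
  -- the trivial character of N
  have htriv : Cfsg.IsIrrCharacter N (fun _ : N => (1 : ℂ)) := by
    have := (Cfsg.Agent.Helper25.trivChar N).2
    convert this using 1
    funext n
    exact (Cfsg.Agent.Helper25.trivChar_apply n).symm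
  have hone_mul : ((fun _ : N => (1 : ℂ)) * fun n : N => χ n) = fun n : N => χ n := by
    funext n
    simp
  have hbij := Cfsg.Agent.S0856.result N (fun _ => 1) (fun n : N => χ n) htriv hχN (fun _ _ => rfl)
    (fun g n => hχcl n g) (by rw [hone_mul]; exact hχN) χ hχ (fun _ => rfl)
  rw [hone_mul] at hbij
  -- averages
  have hc : ∀ φ : Cfsg.IrrCharacter G, ∃ c : ℂ, (c = 0 ∨ c = 1) ∧
      (∀ g : G, (Nat.card N : ℂ)⁻¹ * ∑ n : N, (φ : G → ℂ) ((n : G) * g) = c * (φ : G → ℂ) g) ∧
      Cfsg.classInner (fun n : N => (φ : G → ℂ) n) (fun _ => 1) = c * (φ : G → ℂ) 1 :=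
    fun φ => Cfsg.Agent.Helper7.avg_irr N φ.1 φ.2
  choose c hc01 hcav hcin using hc
  -- membership in the domain
  have hA : ∀ φ : Cfsg.IrrCharacter G, c φ = 1 →
      (φ : G → ℂ) ∈ {β : G → ℂ | Cfsg.IsIrrCharacter G β ∧
        Cfsg.classInner (Cfsg.indFun N (fun _ => (1 : ℂ))) β ≠ 0} := by
    intro φ h1
    refine ⟨φ.2, ?_⟩
    rw [Cfsg.Agent.Helper2.frobenius_reciprocity N _ _ (Cfsg.Agent.Helper1.isClassFunction_irr φ),
      Cfsg.Agent.Helper2.classInner_conj_symm (fun n : N => (φ : G → ℂ) n) (fun _ => 1), hcin, h1, one_mul]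
    intro h
    have h2 : (φ : G → ℂ) 1 = 0 := by simpa using h
    exact Cfsg.Agent.Helper25.irr_one_ne_zero φ h2
  have hA' : ∀ φ : Cfsg.IrrCharacter G,
      (φ : G → ℂ) ∈ {β : G → ℂ | Cfsg.IsIrrCharacter G β ∧
        Cfsg.classInner (Cfsg.indFun N (fun _ => (1 : ℂ))) β ≠ 0} → c φ = 1 := by
    rintro φ ⟨_, h⟩
    rcases hc01 φ with h0 | h1
    · exfalso
      apply h
      rw [Cfsg.Agent.Helper2.frobenius_reciprocity N _ _ (Cfsg.Agent.Helper1.isClassFunction_irr φ),
        Cfsg.Agent.Helper2.classInner_conj_symm (fun n : N => (φ : G → ℂ) n) (fun _ => 1), hcin, h0]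
      simp
    · exact h1
  -- decomposition of η
  have hF : Cfsg.IsClassFunction G (fun g => ψ g * (starRingEnd ℂ) (χ g)) := by
    intro g h
    show ψ (h * g * h⁻¹) * (starRingEnd ℂ) (χ (h * g * h⁻¹)) = ψ g * (starRingEnd ℂ) (χ g)
    rw [hχcl g h, Cfsg.Agent.Helper2.isClassFunction_of_isCharacter hψc g h]
  have hFφ : ∀ φ : Cfsg.IrrCharacter G,
      Cfsg.classInner (fun g => ψ g * (starRingEnd ℂ) (χ g)) (φ : G → ℂ)
        = Cfsg.classInner ψ ((φ : G → ℂ) * χ) := by
    intro φ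
    unfold Cfsg.classInner
    congr 1
    apply Finset.sum_congr rfl
    intro g _
    rw [Pi.mul_apply, map_mul]
    ring
  have hηdec : η = ∑ φ : Cfsg.IrrCharacter G,
      (Cfsg.classInner ψ ((φ : G → ℂ) * χ) * c φ) • (φ : G → ℂ) := by
    rw [hη]
    funext g
    have h1 := Cfsg.Agent.Helper2.classFun_eq_sum_classInner hF
    have h2 : ∀ n : N, ψ ((n : G) * g) * (starRingEnd ℂ) (χ ((n : G) * g))
        = ∑ φ : Cfsg.IrrCharacter G, Cfsg.classInner ψ ((φ : G → ℂ) * χ) * (φ : G → ℂ) ((n : G) * g) := by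
      intro n
      have h3 := congrFun h1 ((n : G) * g)
      rw [Finset.sum_apply] at h3
      rw [h3]
      apply Finset.sum_congr rfl
      intro φ _
      rw [Pi.smul_apply, smul_eq_mul, hFφ]
    rw [Finset.sum_congr rfl (fun n _ => h2 n), Finset.sum_comm, Finset.mul_sum, Finset.sum_apply]
    apply Finset.sum_congr rfl
    intro φ _
    rw [← Finset.mul_sum, Pi.smul_apply, smul_eq_mul, mul_left_comm, hcav]
    ring
  -- main claim
  have hmain : ∀ φ₀ : G → ℂ, φ₀ ∈ {β : G → ℂ | Cfsg.IsIrrCharacter G β ∧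
        Cfsg.classInner (Cfsg.indFun N (fun _ => (1 : ℂ))) β ≠ 0} → φ₀ * χ = ψ → η = φ₀ := by
    intro φ₀ hφ₀ heq
    have hc1 : c ⟨φ₀, hφ₀.1⟩ = 1 := hA' ⟨φ₀, hφ₀.1⟩ hφ₀
    rw [hηdec, Finset.sum_eq_single (⟨φ₀, hφ₀.1⟩ : Cfsg.IrrCharacter G)]
    · rw [hc1, mul_one]
      show Cfsg.classInner ψ (φ₀ * χ) • φ₀ = φ₀
      rw [heq]
      have := Cfsg.Agent.Helper25.irr_classInner (⟨ψ, hψ⟩ : Cfsg.IrrCharacter G) ⟨ψ, hψ⟩
      rw [if_pos rfl] at this
      rw [this, one_smul]
    · intro φ _ hne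
      rcases hc01 φ with h0 | h1
      · rw [h0, mul_zero, zero_smul]
      · have hφA := hA φ h1
        have hirr := (hbij.mapsTo hφA).1
        have hneq : (φ : G → ℂ) * χ ≠ ψ := by
          intro h
          apply hne
          apply Subtype.ext
          exact hbij.injOn hφA hφ₀ (h.trans heq.symm)
        have := Cfsg.Agent.Helper25.irr_classInner (⟨ψ, hψ⟩ : Cfsg.IrrCharacter G) ⟨_, hirr⟩
        rw [if_neg (fun h => hneq (congrArg Subtype.val h).symm)] at this
        have h' : Cfsg.classInner ψ ((φ : G → ℂ) * χ) = 0 := this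
        rw [h', zero_mul, zero_smul]
    · intro h
      exact absurd (Finset.mem_univ _) h
  have hB : ψ ∈ {ψ' : G → ℂ | Cfsg.IsIrrCharacter G ψ' ∧
      Cfsg.classInner (Cfsg.indFun N (fun n : N => χ n)) ψ' ≠ 0} ↔
      Cfsg.classInner (fun n : N => ψ n) (fun n : N => χ n) ≠ 0 := by
    constructor
    · rintro ⟨_, h⟩ h0
      apply h
      rw [Cfsg.Agent.Helper2.frobenius_reciprocity N _ _ (Cfsg.Agent.Helper2.isClassFunction_of_isCharacter hψc),
        Cfsg.Agent.Helper2.classInner_conj_symm (fun n : N => ψ n) (fun n : N => χ n), h0]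
      simp
    · intro h
      refine ⟨hψ, ?_⟩
      rw [Cfsg.Agent.Helper2.frobenius_reciprocity N _ _ (Cfsg.Agent.Helper2.isClassFunction_of_isCharacter hψc),
        Cfsg.Agent.Helper2.classInner_conj_symm (fun n : N => ψ n) (fun n : N => χ n)]
      intro h0
      apply h
      simpa using h0
  refine ⟨?_, ?_, ?_⟩
  · intro hne
    obtain ⟨φ₀, hφ₀, heq⟩ := hbij.surjOn (hB.mpr hne)
    rw [hmain φ₀ hφ₀ heq]
    exact hφ₀.1
  · intro h0
    rw [hηdec]
    apply Finset.sum_eq_zero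
    intro φ _
    rcases hc01 φ with hc0 | hc1
    · rw [hc0, mul_zero, zero_smul]
    · have hφA := hA φ hc1
      have hmem := hbij.mapsTo hφA
      have hneq : (φ : G → ℂ) * χ ≠ ψ := by
        intro h
        have : ψ ∈ {ψ' : G → ℂ | Cfsg.IsIrrCharacter G ψ' ∧
            Cfsg.classInner (Cfsg.indFun N (fun n : N => χ n)) ψ' ≠ 0} := by
          rw [← h]; exact hmem
        exact (hB.mp this) h0
      have := Cfsg.Agent.Helper25.irr_classInner (⟨ψ, hψ⟩ : Cfsg.IrrCharacter G) ⟨_, hmem.1⟩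
      rw [if_neg (fun h => hneq (congrArg Subtype.val h).symm)] at this
      have h' : Cfsg.classInner ψ ((φ : G → ℂ) * χ) = 0 := this
      rw [h', zero_mul, zero_smul]
  · intro hψχ
    have h1 : (fun _ : G => (1 : ℂ)) ∈ {β : G → ℂ | Cfsg.IsIrrCharacter G β ∧
        Cfsg.classInner (Cfsg.indFun N (fun _ => (1 : ℂ))) β ≠ 0} := by
      have ht : ((Cfsg.Agent.Helper25.trivChar G : Cfsg.IrrCharacter G) : G → ℂ) = fun _ => 1 := by
        funext g
        exact Cfsg.Agent.Helper25.trivChar_apply g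
      have hirr1 : Cfsg.IsIrrCharacter G (fun _ : G => (1 : ℂ)) := by
        rw [← ht]; exact (Cfsg.Agent.Helper25.trivChar G).2
      refine ⟨hirr1, ?_⟩
      rw [Cfsg.Agent.Helper2.frobenius_reciprocity N _ _
        (Cfsg.Agent.Helper2.isClassFunction_of_isCharacter (Cfsg.Agent.Helper2.isCharacter_of_isIrrCharacter hirr1))]
      have := Cfsg.Agent.Helper25.irr_classInner (⟨_, htriv⟩ : Cfsg.IrrCharacter N) ⟨_, htriv⟩
      rw [if_pos rfl] at this
      rw [this]
      exact one_ne_zero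
    apply hmain _ h1
    rw [hψχ]
    funext g
    simp

end Cfsg.Agent.S0868
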