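import Cfsg.Statements.S0866
import Mathlib
import Cfsg.Agent.Helper7.BrauerChar
import Cfsg.Agent.Helper7.DetChar
import Cfsg.Agent.S0862
import Cfsg.Agent.S0863
import Cfsg.Agent.S0868

set_option autoImplicit false
open Cfsg

namespace Cfsg.Agent.S0866

open Cfsg

universe u

/-- The standing hypotheses: `ϑ` is an invariant irreducible character of `N ⊴ G` of degree `d`
prime to the index, and `μ` is a linear character of `G` extending `det ϑ`. -/
structure Setup {G : Type u} [Group G] [Finite G] (N : Subgroup G) [hN : N.Normal] (ϑ : N → ℂ)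
    (μ : G →* ℂˣ) (d : ℕ) : Prop where
  irr : IsIrrCharacter N ϑ
  inv : ∀ (g : G) (n : N), ϑ ⟨g * n * g⁻¹, hN.conj_mem (n : G) n.2 g⟩ = ϑ n
  deg : ϑ 1 = d
  cop : Nat.Coprime N.index d
  det : ∀ n : N, ((μ n : ℂˣ) : ℂ) = detChar ϑ n

theorem setup_unique {G : Type u} [Group G] [Finite G] {N : Subgroup G} [hN : N.Normal]
    {ϑ : N → ℂ} {μ : G →* ℂˣ} {d : ℕ} (S : Setup N ϑ μ d) (χ χ' : G → ℂ)
    (h : IsIrrCharacter G χ ∧ (∀ n : N, χ n = ϑ n) ∧ detChar χ = fun g => ((μ g : ℂˣ) : ℂ))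
    (h' : IsIrrCharacter G χ' ∧ (∀ n : N, χ' n = ϑ n) ∧ detChar χ' = fun g => ((μ g : ℂˣ) : ℂ)) :
    χ = χ' := by
  have hu := Cfsg.Agent.S0862.result N ϑ S.irr d S.deg S.cop ⟨χ, h.1, h.2.1⟩
    (fun g => ((μ g : ℂˣ) : ℂ)) ⟨Helper7.isCharacter_of_hom μ, by simp⟩ S.det
  exact hu.unique h h'

theorem setup_exists {G : Type u} [Group G] [Finite G] {N : Subgroup G} [hN : N.Normal]
    {ϑ : N → ℂ} {μ : G →* ℂˣ} {d : ℕ} (S : Setup N ϑ μ d) (hsolv : Group.IsSolvable (G ⧸ N)) :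
    ∃ χ : G → ℂ, IsIrrCharacter G χ ∧ (∀ n : N, χ n = ϑ n) ∧
      detChar χ = fun g => ((μ g : ℂˣ) : ℂ) := by
  have h0 := Cfsg.Agent.S0863.ext_of_det N.index N rfl hsolv ϑ S.irr S.inv d S.deg S.cop μ S.det
  have hu := Cfsg.Agent.S0862.result N ϑ S.irr d S.deg S.cop h0
    (fun g => ((μ g : ℂˣ) : ℂ)) ⟨Helper7.isCharacter_of_hom μ, by simp⟩ S.det
  exact hu.exists

/-- The identification of `N ∩ H` (inside `H`) with `N`. -/
def resN {G : Type u} [Group G] (N H : Subgroup G) : N.subgroupOf H →* N where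
  toFun x := ⟨((x : H) : G), x.2⟩
  map_one' := rfl
  map_mul' _ _ := rfl

theorem resN_surj {G : Type u} [Group G] (N H : Subgroup G) (hNH : N ≤ H) :
    Function.Surjective (resN N H) := fun n => ⟨⟨⟨n, hNH n.2⟩, n.2⟩, rfl⟩

theorem resN_inj {G : Type u} [Group G] (N H : Subgroup G) :
    Function.Injective (resN N H) := by
  intro a b hab
  apply Subtype.ext
  apply Subtype.ext
  exact congrArg (fun c : N => (c : G)) hab

theorem sub_setup {G : Type u} [Group G] [Finite G] {N : Subgroup G} [hN : N.Normal]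
    {ϑ : N → ℂ} {μ : G →* ℂˣ} {d : ℕ} (S : Setup N ϑ μ d) (H : Subgroup G) (hNH : N ≤ H) :
    Setup (N.subgroupOf H) (fun x => ϑ (resN N H x)) (μ.comp H.subtype) d where
  irr := Helper2.isIrrCharacter_comp_of_surjective (resN N H) (resN_surj N H hNH) S.irr
  inv := fun m x => S.inv (m : G) (resN N H x)
  deg := by
    show ϑ (resN N H 1) = d
    rw [map_one]
    exact S.deg
  cop := by
    have hidx : N.relIndex H * H.index = N.index := Subgroup.relIndex_mul_index hNH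
    exact Nat.Coprime.coprime_dvd_left (Dvd.intro _ hidx) S.cop
  det := by
    intro x
    rw [Helper7.detChar_comp (resN N H) ϑ (Helper2.isCharacter_of_isIrrCharacter S.irr)]
    exact S.det (resN N H x)

/-- `ψ` is an irreducible extension of `ϑ` to `H` with determinant `μ`. -/
def IsExt {G : Type u} [Group G] (N : Subgroup G) (ϑ : N → ℂ) (μ : G →* ℂˣ) (H : Subgroup G)
    (ψ : H → ℂ) : Prop :=
  IsIrrCharacter H ψ ∧ (∀ (h : H) (hn : (h : G) ∈ N), ψ h = ϑ ⟨h, hn⟩) ∧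
    detChar ψ = fun h : H => ((μ (h : G) : ℂˣ) : ℂ)

theorem isExt_unique {G : Type u} [Group G] [Finite G] {N : Subgroup G} [hN : N.Normal]
    {ϑ : N → ℂ} {μ : G →* ℂˣ} {d : ℕ} (S : Setup N ϑ μ d) (H : Subgroup G) (hNH : N ≤ H)
    {ψ ψ' : H → ℂ} (h : IsExt N ϑ μ H ψ) (h' : IsExt N ϑ μ H ψ') : ψ = ψ' :=
  setup_unique (sub_setup S H hNH) ψ ψ'
    ⟨h.1, fun x => h.2.1 (x : H) x.2, h.2.2⟩ ⟨h'.1, fun x => h'.2.1 (x : H) x.2, h'.2.2⟩

theorem isExt_exists {G : Type u} [Group G] [Finite G] {N : Subgroup G} [hN : N.Normal]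
    {ϑ : N → ℂ} {μ : G →* ℂˣ} {d : ℕ} (S : Setup N ϑ μ d) (H : Subgroup G) (hNH : N ≤ H)
    (hsolv : Group.IsSolvable (↥H ⧸ N.subgroupOf H)) : ∃ ψ : H → ℂ, IsExt N ϑ μ H ψ := by
  obtain ⟨ψ, h1, h2, h3⟩ := setup_exists (sub_setup S H hNH) hsolv
  exact ⟨ψ, h1, fun h hn => h2 ⟨h, hn⟩, h3⟩

theorem isExt_restrict {G : Type u} [Group G] [Finite G] {N : Subgroup G} [hN : N.Normal]
    {ϑ : N → ℂ} {μ : G →* ℂˣ} {d : ℕ} (S : Setup N ϑ μ d) (H K : Subgroup G) (hNK : N ≤ K)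
    (hKH : K ≤ H) {ψ : H → ℂ} (h : IsExt N ϑ μ H ψ) :
    IsExt N ϑ μ K (fun k : K => ψ ⟨k, hKH k.2⟩) := by
  have hc : IsCharacter K (fun k : K => ψ ⟨k, hKH k.2⟩) :=
    Helper2.isCharacter_comp (Subgroup.inclusion hKH) (Helper2.isCharacter_of_isIrrCharacter h.1)
  refine ⟨?_, fun k hn => h.2.1 ⟨k, hKH k.2⟩ hn, ?_⟩
  · apply Helper7.isIrrCharacter_of_comp (Subgroup.inclusion hNK) hc
    have e : (fun x : N => (fun k : K => ψ ⟨k, hKH k.2⟩) (Subgroup.inclusion hNK x)) = ϑ := by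
      funext x
      exact h.2.1 ⟨x, hKH (hNK x.2)⟩ x.2
    rw [e]
    exact S.irr
  · have h3 := Helper7.detChar_comp (Subgroup.inclusion hKH) ψ
      (Helper2.isCharacter_of_isIrrCharacter h.1)
    have e : (fun k : K => ψ ⟨k, hKH k.2⟩) = fun k : K => ψ (Subgroup.inclusion hKH k) := rfl
    rw [e, h3, h.2.2]
    rfl

theorem isExt_conj {G : Type u} [Group G] [Finite G] {N : Subgroup G} [hN : N.Normal]
    {ϑ : N → ℂ} {μ : G →* ℂˣ} {d : ℕ} (S : Setup N ϑ μ d) (H : Subgroup G) (x : G)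
    {ψ : H → ℂ} (h : IsExt N ϑ μ H ψ) :
    IsExt N ϑ μ (H.comap (MulAut.conj x⁻¹).toMonoidHom)
      (fun y : H.comap (MulAut.conj x⁻¹).toMonoidHom => ψ ⟨x⁻¹ * (y : G) * x⁻¹⁻¹, y.2⟩) := by
  let e : H.comap (MulAut.conj x⁻¹).toMonoidHom →* H :=
    { toFun := fun y => ⟨x⁻¹ * (y : G) * x⁻¹⁻¹, y.2⟩
      map_one' := by
        apply Subtype.ext
        show x⁻¹ * (1 : G) * x⁻¹⁻¹ = 1
        group
      map_mul' := fun a b => by
        apply Subtype.ext
        show x⁻¹ * ((a : G) * (b : G)) * x⁻¹⁻¹ = (x⁻¹ * (a : G) * x⁻¹⁻¹) * (x⁻¹ * (b : G) * x⁻¹⁻¹)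
        group }
  have he : Function.Surjective e := by
    intro k
    have hk : x * (k : G) * x⁻¹ ∈ H.comap (MulAut.conj x⁻¹).toMonoidHom := by
      show x⁻¹ * (x * (k : G) * x⁻¹) * x⁻¹⁻¹ ∈ H
      have e2 : x⁻¹ * (x * (k : G) * x⁻¹) * x⁻¹⁻¹ = k := by group
      rw [e2]
      exact k.2
    refine ⟨⟨x * (k : G) * x⁻¹, hk⟩, ?_⟩
    apply Subtype.ext
    show x⁻¹ * (x * (k : G) * x⁻¹) * x⁻¹⁻¹ = k
    group
  refine ⟨Helper2.isIrrCharacter_comp_of_surjective e he h.1, ?_, ?_⟩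
  · intro y hn
    have hn' : x⁻¹ * (y : G) * x⁻¹⁻¹ ∈ N := hN.conj_mem _ hn x⁻¹
    have h1 := h.2.1 ⟨x⁻¹ * (y : G) * x⁻¹⁻¹, y.2⟩ hn'
    exact h1.trans (S.inv x⁻¹ ⟨y, hn⟩)
  · have h3 := Helper7.detChar_comp e ψ (Helper2.isCharacter_of_isIrrCharacter h.1)
    have e3 : (fun y : H.comap (MulAut.conj x⁻¹).toMonoidHom => ψ ⟨x⁻¹ * (y : G) * x⁻¹⁻¹, y.2⟩)
        = fun y => ψ (e y) := rfl
    rw [e3, h3, h.2.2]
    funext y
    show ((μ (x⁻¹ * (y : G) * x⁻¹⁻¹) : ℂˣ) : ℂ) = ((μ (y : G) : ℂˣ) : ℂ)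
    rw [map_mul, map_mul, map_inv, inv_inv, mul_comm, mul_inv_cancel_left]

theorem solvable_sup_quot {G : Type u} [Group G] (N T : Subgroup G) [N.Normal]
    [hT : Group.IsSolvable T] : Group.IsSolvable (↥(N ⊔ T) ⧸ N.subgroupOf (N ⊔ T)) := by
  let f : T →* ↥(N ⊔ T) ⧸ N.subgroupOf (N ⊔ T) :=
    (QuotientGroup.mk' _).comp (Subgroup.inclusion le_sup_right)
  have hf : Function.Surjective f := by
    intro q
    induction q using QuotientGroup.induction_on with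
    | H y =>
      have hy : (y : G) ∈ ((N ⊔ T : Subgroup G) : Set G) := y.2
      rw [Subgroup.normal_mul] at hy
      obtain ⟨n, hn, s, hs, hns⟩ := Set.mem_mul.mp hy
      refine ⟨⟨s, hs⟩, ?_⟩
      show ((Subgroup.inclusion le_sup_right (⟨s, hs⟩ : T) : ↥(N ⊔ T)) :
        ↥(N ⊔ T) ⧸ N.subgroupOf (N ⊔ T)) = (y : ↥(N ⊔ T) ⧸ N.subgroupOf (N ⊔ T))
      rw [QuotientGroup.eq]
      show s⁻¹ * (y : G) ∈ N
      have e : s⁻¹ * (y : G) = s⁻¹ * n * s⁻¹⁻¹ := by
        rw [← hns]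
        group
      rw [e]
      exact ‹N.Normal›.conj_mem n hn s⁻¹
  exact Group.isSolvable_of_surjective hf

theorem isSolvable_of_isElementary {p : ℕ} (hp : p.Prime) {E : Type u} [Group E] [Finite E]
    (h : IsElementary p E) : Group.IsSolvable E := by
  obtain ⟨x, hx, -, k, hk⟩ := h
  haveI : Fact p.Prime := ⟨hp⟩
  haveI hZn : (Subgroup.zpowers x).Normal := by
    refine ⟨fun z hz g => ?_⟩
    obtain ⟨i, rfl⟩ := Subgroup.mem_zpowers_iff.mp hz
    have hc : x ^ i ∈ Subgroup.center E := Subgroup.zpow_mem _ hx i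
    rw [Subgroup.mem_center_iff] at hc
    have e : g * x ^ i * g⁻¹ = x ^ i := by
      rw [hc g, mul_inv_cancel_right]
    rw [e]
    exact Subgroup.zpow_mem_zpowers x i
  have hpq : IsPGroup p (E ⧸ Subgroup.zpowers x) := by
    apply IsPGroup.of_card (n := k)
    rw [← hk]
    rfl
  haveI : Group.IsNilpotent (E ⧸ Subgroup.zpowers x) := hpq.isNilpotent
  haveI : Group.IsSolvable (E ⧸ Subgroup.zpowers x) := inferInstance
  haveI : Group.IsSolvable (Subgroup.zpowers x) := by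
    apply Group.isSolvable_of_comm
    intro a b
    obtain ⟨i, hi⟩ := Subgroup.mem_zpowers_iff.mp a.2
    obtain ⟨j, hj⟩ := Subgroup.mem_zpowers_iff.mp b.2
    apply Subtype.ext
    show (a : E) * (b : E) = (b : E) * (a : E)
    rw [← hi, ← hj, ← zpow_add, ← zpow_add, add_comm]
  exact Group.isSolvable_of_ker_le_range (Subgroup.zpowers x).subtype
    (QuotientGroup.mk' (Subgroup.zpowers x)) (by
    rw [QuotientGroup.ker_mk']
    intro z hz
    exact ⟨⟨z, hz⟩, rfl⟩)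

theorem isSolvable_zpowers {G : Type u} [Group G] (g : G) :
    Group.IsSolvable (Subgroup.zpowers g) := by
  apply Group.isSolvable_of_comm
  intro a b
  obtain ⟨i, hi⟩ := Subgroup.mem_zpowers_iff.mp a.2
  obtain ⟨j, hj⟩ := Subgroup.mem_zpowers_iff.mp b.2
  apply Subtype.ext
  show (a : G) * (b : G) = (b : G) * (a : G)
  rw [← hi, ← hj, ← zpow_add, ← zpow_add, add_comm]

open scoped ComplexConjugate in
/-- Gallagher's extension theorem (Isaacs 8.16), main direction. -/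
theorem ext_main {G : Type u} [Group G] [Finite G] {N : Subgroup G} [hN : N.Normal]
    {ϑ : N → ℂ} {μ : G →* ℂˣ} {d : ℕ} (S : Setup N ϑ μ d) :
    ∃ χ : G → ℂ, IsIrrCharacter G χ ∧ ∀ n : N, χ n = ϑ n := by
  classical
  letI : Fintype G := Fintype.ofFinite G
  letI : Fintype N := Fintype.ofFinite N
  have hex : ∀ g : G, ∃ ψ : ↥(N ⊔ Subgroup.zpowers g) → ℂ,
      IsExt N ϑ μ (N ⊔ Subgroup.zpowers g) ψ := by
    intro g
    haveI := isSolvable_zpowers g
    exact isExt_exists S _ le_sup_left (solvable_sup_quot N (Subgroup.zpowers g))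
  choose Ψ hΨ using hex
  have hmem : ∀ g : G, g ∈ N ⊔ Subgroup.zpowers g :=
    fun g => Subgroup.mem_sup_right (Subgroup.mem_zpowers g)
  obtain ⟨χ, hχdef⟩ : ∃ χ : G → ℂ, χ = fun g => Ψ g ⟨g, hmem g⟩ := ⟨_, rfl⟩
  -- the glued function agrees with every extension
  have P1 : ∀ (H : Subgroup G) (hNH : N ≤ H) (ψ : H → ℂ), IsExt N ϑ μ H ψ →
      ∀ h : H, χ (h : G) = ψ h := by
    intro H hNH ψ hψ h
    have hKH : N ⊔ Subgroup.zpowers (h : G) ≤ H :=
      sup_le hNH ((Subgroup.zpowers_le).mpr h.2)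
    have h1 := isExt_restrict S H _ le_sup_left hKH hψ
    have h2 := isExt_unique S _ le_sup_left (hΨ (h : G)) h1
    rw [hχdef]
    show Ψ (h : G) ⟨(h : G), hmem (h : G)⟩ = ψ h
    rw [h2]
  have hcl : IsClassFunction G χ := by
    intro g x
    have h1 := isExt_conj S _ x (hΨ g)
    have hN' : N ≤ (N ⊔ Subgroup.zpowers g).comap (MulAut.conj x⁻¹).toMonoidHom := by
      intro n hn
      show x⁻¹ * n * x⁻¹⁻¹ ∈ N ⊔ Subgroup.zpowers g
      exact Subgroup.mem_sup_left (hN.conj_mem n hn x⁻¹)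
    have hg' : x * g * x⁻¹ ∈ (N ⊔ Subgroup.zpowers g).comap (MulAut.conj x⁻¹).toMonoidHom := by
      show x⁻¹ * (x * g * x⁻¹) * x⁻¹⁻¹ ∈ N ⊔ Subgroup.zpowers g
      have e : x⁻¹ * (x * g * x⁻¹) * x⁻¹⁻¹ = g := by group
      rw [e]
      exact hmem g
    have h2 := P1 _ hN' _ h1 ⟨x * g * x⁻¹, hg'⟩
    rw [h2]
    have h3 : χ g = Ψ g ⟨g, hmem g⟩ := by rw [hχdef]
    rw [h3]
    congr 1
    apply Subtype.ext
    show x⁻¹ * (x * g * x⁻¹) * x⁻¹⁻¹ = g
    group
  have hgen : IsGeneralizedCharacter G χ := by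
    apply Helper7.brauer_characterization χ hcl
    intro p E hp hE
    apply Helper7.isGeneralizedCharacter_of_isCharacter
    haveI : Group.IsSolvable E := isSolvable_of_isElementary hp hE
    obtain ⟨ψ, hψ⟩ := isExt_exists S (N ⊔ E) le_sup_left (solvable_sup_quot N E)
    have e : (fun e : E => χ e) = fun e : E => ψ (Subgroup.inclusion le_sup_right e) := by
      funext e
      exact P1 (N ⊔ E) le_sup_left ψ hψ (Subgroup.inclusion le_sup_right e)
    rw [e]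
    exact Helper2.isCharacter_comp (Subgroup.inclusion le_sup_right)
      (Helper2.isCharacter_of_isIrrCharacter hψ.1)
  have hχN : ∀ n : N, χ n = ϑ n := by
    intro n
    rw [hχdef]
    exact (hΨ (n : G)).2.1 ⟨(n : G), hmem (n : G)⟩ n.2
  have hNne : (Nat.card N : ℂ) ≠ 0 := Nat.cast_ne_zero.mpr Nat.card_pos.ne'
  -- coset sums
  have hcoset : ∀ g : G, ∑ n : N, χ ((n : G) * g) * conj (χ ((n : G) * g)) = (Nat.card N : ℂ) := by
    intro g
    obtain ⟨H, hH⟩ : ∃ H : Subgroup G, H = N ⊔ Subgroup.zpowers g := ⟨_, rfl⟩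
    have hNH : N ≤ H := by rw [hH]; exact le_sup_left
    have hgH : g ∈ H := by rw [hH]; exact hmem g
    obtain ⟨ψ, hψ⟩ : ∃ ψ : H → ℂ, IsExt N ϑ μ H ψ := by
      subst hH
      exact ⟨Ψ g, hΨ g⟩
    letI : Fintype H := Fintype.ofFinite H
    letI : Fintype (N.subgroupOf H) := Fintype.ofFinite _
    have hres : IsIrrCharacter (N.subgroupOf H) (fun x : N.subgroupOf H => ψ x) := by
      have e : (fun x : N.subgroupOf H => ψ x) = fun x => ϑ (resN N H x) := by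
        funext x
        exact hψ.2.1 (x : H) x.2
      rw [e]
      exact (sub_setup S H hNH).irr
    have h3 := (Cfsg.Agent.S0868.result (N.subgroupOf H) ψ hψ.1 hres ψ hψ.1 _ rfl).2.2 rfl
    have h4 := congrFun h3 ⟨g, hgH⟩
    have hcard : Nat.card (N.subgroupOf H) = Nat.card N :=
      Nat.card_congr (Equiv.ofBijective (resN N H) ⟨resN_inj N H, resN_surj N H hNH⟩)
    rw [hcard] at h4
    have h5 : ∑ n : N.subgroupOf H, ψ (((n : H)) * ⟨g, hgH⟩) * conj (ψ ((n : H) * ⟨g, hgH⟩))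
        = ∑ n : N, χ ((n : G) * g) * conj (χ ((n : G) * g)) := by
      apply Fintype.sum_bijective (resN N H) ⟨resN_inj N H, resN_surj N H hNH⟩
      intro n
      have h6 := P1 H hNH ψ hψ ((n : H) * ⟨g, hgH⟩)
      have h7 : (((n : H) * ⟨g, hgH⟩ : H) : G) = ((resN N H n : N) : G) * g := rfl
      rw [h7] at h6
      rw [h6]
    rw [h5] at h4
    have h8 : (Nat.card N : ℂ)⁻¹ * ∑ n : N, χ ((n : G) * g) * conj (χ ((n : G) * g)) = 1 := h4
    field_simp at h8
    exact h8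
  have hnorm : classInner χ χ = 1 := by
    unfold classInner
    have h1 : ∑ g : G, ∑ n : N, χ ((n : G) * g) * conj (χ ((n : G) * g))
        = (Nat.card G : ℂ) * (Nat.card N : ℂ) := by
      rw [Finset.sum_congr rfl (fun g _ => hcoset g), Finset.sum_const, Finset.card_univ,
        nsmul_eq_mul]
      simp only [Nat.card_eq_fintype_card]
    have h2 : ∑ g : G, ∑ n : N, χ ((n : G) * g) * conj (χ ((n : G) * g))
        = (Nat.card N : ℂ) * ∑ x : G, χ x * conj (χ x) := by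
      rw [Finset.sum_comm]
      have h3 : ∀ n : N, ∑ g : G, χ ((n : G) * g) * conj (χ ((n : G) * g))
          = ∑ x : G, χ x * conj (χ x) := by
        intro n
        exact Fintype.sum_equiv (Equiv.mulLeft (n : G)) _ _ (fun g => rfl)
      rw [Finset.sum_congr rfl (fun n _ => h3 n), Finset.sum_const, Finset.card_univ,
        nsmul_eq_mul]
      simp only [Nat.card_eq_fintype_card]
    have hGne : (Nat.card G : ℂ) ≠ 0 := Nat.cast_ne_zero.mpr Nat.card_pos.ne'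
    have h4 : ∑ x : G, χ x * conj (χ x) = (Nat.card G : ℂ) := by
      have h5 := h2.symm.trans h1
      have h6 : (Nat.card N : ℂ) * ∑ x : G, χ x * conj (χ x)
          = (Nat.card N : ℂ) * (Nat.card G : ℂ) := by rw [h5]; ring
      exact mul_left_cancel₀ hNne h6
    rw [h4, inv_mul_cancel₀ hGne]
  have hd0 : 0 < d := by
    have h1 := Helper25.irr_one_ne_zero (⟨ϑ, S.irr⟩ : IrrCharacter N)
    have h2 : (d : ℂ) ≠ 0 := by
      rw [← S.deg]
      exact h1
    exact Nat.pos_of_ne_zero (fun h => h2 (by rw [h]; simp))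
  have hχ1 : χ 1 = d := by
    rw [← S.deg]
    exact hχN 1
  exact ⟨χ, Helper7.isIrrCharacter_of_gen_norm_one χ hgen hnorm d hd0 hχ1, hχN⟩

/-- Let N be a normal subgroup of the finite group G and ϑ an irreducible character of N, invariant under conjugation by G, of degree d coprime to the index of N. Then ϑ is the restriction of an irreducible character of G if and only if the determinantal character of ϑ is the restriction of a character of G of degree 1. -/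
theorem result {G : Type*} [Group G] [Finite G] (N : Subgroup G) [hN : N.Normal] (ϑ : N → ℂ) (hϑ : Cfsg.IsIrrCharacter N ϑ) (hinv : ∀ (g : G) (n : N), ϑ ⟨g * n * g⁻¹, hN.conj_mem (n : G) n.2 g⟩ = ϑ n) (d : ℕ) (hd : ϑ 1 = d) (hcop : Nat.Coprime N.index d) : (∃ χ : G → ℂ, Cfsg.IsIrrCharacter G χ ∧ (∀ n : N, χ n = ϑ n)) ↔ ∃ μ : G → ℂ, Cfsg.IsCharacter G μ ∧ μ 1 = 1 ∧ ∀ n : N, μ n = Cfsg.detChar ϑ n := by
  constructor
  · rintro ⟨χ, hχ, hχN⟩
    have hχc := Helper2.isCharacter_of_isIrrCharacter hχ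
    obtain ⟨δ, hδ⟩ := Helper7.exists_hom_detChar χ hχc
    refine ⟨fun g => ((δ g : ℂˣ) : ℂ), Helper7.isCharacter_of_hom δ, by simp, ?_⟩
    intro n
    have hϑeq : ϑ = fun n : N => χ n := by
      funext n
      exact (hχN n).symm
    rw [hϑeq, Helper7.detChar_restrict N χ hχc, hδ]
  · rintro ⟨μ, hμ, hμ1, hμN⟩
    obtain ⟨f, hf⟩ := Helper7.exists_hom_of_linear μ hμ hμ1
    exact ext_main (μ := f) ⟨hϑ, hinv, hd, hcop, fun n => by rw [← hμN n, hf]⟩

end Cfsg.Agent.S0866
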