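import Cfsg.Statements.S1489
import Mathlib
import Cfsg.Agent.Helper11.CliffCorr

set_option autoImplicit false
open Cfsg

namespace Cfsg.Agent.S1489

/-- Let H be a normal subgroup of the finite group G, θ an irreducible character of H, and T the inertia group of θ (the elements g with θ(g h g⁻¹) = θ(h) for all h ∈ H). If ψ and ψ' are irreducible characters of T having nonzero inner product with the function induced from θ to T, then the function induced from ψ to G is an irreducible character of G, and it equals the one induced from ψ' only if ψ = ψ'. -/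
theorem result {G : Type*} [Group G] [Fintype G] (H T : Subgroup G) [hN : H.Normal] [Fintype T] (θ : H → ℂ) (hθ : Cfsg.IsIrrCharacter H θ) (hT : ∀ g : G, g ∈ T ↔ ∀ h : H, θ ⟨g * h * g⁻¹, hN.conj_mem h h.2 g⟩ = θ h) (hHT : H ≤ T) (ψ ψ' : T → ℂ) (hψ : Cfsg.IsIrrCharacter T ψ) (hψ' : Cfsg.IsIrrCharacter T ψ') (hc : Cfsg.classInner (Cfsg.indFun (H.subgroupOf T) (fun x => θ ⟨(x : T), Subgroup.mem_subgroupOf.mp x.2⟩)) ψ ≠ 0) (hc' : Cfsg.classInner (Cfsg.indFun (H.subgroupOf T) (fun x => θ ⟨(x : T), Subgroup.mem_subgroupOf.mp x.2⟩)) ψ' ≠ 0) : Cfsg.IsIrrCharacter G (Cfsg.indFun T ψ) ∧ (Cfsg.indFun T ψ = Cfsg.indFun T ψ' → ψ = ψ') := by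
  classical
  have : Fintype H := Fintype.ofFinite H
  have : Fintype (H.subgroupOf T) := Fintype.ofFinite _
  have hconv : ∀ φ : T → ℂ, Cfsg.IsIrrCharacter T φ →
      Cfsg.classInner (Cfsg.indFun (H.subgroupOf T)
        (fun x => θ ⟨(x : T), Subgroup.mem_subgroupOf.mp x.2⟩)) φ ≠ 0 →
      Cfsg.classInner (fun n : H => φ ⟨(n : G), hHT n.2⟩) θ ≠ 0 := by
    intro φ hφ h0 hz
    apply h0
    rw [Cfsg.Agent.Helper2.frobenius_reciprocity (H.subgroupOf T) _ φ
      (Cfsg.Agent.Helper2.isClassFunction_of_isCharacter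
        (Cfsg.Agent.Helper2.isCharacter_of_isIrrCharacter hφ))]
    rw [Cfsg.Agent.Helper2.classInner_conj_symm (fun n : H.subgroupOf T => φ n)
      (fun x => θ ⟨(x : T), Subgroup.mem_subgroupOf.mp x.2⟩)]
    have hinner : Cfsg.classInner (fun n : H.subgroupOf T => φ n)
        (fun x => θ ⟨(x : T), Subgroup.mem_subgroupOf.mp x.2⟩)
        = Cfsg.classInner (fun n : H => φ ⟨(n : G), hHT n.2⟩) θ :=
      Cfsg.Agent.S0854.classInner_equiv (Subgroup.subgroupOfEquivOfLe hHT).toEquiv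
        (fun n : H => φ ⟨(n : G), hHT n.2⟩) θ
    rw [hinner, hz, map_zero]
  have hne := hconv ψ hψ hc
  have hne' := hconv ψ' hψ' hc'
  exact ⟨Cfsg.Agent.Helper11.cc_irr H T θ hHT hT hθ ψ hψ hne,
    Cfsg.Agent.Helper11.cc_inj H T θ hHT hT hθ ψ ψ' hψ hψ' hne hne'⟩

end Cfsg.Agent.S1489
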