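import Cfsg.Statements.S5132
-- import your own Cfsg.Agent.* helpers here

set_option autoImplicit false
open Cfsg

namespace Cfsg.Agent.S5132

variable {Ω : Type*} [Group Ω] {S : Subgroup Ω}

theorem restrict_mem (F : Cfsg.FusionSystem S) {P R : Subgroup Ω} (hRP : R ≤ P) {φ : P →* Ω}
    (hφ : φ ∈ F.Hom P) : φ.comp (Subgroup.inclusion hRP) ∈ F.Hom R := by
  have hc := F.conj_mem (P := R) (g := 1) (hRP.trans (F.le_of_mem hφ).1) S.one_mem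
  have h : ∀ x : R, Cfsg.conjHom R 1 x ∈ P := by
    intro x
    have h1 : Cfsg.conjHom R 1 x = x := by simp [Cfsg.conjHom]
    rw [h1]
    exact hRP x.2
  have h2 := F.comp_mem hc hφ h
  have h3 : φ.comp ((Cfsg.conjHom R 1).codRestrict P h) = φ.comp (Subgroup.inclusion hRP) := by
    ext x
    show φ _ = φ _
    congr 1
    apply Subtype.ext
    simp [Cfsg.conjHom]
  rw [← h3]
  exact h2

theorem surj_on_closed [Finite S] (F : Cfsg.FusionSystem S) {S₀ : Subgroup Ω} (hS₀ : F.StronglyClosed S₀)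
    {P : Subgroup Ω} (hS₀P : S₀ ≤ P) {φ : P →* Ω} (hφ : φ ∈ F.Hom P) :
    ∀ z ∈ S₀, ∃ (s₀ : Ω) (h : s₀ ∈ P), s₀ ∈ S₀ ∧ φ ⟨s₀, h⟩ = z := by
  have hfin : Finite S₀ := Finite.of_injective (Subgroup.inclusion hS₀.1) (Subgroup.inclusion_injective hS₀.1)
  have hmem : ∀ s : S₀, φ ⟨s, hS₀P s.2⟩ ∈ S₀ := fun s =>
    hS₀.2 S₀ le_rfl (φ.comp (Subgroup.inclusion hS₀P)) (restrict_mem F hS₀P hφ) s
  have hinj : Function.Injective (fun s : S₀ => (⟨φ ⟨s, hS₀P s.2⟩, hmem s⟩ : S₀)) := by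
    intro a b hab
    have h1 : φ ⟨a, hS₀P a.2⟩ = φ ⟨b, hS₀P b.2⟩ := congrArg Subtype.val hab
    have h2 := F.injective_of_mem hφ h1
    have h3 := congrArg (fun z : P => (z : Ω)) h2
    exact Subtype.ext h3
  have hsurj := Finite.surjective_of_injective hinj
  intro z hz
  obtain ⟨s, hs⟩ := hsurj ⟨z, hz⟩
  exact ⟨s, hS₀P s.2, s.2, congrArg Subtype.val hs⟩

theorem mem_pre {Ω' : Type*} [Group Ω'] (θ : S →* Ω') (P' : Subgroup Ω') (x : Ω) :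
    x ∈ Cfsg.FusionSystem.preimageAlong θ P' ↔ ∃ h : x ∈ S, θ ⟨x, h⟩ ∈ P' := by
  constructor
  · rintro ⟨s, hs, rfl⟩
    exact ⟨s.2, hs⟩
  · rintro ⟨h, hx⟩
    exact ⟨⟨x, h⟩, hx, rfl⟩

def facHom {Ω' : Type*} [Group Ω'] (F : Cfsg.FusionSystem S) (θ : S →* Ω') (P' : Subgroup Ω') :
    Set (P' →* Ω') :=
  {φ' | ∃ φ ∈ F.Hom (Cfsg.FusionSystem.preimageAlong θ P'), Cfsg.FusionSystem.InducedAlong θ φ φ'}

section
variable {Ω' : Type*} [Group Ω'] [Finite S] (F : Cfsg.FusionSystem S) {S₀ : Subgroup Ω}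
  (hS₀ : F.StronglyClosed S₀) (θ : S →* Ω') (hker : ∀ s : S, θ s = 1 ↔ (s : Ω) ∈ S₀)
  (hsurj : Function.Surjective θ)

include hker in
theorem closed_le_pre (P' : Subgroup Ω') (hS₀S : S₀ ≤ S) : S₀ ≤ Cfsg.FusionSystem.preimageAlong θ P' := by
  intro s hs
  rw [mem_pre]
  refine ⟨hS₀S hs, ?_⟩
  rw [(hker ⟨s, hS₀S hs⟩).mpr hs]
  exact P'.one_mem

include hS₀ hker hsurj in
theorem facHom_inj {P' : Subgroup Ω'} {φ' : P' →* Ω'} (h : φ' ∈ facHom F θ P') : Function.Injective φ' := by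
  obtain ⟨φ, hφ, hP, hφS, hP', hind⟩ := h
  rw [injective_iff_map_eq_one]
  intro y hy
  obtain ⟨s, hs⟩ := hsurj (y : Ω')
  have hsP : (s : Ω) ∈ Cfsg.FusionSystem.preimageAlong θ P' := by
    rw [mem_pre]
    exact ⟨s.2, by rw [hs]; exact y.2⟩
  have h1 := hind ⟨s, hsP⟩
  have hy' : (⟨θ ⟨(s : Ω), hP hsP⟩, hP' ⟨s, hsP⟩⟩ : P') = y := Subtype.ext hs
  rw [hy', hy] at h1
  have h2 : φ ⟨s, hsP⟩ ∈ S₀ := (hker ⟨_, hφS ⟨s, hsP⟩⟩).mp h1.symm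
  obtain ⟨s₀, hs₀P, hs₀, hs₀e⟩ := surj_on_closed F hS₀ (closed_le_pre θ hker P' hS₀.1) hφ _ h2
  have h3 : (⟨s₀, hs₀P⟩ : Cfsg.FusionSystem.preimageAlong θ P') = ⟨s, hsP⟩ := F.injective_of_mem hφ hs₀e
  have h4 : s₀ = (s : Ω) := congrArg Subtype.val h3
  have h5 : θ s = 1 := (hker s).mpr (h4 ▸ hs₀)
  apply Subtype.ext
  rw [← hs, h5]
  rfl

theorem pre_le (P' : Subgroup Ω') : Cfsg.FusionSystem.preimageAlong θ P' ≤ S := by
  intro x hx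
  rw [mem_pre] at hx
  exact hx.1

include hsurj in
theorem facHom_conj (P' : Subgroup Ω') (g' : Ω') : Cfsg.conjHom P' g' ∈ facHom F θ P' := by
  obtain ⟨g, rfl⟩ := hsurj g'
  have hS : ∀ x : Cfsg.FusionSystem.preimageAlong θ P',
      Cfsg.conjHom (Cfsg.FusionSystem.preimageAlong θ P') g x ∈ S := by
    intro x
    have h1 : Cfsg.conjHom (Cfsg.FusionSystem.preimageAlong θ P') (g : Ω) x = (g : Ω) * x * (g : Ω)⁻¹ := by
      simp [Cfsg.conjHom]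
    rw [h1]
    exact S.mul_mem (S.mul_mem g.2 (pre_le θ P' x.2)) (S.inv_mem g.2)
  refine ⟨Cfsg.conjHom (Cfsg.FusionSystem.preimageAlong θ P') g, F.conj_mem (pre_le θ P') g.2,
    pre_le θ P', hS, ?_, ?_⟩
  · intro x
    exact ((mem_pre θ P' x).mp x.2).2
  · intro x
    have h1 : (⟨Cfsg.conjHom (Cfsg.FusionSystem.preimageAlong θ P') (g : Ω) x, hS x⟩ : S)
        = g * ⟨x, pre_le θ P' x.2⟩ * g⁻¹ := by
      apply Subtype.ext
      simp [Cfsg.conjHom]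
    rw [h1]
    simp [Cfsg.conjHom]

theorem facHom_comp {P' Q' : Subgroup Ω'} {φ' : P' →* Ω'} {ψ' : Q' →* Ω'} (hφ' : φ' ∈ facHom F θ P')
    (hψ' : ψ' ∈ facHom F θ Q') (h : ∀ x : P', φ' x ∈ Q') :
    ψ'.comp (φ'.codRestrict Q' h) ∈ facHom F θ P' := by
  obtain ⟨φ, hφ, hP, hφS, hP', hind⟩ := hφ'
  obtain ⟨ψ, hψ, hQ, hψS, hQ', hind2⟩ := hψ'
  have hφQ : ∀ x : Cfsg.FusionSystem.preimageAlong θ P', φ x ∈ Cfsg.FusionSystem.preimageAlong θ Q' := by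
    intro x
    rw [mem_pre]
    refine ⟨hφS x, ?_⟩
    rw [← hind x]
    exact h _
  refine ⟨ψ.comp (φ.codRestrict _ hφQ), F.comp_mem hφ hψ hφQ, hP, fun x => hψS _, hP', ?_⟩
  intro x
  have e : (φ'.codRestrict Q' h ⟨θ ⟨x, hP x.2⟩, hP' x⟩ : Q') = ⟨θ ⟨φ x, hφS x⟩, hQ' ⟨φ x, hφQ x⟩⟩ :=
    Subtype.ext (hind x)
  show ψ' (φ'.codRestrict Q' h _) = _
  rw [e]
  exact hind2 ⟨φ x, hφQ x⟩

theorem invHom_apply {P' : Subgroup Ω'} {φ' : P' →* Ω'} (hinj : Function.Injective φ') (z : P') :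
    (P'.subtype.comp (MonoidHom.ofInjective hinj).symm.toMonoidHom) ⟨φ' z, ⟨z, rfl⟩⟩ = (z : Ω') := by
  show (((MonoidHom.ofInjective hinj).symm ⟨φ' z, ⟨z, rfl⟩⟩ : P') : Ω') = z
  congr 1
  rw [MulEquiv.symm_apply_eq]
  apply Subtype.ext
  rfl

theorem transport_inv {P : Subgroup Ω} {φ : P →* Ω} (hφ : φ ∈ F.Hom P) (R : Subgroup Ω) (hR : R = φ.range) :
    ∃ ψ ∈ F.Hom R, ∀ (y : R) (x : P), (y : Ω) = φ x → ψ y = (x : Ω) := by
  subst hR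
  obtain ⟨ψ, hψ, hψ'⟩ := F.inv_mem hφ
  refine ⟨ψ, hψ, ?_⟩
  intro y x hyx
  have : y = ⟨φ x, ⟨x, rfl⟩⟩ := Subtype.ext hyx
  rw [this]
  exact hψ' x

include hS₀ hker hsurj in
theorem facHom_inv {P' : Subgroup Ω'} {φ' : P' →* Ω'} (hφ' : φ' ∈ facHom F θ P') :
    ∃ ψ' ∈ facHom F θ φ'.range, ∀ x : P', ψ' ⟨φ' x, ⟨x, rfl⟩⟩ = (x : Ω') := by
  have hinj := facHom_inj F hS₀ θ hker hsurj hφ'
  obtain ⟨φ, hφ, hP, hφS, hP', hind⟩ := hφ'
  refine ⟨P'.subtype.comp (MonoidHom.ofInjective hinj).symm.toMonoidHom, ?_, invHom_apply hinj⟩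
  have hrange : Cfsg.FusionSystem.preimageAlong θ φ'.range = φ.range := by
    apply le_antisymm
    · intro y hy
      rw [mem_pre] at hy
      obtain ⟨hyS, z, hz⟩ := hy
      obtain ⟨s, hs⟩ := hsurj (z : Ω')
      have hsP : (s : Ω) ∈ Cfsg.FusionSystem.preimageAlong θ P' := by
        rw [mem_pre]
        exact ⟨s.2, by rw [hs]; exact z.2⟩
      have h1 := hind ⟨s, hsP⟩
      have hz' : (⟨θ ⟨(s : Ω), hP hsP⟩, hP' ⟨s, hsP⟩⟩ : P') = z := Subtype.ext hs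
      rw [hz', hz] at h1
      have h2 : θ (⟨y, hyS⟩⁻¹ * ⟨φ ⟨s, hsP⟩, hφS ⟨s, hsP⟩⟩) = 1 := by
        rw [map_mul, map_inv, ← h1, inv_mul_cancel]
      have h3 : y⁻¹ * φ ⟨s, hsP⟩ ∈ S₀ := (hker _).mp h2
      obtain ⟨s₀, hs₀P, hs₀, hs₀e⟩ := surj_on_closed F hS₀ (closed_le_pre θ hker P' hS₀.1) hφ _ h3
      refine ⟨⟨s, hsP⟩ * ⟨s₀, hs₀P⟩⁻¹, ?_⟩
      rw [map_mul, map_inv, hs₀e]
      group
    · rintro y ⟨x, rfl⟩
      rw [mem_pre]
      refine ⟨hφS x, ?_⟩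
      rw [← hind x]
      exact ⟨_, rfl⟩
  obtain ⟨ψ₂, hψ₂, hprop⟩ := transport_inv F hφ _ hrange
  refine ⟨ψ₂, hψ₂, pre_le θ _, (F.le_of_mem hψ₂).2, fun y => ((mem_pre θ _ y).mp y.2).2, ?_⟩
  intro y
  have hy : (y : Ω) ∈ φ.range := hrange ▸ y.2
  obtain ⟨x, hx⟩ := hy
  have hψy := hprop y x hx.symm
  have e : (⟨θ ⟨y, pre_le θ _ y.2⟩, ((mem_pre θ _ y).mp y.2).2⟩ : φ'.range)
      = ⟨φ' ⟨θ ⟨x, hP x.2⟩, hP' x⟩, ⟨_, rfl⟩⟩ := by
    apply Subtype.ext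
    show θ ⟨y, _⟩ = φ' _
    rw [hind x]
    congr 1
    exact Subtype.ext hx.symm
  rw [e, invHom_apply hinj]
  show θ ⟨x, _⟩ = θ ⟨ψ₂ y, _⟩
  congr 1
  exact Subtype.ext hψy.symm

def facSystem : Cfsg.FusionSystem (⊤ : Subgroup Ω') where
  Hom := facHom F θ
  le_of_mem := fun _ => ⟨le_top, fun _ => Subgroup.mem_top _⟩
  injective_of_mem := fun h => facHom_inj F hS₀ θ hker hsurj h
  conj_mem := fun {P' g'} _ _ => facHom_conj F θ hsurj P' g'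
  comp_mem := fun hφ hψ h => facHom_comp F θ hφ hψ h
  inv_mem := fun h => facHom_inv F hS₀ θ hker hsurj h

end


/-- Let F be a fusion system over a finite p-group S and S₀ a subgroup strongly closed in F (so S₀ is normal in S; the normality of S₀ ∩ S in S is supplied as an instance hypothesis so that the quotient can be written). Then the factor system F/S₀ exists: there is a fusion system over S/S₀ whose maps with source a subgroup P' of S/S₀ are exactly the homomorphisms induced along the quotient map by the maps of F whose source is the full preimage of P' in S. -/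
theorem result {Ω : Type*} [Group Ω] {S : Subgroup Ω} [Finite S] (p : ℕ) [Fact p.Prime] (hS : IsPGroup p S) (F : Cfsg.FusionSystem S) (S₀ : Subgroup Ω) (hS₀ : F.StronglyClosed S₀) [(S₀.subgroupOf S).Normal] : ∃ E : Cfsg.FusionSystem (⊤ : Subgroup (S ⧸ S₀.subgroupOf S)), F.IsFactorSystem S₀ (QuotientGroup.mk' (S₀.subgroupOf S)) E := by
  have hker : ∀ s : S, QuotientGroup.mk' (S₀.subgroupOf S) s = 1 ↔ (s : Ω) ∈ S₀ := by
    intro s
    rw [QuotientGroup.mk'_apply, QuotientGroup.eq_one_iff, Subgroup.mem_subgroupOf]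
  have hsurj : Function.Surjective (QuotientGroup.mk' (S₀.subgroupOf S)) := QuotientGroup.mk'_surjective _
  refine ⟨facSystem F hS₀ _ hker hsurj, hS₀.1, hker, MonoidHom.range_eq_top.mpr hsurj, ?_⟩
  intro P' φ'
  exact ⟨fun h => ⟨le_top, h⟩, fun h => h.2⟩

end Cfsg.Agent.S5132
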