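import Cfsg.Statements.S5144
-- import your own Cfsg.Agent.* helpers here

set_option autoImplicit false
open Cfsg

namespace Cfsg.Agent.S5144

variable {Ω : Type*} [Group Ω] {S : Subgroup Ω}

theorem finite_le (S : Subgroup Ω) [Finite S] : Set.Finite {Q : Subgroup Ω | Q ≤ S} := by
  refine Set.Finite.of_finite_image (f := fun Q => Q.subgroupOf S) (Set.toFinite _) ?_
  intro Q hQ Q' hQ' h
  have h' := Subgroup.subgroupOf_inj.mp h
  rwa [inf_eq_left.mpr hQ, inf_eq_left.mpr hQ'] at h'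

theorem transport (F : Cfsg.FusionSystem S) {R₂ : Subgroup Ω} (C : ∀ R : Subgroup Ω, (R →* Ω) → Prop)
    (h : ∃ ψ ∈ F.Hom R₂, C R₂ ψ) (R : Subgroup Ω) (hR : R = R₂) : ∃ ψ ∈ F.Hom R, C R ψ := by
  subst hR
  exact h

theorem isCentral_bot (F : Cfsg.FusionSystem S) : F.IsCentral ⊥ := by
  refine ⟨bot_le, fun P φ hφ => ?_⟩
  have key := transport F
    (fun R ψ => (∀ (x : P) (hx : (x : Ω) ∈ R), ψ ⟨x, hx⟩ = φ x) ∧
      ∀ (x : (⊥ : Subgroup Ω)) (hx : (x : Ω) ∈ R), ψ ⟨x, hx⟩ = x)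
    ⟨φ, hφ, fun x hx => rfl, fun x hx => by
      have h1 : (x : Ω) = 1 := Subgroup.mem_bot.mp x.2
      have h2 : (⟨(x : Ω), hx⟩ : P) = 1 := Subtype.ext h1
      rw [h2, map_one, h1]⟩ (P ⊔ ⊥) (sup_bot_eq P)
  obtain ⟨ψ, hψ, h1, h2⟩ := key
  exact ⟨ψ, hψ, fun x => h1 x _, fun x => h2 x _⟩

theorem isCentral_sup (F : Cfsg.FusionSystem S) {Q₁ Q₂ : Subgroup Ω} (h₁ : F.IsCentral Q₁) (h₂ : F.IsCentral Q₂) :
    F.IsCentral (Q₁ ⊔ Q₂) := by
  refine ⟨sup_le h₁.1 h₂.1, fun P φ hφ => ?_⟩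
  obtain ⟨ψ₁, hψ₁, hext₁, hfix₁⟩ := h₁.2 P φ hφ
  obtain ⟨ψ₂, hψ₂, hext₂, hfix₂⟩ := h₂.2 (P ⊔ Q₁) ψ₁ hψ₁
  have key := transport F
    (fun R ψ => (∀ (x : P) (hx : (x : Ω) ∈ R), ψ ⟨x, hx⟩ = φ x) ∧
      ∀ (x : Ω) (_ : x ∈ Q₁ ⊔ Q₂) (hx : x ∈ R), ψ ⟨x, hx⟩ = x)
    ⟨ψ₂, hψ₂, fun x hx => by
      have h := hext₂ (Subgroup.inclusion le_sup_left x)
      rw [hext₁ x] at h
      exact h, fun x hx12 hx => by
      have hle : Q₁ ⊔ Q₂ ≤ P ⊔ Q₁ ⊔ Q₂ := sup_le (le_sup_right.trans le_sup_left) le_sup_right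
      have hfix : ∀ y : Ω, y ∈ Q₁ ⊔ Q₂ → ∀ hy : y ∈ P ⊔ Q₁ ⊔ Q₂, ψ₂ ⟨y, hy⟩ = y := by
        intro y hy
        rw [Subgroup.sup_eq_closure] at hy
        induction hy using Subgroup.closure_induction with
        | mem y hy =>
          intro hy'
          rcases hy with hy | hy
          · have h := hext₂ (Subgroup.inclusion le_sup_right ⟨y, hy⟩)
            rw [hfix₁ ⟨y, hy⟩] at h
            exact h
          · exact hfix₂ ⟨y, hy⟩
        | one =>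
          intro hy'
          exact map_one ψ₂
        | mul a b ha hb iha ihb =>
          intro hy'
          have ha' : a ∈ P ⊔ Q₁ ⊔ Q₂ := by
            rw [← Subgroup.sup_eq_closure] at ha
            exact hle ha
          have hb' : b ∈ P ⊔ Q₁ ⊔ Q₂ := by
            rw [← Subgroup.sup_eq_closure] at hb
            exact hle hb
          have h : (⟨a * b, hy'⟩ : ↥(P ⊔ Q₁ ⊔ Q₂)) = ⟨a, ha'⟩ * ⟨b, hb'⟩ := rfl
          rw [h, map_mul, iha ha', ihb hb']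
        | inv a ha iha =>
          intro hy'
          have ha' : a ∈ P ⊔ Q₁ ⊔ Q₂ := by
            rw [← Subgroup.sup_eq_closure] at ha
            exact hle ha
          have h : (⟨a⁻¹, hy'⟩ : ↥(P ⊔ Q₁ ⊔ Q₂)) = ⟨a, ha'⟩⁻¹ := rfl
          rw [h, map_inv, iha ha']
      exact hfix x hx12 hx⟩ (P ⊔ (Q₁ ⊔ Q₂)) (sup_assoc P Q₁ Q₂).symm
  obtain ⟨ψ, hψ, h1, h2⟩ := key
  exact ⟨ψ, hψ, fun x => h1 x _, fun x => h2 x x.2 _⟩

theorem isCentral_sSup (F : Cfsg.FusionSystem S) {s : Set (Subgroup Ω)} (hs : s.Finite)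
    (h : ∀ Q ∈ s, F.IsCentral Q) : F.IsCentral (sSup s) := by
  refine Set.Finite.induction_on (motive := fun s _ => (∀ Q ∈ s, F.IsCentral Q) → F.IsCentral (sSup s))
    s hs ?_ ?_ h
  · intro _
    rw [sSup_empty]
    exact isCentral_bot F
  · intro a s _ _ ih h
    rw [sSup_insert]
    exact isCentral_sup F (h a (Set.mem_insert a s)) (ih fun Q hQ => h Q (Set.mem_insert_of_mem a hQ))


/-- For a fusion system over a finite subgroup S, the centre of the system (the join of all subgroups central in it) is itself central in the system, hence its largest central subgroup. -/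
theorem result {Ω : Type*} [Group Ω] {S : Subgroup Ω} [Finite S] (F : Cfsg.FusionSystem S) : F.IsCentral F.center := by
  have hfin : Set.Finite {Q : Subgroup Ω | F.IsCentral Q} :=
    (finite_le S).subset fun Q hQ => hQ.1
  exact isCentral_sSup F hfin fun Q hQ => hQ

end Cfsg.Agent.S5144
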