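import Cfsg.Statements.S2530
import Mathlib

set_option autoImplicit false
open Cfsg

namespace Cfsg.Agent.S2530

section bound
variable {G : Type} [Group G]

/-- ordered product `u 0 * u 1 * ... * u (m-1)` -/
def dprod (u : ℕ → G) : ℕ → G
  | 0 => 1
  | (m+1) => dprod u m * u m

lemma dprod_comm (u : ℕ → G) (comm : ∀ i j, i + 2 ≤ j → u i * u j = u j * u i) :
    ∀ m j, m + 1 ≤ j → u j * dprod u m = dprod u m * u j := by
  intro m
  induction m with
  | zero => intro j _; simp [dprod]
  | succ m ih =>
    intro j hj
    have h1 := ih j (by omega)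
    have h2 := comm m j (by omega)
    calc u j * dprod u (m+1) = (u j * dprod u m) * u m := by simp [dprod, mul_assoc]
      _ = dprod u m * (u j * u m) := by rw [h1, mul_assoc]
      _ = dprod u m * (u m * u j) := by rw [h2]
      _ = dprod u (m+1) * u j := by simp [dprod, mul_assoc]

lemma dprod_shift (u : ℕ → G) (n : ℕ)
    (comm : ∀ i j, i + 2 ≤ j → u i * u j = u j * u i)
    (braid : ∀ i, i + 1 < n + 1 → u i * u (i+1) * u i = u (i+1) * u i * u (i+1)) :
    ∀ m j, m ≤ n + 1 → j + 2 ≤ m → dprod u m * u j = u (j+1) * dprod u m := by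
  intro m
  induction m with
  | zero => intro j _ hj; omega
  | succ m ih =>
    intro j hm hj
    rcases Nat.lt_or_ge (j + 1) m with h | h
    · have h1 := ih j (by omega) (by omega)
      have h2 := comm j m (by omega)
      calc dprod u (m+1) * u j = dprod u m * (u m * u j) := by simp [dprod, mul_assoc]
        _ = (dprod u m * u j) * u m := by rw [← h2, mul_assoc]
        _ = u (j+1) * dprod u (m+1) := by rw [h1]; simp [dprod, mul_assoc]
    · have hm' : m = j + 1 := by omega
      subst hm'
      have h1 := dprod_comm u comm j (j+1) (by omega)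
      have h2 := braid j (by omega)
      calc dprod u (j+1+1) * u j = dprod u j * (u j * u (j+1) * u j) := by
            simp [dprod, mul_assoc]
        _ = dprod u j * (u (j+1) * u j * u (j+1)) := by rw [h2]
        _ = (dprod u j * u (j+1)) * u j * u (j+1) := by simp [mul_assoc]
        _ = u (j+1) * dprod u (j+1+1) := by rw [← h1]; simp [dprod, mul_assoc]

end bound

lemma coxeter_bound : ∀ (n : ℕ) (G : Type) [Group G] (u : ℕ → G),
    (∀ i, u i * u i = 1) → (∀ i j, i + 2 ≤ j → u i * u j = u j * u i) →
    (∀ i, i + 1 < n → u i * u (i+1) * u i = u (i+1) * u i * u (i+1)) →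
    ∃ L : Finset G, L.card ≤ (n+1).factorial ∧
      ∀ g ∈ Subgroup.closure (u '' {j | j < n}), g ∈ L := by
  intro n
  induction n with
  | zero =>
    intro G _ u _ _ _
    classical
    refine ⟨{1}, by simp, ?_⟩
    intro g hg
    have : u '' {j | j < 0} = ∅ := by simp
    rw [this, Subgroup.closure_empty, Subgroup.mem_bot] at hg
    simp [hg]
  | succ n ih =>
    intro G _ u sq comm braid
    classical
    obtain ⟨L', hL'card, hL'⟩ := ih G (fun j => u (j+1)) (fun i => sq (i+1))
      (fun i j h => comm (i+1) (j+1) (by omega)) (fun i h => braid (i+1) (by omega))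
    set H' := Subgroup.closure ((fun j => u (j+1)) '' {j | j < n}) with hH'
    have hgen : ∀ j, 1 ≤ j → j ≤ n → u j ∈ H' := by
      intro j h1 h2
      apply Subgroup.subset_closure
      refine ⟨j - 1, ?_, ?_⟩
      · show j - 1 < n
        omega
      · show u (j - 1 + 1) = u j
        congr 1; omega
    have step : ∀ h ∈ H', ∀ m, m ≤ n+1 → ∀ j, j < n+1 →
        ∃ h' ∈ H', ∃ m', m' ≤ n+1 ∧ h * dprod u m * u j = h' * dprod u m' := by
      intro h hh m hm j hj
      rcases lt_trichotomy j m with hlt | heq | hgt
      · rcases Nat.lt_or_ge (j + 1) m with h2 | h2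
        · refine ⟨h * u (j+1), H'.mul_mem hh (hgen (j+1) (by omega) (by omega)), m, hm, ?_⟩
          rw [mul_assoc, dprod_shift u n comm braid m j hm (by omega), mul_assoc]
        · have : m = j + 1 := by omega
          subst this
          refine ⟨h, hh, j, by omega, ?_⟩
          show h * (dprod u j * u j) * u j = h * dprod u j
          rw [mul_assoc, mul_assoc, sq j, mul_one]
      · subst heq
        exact ⟨h, hh, j + 1, by omega, by rw [mul_assoc]; rfl⟩
      · refine ⟨h * u j, H'.mul_mem hh (hgen j (by omega) (by omega)), m, hm, ?_⟩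
        rw [mul_assoc, ← dprod_comm u comm m j (by omega), mul_assoc]
    refine ⟨(L' ×ˢ Finset.range (n+2)).image (fun p => p.1 * dprod u p.2), ?_, ?_⟩
    · refine le_trans Finset.card_image_le ?_
      rw [Finset.card_product, Finset.card_range, Nat.factorial_succ (n+1)]
      nlinarith
    · intro g hg
      have key : ∃ h ∈ H', ∃ m, m ≤ n + 1 ∧ g = h * dprod u m := by
        induction hg using Subgroup.closure_induction_right with
        | one => exact ⟨1, H'.one_mem, 0, by omega, by simp [dprod]⟩
        | mul_right x hx y hy ihx =>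
          obtain ⟨h, hh, m, hm, rfl⟩ := ihx
          obtain ⟨j, hj, rfl⟩ := hy
          exact step h hh m hm j hj
        | mul_inv_cancel x hx y hy ihx =>
          obtain ⟨h, hh, m, hm, rfl⟩ := ihx
          obtain ⟨j, hj, rfl⟩ := hy
          have : (u j)⁻¹ = u j := inv_eq_of_mul_eq_one_left (sq j)
          rw [this]
          exact step h hh m hm j hj
      obtain ⟨h, hh, m, hm, rfl⟩ := key
      rw [Finset.mem_image]
      exact ⟨(h, m), Finset.mem_product.mpr ⟨hL' h hh, Finset.mem_range.mpr (by omega)⟩, rfl⟩

lemma comm_of_sq {G : Type} [Group G] (a b : G) (ha : a * a = 1) (hb : b * b = 1)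
    (h : (a * b) ^ 2 = 1) : a * b = b * a := by
  have h2 : a * b * (a * b) = 1 := by rw [← sq]; exact h
  symm
  calc b * a = b * a * (a * b * (a * b)) := by rw [h2, mul_one]
    _ = b * (a * a) * b * (a * b) := by simp only [mul_assoc]
    _ = a * b := by rw [ha, mul_one, hb, one_mul]

lemma braid_of_cube {G : Type} [Group G] (a b : G) (ha : a * a = 1) (hb : b * b = 1)
    (h : (a * b) ^ 3 = 1) : a * b * a = b * a * b := by
  have h3 : a * b * (a * b) * (a * b) = 1 := by rw [← pow_three']; exact h
  have ha' : ∀ x, a * (a * x) = x := fun x => by rw [← mul_assoc, ha, one_mul]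
  have hb' : ∀ x, b * (b * x) = x := fun x => by rw [← mul_assoc, hb, one_mul]
  have e : b * a * b * (b * a * b) = 1 := by simp [mul_assoc, ha, hb, ha', hb']
  calc a * b * a = a * b * a * (b * a * b * (b * a * b)) := by rw [e, mul_one]
    _ = (a * b * (a * b) * (a * b)) * (b * a * b) := by simp only [mul_assoc]
    _ = b * a * b := by rw [h3, one_mul]

lemma swap_liftable (n : ℕ) :
    (CoxeterMatrix.A n).IsLiftable (fun i : Fin n => Equiv.swap i.castSucc i.succ) := by
  intro i j
  show (Equiv.swap i.castSucc i.succ * Equiv.swap j.castSucc j.succ) ^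
    (if i = j then 1 else (if (j : ℕ) + 1 = i ∨ (i : ℕ) + 1 = j then 3 else 2)) = 1
  split_ifs with h1 h2
  · subst h1; simp
  · rcases h2 with h2 | h2
    · have e : i.castSucc = j.succ := Fin.ext (by simp only [Fin.val_succ, Fin.val_castSucc]; omega)
      rw [e, Equiv.swap_comm j.castSucc j.succ]
      have h3c := Equiv.Perm.isThreeCycle_swap_mul_swap_same (a := j.succ) (b := i.succ)
        (c := j.castSucc)
        (by intro hc; have := congrArg Fin.val hc
            simp only [Fin.val_succ, Fin.val_castSucc] at this; omega)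
        (by intro hc; have := congrArg Fin.val hc
            simp only [Fin.val_succ, Fin.val_castSucc] at this; omega)
        (by intro hc; have := congrArg Fin.val hc
            simp only [Fin.val_succ, Fin.val_castSucc] at this; omega)
      rw [← h3c.orderOf]; exact pow_orderOf_eq_one _
    · have e : j.castSucc = i.succ := Fin.ext (by simp only [Fin.val_succ, Fin.val_castSucc]; omega)
      rw [e, Equiv.swap_comm i.castSucc i.succ]
      have h3c := Equiv.Perm.isThreeCycle_swap_mul_swap_same (a := i.succ) (b := i.castSucc)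
        (c := j.succ)
        (by intro hc; have := congrArg Fin.val hc
            simp only [Fin.val_succ, Fin.val_castSucc] at this; omega)
        (by intro hc; have := congrArg Fin.val hc
            simp only [Fin.val_succ, Fin.val_castSucc] at this; omega)
        (by intro hc; have := congrArg Fin.val hc
            simp only [Fin.val_succ, Fin.val_castSucc] at this; omega)
      rw [← h3c.orderOf]; exact pow_orderOf_eq_one _
  · have hij : (i : ℕ) ≠ j := fun h => h1 (Fin.ext h)
    have hnd : [i.castSucc, i.succ, j.castSucc, j.succ].Nodup := by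
      simp only [List.nodup_cons, List.mem_cons, List.not_mem_nil, or_false, not_or,
        List.nodup_nil, and_true, Fin.ext_iff, Fin.val_succ, Fin.val_castSucc, not_false_eq_true]
      omega
    have hc := (Equiv.Perm.disjoint_swap_swap hnd).commute
    rw [sq, hc.eq]
    calc Equiv.swap j.castSucc j.succ * Equiv.swap i.castSucc i.succ
          * (Equiv.swap j.castSucc j.succ * Equiv.swap i.castSucc i.succ)
        = Equiv.swap j.castSucc j.succ * (Equiv.swap i.castSucc i.succ
          * Equiv.swap j.castSucc j.succ) * Equiv.swap i.castSucc i.succ := by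
            simp only [mul_assoc]
      _ = 1 := by rw [hc.eq]; simp [mul_assoc]

/-- The Coxeter presentation of the symmetric group: for every n, the symmetric group on n+1 letters is the Coxeter group of type A_n with the adjacent transpositions (i, i+1) as simple reflections; that is, it is presented by generators r_1, …, r_n subject to r_i² = 1, (r_i r_j)² = 1 for |i − j| > 1 and (r_i r_{i+1})³ = 1, with r_i mapping to (i, i+1). -/
theorem result (n : ℕ) :
    ∃ cs : CoxeterSystem (CoxeterMatrix.A n) (Equiv.Perm (Fin (n + 1))), ∀ i : Fin n, cs.simple i = Equiv.swap i.castSucc i.succ := by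
  classical
  let cs0 := (CoxeterMatrix.A n).toCoxeterSystem
  let φ : (CoxeterMatrix.A n).Group →* Equiv.Perm (Fin (n+1)) := cs0.lift ⟨_, swap_liftable n⟩
  have hφ : ∀ i, φ ((CoxeterMatrix.A n).simple i) = Equiv.swap i.castSucc i.succ :=
    fun i => cs0.lift_apply_simple (swap_liftable n) i
  have hsurj : Function.Surjective φ := by
    intro σ
    have h1 : σ ∈ Submonoid.closure (Set.range fun i : Fin n ↦ Equiv.swap i.castSucc i.succ) := by
      rw [Equiv.Perm.mclosure_swap_castSucc_succ]; trivial
    have h2 : Submonoid.closure (Set.range fun i : Fin n ↦ Equiv.swap i.castSucc i.succ)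
        ≤ MonoidHom.mrange φ := by
      rw [Submonoid.closure_le]
      rintro _ ⟨i, rfl⟩
      exact ⟨(CoxeterMatrix.A n).simple i, hφ i⟩
    exact MonoidHom.mem_mrange.mp (h2 h1)
  let u : ℕ → (CoxeterMatrix.A n).Group :=
    fun i => if h : i < n then (CoxeterMatrix.A n).simple ⟨i, h⟩ else 1
  have hss : ∀ i : Fin n, (CoxeterMatrix.A n).simple i * (CoxeterMatrix.A n).simple i = 1 :=
    fun i => cs0.simple_mul_simple_self i
  have hsq : ∀ i, u i * u i = 1 := by
    intro i
    by_cases h : i < n
    · simp only [u, dif_pos h]; exact hss _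
    · simp only [u, dif_neg h]; simp
  have hcomm : ∀ i j, i + 2 ≤ j → u i * u j = u j * u i := by
    intro i j hij
    by_cases h : j < n
    · have hi : i < n := by omega
      simp only [u, dif_pos h, dif_pos hi]
      apply comm_of_sq _ _ (hss _) (hss _)
      have h1 := cs0.simple_mul_simple_pow ⟨i, hi⟩ ⟨j, h⟩
      have h2 : (CoxeterMatrix.A n) ⟨i, hi⟩ ⟨j, h⟩ = 2 := by
        show (if (⟨i, hi⟩ : Fin n) = ⟨j, h⟩ then 1 else
          (if ((⟨j, h⟩ : Fin n) : ℕ) + 1 = (⟨i, hi⟩ : Fin n) ∨
            ((⟨i, hi⟩ : Fin n) : ℕ) + 1 = (⟨j, h⟩ : Fin n) then 3 else 2)) = 2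
        rw [if_neg (by rw [Fin.ext_iff]; simp; omega), if_neg (by simp; omega)]
      rw [h2] at h1
      exact h1
    · simp only [u, dif_neg h]; simp
  have hbraid : ∀ i, i + 1 < n → u i * u (i+1) * u i = u (i+1) * u i * u (i+1) := by
    intro i hi
    have hi' : i < n := by omega
    simp only [u, dif_pos hi, dif_pos hi']
    apply braid_of_cube _ _ (hss _) (hss _)
    have h1 := cs0.simple_mul_simple_pow ⟨i, hi'⟩ ⟨i + 1, hi⟩
    have h2 : (CoxeterMatrix.A n) ⟨i, hi'⟩ ⟨i + 1, hi⟩ = 3 := by
      show (if (⟨i, hi'⟩ : Fin n) = ⟨i + 1, hi⟩ then 1 else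
        (if ((⟨i + 1, hi⟩ : Fin n) : ℕ) + 1 = (⟨i, hi'⟩ : Fin n) ∨
          ((⟨i, hi'⟩ : Fin n) : ℕ) + 1 = (⟨i + 1, hi⟩ : Fin n) then 3 else 2)) = 3
      rw [if_neg (by rw [Fin.ext_iff]; simp), if_pos (by simp)]
    rw [h2] at h1
    exact h1
  obtain ⟨L, hLcard, hL⟩ := coxeter_bound n _ u hsq hcomm hbraid
  have hcl : Subgroup.closure (u '' {j | j < n}) = ⊤ := by
    rw [← cs0.subgroup_closure_range_simple]
    congr 1
    ext g
    constructor
    · rintro ⟨j, hj, rfl⟩
      exact ⟨⟨j, hj⟩, by simp only [u, dif_pos (show j < n from hj)]; rfl⟩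
    · rintro ⟨i, rfl⟩
      exact ⟨i.1, i.2, by simp only [u, dif_pos i.2]; rfl⟩
  have hall : ∀ g : (CoxeterMatrix.A n).Group, g ∈ L := fun g => hL g (by rw [hcl]; trivial)
  haveI : Finite (CoxeterMatrix.A n).Group :=
    Finite.of_injective (fun g => (⟨g, hall g⟩ : ↥L)) (fun a b h => congrArg Subtype.val h)
  have hcard : Nat.card (CoxeterMatrix.A n).Group ≤ Nat.card (Equiv.Perm (Fin (n+1))) := by
    rw [Nat.card_perm, Nat.card_fin]
    refine le_trans ?_ hLcard
    have := Nat.card_le_card_of_injective (fun g => (⟨g, hall g⟩ : ↥L))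
      (fun a b h => congrArg Subtype.val h)
    simpa using this
  have hbij : Function.Bijective φ := hsurj.bijective_of_nat_card_le hcard
  refine ⟨⟨(MulEquiv.ofBijective φ hbij).symm⟩, ?_⟩
  intro i
  exact hφ i

end Cfsg.Agent.S2530
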