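import Cfsg.Statements.S0433
import Cfsg.Agent.Helper3.GolayLemmas
import Cfsg.Agent.Helper28.LeechGolay

set_option autoImplicit false
open Cfsg

namespace Cfsg.Agent.S0433

open Cfsg.Agent.Helper28.Code Cfsg.Agent.Helper28.Leech

/-- two code words meet in an even number of points -/
theorem even_inter (s t : Finset GolayPt) (hs : ofSet s ∈ golayCode) (ht : ofSet t ∈ golayCode) :
    2 ∣ (s ∩ t).card := by
  have h := Cfsg.Agent.Helper3.golay_self_orth (ofSet s) (ofSet t) hs ht
  rw [dot_eq_card, supp_ofSet, supp_ofSet, ZMod.natCast_eq_zero_iff] at h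
  exact h

/-- sign changes on the support of a code word preserve `leechSet` -/
theorem sign_mem (c : Finset GolayPt) (hcC : ofSet c ∈ golayCode) (x : GolayPt → ℤ)
    (hx : x ∈ leechSet) : (fun i => if i ∈ c then -x i else x i) ∈ leechSet := by
  have hres := fun k => res_mem hx k
  rw [mem_leechSet_iff] at hx ⊢
  obtain ⟨m, h1, h2, h3⟩ := hx
  have hpar : ∀ i, (if i ∈ c then -x i else x i) ≡ m [ZMOD 2] := by
    intro i
    by_cases hi : i ∈ c
    · rw [if_pos hi]
      have := h1 i
      unfold Int.ModEq at this ⊢
      omega
    · rw [if_neg hi]; exact h1 i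
  have hsum : ∑ i, (if i ∈ c then -x i else x i) = ∑ i, x i - 2 * ∑ i ∈ c, x i := by
    have hpt : ∀ i, (if i ∈ c then -x i else x i) = x i - 2 * (if i ∈ c then x i else 0) := by
      intro i
      by_cases hi : i ∈ c
      · rw [if_pos hi, if_pos hi]; ring
      · rw [if_neg hi, if_neg hi]; ring
    rw [Finset.sum_congr rfl (fun i _ => hpt i), Finset.sum_sub_distrib, ← Finset.mul_sum,
      Finset.sum_ite_mem, Finset.univ_inter]
  have hc4 : 4 ∣ c.card := by
    have h := golay_H1 _ hcC
    rw [norm_eq, supp_ofSet] at h
    exact h
  have hkey : (4 : ℤ) ∣ ∑ i ∈ c, x i := by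
    rcases Int.emod_two_eq_zero_or_one m with hm | hm
    · have hev : ∀ i, x i % 2 = 0 := by
        intro i
        have := h1 i
        unfold Int.ModEq at this
        omega
      have hd : (4 : ℤ) ∣ ∑ i ∈ c, (x i - (if x i ≡ 2 [ZMOD 4] then 2 else 0)) := by
        apply Finset.dvd_sum
        intro i _
        by_cases hi : x i ≡ 2 [ZMOD 4]
        · rw [if_pos hi]
          unfold Int.ModEq at hi
          omega
        · rw [if_neg hi]
          have := hev i
          unfold Int.ModEq at hi
          omega
      rw [Finset.sum_sub_distrib, ← Finset.sum_filter, Finset.sum_const, nsmul_eq_mul] at hd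
      have hf : c.filter (fun i => x i ≡ 2 [ZMOD 4]) = c ∩ res x 2 := by
        ext i
        rw [Finset.mem_filter, Finset.mem_inter, mem_res]
      rw [hf] at hd
      obtain ⟨a, ha⟩ := even_inter c (res x 2) hcC (hres 2)
      rw [ha] at hd
      push_cast at hd
      obtain ⟨b, hb⟩ := hd
      exact ⟨b + a, by linarith⟩
    · have hodd : ∀ i, x i % 2 = 1 := by
        intro i
        have := h1 i
        unfold Int.ModEq at this
        omega
      have hd : (4 : ℤ) ∣ ∑ i ∈ c, (x i - (2 * (if x i ≡ 1 [ZMOD 4] then 1 else 0) - 1)) := by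
        apply Finset.dvd_sum
        intro i _
        by_cases hi : x i ≡ 1 [ZMOD 4]
        · rw [if_pos hi]
          unfold Int.ModEq at hi
          omega
        · rw [if_neg hi]
          have := hodd i
          unfold Int.ModEq at hi
          omega
      rw [Finset.sum_sub_distrib, Finset.sum_sub_distrib, ← Finset.mul_sum, ← Finset.sum_filter,
        Finset.sum_const, Finset.sum_const, nsmul_eq_mul, nsmul_eq_mul] at hd
      have hf : c.filter (fun i => x i ≡ 1 [ZMOD 4]) = c ∩ res x 1 := by
        ext i
        rw [Finset.mem_filter, Finset.mem_inter, mem_res]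
      rw [hf] at hd
      obtain ⟨a, ha⟩ := even_inter c (res x 1) hcC (hres 1)
      obtain ⟨e, he⟩ := hc4
      rw [ha, he] at hd
      push_cast at hd
      obtain ⟨b, hb⟩ := hd
      exact ⟨b + a - e, by linarith⟩
  refine ⟨m, hpar, ?_, ?_⟩
  · rw [hsum]
    obtain ⟨t, ht⟩ := hkey
    rw [ht]
    unfold Int.ModEq at h2 ⊢
    omega
  · rcases Int.emod_two_eq_zero_or_one m with hm | hm
    · have hr : res (fun i => if i ∈ c then -x i else x i) m = res x m := by
        ext i
        rw [mem_res, mem_res]
        by_cases hi : i ∈ c
        · rw [if_pos hi]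
          have := h1 i
          unfold Int.ModEq at this ⊢
          constructor <;> intro h <;> omega
        · rw [if_neg hi]
      rw [hr]; exact h3
    · have hr : res (fun i => if i ∈ c then -x i else x i) m = symmDiff (res x m) c := by
        ext i
        rw [Finset.mem_symmDiff, mem_res, mem_res]
        by_cases hi : i ∈ c
        · rw [if_pos hi]
          have := h1 i
          unfold Int.ModEq at this ⊢
          constructor
          · intro h
            right
            exact ⟨hi, by omega⟩
          · rintro (⟨-, h⟩ | ⟨-, h⟩)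
            · exact absurd hi h
            · omega
        · rw [if_neg hi]
          constructor
          · intro h; left; exact ⟨h, hi⟩
          · rintro (⟨h, -⟩ | ⟨h, -⟩)
            · exact h
            · exact absurd h hi
      rw [hr, ofSet_symmDiff]
      exact golayCode.add_mem h3 hcC

/-- Sign changes on the support of a codeword preserve the lattice. -/
theorem result (c : Finset Cfsg.GolayPt) (hc : c ∈ Cfsg.supports (Cfsg.golayCode : Set (Cfsg.GolayPt → ZMod 2))) (x : Cfsg.GolayPt → ℤ) (hx : x ∈ Cfsg.leechLattice) : (fun i => if i ∈ c then -x i else x i) ∈ Cfsg.leechLattice := by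
  rw [mem_leechLattice_iff] at hx ⊢
  exact sign_mem c ((mem_supports_iff golayCode c).mp hc) x hx

end Cfsg.Agent.S0433
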