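import Cfsg.Statements.S0326
import Mathlib

set_option autoImplicit false
open Cfsg

namespace Cfsg.Agent.S0326

/-- the vectors spanning the points of the ovoid -/
def ovVec {F : Type*} [Field F] (m : ℕ) : Option (F × F) → (Fin 4 → F)
  | none => ![1, 0, 0, 0]
  | some (x, y) => ![x * y + x ^ (2 ^ (m + 1) + 2) + y ^ (2 ^ (m + 1)), y, x, 1]

theorem ovVec_ne_zero {F : Type*} [Field F] (m : ℕ) (o : Option (F × F)) : ovVec m o ≠ 0 := by
  rcases o with _ | ⟨x, y⟩
  · intro h
    have := congrFun h 0
    simp [ovVec] at this
  · intro h
    have := congrFun h 3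
    simp [ovVec] at this

/-- The Suzuki–Tits ovoid over a finite field with `q` elements has `q² + 1` points. -/
theorem result {F : Type*} [Field F] [Fintype F] (m : ℕ) :
    Nat.card (Cfsg.suzukiOvoid F m) = Fintype.card F ^ 2 + 1 := by
  classical
  let φ : Option (F × F) → Projectivization F (Fin 4 → F) :=
    fun o => Projectivization.mk F (ovVec m o) (ovVec_ne_zero m o)
  have hinj : Function.Injective φ := by
    intro o o' h
    rw [Projectivization.mk_eq_mk_iff] at h
    obtain ⟨a, ha⟩ := h
    rcases o with _ | ⟨x, y⟩ <;> rcases o' with _ | ⟨x', y'⟩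
    · rfl
    · exfalso
      have := congrFun ha 3
      simp [ovVec, Units.smul_def] at this
    · exfalso
      have := congrFun ha 3
      simp [ovVec, Units.smul_def] at this
    · have h3 := congrFun ha 3
      have h2 := congrFun ha 2
      have h1 := congrFun ha 1
      simp [ovVec, Units.smul_def] at h3 h2 h1
      subst h3
      simp only [Units.val_one, one_mul] at h2 h1
      rw [h1, h2]
  have hrange : Set.range φ = Cfsg.suzukiOvoid F m := by
    ext p
    constructor
    · rintro ⟨o, rfl⟩
      refine ⟨ovVec m o, ovVec_ne_zero m o, rfl, ?_⟩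
      rcases o with _ | ⟨x, y⟩
      · left; rfl
      · right; exact ⟨x, y, rfl⟩
    · rintro ⟨v, hv, rfl, h | ⟨x, y, h⟩⟩
      · refine ⟨none, ?_⟩
        show Projectivization.mk F (ovVec m none) _ = _
        congr 1
        exact h.symm
      · refine ⟨some (x, y), ?_⟩
        show Projectivization.mk F (ovVec m (some (x, y))) _ = _
        congr 1
        exact h.symm
  rw [← hrange, Nat.card_range_of_injective hinj]
  simp [Nat.card_eq_fintype_card, Fintype.card_option, Fintype.card_prod, sq]

end Cfsg.Agent.S0326
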