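import Cfsg.Statements.S0335
import Mathlib

set_option autoImplicit false
open Cfsg

namespace Cfsg.Agent.S0335

open Matrix

/-- the function defining the ovoid, in terms of the automorphism `σ` -/
def fv {F : Type*} [Field F] (σ : F →+* F) (x y : F) : F := x * y + σ x * x ^ 2 + σ y

theorem fv_aniso {F : Type*} [Field F] (σ : F →+* F) (hσ2 : ∀ x, σ (σ x) = x ^ 2)
    (h2 : (2 : F) = 0) (x y : F) (h : fv σ x y = 0) : x = 0 ∧ y = 0 := by
  by_cases hx : x = 0
  · subst hx
    refine ⟨rfl, ?_⟩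
    simp [fv] at h
    exact h
  · exfalso
    have hσx : σ x ≠ 0 := by rwa [Ne, map_eq_zero]
    have hd : σ x * x ^ 2 ≠ 0 := mul_ne_zero hσx (pow_ne_zero 2 hx)
    set t := y / (σ x * x) with ht
    have hσt : σ t = σ y / (x ^ 2 * σ x) := by
      rw [ht, map_div₀, map_mul, hσ2]
    have h1 : t + 1 + σ t = 0 := by
      have h3 : (t + 1 + σ t) * (σ x * x ^ 2) = fv σ x y := by
        rw [hσt, ht]
        unfold fv
        field_simp
      rw [h] at h3
      rcases mul_eq_zero.mp h3 with h4 | h4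
      · exact h4
      · exact absurd h4 hd
    have h5 : σ t = -t - 1 := by linear_combination h1
    have h6 : t ^ 2 = t := by
      have h7 : σ (σ t) = σ (-t - 1) := by rw [h5]
      rw [hσ2, map_sub, map_neg, map_one, h5] at h7
      linear_combination h7
    have h8 : t * (t - 1) = 0 := by linear_combination h6
    rcases mul_eq_zero.mp h8 with h9 | h9
    · rw [h9, map_zero] at h1
      simp at h1
    · have h10 : t = 1 := sub_eq_zero.mp h9
      rw [h10, map_one] at h1
      have : (1 : F) = 0 := by linear_combination h1 - h2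
      exact one_ne_zero this

theorem fv_inv_id {F : Type*} [Field F] (σ : F →+* F) (hσ2 : ∀ x, σ (σ x) = x ^ 2)
    (h2 : (2 : F) = 0) (x y : F) :
    x * y * σ (fv σ x y) + σ y * y ^ 2 + σ x * (fv σ x y) ^ 2 = σ (fv σ x y) * fv σ x y := by
  have h1 : σ (fv σ x y) = σ x * σ y + x ^ 2 * (σ x) ^ 2 + y ^ 2 := by
    unfold fv
    simp only [map_add, map_mul, map_pow, hσ2]
  rw [h1]
  unfold fv
  linear_combination (σ x * (x ^ 3 * y * σ x + x * y * σ y + σ x * x ^ 2 * σ y) -
    (σ x) ^ 2 * x ^ 2 * σ y) * h2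

theorem fv_scale_false {F : Type*} [Field F] (σ : F →+* F) (hσ2 : ∀ x, σ (σ x) = x ^ 2)
    (h2 : (2 : F) = 0) (x y l : F) (hxy : ¬ (x = 0 ∧ y = 0)) (hl0 : l ≠ 0) (hl1 : l ≠ 1)
    (h : fv σ (l * x) (l * y) = l * fv σ x y) : False := by
  have hf : fv σ x y ≠ 0 := fun h0 => hxy (fv_aniso σ hσ2 h2 x y h0)
  have hσf : σ (fv σ x y) ≠ 0 := by rwa [Ne, map_eq_zero]
  have hσl : σ l ≠ 0 := by rwa [Ne, map_eq_zero]
  have e1 := fv_inv_id σ hσ2 h2 x y
  have e2 := fv_inv_id σ hσ2 h2 (l * x) (l * y)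
  rw [h] at e2
  simp only [map_mul] at e2
  have e3 : (σ l * l) * (l * (σ (fv σ x y) * fv σ x y)) = (σ l * l) * (σ (fv σ x y) * fv σ x y) := by
    linear_combination e2 - (σ l * l ^ 2) * e1
  have e4 := mul_left_cancel₀ (mul_ne_zero hσl hl0) e3
  have e5 : l * (σ (fv σ x y) * fv σ x y) = 1 * (σ (fv σ x y) * fv σ x y) := by rw [e4, one_mul]
  exact hl1 (mul_right_cancel₀ (mul_ne_zero hσf hf) e5)

theorem fv_translate {F : Type*} [Field F] (σ : F →+* F) (hσ2 : ∀ x, σ (σ x) = x ^ 2)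
    (h2 : (2 : F) = 0) (x y a b : F) :
    fv σ (x + a) (y + b + σ a * x) = fv σ x y + a * y + (b + σ a * a) * x + fv σ a b := by
  unfold fv
  simp only [map_add, map_mul, hσ2]
  linear_combination (σ a * x ^ 2 + a ^ 2 * σ x + a * σ x * x + a * σ a * x) * h2

/-- the affine ovoid vector -/
def ovA {F : Type*} [Field F] (σ : F →+* F) (x y : F) : Fin 4 → F := ![fv σ x y, y, x, 1]

/-- the translation matrices -/
def tM {F : Type*} [Field F] (σ : F →+* F) (a b : F) : Matrix (Fin 4) (Fin 4) F :=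
  !![1, a, b + σ a * a, fv σ a b; 0, 1, σ a, b; 0, 0, 1, a; 0, 0, 0, 1]

theorem tM_mulVec {F : Type*} [Field F] (σ : F →+* F) (hσ2 : ∀ x, σ (σ x) = x ^ 2)
    (h2 : (2 : F) = 0) (a b x y : F) :
    tM σ a b *ᵥ ovA σ x y = ovA σ (x + a) (y + b + σ a * x) := by
  ext i
  fin_cases i
  · simp only [tM, ovA, Matrix.mulVec, dotProduct, Fin.sum_univ_four]
    simp
    rw [fv_translate σ hσ2 h2]

  · simp [tM, ovA, Matrix.mulVec, dotProduct, Fin.sum_univ_four]
    ring
  · simp [tM, ovA, Matrix.mulVec, dotProduct, Fin.sum_univ_four]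
  · simp [tM, ovA, Matrix.mulVec, dotProduct, Fin.sum_univ_four]

/-- the case of the point at infinity and two affine points -/
theorem indep_inf {F : Type*} [Field F] (σ : F →+* F) (x1 y1 x2 y2 c0 c1 c2 : F)
    (hne : ¬ (x1 = x2 ∧ y1 = y2))
    (h : c0 • (![1, 0, 0, 0] : Fin 4 → F) + c1 • ovA σ x1 y1 + c2 • ovA σ x2 y2 = 0) :
    c0 = 0 ∧ c1 = 0 ∧ c2 = 0 := by
  have h0 := congrFun h 0
  have h1 := congrFun h 1
  have h2 := congrFun h 2
  have h3 := congrFun h 3
  simp [ovA] at h0 h1 h2 h3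
  have hc2 : c2 = -c1 := by linear_combination h3
  subst hc2
  have hc1 : c1 = 0 := by
    by_contra hc1
    apply hne
    constructor
    · have : c1 * (x1 - x2) = 0 := by linear_combination h2
      rcases mul_eq_zero.mp this with h4 | h4
      · exact absurd h4 hc1
      · exact sub_eq_zero.mp h4
    · have : c1 * (y1 - y2) = 0 := by linear_combination h1
      rcases mul_eq_zero.mp this with h4 | h4
      · exact absurd h4 hc1
      · exact sub_eq_zero.mp h4
  subst hc1
  simp at h0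
  exact ⟨h0, rfl, by simp⟩

/-- the case of the origin and two other affine points -/
theorem indep_zero {F : Type*} [Field F] (σ : F →+* F) (hσ2 : ∀ x, σ (σ x) = x ^ 2)
    (h2 : (2 : F) = 0) (x1 y1 x2 y2 c0 c1 c2 : F)
    (hne : ¬ (x1 = x2 ∧ y1 = y2)) (hne1 : ¬ (x1 = 0 ∧ y1 = 0)) (hne2 : ¬ (x2 = 0 ∧ y2 = 0))
    (h : c0 • ovA σ 0 0 + c1 • ovA σ x1 y1 + c2 • ovA σ x2 y2 = 0) :
    c0 = 0 ∧ c1 = 0 ∧ c2 = 0 := by
  have e0 := congrFun h 0
  have e1 := congrFun h 1
  have e2 := congrFun h 2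
  have e3 := congrFun h 3
  have hf0 : fv σ (0 : F) 0 = 0 := by simp [fv]
  simp [ovA, hf0] at e0 e1 e2 e3
  by_cases hc1 : c1 = 0
  · subst hc1
    simp at e0 e1 e2 e3
    have hf2 : fv σ x2 y2 ≠ 0 := fun h0 => hne2 (fv_aniso σ hσ2 h2 x2 y2 h0)
    have hc2 : c2 = 0 := by
      rcases e0 with h4 | h4
      · exact h4
      · exact absurd h4 hf2
    subst hc2
    simp at e3
    exact ⟨e3, rfl, rfl⟩
  · exfalso
    set l := -c2 / c1 with hl
    have hx : x1 = l * x2 := by
      rw [hl]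
      field_simp
      linear_combination e2
    have hy : y1 = l * y2 := by
      rw [hl]
      field_simp
      linear_combination e1
    have hf : fv σ x1 y1 = l * fv σ x2 y2 := by
      rw [hl]
      field_simp
      linear_combination e0
    rw [hx, hy] at hf
    have hl0 : l ≠ 0 := by
      intro h0
      apply hne1
      rw [hx, hy, h0]
      simp
    have hl1 : l ≠ 1 := by
      intro h0
      apply hne
      rw [hx, hy, h0]
      simp
    exact fv_scale_false σ hσ2 h2 x2 y2 l hne2 hl0 hl1 hf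

/-- three distinct affine points -/
theorem indep_aff {F : Type*} [Field F] (σ : F →+* F) (hσ2 : ∀ x, σ (σ x) = x ^ 2)
    (h2 : (2 : F) = 0) (x0 y0 x1 y1 x2 y2 c0 c1 c2 : F)
    (h01 : ¬ (x0 = x1 ∧ y0 = y1)) (h02 : ¬ (x0 = x2 ∧ y0 = y2)) (h12 : ¬ (x1 = x2 ∧ y1 = y2))
    (h : c0 • ovA σ x0 y0 + c1 • ovA σ x1 y1 + c2 • ovA σ x2 y2 = 0) :
    c0 = 0 ∧ c1 = 0 ∧ c2 = 0 := by
  set a := -x0 with ha
  set b := -y0 - σ a * x0 with hb
  have hT := congrArg (fun v => tM σ a b *ᵥ v) h
  simp only [Matrix.mulVec_add, Matrix.mulVec_smul, Matrix.mulVec_zero,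
    tM_mulVec σ hσ2 h2] at hT
  have hz1 : x0 + a = 0 := by rw [ha]; ring
  have hz2 : y0 + b + σ a * x0 = 0 := by rw [hb]; ring
  rw [hz1, hz2] at hT
  refine indep_zero σ hσ2 h2 _ _ _ _ c0 c1 c2 ?_ ?_ ?_ hT
  · rintro ⟨e1, e2⟩
    apply h12
    have e3 : x1 = x2 := by linear_combination e1
    refine ⟨e3, ?_⟩
    rw [e3] at e2
    linear_combination e2
  · rintro ⟨e1, e2⟩
    apply h01
    have e3 : x0 = x1 := by rw [ha] at e1; linear_combination -e1
    refine ⟨e3, ?_⟩
    rw [hb, ← e3] at e2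
    linear_combination -e2
  · rintro ⟨e1, e2⟩
    apply h02
    have e3 : x0 = x2 := by rw [ha] at e1; linear_combination -e1
    refine ⟨e3, ?_⟩
    rw [hb, ← e3] at e2
    linear_combination -e2

/-- ovoid vectors indexed by `Option (F × F)` -/
def ovO {F : Type*} [Field F] (σ : F →+* F) : Option (F × F) → (Fin 4 → F)
  | none => ![1, 0, 0, 0]
  | some (x, y) => ovA σ x y

theorem indep_ov {F : Type*} [Field F] (σ : F →+* F) (hσ2 : ∀ x, σ (σ x) = x ^ 2)
    (h2 : (2 : F) = 0) (o : Fin 3 → Option (F × F)) (ho : Function.Injective o) :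
    LinearIndependent F (fun i => ovO σ (o i)) := by
  rw [Fintype.linearIndependent_iff]
  intro g hg
  rw [Fin.sum_univ_three] at hg
  have h01 : o 0 ≠ o 1 := fun h => absurd (ho h) (by decide)
  have h02 : o 0 ≠ o 2 := fun h => absurd (ho h) (by decide)
  have h12 : o 1 ≠ o 2 := fun h => absurd (ho h) (by decide)
  have key : g 0 = 0 ∧ g 1 = 0 ∧ g 2 = 0 := by
    rcases h0 : o 0 with _ | ⟨x0, y0⟩ <;> rcases h1 : o 1 with _ | ⟨x1, y1⟩ <;>
      rcases h2' : o 2 with _ | ⟨x2, y2⟩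
    · exact absurd (h0.trans h1.symm) h01
    · exact absurd (h0.trans h1.symm) h01
    · exact absurd (h0.trans h2'.symm) h02
    · rw [h0, h1, h2'] at hg
      refine indep_inf σ x1 y1 x2 y2 _ _ _ ?_ hg
      rintro ⟨e1, e2⟩
      apply h12
      rw [h1, h2', e1, e2]
    · exact absurd (h1.trans h2'.symm) h12
    · rw [h0, h1, h2'] at hg
      have hg' : g 1 • (![1, 0, 0, 0] : Fin 4 → F) + g 0 • ovA σ x0 y0 + g 2 • ovA σ x2 y2 = 0 := by
        rw [← hg]
        simp only [ovO]
        abel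
      have := indep_inf σ x0 y0 x2 y2 _ _ _ (by
        rintro ⟨e1, e2⟩
        apply h02
        rw [h0, h2', e1, e2]) hg'
      exact ⟨this.2.1, this.1, this.2.2⟩
    · rw [h0, h1, h2'] at hg
      have hg' : g 2 • (![1, 0, 0, 0] : Fin 4 → F) + g 0 • ovA σ x0 y0 + g 1 • ovA σ x1 y1 = 0 := by
        rw [← hg]
        simp only [ovO]
        abel
      have := indep_inf σ x0 y0 x1 y1 _ _ _ (by
        rintro ⟨e1, e2⟩
        apply h01
        rw [h0, h1, e1, e2]) hg'
      exact ⟨this.2.1, this.2.2, this.1⟩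
    · rw [h0, h1, h2'] at hg
      refine indep_aff σ hσ2 h2 x0 y0 x1 y1 x2 y2 _ _ _ ?_ ?_ ?_ hg
      · rintro ⟨e1, e2⟩
        apply h01
        rw [h0, h1, e1, e2]
      · rintro ⟨e1, e2⟩
        apply h02
        rw [h0, h2', e1, e2]
      · rintro ⟨e1, e2⟩
        apply h12
        rw [h1, h2', e1, e2]
  intro i
  fin_cases i
  · exact key.1
  · exact key.2.1
  · exact key.2.2

/-- The Suzuki–Tits point set is an ovoid: any three distinct points of it are projectively independent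
(no line of projective 3-space meets it in more than two points). -/
theorem result {F : Type*} [Field F] [Fintype F] {m : ℕ} (hm : 1 ≤ m)
    (hF : Fintype.card F = 2 ^ (2 * m + 1)) (p : Fin 3 ↪ Cfsg.suzukiOvoid F m) :
    Projectivization.Independent (fun i => (p i : Projectivization F (Fin 4 → F))) := by
  classical
  -- characteristic two and the automorphism
  have hp : (ringChar F).Prime := CharP.char_is_prime F (ringChar F)
  obtain ⟨n, -, hn⟩ := FiniteField.card F (ringChar F)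
  have hchar : ringChar F = 2 := by
    have h1 : ringChar F ∣ 2 ^ (2 * m + 1) := by
      rw [← hF, hn]
      exact dvd_pow_self _ n.ne_zero
    exact (Nat.prime_dvd_prime_iff_eq hp Nat.prime_two).mp (hp.dvd_of_dvd_pow h1)
  haveI : CharP F 2 := hchar ▸ ringChar.charP F
  haveI : Fact (Nat.Prime 2) := ⟨Nat.prime_two⟩
  have h2 : (2 : F) = 0 := CharTwo.two_eq_zero
  let σ : F →+* F := iterateFrobenius F 2 (m + 1)
  have hσ : ∀ x, σ x = x ^ (2 ^ (m + 1)) := fun x => iterateFrobenius_def 2 (m + 1) x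
  have hσ2 : ∀ x, σ (σ x) = x ^ 2 := by
    intro x
    rw [hσ, hσ, ← pow_mul]
    have e : 2 ^ (m + 1) * 2 ^ (m + 1) = 2 ^ (2 * m + 1) * 2 := by ring
    rw [e, pow_mul, ← hF, FiniteField.pow_card]
  have hfv : ∀ x y : F, x * y + x ^ (2 ^ (m + 1) + 2) + y ^ (2 ^ (m + 1)) = fv σ x y := by
    intro x y
    unfold fv
    rw [hσ, hσ, pow_add]
  -- choose vectors
  have hmem := fun i => (p i).2
  choose v hv hpv hcase using hmem
  have hex : ∀ i, ∃ o : Option (F × F), v i = ovO σ o := by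
    intro i
    rcases hcase i with h | ⟨x, y, h⟩
    · exact ⟨none, h⟩
    · refine ⟨some (x, y), ?_⟩
      rw [h, hfv]
      rfl
  choose o ho using hex
  have hoinj : Function.Injective o := by
    intro i j hij
    apply p.injective
    apply Subtype.ext
    rw [hpv i, hpv j]
    congr 1
    rw [ho i, ho j, hij]
  have hl : LinearIndependent F v := by
    have : v = fun i => ovO σ (o i) := funext ho
    rw [this]
    exact indep_ov σ hσ2 h2 o hoinj
  have hfun : (fun i => (p i : Projectivization F (Fin 4 → F))) =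
      fun i => Projectivization.mk F (v i) (hv i) := funext hpv
  rw [hfun]
  exact Projectivization.Independent.mk v hv hl

end Cfsg.Agent.S0335
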