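import Cfsg.Statements.S0646
import Cfsg.Agent.Helper1.CycIdx

set_option autoImplicit false
open Cfsg

namespace Cfsg.Agent.S0646


/-- Square roots of `1` modulo `2^(n-1)`. -/
theorem sq_modEq_one (n : ℕ) (hn : 3 ≤ n) (k : ℕ) (hk : k < 2 ^ (n - 1))
    (h : k ^ 2 ≡ 1 [MOD 2 ^ (n - 1)]) :
    k = 1 ∨ k = 2 ^ (n - 1) - 1 ∨ k = 2 ^ (n - 2) + 1 ∨ k = 2 ^ (n - 2) - 1 := by
  obtain ⟨L, hL⟩ : ∃ L, L = 2 ^ (n - 3) := ⟨_, rfl⟩
  have hM : 2 ^ (n - 2) = 2 * L := by rw [hL, ← pow_succ']; congr 1; omega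
  have hN : 2 ^ (n - 1) = 4 * L := by
    have h1 : 2 ^ (n - 1) = 2 * 2 ^ (n - 2) := by rw [← pow_succ']; congr 1; omega
    rw [h1, hM]; ring
  have hLpos : 0 < L := by rw [hL]; positivity
  rw [hN] at hk h ⊢
  rw [hM]
  have hk0 : k ≠ 0 := by
    rintro rfl
    have h1 := (Nat.modEq_iff_dvd' (by norm_num : 0 ^ 2 ≤ 1)).mp h
    have h2 : 4 * L ∣ 1 := by simpa using h1
    have h3 := Nat.le_of_dvd one_pos h2
    omega
  have hk2 : 1 ≤ k ^ 2 := Nat.one_le_pow _ _ (by omega)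
  have hdvd : 4 * L ∣ k ^ 2 - 1 := (Nat.modEq_iff_dvd' hk2).mp h.symm
  have hodd : k % 2 = 1 := by
    by_contra hne
    obtain ⟨u, rfl⟩ : ∃ u, k = 2 * u := ⟨k / 2, by omega⟩
    have h2 : 2 ∣ (2 * u) ^ 2 - 1 := (Dvd.intro (2 * L) (by ring) : 2 ∣ 4 * L).trans hdvd
    have h3 : 2 ∣ (2 * u) ^ 2 := ⟨2 * u ^ 2, by ring⟩
    omega
  obtain ⟨u, rfl⟩ : ∃ u, k = 2 * u + 1 := ⟨k / 2, by omega⟩
  have e1 : (2 * u + 1) ^ 2 - 1 = 4 * (u * (u + 1)) := by
    have h1 : (2 * u + 1) ^ 2 = 4 * (u * (u + 1)) + 1 := by ring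
    omega
  rw [e1] at hdvd
  have hdvd' : L ∣ u * (u + 1) := Nat.dvd_of_mul_dvd_mul_left (by norm_num) hdvd
  have hcase : L ∣ u ∨ L ∣ u + 1 := by
    by_cases hu : 2 ∣ u
    · left
      have hc : Nat.Coprime L (u + 1) := by
        rw [hL]
        exact Nat.Coprime.pow_left _
          ((Nat.Prime.coprime_iff_not_dvd Nat.prime_two).mpr (by omega))
      exact hc.dvd_of_dvd_mul_right hdvd'
    · right
      have hc : Nat.Coprime L u := by
        rw [hL]
        exact Nat.Coprime.pow_left _ ((Nat.Prime.coprime_iff_not_dvd Nat.prime_two).mpr hu)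
      exact hc.dvd_of_dvd_mul_left hdvd'
  rcases hcase with ⟨w, hw⟩ | ⟨w, hw⟩
  · have hw2 : w < 2 := by
      by_contra hge
      have h1 : 2 ≤ w := by omega
      have h2 : L * 2 ≤ L * w := Nat.mul_le_mul_left L h1
      omega
    obtain rfl | rfl : w = 0 ∨ w = 1 := by omega
    · left; omega
    · right; right; left; omega
  · have hw0 : w ≠ 0 := by rintro rfl; omega
    have hw3 : w < 3 := by
      by_contra hge
      have h1 : 3 ≤ w := by omega
      have h2 : L * 3 ≤ L * w := Nat.mul_le_mul_left L h1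
      omega
    obtain rfl | rfl : w = 1 ∨ w = 2 := by omega
    · right; right; right; omega
    · right; left; omega

/-- If `C` has prime index, consists of powers of `a`, and `b ∉ C` commutes with `a`, then the
group is abelian. -/
theorem comm_of_gen {G : Type*} [Group G] [Finite G] (C : Subgroup G) (p : ℕ) (hp : p.Prime)
    (hCi : C.index = p) (a b : G) (hCpow : ∀ c ∈ C, ∃ i : ℕ, c = a ^ i) (hb : b ∉ C)
    (hcomm : b * a = a * b) : ∀ x y : G, x * y = y * x := by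
  have htop : C ⊔ Subgroup.zpowers b = ⊤ := by
    have hlt : C < C ⊔ Subgroup.zpowers b := by
      refine lt_of_le_of_ne le_sup_left ?_
      intro e
      apply hb
      rw [e]
      exact (le_sup_right : Subgroup.zpowers b ≤ C ⊔ Subgroup.zpowers b)
        (Subgroup.mem_zpowers b)
    have h1 := Subgroup.relIndex_mul_index (le_of_lt hlt)
    rw [hCi] at h1
    have h2 : (C ⊔ Subgroup.zpowers b).index ∣ p := Dvd.intro_left _ h1
    rcases (Nat.dvd_prime hp).mp h2 with h3 | h3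
    · exact Subgroup.index_eq_one.mp h3
    · exfalso
      rw [h3] at h1
      have h4 : C.relIndex (C ⊔ Subgroup.zpowers b) = 1 :=
        Nat.eq_of_mul_eq_mul_right hp.pos (by rw [one_mul]; exact h1)
      exact (not_le_of_gt hlt) (Subgroup.relIndex_eq_one.mp h4)
  have hbcen : b ∈ Subgroup.center G := by
    rw [Subgroup.mem_center_iff]
    intro g
    have hle : C ⊔ Subgroup.zpowers b ≤ Subgroup.centralizer ({b} : Set G) := by
      apply sup_le
      · intro c hc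
        obtain ⟨i, rfl⟩ := hCpow c hc
        rw [Subgroup.mem_centralizer_singleton_iff]
        exact (Commute.pow_left (show Commute a b from hcomm.symm) i).eq
      · rw [Subgroup.zpowers_le]; exact Subgroup.mem_centralizer_singleton_iff.mpr rfl
    have hgc : g ∈ Subgroup.centralizer ({b} : Set G) :=
      hle (by rw [htop]; exact Subgroup.mem_top g)
    exact Subgroup.mem_centralizer_singleton_iff.mp hgc
  have hacen : a ∈ Subgroup.center G := by
    rw [Subgroup.mem_center_iff]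
    intro g
    have hle : C ⊔ Subgroup.zpowers b ≤ Subgroup.centralizer ({a} : Set G) := by
      apply sup_le
      · intro c hc
        obtain ⟨i, rfl⟩ := hCpow c hc
        rw [Subgroup.mem_centralizer_singleton_iff]
        exact (Commute.pow_left (Commute.refl a) i).eq
      · rw [Subgroup.zpowers_le]; exact Subgroup.mem_centralizer_singleton_iff.mpr hcomm
    have hgc : g ∈ Subgroup.centralizer ({a} : Set G) :=
      hle (by rw [htop]; exact Subgroup.mem_top g)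
    exact Subgroup.mem_centralizer_singleton_iff.mp hgc
  have hle : C ⊔ Subgroup.zpowers b ≤ Subgroup.center G := by
    apply sup_le
    · intro c hc
      obtain ⟨i, rfl⟩ := hCpow c hc
      exact Subgroup.pow_mem _ hacen i
    · rw [Subgroup.zpowers_le]; exact hbcen
  intro x y
  have hx : x ∈ Subgroup.center G := hle (by rw [htop]; exact Subgroup.mem_top x)
  exact (Subgroup.mem_center_iff.mp hx y).symm

/-- Classification of non-abelian 2-groups with a cyclic maximal subgroup: dihedral, generalized quaternion, and for order at least 16 the modular group and the semidihedral group, each given by generators a (of index 2) and b with the stated relations. -/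
theorem result {G : Type*} [Group G] [Finite G] (n : ℕ) (hn : 3 ≤ n) (hG : Nat.card G = 2 ^ n) (C : Subgroup G) (hC : IsCyclic C) (hCi : C.index = 2) (hna : ∃ x y : G, x * y ≠ y * x) : ∃ a b : G, orderOf a = 2 ^ (n - 1) ∧ b ∉ Subgroup.zpowers a ∧ ((b ^ 2 = 1 ∧ b * a * b⁻¹ = a⁻¹) ∨ (b ^ 2 = a ^ (2 ^ (n - 2)) ∧ b * a * b⁻¹ = a⁻¹) ∨ (4 ≤ n ∧ b ^ 2 = 1 ∧ b * a * b⁻¹ = a ^ (1 + 2 ^ (n - 2))) ∨ (4 ≤ n ∧ b ^ 2 = 1 ∧ b * a * b⁻¹ = a ^ (2 ^ (n - 2) - 1))) := by
  have hCn : C.Normal := Subgroup.normal_of_index_eq_two hCi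
  obtain ⟨g, hg⟩ := hC.exists_generator
  obtain ⟨a, ha⟩ : ∃ a : G, a = (g : G) := ⟨_, rfl⟩
  have haC : a ∈ C := by rw [ha]; exact g.2
  have eN : 2 ^ (n - 1) = 2 * 2 ^ (n - 2) := by rw [← pow_succ']; congr 1; omega
  have hCcard : Nat.card C = 2 ^ (n - 1) := by
    have h1 := C.card_mul_index
    rw [hCi, hG] at h1
    have h3 : 2 ^ n = 2 ^ (n - 1) * 2 := by rw [← pow_succ]; congr 1; omega
    rw [h3] at h1
    exact Nat.eq_of_mul_eq_mul_right (by norm_num) h1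
  have hord : orderOf a = 2 ^ (n - 1) := by
    rw [ha, Subgroup.orderOf_coe, orderOf_eq_card_of_forall_mem_zpowers hg, hCcard]
  have haN : a ^ (2 ^ (n - 1)) = 1 := by rw [← hord]; exact pow_orderOf_eq_one a
  have hCpow : ∀ c ∈ C, ∃ i : ℕ, c = a ^ i := by
    intro c hc
    have h1 : (⟨c, hc⟩ : ↥C) ∈ Submonoid.powers g := by
      rw [mem_powers_iff_mem_zpowers]; exact hg _
    obtain ⟨i, hi⟩ := h1
    refine ⟨i, ?_⟩
    rw [ha]
    have h2 := congrArg Subtype.val hi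
    simpa only [Subgroup.coe_pow] using h2.symm
  have hCtop : C ≠ ⊤ := by
    intro e; rw [e, Subgroup.index_top] at hCi; omega
  obtain ⟨b₀, -, hb₀C⟩ := SetLike.exists_of_lt (lt_top_iff_ne_top.mpr hCtop)
  obtain ⟨k', hk'⟩ := Helper1.conj_pow_of_cyclic C hCn hC b₀
  obtain ⟨k, hk⟩ : ∃ k, k = k' % 2 ^ (n - 1) := ⟨_, rfl⟩
  have hklt : k < 2 ^ (n - 1) := by rw [hk]; exact Nat.mod_lt _ (by positivity)
  have hka : b₀ * a * b₀⁻¹ = a ^ k := by
    rw [hk' a haC, hk, ← hord, pow_mod_orderOf]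
  have hconj : ∀ i : ℕ, b₀ * a ^ i * b₀⁻¹ = a ^ (k * i) := by
    intro i
    rw [← conj_pow, hka, ← pow_mul]
  have hsq : b₀ * b₀ ∈ C := Subgroup.mul_self_mem_of_index_two hCi b₀
  obtain ⟨r, hr⟩ := hCpow _ hsq
  have hk2 : k ^ 2 ≡ 1 [MOD 2 ^ (n - 1)] := by
    rw [← hord, ← pow_eq_pow_iff_modEq, pow_one]
    have h1 := Helper1.conj_pow_iter b₀ a k hka 2
    rw [← h1, pow_two, hr]
    group
  have hF4 : a ^ (k * r) = a ^ r := by
    rw [← hconj r, ← hr]; group
  have hsqf : ∀ i : ℕ, (b₀ * a ^ i) ^ 2 = a ^ (k * i + r + i) := by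
    intro i
    have e : (b₀ * a ^ i) ^ 2 = (b₀ * a ^ i * b₀⁻¹) * (b₀ * b₀) * a ^ i := by
      rw [pow_two]; group
    rw [e, hconj i, hr, ← pow_add, ← pow_add]
  have hconjb : ∀ i : ℕ, (b₀ * a ^ i) * a * (b₀ * a ^ i)⁻¹ = a ^ k := by
    intro i
    have e : (b₀ * a ^ i) * a * (b₀ * a ^ i)⁻¹ = b₀ * a * b₀⁻¹ := by group
    rw [e, hka]
  have hnotmem : ∀ i : ℕ, b₀ * a ^ i ∉ Subgroup.zpowers a := by
    intro i hmem
    apply hb₀C
    have hle : Subgroup.zpowers a ≤ C := by rw [Subgroup.zpowers_le]; exact haC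
    have h1 := C.mul_mem (hle hmem) (C.inv_mem (C.pow_mem haC i))
    rwa [mul_inv_cancel_right] at h1
  have hk1 : k ≠ 1 := by
    intro e
    rw [e, pow_one] at hka
    have hcomm : b₀ * a = a * b₀ := by
      calc b₀ * a = (b₀ * a * b₀⁻¹) * b₀ := by group
        _ = a * b₀ := by rw [hka]
    obtain ⟨x, y, hxy⟩ := hna
    exact hxy (comm_of_gen C 2 Nat.prime_two hCi a b₀ hCpow hb₀C hcomm x y)
  -- powers of `a^(2^(n-2))`
  have hMpow : ∀ w : ℕ, a ^ (2 ^ (n - 2) * w) = 1 ∨ a ^ (2 ^ (n - 2) * w) = a ^ (2 ^ (n - 2)) := by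
    intro w
    rcases Nat.even_or_odd w with ⟨v, hv⟩ | ⟨v, hv⟩
    · left
      have e : 2 ^ (n - 2) * w = 2 ^ (n - 1) * v := by rw [hv, eN]; ring
      rw [e, pow_mul, haN, one_pow]
    · right
      have e : 2 ^ (n - 2) * w = 2 ^ (n - 1) * v + 2 ^ (n - 2) := by rw [hv, eN]; ring
      rw [e, pow_add, pow_mul, haN, one_pow, one_mul]
  -- dihedral / quaternion case
  have dq : k = 2 ^ (n - 1) - 1 → ∃ a b : G, orderOf a = 2 ^ (n - 1) ∧ b ∉ Subgroup.zpowers a ∧
      ((b ^ 2 = 1 ∧ b * a * b⁻¹ = a⁻¹) ∨ (b ^ 2 = a ^ (2 ^ (n - 2)) ∧ b * a * b⁻¹ = a⁻¹) ∨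
      (4 ≤ n ∧ b ^ 2 = 1 ∧ b * a * b⁻¹ = a ^ (1 + 2 ^ (n - 2))) ∨
      (4 ≤ n ∧ b ^ 2 = 1 ∧ b * a * b⁻¹ = a ^ (2 ^ (n - 2) - 1))) := by
    intro e
    have hinv : a ^ k = a⁻¹ := by
      rw [e]
      apply eq_inv_of_mul_eq_one_left
      rw [← pow_succ, Nat.sub_add_cancel Nat.one_le_two_pow, haN]
    have hc : a ^ (2 * r) = 1 := by
      have h1 : a ^ (k * r) = (a ^ r)⁻¹ := by rw [pow_mul, hinv, inv_pow]
      rw [hF4] at h1
      rw [two_mul, pow_add]
      nth_rewrite 1 [h1]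
      exact inv_mul_cancel _
    have hdvd : 2 ^ (n - 1) ∣ 2 * r := by rw [← hord]; exact orderOf_dvd_of_pow_eq_one hc
    rw [eN] at hdvd
    have hdvd' : 2 ^ (n - 2) ∣ r := Nat.dvd_of_mul_dvd_mul_left (by norm_num) hdvd
    obtain ⟨w, hw⟩ := hdvd'
    have hb2 : b₀ ^ 2 = a ^ (2 ^ (n - 2) * w) := by rw [pow_two, hr, hw]
    refine ⟨a, b₀, hord, ?_, ?_⟩
    · have h1 := hnotmem 0
      rwa [pow_zero, mul_one] at h1
    · rcases hMpow w with h1 | h1
      · left; exact ⟨by rw [hb2, h1], by rw [hka, hinv]⟩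
      · right; left; exact ⟨by rw [hb2, h1], by rw [hka, hinv]⟩
  rcases sq_modEq_one n hn k hklt hk2 with e | e | e | e
  · exact absurd e hk1
  · exact dq e
  · -- modular case
    by_cases hn4 : 4 ≤ n
    swap
    · have hn3 : n = 3 := by omega
      apply dq
      rw [e, hn3]; norm_num
    obtain ⟨L, hL⟩ : ∃ L, L = 2 ^ (n - 3) := ⟨_, rfl⟩
    have hM : 2 ^ (n - 2) = 2 * L := by rw [hL, ← pow_succ']; congr 1; omega
    have hLev : 2 ∣ L := by rw [hL]; exact dvd_pow_self 2 (by omega)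
    have hLpos : 0 < L := by rw [hL]; positivity
    -- r is even
    have hmod : k * r ≡ r [MOD 2 ^ (n - 1)] := by
      rw [← hord, ← pow_eq_pow_iff_modEq]; exact hF4
    have hle : r ≤ k * r := Nat.le_mul_of_pos_left r (by omega)
    have hdvd : 2 ^ (n - 1) ∣ k * r - r := (Nat.modEq_iff_dvd' hle).mp hmod.symm
    have e3 : k * r - r = 2 ^ (n - 2) * r := by
      rw [e, add_mul, one_mul, Nat.add_sub_cancel]
    rw [e3, eN, mul_comm 2 (2 ^ (n - 2))] at hdvd
    have hr2 : 2 ∣ r := Nat.dvd_of_mul_dvd_mul_left (by positivity) hdvd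
    obtain ⟨r', hr'⟩ := hr2
    have hcop : Nat.Coprime (L + 1) (2 ^ (n - 2)) := by
      apply Nat.Coprime.pow_right
      rw [Nat.coprime_comm]
      exact (Nat.Prime.coprime_iff_not_dvd Nat.prime_two).mpr (by omega)
    have hMgt : 1 < 2 ^ (n - 2) := Nat.one_lt_two_pow (by omega)
    obtain ⟨e', -, he'⟩ := Nat.exists_mul_mod_eq_one_of_coprime hcop hMgt
    obtain ⟨q, hq⟩ : ∃ q, (L + 1) * e' = 2 * L * q + 1 := by
      refine ⟨(L + 1) * e' / 2 ^ (n - 2), ?_⟩
      have h9 := Nat.div_add_mod ((L + 1) * e') (2 ^ (n - 2))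
      rw [he', hM] at h9
      rw [hM]
      omega
    obtain ⟨m1, hm1⟩ : ∃ m1, m1 + 1 = 2 * L := ⟨2 * L - 1, by omega⟩
    obtain ⟨i, hi⟩ : ∃ i, i = e' * m1 * r' := ⟨_, rfl⟩
    have hexp : k * i + r + i = 2 ^ (n - 1) * (q * m1 * r' + r') := by
      have h1 : k * i + r + i = 2 * ((L + 1) * e') * (m1 * r') + 2 * r' := by
        rw [e, hM, hi, hr']; ring
      rw [h1, hq]
      have h2 : 2 * (2 * L * q + 1) * (m1 * r') + 2 * r' =
          4 * L * (q * m1 * r') + 2 * (m1 + 1) * r' := by ring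
      rw [h2, hm1, eN, hM]; ring
    refine ⟨a, b₀ * a ^ i, hord, hnotmem i, ?_⟩
    right; right; left
    refine ⟨hn4, ?_, ?_⟩
    · rw [hsqf i, hexp, pow_mul, haN, one_pow]
    · rw [hconjb i, e, add_comm]
  · -- semidihedral case
    by_cases hn4 : 4 ≤ n
    swap
    · exfalso
      have hn3 : n = 3 := by omega
      apply hk1
      rw [e, hn3]; norm_num
    obtain ⟨L, hL⟩ : ∃ L, L = 2 ^ (n - 3) := ⟨_, rfl⟩
    have hM : 2 ^ (n - 2) = 2 * L := by rw [hL, ← pow_succ']; congr 1; omega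
    have hLev : 2 ∣ L := by rw [hL]; exact dvd_pow_self 2 (by omega)
    have hLpos : 0 < L := by rw [hL]; positivity
    have hmod : k * r ≡ r [MOD 2 ^ (n - 1)] := by
      rw [← hord, ← pow_eq_pow_iff_modEq]; exact hF4
    have hkpos : 0 < k := by rw [e, hM]; omega
    have hle : r ≤ k * r := Nat.le_mul_of_pos_left r hkpos
    have hdvd : 2 ^ (n - 1) ∣ k * r - r := (Nat.modEq_iff_dvd' hle).mp hmod.symm
    obtain ⟨l1, hl1⟩ : ∃ l1, l1 + 1 = L := ⟨L - 1, by omega⟩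
    have e3 : k * r - r = 2 * (l1 * r) := by
      have h1 : k = 2 * l1 + 1 := by rw [e, hM]; omega
      rw [h1, add_mul, one_mul, Nat.add_sub_cancel]; ring
    rw [e3, eN] at hdvd
    have hdvd2 : 2 ^ (n - 2) ∣ l1 * r := Nat.dvd_of_mul_dvd_mul_left (by norm_num) hdvd
    have hcop : Nat.Coprime (2 ^ (n - 2)) l1 := by
      apply Nat.Coprime.pow_left
      exact (Nat.Prime.coprime_iff_not_dvd Nat.prime_two).mpr (by omega)
    have hdvd3 : 2 ^ (n - 2) ∣ r := hcop.dvd_of_dvd_mul_left hdvd2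
    obtain ⟨w, hw⟩ := hdvd3
    rcases Nat.even_or_odd w with ⟨v, hv⟩ | ⟨v, hv⟩
    · refine ⟨a, b₀, hord, ?_, ?_⟩
      · have h1 := hnotmem 0
        rwa [pow_zero, mul_one] at h1
      · right; right; right
        refine ⟨hn4, ?_, by rw [hka, e]⟩
        rw [pow_two, hr, hw, hv]
        have e4 : 2 ^ (n - 2) * (v + v) = 2 ^ (n - 1) * v := by rw [eN]; ring
        rw [e4, pow_mul, haN, one_pow]
    · refine ⟨a, b₀ * a ^ 1, hord, hnotmem 1, ?_⟩
      right; right; right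
      refine ⟨hn4, ?_, by rw [hconjb 1, e]⟩
      rw [hsqf 1]
      have e4 : k * 1 + r + 1 = 2 ^ (n - 1) * (v + 1) := by
        rw [hw, hv, e, eN]
        have h1 : 1 ≤ 2 ^ (n - 2) := Nat.one_le_two_pow
        zify [h1]
        ring
      rw [e4, pow_mul, haN, one_pow]

end Cfsg.Agent.S0646
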