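import Cfsg.Statements.S0625
import Cfsg.Agent.Helper5.PStabSolv

set_option autoImplicit false
open Cfsg

namespace Cfsg.Agent.S0625


open scoped commutatorElement
open Cfsg.Agent.Helper5 Cfsg.Agent.S0653

/-- `p`-stability on the section `O_p(G)/Φ(O_p(G))`-type sections from `p`-stability of the quotient -/
theorem section_stable {G : Type*} [Group G] [Finite G] {p : ℕ} [Fact p.Prime]
    (K N : Subgroup G) [K.Normal] [N.Normal] (hK : IsPGroup p K)
    (hst : ∀ (V : Subgroup (G ⧸ N)) [V.Normal], IsPGroup p V → Cfsg.IsPStableOn p V) :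
    Cfsg.IsPStableOnSection p K N := by
  intro a hq
  set π := QuotientGroup.mk' N with hπ
  have hπs : Function.Surjective π := QuotientGroup.mk'_surjective N
  set Kb := K.map π with hKb
  haveI hKbn : Kb.Normal := Subgroup.Normal.map inferInstance π hπs
  have hqb : ⁅⁅Kb, Subgroup.zpowers (π a)⁆, Subgroup.zpowers (π a)⁆ = ⊥ := by
    rw [← MonoidHom.map_zpowers, hKb, ← Subgroup.map_commutator, ← Subgroup.map_commutator,
      eq_bot_iff]
    calc Subgroup.map π ⁅⁅K, Subgroup.zpowers a⁆, Subgroup.zpowers a⁆ ≤ Subgroup.map π N :=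
          Subgroup.map_mono hq
      _ = ⊥ := by rw [Subgroup.map_eq_bot_iff, QuotientGroup.ker_mk']
  have h1 := hst Kb (hK.map π) (π a) hqb
  set Cb := Subgroup.centralizer (Kb : Set (G ⧸ N)) with hCb
  set ρ := QuotientGroup.mk' Cb with hρ
  have hρs : Function.Surjective ρ := QuotientGroup.mk'_surjective Cb
  set P := Cfsg.pCore p ((G ⧸ N) ⧸ Cb) with hP
  refine ⟨(P.comap ρ).comap π, inferInstance, ?_, ?_, h1⟩
  · show Cb.comap π ≤ (P.comap ρ).comap π
    apply Subgroup.comap_mono
    intro x hx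
    show ρ x ∈ P
    have hx1 : ρ x = 1 := (QuotientGroup.eq_one_iff x).mpr hx
    rw [hx1]
    exact one_mem _
  · have hPp : IsPGroup p P := Cfsg.Agent.S0010.pCore_isPGroup p
    obtain ⟨k, hk⟩ := hPp.exists_card_eq
    refine ⟨k, ?_⟩
    show (Cb.comap π).relIndex ((P.comap ρ).comap π) = p ^ k
    rw [Subgroup.relIndex_comap, Subgroup.map_comap_eq_self_of_surjective hπs]
    have h3 : ((⊥ : Subgroup ((G ⧸ N) ⧸ Cb)).comap ρ).relIndex (P.comap ρ) = p ^ k := by
      rw [Subgroup.relIndex_comap, Subgroup.map_comap_eq_self_of_surjective hρs,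
        Subgroup.relIndex_bot_left, hk]
    have h4 : (⊥ : Subgroup ((G ⧸ N) ⧸ Cb)).comap ρ = Cb := by
      rw [MonoidHom.comap_bot]; exact QuotientGroup.ker_mk' Cb
    rw [h4] at h3
    exact h3
/-- A p-separable group with p at least 5 is p-stable in the action sense. -/
theorem result {G : Type*} [Group G] [Finite G] {p : ℕ} [Fact p.Prime] (hp : 5 ≤ p) (hsep : Cfsg.IsPSolvable p G) : Cfsg.IsActionPStable p G := by
  have hpp := (Fact.out : p.Prime)
  have hp2 : p ≠ 2 := by omega
  have hp3 : p ≠ 3 := by omega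
  refine ⟨?_, ?_, ?_⟩
  · intro V _ hV
    exact pstable_psolv hp2 hp3 hsep V (fun v => ⟨1, by
      apply Subtype.ext; rw [pow_one, Subgroup.coe_pow]; exact hV.2 _ v.2⟩)
  · apply section_stable _ _ (Cfsg.Agent.S0010.pCore_isPGroup p)
    intro V _ hV
    exact pstable_psolv hp2 hp3 (Cfsg.Agent.Helper13.isPSolvable_quotient hsep _) V hV
  · intro S V _ hVle
    apply pstable_psolv hp2 hp3 (Cfsg.Agent.Helper13.isPSolvable_subgroup hsep _) V
    intro v
    have hv : ((v : ↥(Subgroup.normalizer (Cfsg.thompsonSubgroupOf p (S : Subgroup G) : Set G))) : G) ∈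
        (S : Subgroup G) := by
      have h1 := hVle (Subgroup.mem_map_of_mem _ v.2)
      obtain ⟨s, -, hs⟩ := h1
      have hs' : (s : G) = ((v : ↥(Subgroup.normalizer (Cfsg.thompsonSubgroupOf p (S : Subgroup G) : Set G))) : G) := hs
      rw [← hs']
      exact s.2
    obtain ⟨k, hk⟩ := S.isPGroup' ⟨_, hv⟩
    refine ⟨k, ?_⟩
    apply Subtype.ext
    apply Subtype.ext
    have := congrArg Subtype.val hk
    simpa using this


end Cfsg.Agent.S0625
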