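import Cfsg.Statements.S1465
import Cfsg.Agent.Helper5.PStabSolv
import Cfsg.Agent.Helper13.Char2
import Cfsg.Agent.Helper10.PComp
import Cfsg.Agent.S0010

set_option autoImplicit false
open Cfsg

namespace Cfsg.Agent.S1465


open scoped commutatorElement
open Cfsg.Agent.Helper5 Cfsg.Agent.S0653

universe u

/-- in a `p`-solvable group with `O_{p'}(G) = 1`, the centralizer of a normal subgroup `P` with
`O_p(G) ∩ C_G(P) ≤ P` is a `p`-group -/
theorem centralizer_pgroup {G : Type u} [Group G] [Finite G] {p : ℕ} [Fact p.Prime]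
    (hG : Cfsg.IsPSolvable p G) (hK : Cfsg.pPrimeCore p G = ⊥) (P : Subgroup G) [P.Normal]
    (hQP : Cfsg.pCore p G ⊓ Subgroup.centralizer (P : Set G) ≤ P) :
    IsPGroup p (Subgroup.centralizer (P : Set G)) := by
  set C := Subgroup.centralizer (P : Set G) with hC
  have hCn : C.Normal := inferInstance
  have h1 : Cfsg.pPrimeCore p ↥C = ⊥ := by
    rw [Cfsg.Agent.Helper10.pPrimeCore_subnormal_eq p C hCn.isSubnormal, hK,
      Subgroup.bot_subgroupOf]
  have h2 := Cfsg.Agent.Helper13.centralizer_pCore_le_of_isPSolvable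
    (Cfsg.Agent.Helper13.isPSolvable_subgroup hG C) h1
  have hn : ((Cfsg.pCore p ↥C).map C.subtype).Normal :=
    Cfsg.Agent.Helper10.map_subtype_normal_of_char C _ (Cfsg.Agent.Helper13.pCore_char' p)
  have hp : IsPGroup p ((Cfsg.pCore p ↥C).map C.subtype : Subgroup G) :=
    (Cfsg.Agent.S0010.pCore_isPGroup p).map _
  have hsub : (Cfsg.pCore p ↥C).map C.subtype ≤ P := by
    refine le_trans (le_inf (Cfsg.Agent.S0010.le_pCore p _ hn hp) ?_) hQP
    exact Subgroup.map_subtype_le _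
  have h3 : ∀ c : ↥C, c ∈ Cfsg.pCore p ↥C := by
    intro c
    apply h2
    rw [Subgroup.mem_centralizer_iff]
    intro b hb
    apply Subtype.ext
    exact (Subgroup.mem_centralizer_iff.mp c.2) (b : G) (hsub ⟨b, hb, rfl⟩)
  intro c
  obtain ⟨k, hk⟩ := (Cfsg.Agent.S0010.pCore_isPGroup p (G := ↥C)) ⟨c, h3 c⟩
  exact ⟨k, by simpa using congrArg Subtype.val hk⟩

/-- under the same hypotheses, the preimage of `O_p(G / C_G(P))` lies in `O_p(G)` -/
theorem LL_le_pCore {G : Type u} [Group G] [Finite G] {p : ℕ} [Fact p.Prime]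
    (hG : Cfsg.IsPSolvable p G) (hK : Cfsg.pPrimeCore p G = ⊥) (P : Subgroup G) [P.Normal]
    (hQP : Cfsg.pCore p G ⊓ Subgroup.centralizer (P : Set G) ≤ P) :
    LL p P ≤ Cfsg.pCore p G := by
  apply Cfsg.Agent.S0010.le_pCore p _ (LL_normal p P)
  apply IsPGroup.comap_of_ker_isPGroup (Cfsg.Agent.S0010.pCore_isPGroup p)
  rw [QuotientGroup.ker_mk']
  exact centralizer_pgroup hG hK P hQP

/-- elements of an abelian subgroup normalized by `P` act quadratically on `P` -/
theorem quad_of_normalized {G : Type*} [Group G] (P B : Subgroup G) (hBc : IsMulCommutative B)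
    (hPB : P ≤ Subgroup.normalizer (B : Set G)) (b : G) (hb : b ∈ B) :
    ⁅⁅P, Subgroup.zpowers b⁆, Subgroup.zpowers b⁆ = ⊥ := by
  have hzb : Subgroup.zpowers b ≤ B := (Subgroup.zpowers_le).mpr hb
  have h1 : ⁅P, Subgroup.zpowers b⁆ ≤ B := by
    rw [Subgroup.commutator_le]
    intro v hv c hc
    have hcB := hzb hc
    have : v * c * v⁻¹ ∈ B := (Subgroup.mem_normalizer_iff.mp (hPB hv) c).mp hcB
    exact B.mul_mem this (B.inv_mem hcB)
  rw [eq_bot_iff]
  calc ⁅⁅P, Subgroup.zpowers b⁆, Subgroup.zpowers b⁆ ≤ ⁅B, B⁆ := Subgroup.commutator_mono h1 hzb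
    _ = ⊥ := by
      rw [Subgroup.commutator_eq_bot_iff_le_centralizer]
      intro x hx
      rw [Subgroup.mem_centralizer_iff]
      intro y hy
      have := hBc.is_comm.comm (⟨y, hy⟩ : ↥B) ⟨x, hx⟩
      exact congrArg Subtype.val this
/-- Let p be an odd prime, G a solvable group of odd order, P a normal p-subgroup of G, and X the subgroup generated by a family of abelian p-subgroups of G each normalized by P. Then the image of X in G/C_G(P) lies in O_p(G/C_G(P)); and if O_{p'}(G) = 1 and O_p(G) ∩ C_G(P) ≤ P then X ≤ O_p(G). -/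
theorem result {G : Type*} [Group G] [Finite G] [Group.IsSolvable G] (hodd : Odd (Nat.card G)) (p : ℕ) [Fact p.Prime] (hp : p ≠ 2) (P : Subgroup G) [P.Normal] (hP : IsPGroup p P)
    (S : Set (Subgroup G)) (hS : ∀ B ∈ S, IsMulCommutative B ∧ IsPGroup p B ∧ P ≤ Subgroup.normalizer (B : Set G)) :
    (sSup S).map (QuotientGroup.mk' (Subgroup.centralizer (P : Set G))) ≤ Cfsg.pCore p (G ⧸ Subgroup.centralizer (P : Set G)) ∧
      (Cfsg.pPrimeCore p G = ⊥ → Cfsg.pCore p G ⊓ Subgroup.centralizer (P : Set G) ≤ P → sSup S ≤ Cfsg.pCore p G) := by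
  have h1 : sSup S ≤ LL p P := by
    apply sSup_le
    intro B hB b hb
    obtain ⟨hBc, hBp, hPB⟩ := hS B hB
    exact pstable_odd hodd hp P hP b (quad_of_normalized P B hBc hPB b hb)
  refine ⟨?_, ?_⟩
  · rw [Subgroup.map_le_iff_le_comap]
    exact h1
  · intro hK hQP
    exact h1.trans (LL_le_pCore (isPSolvable_of_isSolvable p) hK P hQP)


end Cfsg.Agent.S1465
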