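import Cfsg.Statements.S0274
import Cfsg.Agent.Helper5.SL2H

set_option autoImplicit false
open Cfsg

namespace Cfsg.Agent.S0274


open Cfsg.Agent.Helper5.SL2
/-- Dickson's Theorem for SL_2: if p is odd and H is a subgroup of SL_2(q), q a power of p, with more than one Sylow p-subgroup, then H contains a copy of SL_2(p). -/
theorem result {F : Type*} [Field F] [Fintype F] (p : ℕ) [Fact p.Prime] [CharP F p] (hp : p ≠ 2) (H : Subgroup (Matrix.SpecialLinearGroup (Fin 2) F)) (hH : 1 < Nat.card (Sylow p H)) : ∃ K : Subgroup (Matrix.SpecialLinearGroup (Fin 2) F), K ≤ H ∧ Nonempty (K ≃* Matrix.SpecialLinearGroup (Fin 2) (ZMod p)) := by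
  classical
  haveI : Finite (Matrix.SpecialLinearGroup (Fin 2) F) :=
    Finite.of_injective (fun g : Matrix.SpecialLinearGroup (Fin 2) F =>
      (g : Matrix (Fin 2) (Fin 2) F)) Subtype.val_injective
  haveI : Nontrivial (Sylow p H) := Finite.one_lt_card_iff_nontrivial.mp hH
  obtain ⟨P, Q, hPQ⟩ := exists_pair_ne (Sylow p H)
  obtain ⟨u, hu, v, hv, hne⟩ : ∃ u ∈ (P : Subgroup H), ∃ v ∈ (Q : Subgroup H), u * v ≠ v * u := by
    by_contra hcon
    push Not at hcon
    apply hPQ
    have hle : (P : Subgroup H) ≤ Subgroup.normalizer ((Q : Subgroup H) : Set H) := by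
      intro u hu
      apply Subgroup.centralizer_le_normalizer
      rw [Subgroup.mem_centralizer_iff]
      intro q hq
      exact (hcon u hu q hq).symm
    have hsup : IsPGroup p ↥((P : Subgroup H) ⊔ Q) :=
      IsPGroup.to_sup_of_normal_right' P.isPGroup' Q.isPGroup' hle
    have h1 := P.is_maximal' hsup le_sup_left
    have h2 := Q.is_maximal' hsup le_sup_right
    exact Sylow.ext (h1.symm.trans h2)
  obtain ⟨k, hk⟩ := P.isPGroup' ⟨u, hu⟩
  obtain ⟨l, hl⟩ := Q.isPGroup' ⟨v, hv⟩
  have hku : u ^ p ^ k = 1 := congrArg Subtype.val hk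
  have hlv : v ^ p ^ l = 1 := congrArg Subtype.val hl
  exact dickson_unip p hp H u.1 v.1 u.2 v.2 (tr_of_pElt hku) (tr_of_pElt hlv)
    (fun h => hne (Subtype.ext h))

end Cfsg.Agent.S0274
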