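import Cfsg.Statements.S0014
import Cfsg.Agent.S0012
import Cfsg.Agent.S0013
import Mathlib

set_option autoImplicit false
open Cfsg

namespace Cfsg.Agent.S0014

/-- Frattini-independent finite sets in a finite `p`-group: index computation. -/
lemma relIndex_of_indep {G : Type*} [Group G] [Finite G] [DecidableEq G] (p : ℕ) [Fact p.Prime] (hG : IsPGroup p G) :
    ∀ U : Finset G,
      (∀ a ∈ U, a ∉ Subgroup.closure ((U.erase a : Finset G) : Set G) ⊔ frattini G) →
      (frattini G).relIndex (Subgroup.closure (U : Set G) ⊔ frattini G) = p ^ U.card := by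
  obtain ⟨hcomm, hpow⟩ := Cfsg.Agent.S0012.result p hG
  intro U
  induction U using Finset.induction_on with
  | empty =>
    intro _
    simp
  | insert a U haU ih =>
    intro hind
    have hindU : ∀ b ∈ U, b ∉ Subgroup.closure ((U.erase b : Finset G) : Set G) ⊔ frattini G := by
      intro b hb hmem
      apply hind b (Finset.mem_insert_of_mem hb)
      have hsub : ((U.erase b : Finset G) : Set G) ⊆ (((insert a U).erase b : Finset G) : Set G) := by
        intro x hx
        have hx' : x ∈ U.erase b := hx
        have : x ∈ (insert a U).erase b := by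
          rw [Finset.mem_erase] at hx' ⊢
          exact ⟨hx'.1, Finset.mem_insert_of_mem hx'.2⟩
        exact this
      have hle : Subgroup.closure ((U.erase b : Finset G) : Set G) ⊔ frattini G
          ≤ Subgroup.closure (((insert a U).erase b : Finset G) : Set G) ⊔ frattini G :=
        sup_le_sup_right (Subgroup.closure_mono hsub) _
      exact hle hmem
    have haH : a ∉ Subgroup.closure (U : Set G) ⊔ frattini G := by
      have := hind a (Finset.mem_insert_self a U)
      rwa [Finset.erase_insert haU] at this
    obtain ⟨H, hHdef⟩ : ∃ H : Subgroup G, H = Subgroup.closure (U : Set G) ⊔ frattini G := ⟨_, rfl⟩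
    rw [← hHdef] at haH
    have hΦH : frattini G ≤ H := by rw [hHdef]; exact le_sup_right
    have hHn : H.Normal := Cfsg.Agent.S0013.normal_of_commutator_le H (hcomm.trans hΦH)
    have hclos : Subgroup.closure ((insert a U : Finset G) : Set G) ⊔ frattini G = Subgroup.zpowers a ⊔ H := by
      rw [Finset.coe_insert, Set.insert_eq, Subgroup.closure_union, ← Subgroup.zpowers_eq_closure, hHdef,
        sup_assoc]
    have hrel : H.relIndex (Subgroup.zpowers a ⊔ H) = p := by
      rw [Subgroup.relIndex_sup_right]
      have hker : (QuotientGroup.mk' H).ker = H := QuotientGroup.ker_mk' H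
      have h1 := Subgroup.relIndex_ker (Subgroup.zpowers a) (QuotientGroup.mk' H)
      rw [hker, MonoidHom.map_zpowers, Nat.card_zpowers] at h1
      rw [h1]
      apply orderOf_eq_prime
      · rw [← map_pow]
        exact (QuotientGroup.eq_one_iff _).mpr (hΦH (hpow a))
      · intro h
        exact haH ((QuotientGroup.eq_one_iff a).mp h)
    rw [hclos, ← Subgroup.relIndex_mul_relIndex (frattini G) H (Subgroup.zpowers a ⊔ H) hΦH le_sup_right,
      hrel, hHdef, ih hindU, Finset.card_insert_of_notMem haU, pow_succ]

/-- every generating finset contains a generating subset of size `n` -/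
lemma exists_subset {G : Type*} [Group G] [Finite G] (p n : ℕ) [Fact p.Prime]
    (hG : IsPGroup p G) (hn : (frattini G).index = p ^ n) (S : Finset G)
    (hS : Subgroup.closure (S : Set G) = ⊤) :
    ∃ T : Finset G, T ⊆ S ∧ T.card = n ∧ Subgroup.closure (T : Set G) = ⊤ := by
  classical
  obtain ⟨T, hTS, hTmin⟩ := Finite.exists_le_minimal
    (p := fun T : Finset G => Subgroup.closure (T : Set G) = ⊤) (a := S) hS
  have hTgen : Subgroup.closure (T : Set G) = ⊤ := hTmin.1
  refine ⟨T, hTS, ?_, hTgen⟩
  have hind : ∀ a ∈ T, a ∉ Subgroup.closure ((T.erase a : Finset G) : Set G) ⊔ frattini G := by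
    intro a ha hmem
    have hgen : Subgroup.closure ((T.erase a : Finset G) : Set G) ⊔ frattini G = ⊤ := by
      rw [eq_top_iff, ← hTgen, Subgroup.closure_le]
      intro x hx
      by_cases hxa : x = a
      · rw [hxa]; exact hmem
      · have : x ∈ T.erase a := Finset.mem_erase.mpr ⟨hxa, hx⟩
        exact Subgroup.mem_sup_left (Subgroup.subset_closure this)
    have htop := frattini_nongenerating hgen
    have hle := hTmin.2 (y := T.erase a) htop (Finset.erase_subset a T)
    exact Finset.notMem_erase a T (hle ha)
  have h1 := relIndex_of_indep p hG T hind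
  rw [hTgen, top_sup_eq, Subgroup.relIndex_top_right, hn] at h1
  exact (Nat.pow_right_injective (Fact.out : p.Prime).two_le h1).symm

/-- Burnside's basis Theorem: in a finite p-group whose Frattini quotient has order p ^ n, every generating set contains n elements that already generate, and no set with fewer than n elements generates. -/
theorem result {G : Type*} [Group G] [Finite G] (p n : ℕ) [Fact p.Prime]
    (hG : IsPGroup p G) (hn : (frattini G).index = p ^ n) :
    (∀ S : Finset G, Subgroup.closure (S : Set G) = ⊤ → ∃ T : Finset G, T ⊆ S ∧ T.card = n ∧ Subgroup.closure (T : Set G) = ⊤) ∧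
    (∀ T : Finset G, Subgroup.closure (T : Set G) = ⊤ → n ≤ T.card) := by
  refine ⟨fun S hS => exists_subset p n hG hn S hS, fun T hT => ?_⟩
  obtain ⟨T', hT'T, hcard, -⟩ := exists_subset p n hG hn T hT
  rw [← hcard]
  exact Finset.card_le_card hT'T

end Cfsg.Agent.S0014
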