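import Cfsg.Statements.S2004
import Cfsg.Agent.Helper5.SL2Sect
import Cfsg.Agent.Helper13.Glaub

set_option autoImplicit false
open Cfsg

namespace Cfsg.Agent.S2004


open Cfsg Cfsg.Agent.Helper5

universe u

/-- transport of membership in `O_p` of a quotient along an equality of the kernels -/
theorem pcore_quot_transfer {N : Type*} [Group N] (p : ℕ) (C C' : Subgroup N) [hC : C.Normal]
    [hC' : C'.Normal] (h : C = C') (a : N)
    (ha : (QuotientGroup.mk' C a) ∈ Cfsg.pCore p (N ⧸ C)) :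
    ((QuotientGroup.mk a : N ⧸ C') ∈ Cfsg.pCore p (N ⧸ C')) := by
  subst h
  exact ha

theorem hasSL2Sec_of_injective {A B : Type*} [Group A] [Group B] (p : ℕ) (f : A →* B)
    (hf : Function.Injective f) (h : HasSL2Sec p A) : HasSL2Sec p B := by
  obtain ⟨K, ψ, hψ⟩ := h
  exact ⟨K.map f, ψ.comp (K.equivMapOfInjective f hf).symm.toMonoidHom,
    hψ.comp (K.equivMapOfInjective f hf).symm.surjective⟩

/-- quadratic elements of `N_X(Q)` lie in `O_p` modulo `C_X(Q)`, or `SL(2, p)` is a section of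
`N_X(Q)` -/
theorem nps_or_sec {X : Type u} [Group X] [Finite X] {p : ℕ} [Fact p.Prime] (hp2 : p ≠ 2)
    (Q : Subgroup X) (hQ : IsPGroup p Q) (g : X) (hg : g ∈ Subgroup.normalizer (Q : Set X))
    (hq : ⁅⁅Q, Subgroup.zpowers g⁆, Subgroup.zpowers g⁆ = ⊥) :
    (QuotientGroup.mk (s := (Subgroup.centralizer (Q : Set X)).subgroupOf
        (Subgroup.normalizer (Q : Set X))) (⟨g, hg⟩ : ↥(Subgroup.normalizer (Q : Set X)))) ∈
      Cfsg.pCore p (↥(Subgroup.normalizer (Q : Set X)) ⧸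
        (Subgroup.centralizer (Q : Set X)).subgroupOf (Subgroup.normalizer (Q : Set X))) ∨
    HasSL2Sec p ↥(Subgroup.normalizer (Q : Set X)) := by
  obtain ⟨N, hN⟩ : ∃ N : Subgroup X, N = Subgroup.normalizer (Q : Set X) := ⟨_, rfl⟩
  subst hN
  haveI hVn : (Q.subgroupOf (Subgroup.normalizer (Q : Set X))).Normal :=
    Subgroup.normal_in_normalizer
  have hVp : IsPGroup p (Q.subgroupOf (Subgroup.normalizer (Q : Set X))) :=
    hQ.comap_subtype
  have hq' : ⁅⁅Q.subgroupOf (Subgroup.normalizer (Q : Set X)),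
      Subgroup.zpowers (⟨g, hg⟩ : ↥(Subgroup.normalizer (Q : Set X)))⁆,
      Subgroup.zpowers (⟨g, hg⟩ : ↥(Subgroup.normalizer (Q : Set X)))⁆ = ⊥ := by
    apply Subgroup.map_injective (Subgroup.normalizer (Q : Set X)).subtype_injective
    rw [Subgroup.map_commutator, Subgroup.map_commutator, MonoidHom.map_zpowers, Subgroup.map_bot,
      Subgroup.map_subgroupOf_eq_of_le Subgroup.le_normalizer]
    exact hq
  rcases quad_mem_LL_or_sec hp2 (Q.subgroupOf (Subgroup.normalizer (Q : Set X))) hVp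
    (⟨g, hg⟩ : ↥(Subgroup.normalizer (Q : Set X))) hq' with h | h
  · left
    have hC : Subgroup.centralizer
        ((Q.subgroupOf (Subgroup.normalizer (Q : Set X)) :
          Subgroup ↥(Subgroup.normalizer (Q : Set X))) : Set ↥(Subgroup.normalizer (Q : Set X))) =
        (Subgroup.centralizer (Q : Set X)).subgroupOf (Subgroup.normalizer (Q : Set X)) := by
      ext x
      rw [Subgroup.mem_centralizer_iff, Subgroup.mem_subgroupOf, Subgroup.mem_centralizer_iff]
      constructor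
      · intro hx q hq
        have := hx ⟨q, Subgroup.le_normalizer hq⟩ (Subgroup.mem_subgroupOf.mpr hq)
        exact congrArg Subtype.val this
      · intro hx v hv
        exact Subtype.ext (hx v.1 (Subgroup.mem_subgroupOf.mp hv))
    exact pcore_quot_transfer p _ _ hC _ h
  · exact Or.inr h

/-- an `SL(2, p)`-section of `N_X(Q)`, `X = K / R` a section of `G` and `Q ≠ 1` a `p`-subgroup,
gives an `SL(2, p)`-section of the normalizer in `G` of a nontrivial `p`-subgroup -/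
theorem sec_lift {G : Type u} [Group G] [Finite G] {p : ℕ} [Fact p.Prime]
    (K R : Subgroup G) [hR : (R.subgroupOf K).Normal]
    (Q : Subgroup (↥K ⧸ R.subgroupOf K)) (hQ : IsPGroup p Q) (hQ1 : Q ≠ ⊥)
    (h : HasSL2Sec p ↥(Subgroup.normalizer (Q : Set (↥K ⧸ R.subgroupOf K)))) :
    ∃ P : Subgroup G, IsPGroup p P ∧ P ≠ ⊥ ∧
      HasSL2Sec p ↥(Subgroup.normalizer (P : Set G)) := by
  obtain ⟨π, hπ⟩ : ∃ π : ↥K →* (↥K ⧸ R.subgroupOf K), π = QuotientGroup.mk' (R.subgroupOf K) :=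
    ⟨_, rfl⟩
  have hπs : Function.Surjective π := by rw [hπ]; exact QuotientGroup.mk'_surjective _
  obtain ⟨T, hT⟩ : ∃ T : Subgroup ↥K, T = Q.comap π := ⟨_, rfl⟩
  obtain ⟨N, hN⟩ : ∃ N : Subgroup ↥K, N = Subgroup.normalizer (T : Set ↥K) := ⟨_, rfl⟩
  have hNc : N = (Subgroup.normalizer (Q : Set (↥K ⧸ R.subgroupOf K))).comap π := by
    rw [hN, hT, Subgroup.comap_normalizer_eq_of_surjective _ hπs]
  have hTN : T ≤ N := hN ▸ Subgroup.le_normalizer
  have hkerT : π.ker ≤ T := by rw [hT]; exact Subgroup.ker_le_comap π Q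
  -- a Sylow `p`-subgroup of `N`
  obtain ⟨S₀⟩ : Nonempty (Sylow p ↥N) := inferInstance
  obtain ⟨ST, hST⟩ : ∃ ST : Subgroup ↥K, ST = (S₀ : Subgroup ↥N).map N.subtype := ⟨_, rfl⟩
  have hSTN : ST ≤ N := by rw [hST]; exact Subgroup.map_subtype_le _
  have hSTp : IsPGroup p ST := by rw [hST]; exact S₀.2.map _
  have hidx : ¬ p ∣ ST.relIndex N := by
    have h1 : ST.subgroupOf N = (S₀ : Subgroup ↥N) := by
      rw [hST]; exact Subgroup.comap_map_eq_self_of_injective N.subtype_injective _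
    rw [Subgroup.relIndex, h1]
    exact S₀.not_dvd_index
  have hnorm : N ≤ Subgroup.normalizer (T : Set ↥K) := hN.le
  obtain ⟨P, hP⟩ : ∃ P : Subgroup ↥K, P = ST ⊓ T := ⟨_, rfl⟩
  have hPp : IsPGroup p P := by rw [hP]; exact hSTp.to_le inf_le_left
  have hPT : P ≤ T := by rw [hP]; exact inf_le_right
  have hidx2 : ¬ p ∣ P.relIndex T := by
    rw [hP]
    exact Cfsg.Agent.Helper13.inf_normal_sylow_in N T ST hSTN hSTp hidx hTN hnorm
  -- `T = P * ker π`
  have hcov : T ≤ P ⊔ π.ker := by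
    rw [← Subgroup.relIndex_eq_one]
    have h1 : (P ⊔ π.ker).relIndex T ∣ P.relIndex T := Subgroup.relIndex_dvd_of_le_left T le_sup_left
    have h2 : (P ⊔ π.ker).relIndex T ∣ π.ker.relIndex T :=
      Subgroup.relIndex_dvd_of_le_left T le_sup_right
    have h3 : π.ker.relIndex T = Nat.card Q := by
      have h4 := Subgroup.relIndex_comap (⊥ : Subgroup (↥K ⧸ R.subgroupOf K)) π T
      rw [MonoidHom.comap_bot, Subgroup.relIndex_bot_left] at h4
      rw [h4, hT, Subgroup.map_comap_eq_self_of_surjective hπs]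
    obtain ⟨n, hn⟩ := hQ.exists_card_eq
    rw [h3, hn] at h2
    obtain ⟨k, -, hk⟩ := (Nat.dvd_prime_pow (Fact.out : p.Prime)).mp h2
    rw [hk] at h1 ⊢
    rcases Nat.eq_zero_or_pos k with h0 | h0
    · rw [h0, pow_zero]
    · exact absurd ((dvd_pow_self p h0.ne').trans h1) hidx2
  have hP1 : P ≠ ⊥ := by
    intro h0
    apply hQ1
    rw [h0, bot_sup_eq] at hcov
    have h1 : T.map π = ⊥ := by
      rw [eq_bot_iff]
      rintro _ ⟨t, ht, rfl⟩
      exact Subgroup.mem_bot.mpr (hcov ht)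
    rw [hT, Subgroup.map_comap_eq_self_of_surjective hπs] at h1
    exact h1
  -- Frattini
  have hfr : ∀ x ∈ N, ∃ r ∈ π.ker, r * x ∈ Subgroup.normalizer (P : Set ↥K) := by
    intro x hx
    obtain ⟨k, hk, hkx⟩ := Cfsg.Agent.Helper13.frattini_in N T ST hSTN hSTp hidx hTN hnorm x hx
    rw [← hP] at hkx
    have hk' : k ∈ P ⊔ π.ker := hcov hk
    haveI : π.ker.Normal := MonoidHom.normal_ker π
    rw [Subgroup.mem_sup_of_normal_right] at hk'
    obtain ⟨u, hu, r, hr, hur⟩ := hk'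
    refine ⟨r, hr, ?_⟩
    have h1 : r * x = u⁻¹ * (k * x) := by rw [← hur]; group
    rw [h1]
    exact Subgroup.mul_mem _ (Subgroup.inv_mem _ (Subgroup.le_normalizer hu)) hkx
  -- the subgroup `M₁ = N_K(P) ∩ N` maps onto `N_X(Q)`
  obtain ⟨M₁, hM₁⟩ : ∃ M₁ : Subgroup ↥K, M₁ = Subgroup.normalizer (P : Set ↥K) ⊓ N := ⟨_, rfl⟩
  have hM₁N : M₁ ≤ (Subgroup.normalizer (Q : Set (↥K ⧸ R.subgroupOf K))).comap π := by
    rw [← hNc, hM₁]; exact inf_le_right
  have hsec1 : HasSL2Sec p ↥M₁ := by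
    refine hasSL2Sec_lift p
      ((π.subgroupComap (Subgroup.normalizer (Q : Set (↥K ⧸ R.subgroupOf K)))).comp
        (Subgroup.inclusion hM₁N)) ?_ h
    rintro ⟨y, hy⟩
    obtain ⟨x, rfl⟩ := hπs y
    have hx : x ∈ N := by rw [hNc]; exact hy
    obtain ⟨r, hr, hrx⟩ := hfr x hx
    have hrN : r ∈ N := hTN (hkerT hr)
    refine ⟨⟨r * x, ?_⟩, ?_⟩
    · rw [hM₁]; exact ⟨hrx, N.mul_mem hrN hx⟩
    · apply Subtype.ext
      change π (r * x) = π x
      rw [map_mul, MonoidHom.mem_ker.mp hr, one_mul]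
  refine ⟨P.map K.subtype, hPp.map _, ?_, ?_⟩
  · intro h0
    exact hP1 ((Subgroup.map_eq_bot_iff_of_injective P K.subtype_injective).mp h0)
  · have hle : ∀ x : ↥M₁, K.subtype (M₁.subtype x) ∈
        Subgroup.normalizer ((P.map K.subtype : Subgroup G) : Set G) := by
      intro x
      have h2 : M₁ ≤ Subgroup.normalizer (P : Set ↥K) := hM₁ ▸ inf_le_left
      have h1 : (x : ↥K) ∈ Subgroup.normalizer (P : Set ↥K) := h2 x.2
      exact Subgroup.le_normalizer_map K.subtype (Subgroup.mem_map_of_mem _ h1)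
    refine hasSL2Sec_of_injective p ((K.subtype.comp M₁.subtype).codRestrict _ hle) ?_ hsec1
    intro a b hab
    have h1 := congrArg Subtype.val hab
    exact M₁.subtype_injective (K.subtype_injective h1)

/-- Let p be an odd prime and G a finite group such that SL₂(p) is not involved in N_G(P) for any nonidentity p-subgroup P of G. Then every section of G is p-stable in the normalizer form: in each section, whenever an element of the normalizer of a p-subgroup Q acts quadratically on Q, its image in N(Q)/C(Q) lies in O_p(N(Q)/C(Q)). -/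
theorem result {G : Type*} [Group G] [Finite G] {p : ℕ} [Fact p.Prime] (hp : p ≠ 2) (h : ∀ P : Subgroup G, IsPGroup p ↥P → P ≠ ⊥ → ¬ Cfsg.Involves (Matrix.SpecialLinearGroup (Fin 2) (ZMod p)) ↥(Subgroup.normalizer ((P : Subgroup G) : Set G))) : ∀ (K R : Subgroup G) [hR : (R.subgroupOf K).Normal], Cfsg.IsNormalizerPStable p (↥K ⧸ R.subgroupOf K) := by
  intro K R hR Q hQ g hg hq
  by_cases hQ1 : Q = ⊥
  · -- trivial case
    have h1 : (QuotientGroup.mk (s := (Subgroup.centralizer (Q : Set (↥K ⧸ R.subgroupOf K))).subgroupOf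
        (Subgroup.normalizer (Q : Set (↥K ⧸ R.subgroupOf K))))
        (⟨g, hg⟩ : ↥(Subgroup.normalizer (Q : Set (↥K ⧸ R.subgroupOf K))))) = 1 := by
      rw [QuotientGroup.eq_one_iff, Subgroup.mem_subgroupOf, Subgroup.mem_centralizer_iff]
      intro q hq'
      have hq'' : q = 1 := by simpa [hQ1] using hq'
      subst hq''
      simp
    rw [h1]
    exact Subgroup.one_mem _
  rcases nps_or_sec hp Q hQ g hg hq with h1 | h1
  · exact h1
  · exfalso
    obtain ⟨P, hPp, hP1, hsec⟩ := sec_lift K R Q hQ hQ1 h1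
    obtain ⟨L, ψ, hψ⟩ := hsec
    obtain ⟨L', hL', ⟨e⟩⟩ := Cfsg.Agent.Helper5.sec_of_surj L ψ hψ
    exact h P hPp hP1 ⟨L, L', hL', ⟨e⟩⟩

end Cfsg.Agent.S2004
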