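import Cfsg.Statements.S0160
import Mathlib
import Cfsg.Agent.Helper2.CharExtra

set_option autoImplicit false
open Cfsg

namespace Cfsg.Agent.S0160

open scoped ComplexConjugate

/-- A finite group has as many real-valued irreducible complex characters as conjugacy classes closed under taking inverses. -/
theorem result {G : Type*} [Group G] [Finite G] : Nat.card {χ : Cfsg.IrrCharacter G // ∀ g : G, ((χ : G → ℂ) g).im = 0} = Nat.card {C : ConjClasses G // ∀ g : G, ConjClasses.mk g = C → IsConj g g⁻¹} := by
  classical
  have : Fintype G := Fintype.ofFinite G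
  let cj : IrrCharacter G → IrrCharacter G := fun χ =>
    ⟨fun g => conj ((χ : G → ℂ) g), Helper2.isIrrCharacter_conj χ.2⟩
  have hcount := Helper2.brauer_count (fun g : G => g⁻¹) cj
    (fun χ g => (Helper1.irr_inv χ g).symm)
    (fun g h hgh => by
      obtain ⟨u, hu⟩ := isConj_iff.mp hgh
      exact isConj_iff.mpr ⟨u, by rw [← hu]; group⟩)
  have e1 : {χ : IrrCharacter G // ∀ g : G, ((χ : G → ℂ) g).im = 0} ≃
      {χ : IrrCharacter G // cj χ = χ} := Equiv.subtypeEquivRight (fun χ => by
    constructor
    · intro h
      exact Subtype.ext (funext fun g => Complex.conj_eq_iff_im.mpr (h g))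
    · intro h g
      have := congrFun (congrArg Subtype.val h) g
      exact Complex.conj_eq_iff_im.mp this)
  have e2 : {C : ConjClasses G // ∀ g : G, ConjClasses.mk g = C → IsConj g g⁻¹} ≃
      {C : ConjClasses G // IsConj (Quotient.out C)⁻¹ (Quotient.out C)} :=
    Equiv.subtypeEquivRight (fun C => by
    constructor
    · intro h
      exact (h (Quotient.out C) (Quotient.out_eq C)).symm
    · intro h g hg
      have hg' : IsConj g (Quotient.out C) := by
        rw [← ConjClasses.mk_eq_mk_iff_isConj, hg]
        exact (Quotient.out_eq C).symm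
      obtain ⟨u, hu⟩ := isConj_iff.mp hg'
      have h2 : IsConj g⁻¹ (Quotient.out C)⁻¹ := isConj_iff.mpr ⟨u, by rw [← hu]; group⟩
      exact hg'.trans (h.symm.trans h2.symm))
  rw [Nat.card_congr e1, Nat.card_congr e2]
  exact hcount

end Cfsg.Agent.S0160
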