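import Cfsg.Statements.S0224
import Mathlib
import Cfsg.Agent.Helper9.StrEmb

set_option autoImplicit false
open Cfsg

namespace Cfsg.Agent.S0224

open Cfsg.Agent.Helper9

/-- an even-order intersection `H ⊓ gHg⁻¹` contains an involution `t ∈ H` with `g⁻¹ t g ∈ H` -/
lemma exists_invol_of_even {G : Type*} [Group G] [Finite G] (H : Subgroup G) (g : G)
    (he : Even (Nat.card ↥(H ⊓ H.map (MulAut.conj g).toMonoidHom))) :
    ∃ t : G, orderOf t = 2 ∧ t ∈ H ∧ g⁻¹ * t * g ∈ H := by
  have h2 : 2 ∣ Nat.card ↥(H ⊓ H.map (MulAut.conj g).toMonoidHom) := even_iff_two_dvd.1 he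
  haveI : Fact (Nat.Prime 2) := ⟨Nat.prime_two⟩
  obtain ⟨x, hx⟩ := exists_prime_orderOf_dvd_card' 2 h2
  refine ⟨x, by rw [Subgroup.orderOf_coe]; exact hx, x.2.1, ?_⟩
  obtain ⟨s, hs, hsx⟩ := x.2.2
  simp only [MulEquiv.coe_toMonoidHom, MulAut.conj_apply] at hsx
  rw [← hsx]
  have : g⁻¹ * (g * s * g⁻¹) * g = s := by group
  rw [this]
  exact hs

/-- Let H be a proper subgroup of even order of the finite group G. Then H is strongly embedded if and only if each involution of H fixes exactly one point (namely the coset H) in the action of G on the cosets of H. -/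
theorem result {G : Type*} [Group G] [Finite G] (H : Subgroup G) (hH : H ≠ ⊤) (heven : Even (Nat.card H)) : Cfsg.IsStronglyEmbedded H ↔ ∀ t ∈ H, orderOf t = 2 → Nat.card {c : G ⧸ H // t • c = c} = 1 := by
  constructor
  · intro hSE t htH ht
    rw [Nat.card_eq_one_iff_unique]
    refine ⟨⟨?_⟩, ⟨⟨((1 : G) : G ⧸ H), ?_⟩⟩⟩
    · rintro ⟨x, hx⟩ ⟨y, hy⟩
      exact Subtype.ext (fix_unique hSE ht hx hy)
    · rw [smul_mk_eq_iff]
      simpa using htH
  · intro h
    refine ⟨hH, heven, ?_⟩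
    intro g hg
    by_contra hodd
    rw [Nat.not_odd_iff_even] at hodd
    obtain ⟨t, ht, htH, htg⟩ := exists_invol_of_even H g hodd
    have h1 := h t htH ht
    rw [Nat.card_eq_one_iff_unique] at h1
    obtain ⟨hsub, -⟩ := h1
    have e1 : t • ((1 : G) : G ⧸ H) = ((1 : G) : G ⧸ H) := by
      rw [smul_mk_eq_iff]
      simpa using htH
    have e2 : t • ((g : G) : G ⧸ H) = ((g : G) : G ⧸ H) := by
      rw [smul_mk_eq_iff]
      exact htg
    have e3 := congrArg Subtype.val (hsub.elim ⟨_, e1⟩ ⟨_, e2⟩)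
    have e4 : ((1 : G) : G ⧸ H) = ((g : G) : G ⧸ H) := e3
    rw [QuotientGroup.eq] at e4
    apply hg
    simpa using e4

end Cfsg.Agent.S0224
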