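import Cfsg.Statements.S0223
import Mathlib
import Cfsg.Agent.Helper9.StrEmb
import Cfsg.Agent.S0224

set_option autoImplicit false
open Cfsg

namespace Cfsg.Agent.S0223

open Cfsg.Agent.Helper9

/-- Let H be a proper subgroup of even order of the finite group G. Then H is strongly embedded if and only if (i) C_G(t) ≤ H for every involution t of H and (ii) H controls fusion of its involutions: involutions of H conjugate in G are conjugate in H. -/
theorem result {G : Type*} [Group G] [Finite G] (H : Subgroup G) (hH : H ≠ ⊤) (heven : Even (Nat.card H)) : Cfsg.IsStronglyEmbedded H ↔ ((∀ t ∈ H, orderOf t = 2 → Subgroup.centralizer ({t} : Set G) ≤ H) ∧ (∀ t ∈ H, ∀ s ∈ H, orderOf t = 2 → orderOf s = 2 → IsConj t s → ∃ h ∈ H, h * t * h⁻¹ = s)) := by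
  constructor
  · intro hSE
    refine ⟨?_, ?_⟩
    · intro t htH ht c hc
      rw [Subgroup.mem_centralizer_iff] at hc
      have hct : t * c = c * t := hc t rfl
      have e1 : t • ((1 : G) : G ⧸ H) = ((1 : G) : G ⧸ H) := by
        rw [smul_mk_eq_iff]
        simpa using htH
      have e2 : t • ((c : G) : G ⧸ H) = ((c : G) : G ⧸ H) := by
        rw [smul_mk_eq_iff]
        have : c⁻¹ * t * c = t := by rw [mul_assoc, hct, inv_mul_cancel_left]
        rw [this]
        exact htH
      have e4 := fix_unique hSE ht e1 e2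
      rw [QuotientGroup.eq] at e4
      simpa using e4
    · intro t htH s hsH ht hs hconj
      obtain ⟨c, hc⟩ := isConj_iff.mp hconj
      refine ⟨c, ?_, hc⟩
      have e1 : s • ((1 : G) : G ⧸ H) = ((1 : G) : G ⧸ H) := by
        rw [smul_mk_eq_iff]
        simpa using hsH
      have e2 : s • ((c : G) : G ⧸ H) = ((c : G) : G ⧸ H) := by
        rw [smul_mk_eq_iff, ← hc]
        have : c⁻¹ * (c * t * c⁻¹) * c = t := by group
        rw [this]
        exact htH
      have e4 := fix_unique hSE hs e1 e2
      rw [QuotientGroup.eq] at e4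
      simpa using e4
  · rintro ⟨h1, h2⟩
    refine ⟨hH, heven, ?_⟩
    intro g hg
    by_contra hodd
    rw [Nat.not_odd_iff_even] at hodd
    obtain ⟨t, ht, htH, htg⟩ := Cfsg.Agent.S0224.exists_invol_of_even H g hodd
    have hs : orderOf (g⁻¹ * t * g) = 2 := by
      have := orderOf_conj_two ht g⁻¹
      simpa using this
    have hconj : IsConj t (g⁻¹ * t * g) := isConj_iff.mpr ⟨g⁻¹, by simp⟩
    obtain ⟨h, hhH, hh⟩ := h2 t htH _ htg ht hs hconj
    have hcen : g * h ∈ Subgroup.centralizer ({t} : Set G) := by
      rw [Subgroup.mem_centralizer_iff]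
      intro x hx
      rw [Set.mem_singleton_iff] at hx
      rw [hx]
      have e : g * (h * t * h⁻¹) * g⁻¹ = t := by rw [hh]; group
      calc t * (g * h) = g * (h * t * h⁻¹) * g⁻¹ * (g * h) := by rw [e]
        _ = g * h * t := by group
    have := h1 t htH ht hcen
    apply hg
    have e : g = g * h * h⁻¹ := by group
    rw [e]
    exact H.mul_mem this (H.inv_mem hhH)

end Cfsg.Agent.S0223
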