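import Mathlib
import Cfsg.Statements.S0341
import Cfsg.Agent.Helper18.ZassField
import Cfsg.Agent.Helper3.Zassenhaus
import Cfsg.Agent.Helper11.CNSolv
import Cfsg.Agent.Helper17.TwoFrob
import Cfsg.Agent.S0042

set_option autoImplicit false
open Cfsg

namespace Cfsg.Agent.S0341

/-- If a finite group acts faithfully and doubly transitively, no non-identity element fixes three points, some
non-identity element fixes two points, and some normal subgroup acts regularly, then the number of points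
is `2^p` with `p` prime. -/
theorem result {G Ω : Type*} [Group G]
    [MulAction G Ω] [Fintype Ω] [FaithfulSMul G Ω] (h2 : MulAction.IsMultiplyPretransitive G Ω 2)
    (h3 : ∀ g : G, ∀ a b c : Ω, a ≠ b → b ≠ c → a ≠ c → g • a = a → g • b = b → g • c = c → g = 1)
    (hfix : ∃ g : G, g ≠ 1 ∧ ∃ a b : Ω, a ≠ b ∧ g • a = a ∧ g • b = b)
    (N : Subgroup G) [N.Normal] (hNt : MulAction.IsPretransitive N Ω)
    (hNr : ∀ a : Ω, MulAction.stabilizer N a = ⊥) :
    ∃ p : ℕ, p.Prime ∧ Fintype.card Ω = 2 ^ p := by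
  classical
  obtain ⟨g₀, hg₀, α, β, hαβ, hgα, hgβ⟩ := hfix
  have hNn : N.Normal := inferInstance
  have hfin : Finite G := Finite.of_injective _ (MulAction.toPerm_injective (α := G) (β := Ω))
  have h2' : ∀ {a b c d : Ω}, a ≠ b → c ≠ d → ∃ g : G, g • a = c ∧ g • b = d :=
    MulAction.is_two_pretransitive_iff.mp h2
  have reg : ∀ n ∈ N, ∀ x : Ω, n • x = x → n = 1 := by
    intro n hn x hx
    have hmem : (⟨n, hn⟩ : N) ∈ MulAction.stabilizer N x := hx
    rw [hNr x, Subgroup.mem_bot] at hmem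
    exact congrArg Subtype.val hmem
  have reg2 : ∀ n ∈ N, ∀ m ∈ N, ∀ x : Ω, n • x = m • x → n = m := by
    intro n hn m hm x hx
    have h := reg (m⁻¹ * n) (N.mul_mem (N.inv_mem hm) hn) x (by rw [mul_smul, hx, inv_smul_smul])
    exact (inv_mul_eq_one.mp h).symm
  have trN : ∀ x y : Ω, ∃ n ∈ N, n • x = y := by
    intro x y
    obtain ⟨n, hn⟩ := hNt.exists_smul_eq x y
    exact ⟨n.1, n.2, hn⟩
  have hcf : ∀ c n : G, c * n = n * c → ∀ x : Ω, c • x = x → c • (n • x) = n • x := by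
    intro c n h x hx
    rw [← mul_smul, h, mul_smul, hx]
  obtain ⟨γ, hγ⟩ : ∃ γ : Ω, g₀ • γ ≠ γ := by
    by_contra hcon
    apply hg₀
    apply FaithfulSMul.eq_of_smul_eq_smul (α := Ω)
    intro x
    rw [one_smul]
    by_contra hx
    exact hcon ⟨x, hx⟩
  have hγα : γ ≠ α := by rintro rfl; exact hγ hgα
  have hγβ : γ ≠ β := by rintro rfl; exact hγ hgβ
  obtain ⟨v₀, hv₀N, hv₀⟩ := trN α β
  have hv₀1 : v₀ ≠ 1 := by
    rintro rfl
    rw [one_smul] at hv₀
    exact hαβ hv₀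
  have hcv : ∀ c : G, c • α = α → c • β = β → c * v₀ * c⁻¹ = v₀ := by
    intro c hcα hcβ
    apply reg2 _ (hNn.conj_mem v₀ hv₀N c) _ hv₀N α
    rw [mul_smul, mul_smul, inv_smul_eq_iff.mpr hcα.symm, hv₀, hcβ]
  have hv₀sq : v₀ * v₀ = 1 := by
    have hc : g₀ * v₀ = v₀ * g₀ := mul_inv_eq_iff_eq_mul.mp (hcv g₀ hgα hgβ)
    have hc2 : g₀ * (v₀ * v₀) = v₀ * v₀ * g₀ := by
      rw [← mul_assoc, hc, mul_assoc, hc, ← mul_assoc]
    have hfix3 : g₀ • ((v₀ * v₀) • α) = (v₀ * v₀) • α := hcf g₀ _ hc2 α hgα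
    by_cases h1 : (v₀ * v₀) • α = α
    · exact reg _ (N.mul_mem hv₀N hv₀N) α h1
    · exfalso
      by_cases h2 : (v₀ * v₀) • α = β
      · have h := reg2 _ (N.mul_mem hv₀N hv₀N) _ hv₀N α (h2.trans hv₀.symm)
        have hv1 : v₀ = 1 := by simpa using h
        exact hv₀1 hv1
      · exact hg₀ (h3 g₀ α β _ hαβ (Ne.symm h2) (Ne.symm h1) hgα hgβ hfix3)
  have hconj : ∀ n ∈ N, n ≠ 1 → ∃ h : G, h • α = α ∧ h * v₀ * h⁻¹ = n := by
    intro n hn hn1
    have hne : n • α ≠ α := fun h => hn1 (reg n hn α h)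
    obtain ⟨h, hhα, hhβ⟩ := h2' hαβ (Ne.symm hne)
    refine ⟨h, hhα, ?_⟩
    apply reg2 _ (hNn.conj_mem v₀ hv₀N h) _ hn α
    rw [mul_smul, mul_smul, inv_smul_eq_iff.mpr hhα.symm, hv₀, hhβ]
  have hsq : ∀ n ∈ N, n * n = 1 := by
    intro n hn
    by_cases hn1 : n = 1
    · rw [hn1, one_mul]
    · obtain ⟨h, -, rfl⟩ := hconj n hn hn1
      calc h * v₀ * h⁻¹ * (h * v₀ * h⁻¹) = h * (v₀ * v₀) * h⁻¹ := by group
        _ = 1 := by rw [hv₀sq]; group
  have hcomm : ∀ n ∈ N, ∀ m ∈ N, n * m = m * n := by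
    intro n hn m hm
    have h1 := hsq (m * n) (N.mul_mem hm hn)
    calc n * m = (m * m) * (n * m) * (n * n) := by rw [hsq m hm, hsq n hn, one_mul, mul_one]
      _ = m * ((m * n) * (m * n)) * n := by group
      _ = m * n := by rw [h1, mul_one]
  -- the point stabilizer and its Frobenius kernel
  have hfr1 : ∀ s : MulAction.stabilizer G α, s ≠ 1 → ∀ g : MulAction.stabilizer G α, s • β = β →
      s • (g • β) = g • β → g • β = β := by
    intro s hs g hsβ hsg
    by_contra hne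
    apply hs
    apply Subtype.ext
    have hgα' : (g : G) • α = α := g.2
    refine h3 (s : G) α β ((g : G) • β) hαβ (Ne.symm hne) ?_ s.2 hsβ hsg
    intro h
    have h' : (g : G) • α = (g : G) • β := by rw [hgα']; exact h
    exact hαβ (smul_left_cancel _ h')
  have hfr2 : MulAction.stabilizer (MulAction.stabilizer G α) β ≠ ⊥ := by
    intro hbot
    have hmem : (⟨g₀, hgα⟩ : MulAction.stabilizer G α) ∈
        MulAction.stabilizer (MulAction.stabilizer G α) β := hgβ
    rw [hbot, Subgroup.mem_bot] at hmem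
    exact hg₀ (congrArg Subtype.val hmem)
  have hfr3 : ∃ s : MulAction.stabilizer G α, s • β ≠ β := by
    obtain ⟨h, hhα, hhβ⟩ := h2' hαβ (Ne.symm hγα)
    exact ⟨⟨h, hhα⟩, fun hh => hγβ (hhβ.symm.trans hh)⟩
  obtain ⟨K, hKn, hKfpf, hKtr, hKmem⟩ :=
    Cfsg.Agent.Helper3.frob_kernel (S := MulAction.stabilizer G α) β hfr1 hfr2 hfr3
  have hKb : ∀ k ∈ K, k ≠ 1 → ∀ x : Ω, x ≠ α → (k : G) • x ≠ x := by
    intro k hk hk1 x hx
    obtain ⟨g, hgα', hgβ'⟩ := h2' hαβ (Ne.symm hx)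
    have h := hKfpf k hk hk1 ⟨g, hgα'⟩
    intro hfix
    apply h
    show (k : G) • (g • β) = g • β
    rw [hgβ', hfix]
  have hKc : ∀ x : Ω, x ≠ α → ∃ k ∈ K, (k : G) • β = x := by
    intro x hx
    obtain ⟨g, hgα', hgβ'⟩ := h2' hαβ (Ne.symm hx)
    obtain ⟨k, hk, hkβ⟩ := hKtr ⟨g, hgα'⟩
    exact ⟨k, hk, hkβ.trans hgβ'⟩
  -- nilpotency of the kernel
  have hFC : IsFrobeniusComplement (MulAction.stabilizer (MulAction.stabilizer G α) β) := by
    refine ⟨hfr2, ?_, ?_⟩
    · intro htop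
      obtain ⟨s, hs⟩ := hfr3
      have : s ∈ MulAction.stabilizer (MulAction.stabilizer G α) β := htop ▸ Subgroup.mem_top s
      exact hs this
    · intro g hg
      rw [eq_bot_iff]
      rintro x ⟨hx1, hx2⟩
      rw [Subgroup.mem_bot]
      by_contra hx
      apply hg
      have hx2' : g⁻¹ * x * g ∈ MulAction.stabilizer _ β :=
        (Cfsg.Agent.Helper3.mem_conj_smul_iff _ g x).mp hx2
      have hx1' : x • β = β := hx1
      rw [MulAction.mem_stabilizer_iff] at hx2' ⊢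
      apply hfr1 x hx g hx1'
      have := congrArg (fun y => g • y) hx2'
      simpa [mul_smul] using this
  obtain ⟨K₂, hK₂set, hK₂n, hK₂nil⟩ := Cfsg.Agent.S0042.result _ hFC
  have hKeq : K = K₂ := by
    apply le_antisymm
    · intro k hk
      rw [← SetLike.mem_coe, hK₂set]
      by_cases hk1 : k = 1
      · exact Or.inl hk1
      · right
        intro g hmem
        rw [Cfsg.Agent.Helper3.mem_conj_smul_iff, MulAction.mem_stabilizer_iff] at hmem
        apply hKfpf k hk hk1 g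
        have := congrArg (fun y => g • y) hmem
        simpa [mul_smul] using this
    · intro k hk
      rw [← SetLike.mem_coe, hK₂set] at hk
      rcases hk with h | h
      · rw [h]; exact K.one_mem
      · apply hKmem
        intro g hfix
        apply h g
        rw [Cfsg.Agent.Helper3.mem_conj_smul_iff, MulAction.mem_stabilizer_iff]
        simp [mul_smul, hfix]
  have hKnil : Group.IsNilpotent K := by rw [hKeq]; exact hK₂nil
  -- the kernel has odd order
  have hKodd : Odd (Nat.card K) := by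
    by_contra hnodd
    rw [Nat.not_odd_iff_even] at hnodd
    haveI : Fact (Nat.Prime 2) := ⟨Nat.prime_two⟩
    obtain ⟨t, ht⟩ := exists_prime_orderOf_dvd_card' 2 hnodd.two_dvd
    have ht1 : t ≠ 1 := by
      intro h
      rw [h, orderOf_one] at ht
      exact absurd ht (by norm_num)
    have htsq : t * t = 1 := by
      have h := pow_orderOf_eq_one t
      rw [ht, pow_two] at h
      exact h
    obtain ⟨t', ht'⟩ : ∃ t' : G, t' = ((t : MulAction.stabilizer G α) : G) := ⟨_, rfl⟩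
    have ht'sq : t' * t' = 1 := by
      rw [ht']
      exact congrArg (fun z : K => ((z : MulAction.stabilizer G α) : G)) htsq
    have ht'α : t' • α = α := by rw [ht']; exact (t : MulAction.stabilizer G α).2
    have ht'1 : (t : MulAction.stabilizer G α) ≠ 1 := fun h => ht1 (Subtype.ext h)
    have hu : t' * v₀ * t'⁻¹ ∈ N := hNn.conj_mem v₀ hv₀N t'
    have hm : v₀ * (t' * v₀ * t'⁻¹) ∈ N := N.mul_mem hv₀N hu
    have hconjm : t' * (v₀ * (t' * v₀ * t'⁻¹)) * t'⁻¹ = v₀ * (t' * v₀ * t'⁻¹) := by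
      calc t' * (v₀ * (t' * v₀ * t'⁻¹)) * t'⁻¹
          = (t' * v₀ * t'⁻¹) * ((t' * t') * v₀ * (t' * t')⁻¹) := by group
        _ = (t' * v₀ * t'⁻¹) * v₀ := by rw [ht'sq]; group
        _ = v₀ * (t' * v₀ * t'⁻¹) := hcomm _ hu _ hv₀N
    have hfixm : t' • ((v₀ * (t' * v₀ * t'⁻¹)) • α) = (v₀ * (t' * v₀ * t'⁻¹)) • α :=
      hcf t' _ (mul_inv_eq_iff_eq_mul.mp hconjm) α ht'α
    have hmα : (v₀ * (t' * v₀ * t'⁻¹)) • α = α := by
      by_contra hne
      apply hKb (t : MulAction.stabilizer G α) t.2 ht'1 _ hne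
      rw [← ht']
      exact hfixm
    have hm1 : v₀ * (t' * v₀ * t'⁻¹) = 1 := reg _ hm α hmα
    have hu' : t' * v₀ * t'⁻¹ = v₀ := mul_left_cancel (hm1.trans hv₀sq.symm)
    apply hKb (t : MulAction.stabilizer G α) t.2 ht'1 β (Ne.symm hαβ)
    rw [← ht', ← hv₀]
    exact hcf t' v₀ (mul_inv_eq_iff_eq_mul.mp hu') α ht'α
  have hNbot : N ≠ ⊥ := by
    intro h
    rw [h, Subgroup.mem_bot] at hv₀N
    exact hv₀1 hv₀N
  have hKcomm : ∀ x y : K, x * y = y * x := by
    apply Cfsg.Agent.Helper17.TwoFrob.comm_of_nilpotent_cyclic_sylow hKnil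
    intro p hp P
    obtain ⟨φ, hφ⟩ : ∃ φ : K →* G, ∀ k : K, φ k = ((k : MulAction.stabilizer G α) : G) :=
      ⟨(MulAction.stabilizer G α).subtype.comp K.subtype, fun k => rfl⟩
    have hφinj : Function.Injective φ := by
      intro x y hxy
      rw [hφ, hφ] at hxy
      exact Subtype.ext (Subtype.ext hxy)
    have hS : IsPGroup p ((P : Subgroup K).map φ) := P.isPGroup'.map φ
    have hfpf : ∀ s ∈ (P : Subgroup K).map φ, s ≠ 1 → N ⊓ Subgroup.centralizer {s} = ⊥ := by
      intro s hs hs1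
      obtain ⟨k, -, rfl⟩ := Subgroup.mem_map.mp hs
      rw [eq_bot_iff]
      intro n hn
      obtain ⟨hnN, hnc⟩ := Subgroup.mem_inf.mp hn
      rw [Subgroup.mem_bot]
      by_contra hn1
      have hcomm' : φ k * n = n * φ k := Subgroup.mem_centralizer_iff.mp hnc (φ k) rfl
      have hk1 : (k : MulAction.stabilizer G α) ≠ 1 := by
        intro h
        apply hs1
        rw [hφ, h]
        rfl
      have hne : n • α ≠ α := fun h => hn1 (reg n hnN α h)
      apply hKb (k : MulAction.stabilizer G α) k.2 hk1 (n • α) hne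
      rw [← hφ]
      exact hcf (φ k) n hcomm' α (by rw [hφ]; exact (k : MulAction.stabilizer G α).2)
    have hodd : Odd (Nat.card ((P : Subgroup K).map φ)) := by
      have h1 : Nat.card ((P : Subgroup K).map φ) = Nat.card (P : Subgroup K) :=
        Subgroup.card_map_of_injective hφinj
      rw [h1]
      exact hKodd.of_dvd_nat (Subgroup.card_subgroup_dvd_card _)
    have hcyc := Cfsg.Agent.Helper11.fpf_isCyclic_of_odd N hNbot p _ hS hfpf hodd
    exact isCyclic_of_surjective ((P : Subgroup K).equivMapOfInjective φ hφinj).symm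
      ((P : Subgroup K).equivMapOfInjective φ hφinj).symm.surjective
  -- third element of N
  obtain ⟨w₀, hw₀N, hw₀⟩ := trN α γ
  -- an element of prime order in the two-point stabilizer
  have hord0 : orderOf g₀ ≠ 1 := fun h => hg₀ (orderOf_eq_one_iff.mp h)
  obtain ⟨r, hr, hrdvd⟩ : ∃ r : ℕ, r.Prime ∧ r ∣ orderOf g₀ :=
    ⟨_, Nat.minFac_prime hord0, Nat.minFac_dvd _⟩
  obtain ⟨c₀, hc₀⟩ : ∃ c₀ : G, c₀ = g₀ ^ (orderOf g₀ / r) := ⟨_, rfl⟩
  have hc₀ord : orderOf c₀ = r := by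
    rw [hc₀]
    exact orderOf_pow_orderOf_div (orderOf_pos g₀).ne' hrdvd
  have hc₀1 : c₀ ≠ 1 := by
    intro h
    rw [h, orderOf_one] at hc₀ord
    exact hr.one_lt.ne hc₀ord
  have hc₀r : c₀ ^ r = 1 := by rw [← hc₀ord]; exact pow_orderOf_eq_one c₀
  have hc₀α : c₀ • α = α := by
    rw [hc₀]; exact (MulAction.stabilizer G α).pow_mem hgα _
  have hc₀β : c₀ • β = β := by
    rw [hc₀]; exact (MulAction.stabilizer G β).pow_mem hgβ _
  letI cg : CommGroup N := { (inferInstance : Group N) with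
    mul_comm := fun x y => Subtype.ext (hcomm x.1 x.2 y.1 y.2) }
  have hext : ∀ v w : Additive N,
      ((Additive.toMul v : N) : G) = ((Additive.toMul w : N) : G) → v = w :=
    fun v w h => Additive.toMul.injective (Subtype.ext h)
  obtain ⟨f₀, hf₀⟩ : ∃ f₀ : G → AddMonoid.End (Additive N), ∀ (g : G) (v : Additive N),
      ((Additive.toMul (f₀ g v) : N) : G) = g * ((Additive.toMul v : N) : G) * g⁻¹ := by
    refine ⟨fun g => AddMonoidHom.mk' (fun v => Additive.ofMul
        (⟨g * ((Additive.toMul v : N) : G) * g⁻¹,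
          hNn.conj_mem _ (Additive.toMul v : N).2 g⟩ : N)) ?_, fun g v => rfl⟩
    intro a b
    apply hext
    show g * (((Additive.toMul a : N) : G) * ((Additive.toMul b : N) : G)) * g⁻¹ =
      (g * ((Additive.toMul a : N) : G) * g⁻¹) * (g * ((Additive.toMul b : N) : G) * g⁻¹)
    group
  obtain ⟨f, hf⟩ : ∃ f : G →* AddMonoid.End (Additive N), ∀ (g : G) (v : Additive N),
      ((Additive.toMul (f g v) : N) : G) = g * ((Additive.toMul v : N) : G) * g⁻¹ := by
    refine ⟨MonoidHom.mk ⟨f₀, ?_⟩ ?_, fun g v => hf₀ g v⟩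
    · refine DFunLike.ext _ _ (fun v => hext _ _ ?_)
      rw [hf₀]
      show 1 * ((Additive.toMul v : N) : G) * 1⁻¹ = ((Additive.toMul v : N) : G)
      group
    · intro g h
      refine DFunLike.ext _ _ (fun v => hext _ _ ?_)
      show ((Additive.toMul (f₀ (g * h) v) : N) : G) =
        ((Additive.toMul (f₀ g (f₀ h v)) : N) : G)
      rw [hf₀, hf₀, hf₀]
      group
  have hne0 : ∀ v : Additive N, v ≠ 0 → ((Additive.toMul v : N) : G) ≠ 1 :=
    fun v hv h => hv (hext v 0 h)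
  have hfapply : ∀ (k : G) (v w : Additive N),
      (k * ((Additive.toMul v : N) : G) * k⁻¹) • α = ((Additive.toMul w : N) : G) • α →
      f k v = w := by
    intro k v w h
    apply hext
    rw [hf]
    exact reg2 _ (hNn.conj_mem _ (Additive.toMul v : N).2 k) _ (Additive.toMul w : N).2 α h
  refine ⟨r, hr, ?_⟩
  have hcardΩ : Fintype.card Ω = Nat.card (Additive N) := by
    rw [← Nat.card_eq_fintype_card]
    symm
    exact Nat.card_eq_of_bijective (fun v : Additive N => ((Additive.toMul v : N) : G) • α)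
      ⟨fun v w h => hext v w (reg2 _ (Additive.toMul v : N).2 _ (Additive.toMul w : N).2 α h),
       fun x => by
         obtain ⟨n, hn, hnx⟩ := trN α x
         exact ⟨Additive.ofMul (⟨n, hn⟩ : N), hnx⟩⟩
  rw [hcardΩ]
  apply Cfsg.Agent.Helper18.field_card
    {e | ∃ k ∈ K, e = f ((k : MulAction.stabilizer G α) : G)}
    ?_ ?_ (f c₀) (f c₀⁻¹) ?_ ?_ ?_ r hr ?_ (Additive.ofMul (⟨v₀, hv₀N⟩ : N)) ?_ ?_
    (Additive.ofMul (⟨w₀, hw₀N⟩ : N)) ?_ ?_
  · rintro x ⟨k, hk, rfl⟩ y ⟨k', hk', rfl⟩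
    rw [← map_mul, ← map_mul]
    congr 1
    exact congrArg (fun z : K => ((z : MulAction.stabilizer G α) : G)) (hKcomm ⟨k, hk⟩ ⟨k', hk'⟩)
  · intro v w hv hw
    have hvα : ((Additive.toMul v : N) : G) • α ≠ α :=
      fun h => hne0 v hv (reg _ (Additive.toMul v : N).2 α h)
    have hwα : ((Additive.toMul w : N) : G) • α ≠ α :=
      fun h => hne0 w hw (reg _ (Additive.toMul w : N).2 α h)
    obtain ⟨k₁, hk₁, hk₁β⟩ := hKc _ hvα
    obtain ⟨k₂, hk₂, hk₂β⟩ := hKc _ hwα
    refine ⟨f (((k₂ * k₁⁻¹ : MulAction.stabilizer G α)) : G),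
      ⟨k₂ * k₁⁻¹, K.mul_mem hk₂ (K.inv_mem hk₁), rfl⟩, ?_⟩
    apply hfapply
    have hkα : (((k₂ * k₁⁻¹ : MulAction.stabilizer G α)) : G) • α = α := (k₂ * k₁⁻¹).2
    rw [mul_smul, mul_smul, inv_smul_eq_iff.mpr hkα.symm, ← hk₁β, ← hk₂β]
    show ((k₂ : G) * (k₁ : G)⁻¹) • ((k₁ : G) • β) = (k₂ : G) • β
    rw [mul_smul, inv_smul_smul]
  · rw [← map_mul, mul_inv_cancel, map_one]
  · rw [← map_mul, inv_mul_cancel, map_one]
  · rintro s ⟨k, hk, rfl⟩
    refine ⟨⟨c₀, hc₀α⟩ * k * ⟨c₀, hc₀α⟩⁻¹, hKn.conj_mem k hk ⟨c₀, hc₀α⟩, ?_⟩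
    rw [← map_mul, ← map_mul]
    rfl
  · rw [← map_pow, hc₀r, map_one]
  · intro h
    exact hv₀1 (congrArg (fun v : Additive N => ((Additive.toMul v : N) : G)) h)
  · intro v
    constructor
    · intro hv
      have h1 : c₀ * ((Additive.toMul v : N) : G) * c₀⁻¹ = ((Additive.toMul v : N) : G) := by
        rw [← hf, hv]
      have h2 : c₀ • (((Additive.toMul v : N) : G) • α) = ((Additive.toMul v : N) : G) • α :=
        hcf c₀ _ (mul_inv_eq_iff_eq_mul.mp h1) α hc₀α
      by_cases hα : ((Additive.toMul v : N) : G) • α = α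
      · left
        exact hext v 0 (reg _ (Additive.toMul v : N).2 α hα)
      · by_cases hβ : ((Additive.toMul v : N) : G) • α = β
        · right
          exact hext v _ (reg2 _ (Additive.toMul v : N).2 _ hv₀N α (hβ.trans hv₀.symm))
        · exact absurd (h3 c₀ α β _ hαβ (Ne.symm hβ) (Ne.symm hα) hc₀α hc₀β h2) hc₀1
    · rintro (rfl | rfl)
      · exact map_zero _
      · apply hext
        rw [hf]
        exact hcv c₀ hc₀α hc₀β
  · intro h
    have h' : w₀ = 1 := congrArg (fun v : Additive N => ((Additive.toMul v : N) : G)) h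
    rw [h', one_smul] at hw₀
    exact hγα hw₀.symm
  · intro h
    have h' : w₀ = v₀ := congrArg (fun v : Additive N => ((Additive.toMul v : N) : G)) h
    rw [h', hv₀] at hw₀
    exact hγβ hw₀.symm

end Cfsg.Agent.S0341
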