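import Cfsg.Statements.S0505
import Mathlib
import Cfsg.Agent.S2922
import Cfsg.Agent.S0017
set_option autoImplicit false
open Cfsg
namespace Cfsg.Agent.S0505

/-- The normalizer of the subgroup generated by an involution is its centralizer. -/
theorem normalizer_zpowers_involution {G : Type*} [Group G] (z : G) (hz : orderOf z = 2) :
    Subgroup.normalizer ((Subgroup.zpowers z : Subgroup G) : Set G) =
      Subgroup.centralizer ({z} : Set G) := by
  have hz1 : z ≠ 1 := by
    intro h
    rw [h, orderOf_one] at hz
    omega
  apply le_antisymm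
  · intro g hg
    rw [Subgroup.mem_centralizer_iff]
    intro y hy
    rw [Set.mem_singleton_iff] at hy
    subst hy
    have h1 : g * y * g⁻¹ ∈ Subgroup.zpowers y :=
      (Subgroup.mem_normalizer_iff.mp hg y).mp (Subgroup.mem_zpowers y)
    obtain ⟨i, hi⟩ := Subgroup.mem_zpowers_iff.mp h1
    have h2 : y ^ i = y ^ (i % 2) := by
      have := zpow_mod_orderOf y i
      rw [hz] at this
      exact_mod_cast this.symm
    have h3 : i % 2 = 0 ∨ i % 2 = 1 := by omega
    rcases h3 with h3 | h3
    · exfalso
      rw [h2, h3, zpow_zero] at hi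
      apply hz1
      have : g * y * g⁻¹ = 1 := hi.symm
      have h4 : y = g⁻¹ * (g * y * g⁻¹) * g := by group
      rw [h4, this]; group
    · rw [h2, h3, zpow_one] at hi
      have : g * y * g⁻¹ = y := hi.symm
      calc y * g = (g * y * g⁻¹) * g := by rw [this]
        _ = g * y := by group
  · intro g hg
    have hgz : g * z = z * g := ((Subgroup.mem_centralizer_iff.mp hg) z rfl).symm
    have hcomm : ∀ h ∈ Subgroup.zpowers z, g * h * g⁻¹ = h := by
      intro h hh
      obtain ⟨i, rfl⟩ := Subgroup.mem_zpowers_iff.mp hh
      have : Commute g (z ^ i) := Commute.zpow_right (show Commute g z from hgz) i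
      rw [this.eq]; group
    rw [Subgroup.mem_normalizer_iff]
    intro h
    constructor
    · intro hh
      rw [hcomm h hh]; exact hh
    · intro hh
      have := hcomm _ hh
      have h7 : g * h * g⁻¹ = h := by
        have h8 := congrArg (fun w => g⁻¹ * w * g) this
        simpa [mul_assoc] using h8
      rw [h7] at hh
      exact hh

/-- Let G be a finite group of even order in which the centralizer of every involution is solvable and has trivial
core (no nontrivial normal subgroup of odd order). Then G is of characteristic 2 type. -/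
theorem result {G : Type*} [Group G] [Finite G]
    (h2 : Even (Nat.card G))
    (hs : ∀ t : G, orderOf t = 2 → Group.IsSolvable (Subgroup.centralizer ({t} : Set G)))
    (hc : ∀ t : G, orderOf t = 2 → Cfsg.oddCore (Subgroup.centralizer ({t} : Set G)) = ⊥) :
    Cfsg.IsCharacteristicTwoType G := by
  refine ⟨h2, ?_⟩
  intro T hT hTne
  haveI : Fact (Nat.Prime 2) := ⟨Nat.prime_two⟩
  haveI : Nontrivial T := (Subgroup.nontrivial_iff_ne_bot T).mpr hTne
  have hcn : Nontrivial (Subgroup.center T) := hT.center_nontrivial
  have hcp : IsPGroup 2 (Subgroup.center T) := hT.to_subgroup _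
  obtain ⟨k, hk⟩ := IsPGroup.iff_card.mp hcp
  have hk1 : k ≠ 0 := by
    intro h0
    rw [h0, pow_zero] at hk
    have := (Nat.card_eq_one_iff_unique.mp hk).1
    exact not_subsingleton (Subgroup.center T) this
  have hdvd : 2 ∣ Nat.card (Subgroup.center T) := by
    rw [hk]; exact dvd_pow_self 2 hk1
  obtain ⟨x, hx⟩ := exists_prime_orderOf_dvd_card' 2 hdvd
  set z : G := ((x : T) : G) with hzdef
  have hz : orderOf z = 2 := by
    rw [hzdef, Subgroup.orderOf_coe, Subgroup.orderOf_coe]; exact hx
  have hzT : z ∈ T := (x : T).2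
  have hzcent : z ∈ Subgroup.centralizer (T : Set G) := by
    rw [Subgroup.mem_centralizer_iff]
    intro t ht
    have := (Subgroup.mem_center_iff.mp x.2) ⟨t, ht⟩
    exact congrArg Subtype.val this
  have hCT : Subgroup.zpowers z ≤ T := (Subgroup.zpowers_le).mpr hzT
  have hCn : ((Subgroup.zpowers z).subgroupOf T).Normal := by
    rw [Subgroup.normal_subgroupOf_iff_le_normalizer hCT]
    refine le_trans ?_ (Subgroup.centralizer_le_normalizer _)
    rw [Subgroup.le_centralizer_iff]
    exact (Subgroup.zpowers_le).mpr hzcent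
  have hCz : Subgroup.centralizer ((Cfsg.pCore 2 ↥(Subgroup.centralizer ({z} : Set G)) :
      Subgroup ↥(Subgroup.centralizer ({z} : Set G))) : Set ↥(Subgroup.centralizer ({z} : Set G)))
      ≤ Cfsg.pCore 2 ↥(Subgroup.centralizer ({z} : Set G)) := by
    haveI := hs z hz
    exact Cfsg.Agent.S0017.result 2 (hc z hz)
  have hF := Cfsg.Agent.S2922.gfitting_eq_pCore_of_charP hCz
  have htrans : ∀ K : Subgroup G, K = Subgroup.centralizer ({z} : Set G) →
      Cfsg.generalizedFittingSubgroup ↥K = Cfsg.pCore 2 ↥K := by
    rintro K rfl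
    exact hF
  have hC := htrans _ (normalizer_zpowers_involution z hz)
  have hres := (Cfsg.Agent.S2922.result T (Subgroup.zpowers z) hT hCT hCn hC).1
  exact Cfsg.Agent.S2922.charP_of_gfitting_eq_pCore hres

end Cfsg.Agent.S0505
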