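import Cfsg.Statements.S0521
import Mathlib
import Cfsg.Agent.Helper5.PStabSolv
import Cfsg.Agent.S0625
import Cfsg.Agent.S4218
import Cfsg.Agent.Helper13.PPrime2
import Cfsg.Agent.Helper16.CharP

set_option autoImplicit false
open Cfsg

namespace Cfsg.Agent.S0521

open scoped commutatorElement

/-- conjugation by powers -/
theorem conj_pow_of_conj {G : Type*} [Group G] (u b : G) (j : ℕ) (h : u * b * u⁻¹ = b ^ j)
    (k : ℕ) : u ^ k * b * (u ^ k)⁻¹ = b ^ (j ^ k) := by
  induction k with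
  | zero => simp
  | succ k ih =>
    have e : u ^ (k + 1) * b * (u ^ (k + 1))⁻¹ = u * (u ^ k * b * (u ^ k)⁻¹) * u⁻¹ := by
      rw [pow_succ']; group
    rw [e, ih]
    have e2 : u * b ^ (j ^ k) * u⁻¹ = (u * b * u⁻¹) ^ (j ^ k) := (conj_pow).symm
    rw [e2, h, ← pow_mul, ← pow_succ']

/-- a `p`-element normalizing a cyclic `p`-group acts on it through a power congruent to one
modulo `p` -/
theorem cyclic_key {G : Type*} [Group G] [Finite G] {p : ℕ} [Fact p.Prime] (b u : G)
    (hb : ∃ e : ℕ, orderOf b = p ^ e) (hu : ∃ m : ℕ, u ^ p ^ m = 1)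
    (hn : u * b * u⁻¹ ∈ Subgroup.zpowers b) :
    ∀ a ∈ Subgroup.zpowers b, ∃ l : ℕ, u * a * u⁻¹ = (a ^ p) ^ l * a := by
  have hp : p.Prime := Fact.out
  intro a ha
  obtain ⟨i, rfl⟩ := Subgroup.mem_zpowers_iff.mp ha
  by_cases hb1 : b = 1
  · refine ⟨0, ?_⟩
    rw [hb1]; simp
  have hn' : u * b * u⁻¹ ∈ Submonoid.powers b :=
    (mem_powers_iff_mem_zpowers).mpr hn
  obtain ⟨j, hj⟩ := hn'
  have hj' : u * b * u⁻¹ = b ^ j := hj.symm
  obtain ⟨m, hm⟩ := hu
  obtain ⟨e, he⟩ := hb
  have he0 : e ≠ 0 := by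
    intro h0
    rw [h0, pow_zero, orderOf_eq_one_iff] at he
    exact hb1 he
  have hpdvd : p ∣ orderOf b := by rw [he]; exact dvd_pow_self p he0
  have h1 := conj_pow_of_conj u b j hj' (p ^ m)
  rw [hm, one_mul, inv_one, mul_one] at h1
  have h2 : b ^ (j ^ p ^ m) = b ^ 1 := by rw [pow_one]; exact h1.symm
  have h3 : j ^ p ^ m ≡ 1 [MOD orderOf b] := pow_eq_pow_iff_modEq.mp h2
  have h4 : j ^ p ^ m ≡ 1 [MOD p] := Nat.ModEq.of_dvd hpdvd h3
  have h5 : ((j : ZMod p)) = 1 := by
    have := (ZMod.natCast_eq_natCast_iff _ _ _).mpr h4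
    rw [Nat.cast_pow, ZMod.pow_card_pow, Nat.cast_one] at this
    exact this
  have h6 : j ≡ 1 [MOD p] := by
    apply (ZMod.natCast_eq_natCast_iff _ _ _).mp
    rw [h5, Nat.cast_one]
  have h7 : j % p = 1 := by
    have : j % p = 1 % p := h6
    rw [this]; exact Nat.mod_eq_of_lt hp.one_lt
  have h8 : j = p * (j / p) + 1 := by
    have := Nat.div_add_mod j p
    omega
  refine ⟨j / p, ?_⟩
  have h9 : u * b ^ i * u⁻¹ = (b ^ i) ^ j := by
    rw [← conj_zpow, hj', ← zpow_natCast, ← zpow_natCast, ← zpow_mul, ← zpow_mul, mul_comm]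
  rw [h9]
  nth_rewrite 1 [h8]
  rw [pow_succ, pow_mul]

/-- Let X be a finite solvable group of odd order, p a prime and S a Sylow p-subgroup of X whose commutator subgroup is
cyclic. Then the product of the largest normal subgroup of X of order prime to p with S is a normal subgroup of X. -/
theorem result {X : Type*} [Group X] [Finite X] [Group.IsSolvable X]
    (hX : Odd (Nat.card X)) (p : ℕ) [Fact p.Prime] (S : Sylow p X) (hS : IsCyclic (commutator (S : Subgroup X))) :
    (Cfsg.pPrimeCore p X ⊔ (S : Subgroup X)).Normal := by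
  have hp : p.Prime := Fact.out
  by_cases hp2 : p = 2
  · have htop : Cfsg.pPrimeCore p X = ⊤ := by
      apply top_le_iff.mp
      apply le_sSup
      refine ⟨inferInstance, ?_⟩
      rw [Subgroup.card_top, hp2]
      exact (Nat.coprime_two_right).mpr hX
    rw [htop, top_sup_eq]
    infer_instance
  set K := Cfsg.pPrimeCore p X with hK
  set π := QuotientGroup.mk' K with hπ
  have hπs : Function.Surjective π := QuotientGroup.mk'_surjective K
  have hKbot : Cfsg.pPrimeCore p (X ⧸ K) = ⊥ := Cfsg.Agent.Helper10.pPrimeCore_quotient p X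
  have hYsolv : Cfsg.IsPSolvable p (X ⧸ K) := Cfsg.Agent.Helper5.isPSolvable_of_isSolvable p
  set R := Cfsg.pCore p (X ⧸ K) with hR
  have hRp : IsPGroup p R := Cfsg.Agent.S0010.pCore_isPGroup p
  have hcent := Cfsg.Agent.Helper13.centralizer_pCore_le_of_isPSolvable hYsolv hKbot
  obtain ⟨Φ, hΦ⟩ : ∃ Φ : Subgroup (X ⧸ K), Φ = (frattini R).map R.subtype := ⟨_, rfl⟩
  have hΦn : Φ.Normal := by rw [hΦ]; infer_instance
  have hoddY : Odd (Nat.card (X ⧸ K)) :=
    Odd.of_dvd_nat hX (Subgroup.card_quotient_dvd_card K)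
  have hoddYΦ : Odd (Nat.card ((X ⧸ K) ⧸ Φ)) :=
    Odd.of_dvd_nat hoddY (Subgroup.card_quotient_dvd_card Φ)
  have hsec : Cfsg.IsPStableOnSection p R Φ :=
    Cfsg.Agent.S0625.section_stable R Φ hRp
      (fun V _ hV => Cfsg.Agent.Helper5.pstable_odd hoddYΦ hp2 V hV)
  -- the image of `S`
  set T := (S : Subgroup X).map π with hT
  have hTp : IsPGroup p T := S.2.map π
  have hRT : R ≤ T := by
    have h1 : Cfsg.pPrimePCore p X ≤ (S : Subgroup X) ⊔ K :=
      Cfsg.Agent.Helper13.pPrimePCore_le_sylow_sup S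
    have h2 : R = (Cfsg.pPrimePCore p X).map π :=
      (Subgroup.map_comap_eq_self_of_surjective hπs R).symm
    rw [h2]
    calc (Cfsg.pPrimePCore p X).map π ≤ ((S : Subgroup X) ⊔ K).map π := Subgroup.map_mono h1
      _ = T ⊔ K.map π := Subgroup.map_sup _ _ _
      _ = T := by
        rw [(Subgroup.map_eq_bot_iff K).mpr (by rw [hπ, QuotientGroup.ker_mk']), sup_bot_eq]
  -- the cyclic commutator subgroup
  obtain ⟨g0, hg0⟩ := hS.exists_generator
  set b : X ⧸ K := π ((g0 : (S : Subgroup X)) : X) with hb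
  have hBle : ⁅T, T⁆ ≤ Subgroup.zpowers b := by
    have h1 : ⁅T, T⁆ = (⁅(S : Subgroup X), (S : Subgroup X)⁆).map π := by
      rw [hT, Subgroup.map_commutator]
    have h2 : ⁅(S : Subgroup X), (S : Subgroup X)⁆ =
        (commutator (S : Subgroup X)).map (S : Subgroup X).subtype := by
      rw [commutator_def, Subgroup.map_commutator, ← MonoidHom.range_eq_map, Subgroup.range_subtype]
    rw [h1, h2]
    rintro _ ⟨_, ⟨s', hs', rfl⟩, rfl⟩
    obtain ⟨i, hi⟩ := Subgroup.mem_zpowers_iff.mp (hg0 ⟨s', hs'⟩)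
    rw [Subgroup.mem_zpowers_iff]
    refine ⟨i, ?_⟩
    have hi' : ((g0 : (S : Subgroup X)) : X) ^ i = (s' : X) := by
      have := congrArg (fun z : commutator (S : Subgroup X) => ((z : (S : Subgroup X)) : X)) hi
      simpa using this
    rw [hb, ← map_zpow, hi']
    rfl
  have hbB : b ∈ ⁅T, T⁆ := by
    have h1 : ((g0 : (S : Subgroup X)) : X) ∈ ⁅(S : Subgroup X), (S : Subgroup X)⁆ := by
      have h2 : ⁅(S : Subgroup X), (S : Subgroup X)⁆ =
          (commutator (S : Subgroup X)).map (S : Subgroup X).subtype := by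
        rw [commutator_def, Subgroup.map_commutator, ← MonoidHom.range_eq_map,
          Subgroup.range_subtype]
      rw [h2]
      exact Subgroup.mem_map_of_mem _ g0.2
    have h3 : ⁅T, T⁆ = (⁅(S : Subgroup X), (S : Subgroup X)⁆).map π := by
      rw [hT, Subgroup.map_commutator]
    rw [h3]
    exact Subgroup.mem_map_of_mem _ h1
  have hbT : b ∈ T := Subgroup.mem_map_of_mem π (g0 : (S : Subgroup X)).2
  have hbord : ∃ e : ℕ, orderOf b = p ^ e := by
    obtain ⟨k, hk⟩ := hTp ⟨b, hbT⟩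
    have hk' : b ^ p ^ k = 1 := by
      have := congrArg Subtype.val hk
      simpa using this
    obtain ⟨e, -, he⟩ := (Nat.dvd_prime_pow hp).mp (orderOf_dvd_of_pow_eq_one hk')
    exact ⟨e, he⟩
  have hSR : ∀ t ∈ (S : Subgroup X), π t ∈ R := by
    intro t ht
    have htT : π t ∈ T := Subgroup.mem_map_of_mem _ ht
    have hquad : ⁅⁅R, Subgroup.zpowers (π t)⁆, Subgroup.zpowers (π t)⁆ ≤ Φ := by
      rw [Subgroup.commutator_le]
      intro a ha u hu
      have haR : a ∈ R := (Subgroup.commutator_le_left R _) ha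
      have huT : u ∈ T := (Subgroup.zpowers_le.mpr htT) hu
      have haB : a ∈ Subgroup.zpowers b :=
        hBle ((Subgroup.commutator_mono hRT (Subgroup.zpowers_le.mpr htT)) ha)
      have hu' : ∃ m : ℕ, u ^ p ^ m = 1 := by
        obtain ⟨k, hk⟩ := hTp ⟨u, huT⟩
        refine ⟨k, ?_⟩
        have := congrArg Subtype.val hk
        simpa using this
      have hn : u * b * u⁻¹ ∈ Subgroup.zpowers b := by
        apply hBle
        have h1 : ⁅u, b⁆ ∈ ⁅T, T⁆ := Subgroup.commutator_mem_commutator huT hbT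
        have h2 : u * b * u⁻¹ = ⁅u, b⁆ * b := by
          rw [commutatorElement_def]; group
        rw [h2]
        exact Subgroup.mul_mem _ h1 hbB
      obtain ⟨l, hl⟩ := cyclic_key b u hbord hu' hn a haB
      have hap : a ^ p ∈ Φ := by
        have h1 := (Cfsg.Agent.S4208.frattini_quot_props hRp).2 ⟨a, haR⟩
        rw [hΦ]
        have h2 := Subgroup.mem_map_of_mem R.subtype h1
        simpa using h2
      have e : ⁅a, u⁆ = ((a ^ p) ^ l)⁻¹ := by
        have h1 : ⁅a, u⁆ = a * (u * a * u⁻¹)⁻¹ := by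
          rw [commutatorElement_def]; group
        rw [h1, hl, mul_inv_rev, mul_inv_cancel_left]
      rw [e]
      exact Φ.inv_mem (Φ.pow_mem hap l)
    obtain ⟨D, hDn, hCD, ⟨k, hk⟩, htD⟩ := hsec (π t) hquad
    have hker : Cfsg.sectionKernel R Φ ≤ R := by
      intro c hc
      apply Cfsg.Agent.S4218.core R hRp hcent
        (fun N hN hNp => Cfsg.Agent.Helper16.le_pCore hN hNp) c
      intro x hx
      rw [← hΦ]
      have hc' : QuotientGroup.mk' Φ c ∈
          Subgroup.centralizer ((R.map (QuotientGroup.mk' Φ) : Subgroup ((X ⧸ K) ⧸ Φ)) :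
            Set ((X ⧸ K) ⧸ Φ)) := hc
      rw [Subgroup.mem_centralizer_iff] at hc'
      have h1 := hc' _ (Subgroup.mem_map_of_mem (QuotientGroup.mk' Φ) hx)
      apply (QuotientGroup.eq_one_iff _).mp
      show QuotientGroup.mk' Φ (c * x * c⁻¹ * x⁻¹) = 1
      rw [map_mul, map_mul, map_mul, map_inv, map_inv, ← h1, mul_inv_cancel_right,
        mul_inv_cancel]
    have hDp : IsPGroup p D := by
      have hCp : IsPGroup p (Cfsg.sectionKernel R Φ) := hRp.to_le hker
      obtain ⟨i, hi⟩ := IsPGroup.iff_card.mp hCp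
      have h1 := Subgroup.relIndex_mul_relIndex ⊥ (Cfsg.sectionKernel R Φ) D bot_le hCD
      rw [Subgroup.relIndex_bot_left, Subgroup.relIndex_bot_left, hi, hk, ← pow_add] at h1
      exact IsPGroup.of_card h1.symm
    exact (Cfsg.Agent.Helper16.le_pCore hDn hDp) htD
  have hSM : (S : Subgroup X) ≤ Cfsg.pPrimePCore p X := fun t ht => hSR t ht
  have hM := Cfsg.Agent.Helper13.pPrimePCore_le_sylow_sup S
  have hKM := Cfsg.Agent.Helper10.pPrimeCore_le_pPrimePCore p X
  have heq : K ⊔ (S : Subgroup X) = Cfsg.pPrimePCore p X :=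
    le_antisymm (sup_le hKM hSM) (by rw [sup_comm]; exact hM)
  rw [heq]
  exact Cfsg.Agent.Helper10.pPrimePCore_normal p X

end Cfsg.Agent.S0521
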