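import Cfsg.Statements.S0536
import Mathlib
import Cfsg.Agent.Helper21.Frobenius
import Cfsg.Agent.S2922
import Cfsg.Agent.S0551
set_option autoImplicit false
open Cfsg
namespace Cfsg.Agent.S0536

universe u

/-- If the Frobenius hypothesis holds for all primes then the group is nilpotent. -/
theorem nilpotent_of_frobHyp {G : Type u} [Group G] [Finite G]
    (h : ∀ p : ℕ, p.Prime → Cfsg.Agent.Helper21.FrobHyp p G) : Group.IsNilpotent G := by
  apply (Group.isNilpotent_of_finite_tfae.out 0 3 rfl rfl).mpr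
  intro q hq Q
  -- normal q'-... for each prime p ≠ q a normal subgroup X p
  have hX : ∀ p : {p : ℕ // p.Prime ∧ p ≠ q}, ∃ X : Subgroup G, X.Normal ∧ (Nat.card X).Coprime p ∧
      ∀ y : G, (orderOf y).Coprime p → y ∈ X := by
    intro p
    haveI : Fact (p : ℕ).Prime := ⟨p.2.1⟩
    exact Cfsg.Agent.Helper21.frob_exists_normal (p := (p : ℕ)) _ G rfl (h p p.2.1)
  choose X hXn hXc hXm using hX
  set L : Subgroup G := ⨅ p, X p with hL
  have hLn : L.Normal := by
    haveI : ∀ p, (X p).Normal := hXn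
    exact Subgroup.normal_iInf_normal (fun p => hXn p)
  have hQL : (Q : Subgroup G) ≤ L := by
    rw [hL]
    apply le_iInf
    intro p y hy
    apply hXm p
    obtain ⟨k, hk⟩ := (IsPGroup.iff_orderOf.mp Q.isPGroup') ⟨y, hy⟩
    have hk' : orderOf y = q ^ k := by rw [← hk, Subgroup.orderOf_mk]
    rw [hk']
    apply Nat.Coprime.pow_left
    exact (Nat.coprime_primes hq.out p.2.1).mpr (fun e => p.2.2 e.symm)
  have hLq : IsPGroup q L := by
    rw [IsPGroup.iff_orderOf]
    intro x
    have hpos : orderOf x ≠ 0 := (orderOf_pos x).ne'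
    refine ⟨(orderOf x).primeFactorsList.length, ?_⟩
    apply Nat.eq_prime_pow_of_unique_prime_dvd hpos
    intro d hd hdx
    by_contra hdq
    have hxX : (x : G) ∈ X ⟨d, hd, hdq⟩ := by
      have hxL : (x : G) ∈ ⨅ p, X p := x.2
      exact (Subgroup.mem_iInf.mp hxL) ⟨d, hd, hdq⟩
    have h1 : orderOf (x : G) ∣ Nat.card (X ⟨d, hd, hdq⟩) := Subgroup.orderOf_dvd_natCard _ hxX
    have h2 : d ∣ Nat.card (X ⟨d, hd, hdq⟩) := by
      rw [Subgroup.orderOf_coe] at h1
      exact dvd_trans hdx h1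
    have h3 := hXc ⟨d, hd, hdq⟩
    have := Nat.Coprime.eq_one_of_dvd h3.symm h2
    exact hd.one_lt.ne' this
  have hEq : L = (Q : Subgroup G) := Q.is_maximal' hLq hQL
  rw [← hEq]
  exact hLn

/-- From a failure of the Frobenius hypothesis, extract an element of prime power order. -/
theorem exists_prime_power_elt {G : Type u} [Group G] [Finite G] (p : ℕ) (hp : p.Prime)
    (U : Subgroup G) (g : G) (hg : g ∈ Subgroup.normalizer (U : Set G))
    (hcop : (orderOf g).Coprime p) (hgC : g ∉ Subgroup.centralizer (U : Set G)) :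
    ∃ (q : ℕ) (k : ℕ) (y : G), q.Prime ∧ q ≠ p ∧ orderOf y = q ^ k ∧
      y ∈ Subgroup.normalizer (U : Set G) ∧ y ∉ Subgroup.centralizer (U : Set G) := by
  classical
  have hex : ∃ m : ℕ, ∃ g : G, orderOf g = m ∧ g ∈ Subgroup.normalizer (U : Set G) ∧
      (orderOf g).Coprime p ∧ g ∉ Subgroup.centralizer (U : Set G) := ⟨_, g, rfl, hg, hcop, hgC⟩
  obtain ⟨y, hym, hyN, hycop, hyC⟩ := Nat.find_spec hex
  have hmin := fun m' (hm' : m' < Nat.find hex) => Nat.find_min hex hm'
  set m := Nat.find hex with hm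
  have hm1 : m ≠ 1 := by
    intro h1
    rw [h1] at hym
    have : y = 1 := orderOf_eq_one_iff.mp hym
    exact hyC (this ▸ Subgroup.one_mem _)
  have hm0 : m ≠ 0 := by rw [← hym]; exact (orderOf_pos y).ne'
  set q := m.minFac with hq
  have hqp : q.Prime := Nat.minFac_prime hm1
  have hqm : q ∣ m := Nat.minFac_dvd m
  have hqnep : q ≠ p := by
    intro e
    have : p ∣ orderOf y := by rw [hym, ← e]; exact hqm
    have := Nat.Coprime.eq_one_of_dvd hycop.symm this
    exact hp.one_lt.ne' this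
  set a := q ^ (m.factorization q) with ha
  set b := m / a with hb
  have hab : a * b = m := Nat.mul_div_cancel' (Nat.ordProj_dvd m q)
  have hcopab : Nat.Coprime a b := by
    apply Nat.Coprime.pow_left
    exact Nat.coprime_ordCompl hqp hm0
  by_cases hb1 : b = 1
  · refine ⟨q, m.factorization q, y, hqp, hqnep, ?_, hyN, hyC⟩
    have hma : m = a := by rw [← hab, hb1, mul_one]
    exact hym.trans hma
  exfalso
  have ha1 : a ≠ 1 := by
    intro h
    have : 0 < m.factorization q := hqp.factorization_pos_of_dvd hm0 hqm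
    have h2 : q ^ (m.factorization q) = 1 := h
    have := Nat.one_lt_pow this.ne' hqp.one_lt
    omega
  have hapos : 0 < a := pos_of_ne_zero (fun h => by rw [h, zero_mul] at hab; exact hm0 hab.symm)
  have hbpos : 0 < b := pos_of_ne_zero (fun h => by rw [h, mul_zero] at hab; exact hm0 hab.symm)
  have halt : a < m := by
    have : 2 ≤ b := by omega
    nlinarith
  have hblt : b < m := by
    have : 2 ≤ a := by omega
    nlinarith
  -- orders of the powers
  have hoa : orderOf (y ^ a) = b := by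
    rw [orderOf_pow' y hapos.ne', hym, ← hab, Nat.gcd_eq_right (dvd_mul_right a b)]
    exact Nat.mul_div_cancel_left b hapos
  have hob : orderOf (y ^ b) = a := by
    rw [orderOf_pow' y hbpos.ne', hym, ← hab, Nat.gcd_eq_right (dvd_mul_left b a)]
    exact Nat.mul_div_cancel a hbpos
  have hcop_dvd : ∀ d : ℕ, d ∣ m → d.Coprime p := by
    intro d hd
    exact Nat.Coprime.coprime_dvd_left (hym ▸ hd) hycop
  have hya : y ^ a ∈ Subgroup.centralizer (U : Set G) := by
    by_contra hcon
    exact hmin b hblt ⟨y ^ a, hoa, Subgroup.pow_mem _ hyN a, by rw [hoa]; exact hcop_dvd b ⟨a, by rw [← hab]; ring⟩, hcon⟩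
  have hyb : y ^ b ∈ Subgroup.centralizer (U : Set G) := by
    by_contra hcon
    exact hmin a halt ⟨y ^ b, hob, Subgroup.pow_mem _ hyN b, by rw [hob]; exact hcop_dvd a ⟨b, hab.symm⟩, hcon⟩
  apply hyC
  have hbez : (a : ℤ) * Nat.gcdA a b + b * Nat.gcdB a b = 1 := by
    have := Nat.gcd_eq_gcd_ab a b
    rw [hcopab] at this
    exact_mod_cast this.symm
  have hy : y = (y ^ a) ^ (Nat.gcdA a b) * (y ^ b) ^ (Nat.gcdB a b) := by
    rw [← zpow_natCast y a, ← zpow_natCast y b, ← zpow_mul, ← zpow_mul, ← zpow_add, hbez, zpow_one]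
  rw [hy]
  exact Subgroup.mul_mem _ (Subgroup.zpow_mem _ hya _) (Subgroup.zpow_mem _ hyb _)

/-- Structure of minimal non-nilpotent groups: if a finite group is not nilpotent but all its proper subgroups are, then there are distinct primes p and q, a cyclic Sylow p-subgroup P and a normal Sylow q-subgroup Q with G generated by P and Q. -/
theorem result {G : Type*} [Group G] [Finite G] (hG : Cfsg.IsMinimalNonNilpotent G) : ∃ p q : ℕ, p.Prime ∧ q.Prime ∧ p ≠ q ∧ ∃ (P : Sylow p G) (Q : Sylow q G), IsCyclic P ∧ (Q : Subgroup G).Normal ∧ (P : Subgroup G) ⊔ Q = ⊤ := by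
  obtain ⟨hnn, hprop⟩ := hG
  have h1 : ¬ ∀ p : ℕ, p.Prime → Cfsg.Agent.Helper21.FrobHyp p G := fun h => hnn (nilpotent_of_frobHyp h)
  push Not at h1
  obtain ⟨p, hp, hF⟩ := h1
  unfold Cfsg.Agent.Helper21.FrobHyp at hF
  push Not at hF
  obtain ⟨U, hU, g, hg, hcop, hgC⟩ := hF
  obtain ⟨q, k, y, hq, hqp, hyo, hyN, hyC⟩ := exists_prime_power_elt p hp U g hg hcop hgC
  haveI : Fact p.Prime := ⟨hp⟩
  haveI : Fact q.Prime := ⟨hq⟩
  set Z := Subgroup.zpowers y with hZ
  have hUZ : U ⊔ Z = ⊤ := by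
    by_contra hne
    have hnil := hprop _ hne
    apply hyC
    rw [Subgroup.mem_centralizer_iff]
    intro u hu
    have hyH : y ∈ U ⊔ Z := (le_sup_right : Z ≤ U ⊔ Z) (Subgroup.mem_zpowers y)
    have := Cfsg.Agent.S2922.coprime_commute_of_nilpotent (U ⊔ Z) U hnil hU y hyH
      (fun u hu => (Subgroup.mem_normalizer_iff.mp hyN u).mp hu)
      (by rw [hyo]; exact Nat.Coprime.pow_left k ((Nat.coprime_primes hq hp).mpr hqp)) le_sup_left u hu
    exact this.symm
  have hUn : U.Normal := by
    rw [← Subgroup.normalizer_eq_top_iff, eq_top_iff, ← hUZ]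
    apply sup_le Subgroup.le_normalizer
    rw [hZ, Subgroup.zpowers_le]
    exact hyN
  have hZcard : Nat.card Z = q ^ k := by rw [hZ, Nat.card_zpowers, hyo]
  obtain ⟨a, hUcard⟩ := IsPGroup.iff_card.mp hU
  have hdisj : U ⊓ Z = ⊥ := by
    apply disjoint_iff.mp
    apply Subgroup.disjoint_of_coprime_natCard
    rw [hUcard, hZcard]
    exact Nat.Coprime.pow _ _ ((Nat.coprime_primes hp hq).mpr (fun e => hqp e.symm))
  have hcard : Nat.card G = q ^ k * p ^ a := by
    have := Cfsg.Agent.S0551.card_sup_of_disjoint U Z hdisj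
    rw [hUZ, Subgroup.card_top, hZcard, hUcard] at this
    exact this
  have hfq : (Nat.card G).factorization q = k := by
    rw [hcard, Nat.factorization_mul (pow_ne_zero _ hq.ne_zero) (pow_ne_zero _ hp.ne_zero),
      Nat.Prime.factorization_pow hq, Nat.Prime.factorization_pow hp]
    simp [Finsupp.single_apply, hqp, hqp.symm]
  have hfp : (Nat.card G).factorization p = a := by
    rw [hcard, Nat.factorization_mul (pow_ne_zero _ hq.ne_zero) (pow_ne_zero _ hp.ne_zero),
      Nat.Prime.factorization_pow hq, Nat.Prime.factorization_pow hp]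
    simp [Finsupp.single_apply, hqp, hqp.symm]
  refine ⟨q, p, hq, hp, hqp, Sylow.ofCard Z (by rw [hZcard, hfq]), Sylow.ofCard U (by rw [hUcard, hfp]), ?_, ?_, ?_⟩
  · show IsCyclic (Subgroup.zpowers y)
    infer_instance
  · exact hUn
  · show Z ⊔ U = ⊤
    rw [sup_comm]; exact hUZ

end Cfsg.Agent.S0536
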