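import Cfsg.Statements.S0537
import Mathlib
import Cfsg.Agent.S0536
import Cfsg.Agent.Helper18.CharP
set_option autoImplicit false
open Cfsg
open scoped Pointwise
namespace Cfsg.Agent.S0537

theorem nilpotent_of_isMulCommutative {H : Type*} [Group H] (h : IsMulCommutative H) :
    Group.IsNilpotent H := by
  letI : CommGroup H := { ‹Group H› with mul_comm := fun a b => h.is_comm.comm a b }
  infer_instance

/-- A nilpotent group all of whose Sylow subgroups are proper and abelian is abelian. -/
theorem comm_of_nilpotent {G : Type*} [Group G] [Finite G] (hnil : Group.IsNilpotent G)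
    (h : ∀ H : Subgroup G, H ≠ ⊤ → IsMulCommutative H)
    (hnp : ∀ p : ℕ, p.Prime → ¬ IsPGroup p G) : IsMulCommutative G := by
  obtain ⟨e⟩ := (Group.isNilpotent_of_finite_tfae.out 0 4 rfl rfl).mp hnil
  refine ⟨⟨fun x y => ?_⟩⟩
  have key : e.symm x * e.symm y = e.symm y * e.symm x := by
    funext p
    funext P
    have hp : (p : ℕ).Prime := Nat.prime_of_mem_primeFactors p.2
    have hP : (P : Subgroup G) ≠ ⊤ := by
      intro htop
      apply hnp p hp
      have := P.isPGroup'
      rw [htop] at this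
      exact IsPGroup.of_equiv this Subgroup.topEquiv
    have hc := h _ hP
    exact hc.is_comm.comm _ _
  have := congrArg e key
  simpa using this

/-- Coprime automorphism trick: in an abelian normal `q`-subgroup `Q`, if `y` of order prime to `q`
centralizes all elements of order dividing `q`, then `y` centralizes `Q`. -/
theorem centralizes_of_centralizes_omega {G : Type*} [Group G] {q : ℕ}
    (Q : Subgroup G) [Q.Normal] (hQc : ∀ a ∈ Q, ∀ b ∈ Q, a * b = b * a) (y : G)
    (hy : (orderOf y).Coprime q)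
    (hE : ∀ e ∈ Q, e ^ q = 1 → y * e = e * y) :
    ∀ n : ℕ, ∀ x ∈ Q, x ^ (q ^ n) = 1 → y * x = x * y := by
  intro n
  induction n with
  | zero =>
    intro x _ hx
    simp at hx
    rw [hx]; simp
  | succ n ih =>
    intro x hx hxn
    have hxq : x ^ q ∈ Q := Q.pow_mem hx q
    have h1 : y * x ^ q = x ^ q * y := ih (x ^ q) hxq (by rw [← pow_mul, ← pow_succ']; exact hxn)
    have hconj : y * x * y⁻¹ ∈ Q := Subgroup.Normal.conj_mem inferInstance x hx y
    obtain ⟨d, hd⟩ : ∃ d, d = x⁻¹ * (y * x * y⁻¹) := ⟨_, rfl⟩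
    have hdQ : d ∈ Q := by rw [hd]; exact Q.mul_mem (Q.inv_mem hx) hconj
    have hdq : d ^ q = 1 := by
      have hcomm : Commute x⁻¹ (y * x * y⁻¹) := hQc _ (Q.inv_mem hx) _ hconj
      rw [hd, hcomm.mul_pow]
      have h2 : (y * x * y⁻¹) ^ q = y * x ^ q * y⁻¹ := by
        rw [conj_pow]
      rw [h2, h1]
      group
    have hyd : y * d = d * y := hE d hdQ hdq
    have hconj' : y * x * y⁻¹ = x * d := by rw [hd]; group
    have hdp : ∃ j : ℕ, d ^ q ^ j = 1 := ⟨1, by rw [pow_one]; exact hdq⟩
    have hd1 := Cfsg.Agent.Helper18.eq_one_of_conj_eq_mul hy hyd hdp hconj'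
    rw [hd1, mul_one] at hconj'
    calc y * x = (y * x * y⁻¹) * y := by group
      _ = x * y := by rw [hconj']

/-- A finite non-abelian group in which every proper subgroup is abelian is either of prime-power order, or is generated by a cyclic Sylow p-subgroup and a normal Sylow q-subgroup that is elementary abelian, for distinct primes p and q. -/
theorem result {G : Type*} [Group G] [Finite G] (hna : ¬ IsMulCommutative G) (h : ∀ H : Subgroup G, H ≠ ⊤ → IsMulCommutative H) : (∃ p : ℕ, p.Prime ∧ IsPGroup p G) ∨ ∃ p q : ℕ, p.Prime ∧ q.Prime ∧ p ≠ q ∧ ∃ (P : Sylow p G) (Q : Sylow q G), IsCyclic P ∧ (Q : Subgroup G).Normal ∧ Cfsg.IsElementaryAbelian q (Q : Subgroup G) ∧ (P : Subgroup G) ⊔ Q = ⊤ := by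
  by_cases hnil : Group.IsNilpotent G
  · left
    by_contra hcon
    push Not at hcon
    exact hna (comm_of_nilpotent hnil h hcon)
  right
  have hmin : Cfsg.IsMinimalNonNilpotent G :=
    ⟨hnil, fun H hH => nilpotent_of_isMulCommutative (h H hH)⟩
  obtain ⟨p, q, hp, hq, hpq, P, Q, hPc, hQn, hPQ⟩ := Cfsg.Agent.S0536.result hmin
  refine ⟨p, q, hp, hq, hpq, P, Q, hPc, hQn, ?_, hPQ⟩
  haveI : Fact p.Prime := ⟨hp⟩
  haveI : Fact q.Prime := ⟨hq⟩
  haveI := hQn
  have hQtop : (Q : Subgroup G) ≠ ⊤ := by
    intro htop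
    apply hnil
    have := Q.isPGroup'
    rw [htop] at this
    exact (IsPGroup.of_equiv this Subgroup.topEquiv).isNilpotent
  have hQcomm : IsMulCommutative (Q : Subgroup G) := h _ hQtop
  have hQc : ∀ a ∈ (Q : Subgroup G), ∀ b ∈ (Q : Subgroup G), a * b = b * a := by
    intro a ha b hb
    have := hQcomm.is_comm.comm (⟨a, ha⟩ : (Q : Subgroup G)) ⟨b, hb⟩
    exact congrArg Subtype.val this
  refine ⟨hQcomm, ?_⟩
  by_contra hex
  push Not at hex
  obtain ⟨x₀, hx₀Q, hx₀⟩ := hex
  -- the subgroup E of elements of order dividing q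
  let E : Subgroup G :=
    { carrier := {x | x ∈ (Q : Subgroup G) ∧ x ^ q = 1}
      mul_mem' := by
        rintro a b ⟨ha, ha'⟩ ⟨hb, hb'⟩
        refine ⟨Subgroup.mul_mem _ ha hb, ?_⟩
        have hc : Commute a b := hQc a ha b hb
        rw [hc.mul_pow, ha', hb', one_mul]
      one_mem' := ⟨Subgroup.one_mem _, one_pow _⟩
      inv_mem' := by
        rintro a ⟨ha, ha'⟩
        exact ⟨Subgroup.inv_mem _ ha, by rw [inv_pow, ha', inv_one]⟩ }
  have hEQ : E ≤ (Q : Subgroup G) := fun x hx => hx.1
  have hEn : E.Normal := by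
    constructor
    intro x hx g
    refine ⟨hQn.conj_mem x hx.1 g, ?_⟩
    rw [conj_pow, hx.2]; group
  have hPQdisj : ∀ z, z ∈ (P : Subgroup G) → z ∈ (Q : Subgroup G) → z = 1 := by
    intro z hzP hzQ
    have hd : Disjoint (P : Subgroup G) (Q : Subgroup G) := by
      apply Subgroup.disjoint_of_coprime_natCard
      obtain ⟨a, ha⟩ := IsPGroup.iff_card.mp P.isPGroup'
      obtain ⟨b, hb⟩ := IsPGroup.iff_card.mp Q.isPGroup'
      rw [ha, hb]
      exact Nat.Coprime.pow _ _ ((Nat.coprime_primes hp hq).mpr hpq)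
    have : z ∈ (P : Subgroup G) ⊓ (Q : Subgroup G) := Subgroup.mem_inf.mpr ⟨hzP, hzQ⟩
    rw [disjoint_iff.mp hd] at this
    exact Subgroup.mem_bot.mp this
  have hEP : E ⊔ (P : Subgroup G) ≠ ⊤ := by
    intro htop
    apply hx₀
    have hx : x₀ ∈ ((E ⊔ (P : Subgroup G) : Subgroup G) : Set G) := by
      rw [htop]; exact Subgroup.mem_top x₀
    rw [Subgroup.normal_mul] at hx
    obtain ⟨e, he, z, hz, hez⟩ := hx
    have hez : e * z = x₀ := hez
    have hzQ : z ∈ (Q : Subgroup G) := by
      have : z = e⁻¹ * x₀ := by rw [← hez]; group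
      rw [this]
      exact Subgroup.mul_mem _ (Subgroup.inv_mem _ (hEQ he)) hx₀Q
    have hz1 : z = 1 := hPQdisj z hz hzQ
    have : x₀ = e := by rw [← hez, hz1, mul_one]
    rw [this]
    exact he.2
  have hEPc : IsMulCommutative (E ⊔ (P : Subgroup G) : Subgroup G) := h _ hEP
  have hcentE : ∀ y ∈ (P : Subgroup G), ∀ e ∈ (Q : Subgroup G), e ^ q = 1 → y * e = e * y := by
    intro y hy e he heq
    have heE : e ∈ E := ⟨he, heq⟩
    have := hEPc.is_comm.comm (⟨y, (le_sup_right : (P : Subgroup G) ≤ E ⊔ P) hy⟩ : (E ⊔ (P : Subgroup G) : Subgroup G))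
      ⟨e, (le_sup_left : E ≤ E ⊔ (P : Subgroup G)) heE⟩
    exact congrArg Subtype.val this
  have hcentQ : ∀ y ∈ (P : Subgroup G), ∀ x ∈ (Q : Subgroup G), y * x = x * y := by
    intro y hy x hx
    obtain ⟨a, ha⟩ := (IsPGroup.iff_orderOf.mp P.isPGroup') ⟨y, hy⟩
    have hyo : (orderOf y).Coprime q := by
      have : orderOf y = p ^ a := by rw [← ha, Subgroup.orderOf_mk]
      rw [this]
      exact Nat.Coprime.pow_left a ((Nat.coprime_primes hp hq).mpr hpq)
    obtain ⟨n, hn⟩ := Q.isPGroup' ⟨x, hx⟩
    have hxn : x ^ (q ^ n) = 1 := by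
      have := congrArg Subtype.val hn
      simpa using this
    exact centralizes_of_centralizes_omega (Q : Subgroup G) hQc y hyo (hcentE y hy) n x hx hxn
  -- G is commutative, contradiction
  apply hna
  have hPcomm : ∀ a ∈ (P : Subgroup G), ∀ b ∈ (P : Subgroup G), a * b = b * a := by
    intro a ha b hb
    have hPtop : (P : Subgroup G) ≠ ⊤ := by
      intro htop
      apply hnil
      have := P.isPGroup'
      rw [htop] at this
      exact (IsPGroup.of_equiv this Subgroup.topEquiv).isNilpotent
    have := (h _ hPtop).is_comm.comm (⟨a, ha⟩ : (P : Subgroup G)) ⟨b, hb⟩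
    exact congrArg Subtype.val this
  have hall : ∀ z : G, (z ∈ (P : Subgroup G) ∨ z ∈ (Q : Subgroup G)) → ∀ g : G, g * z = z * g := by
    intro z hz g
    have hg : g ∈ Subgroup.centralizer ({z} : Set G) := by
      have hle : (P : Subgroup G) ⊔ Q ≤ Subgroup.centralizer ({z} : Set G) := by
        apply sup_le
        · intro w hw
          rw [Subgroup.mem_centralizer_iff]
          intro z' hz'
          rw [Set.mem_singleton_iff] at hz'
          subst hz'
          rcases hz with hz | hz
          · exact hPcomm _ hz _ hw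
          · exact (hcentQ w hw _ hz).symm
        · intro w hw
          rw [Subgroup.mem_centralizer_iff]
          intro z' hz'
          rw [Set.mem_singleton_iff] at hz'
          subst hz'
          rcases hz with hz | hz
          · exact hcentQ _ hz w hw
          · exact hQc _ hz _ hw
      rw [hPQ] at hle
      exact hle (Subgroup.mem_top g)
    exact ((Subgroup.mem_centralizer_iff.mp hg) z rfl).symm
  refine ⟨⟨fun a b => ?_⟩⟩
  have hb : b ∈ Subgroup.centralizer ({a} : Set G) := by
    have hle : (P : Subgroup G) ⊔ Q ≤ Subgroup.centralizer ({a} : Set G) := by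
      apply sup_le
      · intro w hw
        rw [Subgroup.mem_centralizer_iff]
        intro z' hz'
        rw [Set.mem_singleton_iff] at hz'
        subst hz'
        exact hall w (Or.inl hw) z'
      · intro w hw
        rw [Subgroup.mem_centralizer_iff]
        intro z' hz'
        rw [Set.mem_singleton_iff] at hz'
        subst hz'
        exact hall w (Or.inr hw) z'
    rw [hPQ] at hle
    exact hle (Subgroup.mem_top b)
  exact (Subgroup.mem_centralizer_iff.mp hb) a rfl

end Cfsg.Agent.S0537
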