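import Cfsg.Statements.S0582
import Cfsg.Agent.S0529
import Cfsg.Agent.S0650
import Cfsg.Agent.Helper4.Supersolvable
import Cfsg.Agent.Lead.Coprime

set_option autoImplicit false
open Pointwise
open Cfsg

namespace Cfsg.Agent.S0582


universe u

/-- In a finite supersolvable group the Sylow subgroups for a prime at least as large as every
prime divisor of the order are normal. -/
theorem sylow_normal_of_supersolvable (p : ℕ) [Fact p.Prime] :
    ∀ (n : ℕ) (L : Type u) [Group L] [Finite L], Nat.card L = n →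
    Cfsg.IsSupersolvable L → (∀ q : ℕ, q.Prime → q ∣ Nat.card L → q ≤ p) →
    ∀ P : Sylow p L, (P : Subgroup L).Normal := by
  intro n
  induction n using Nat.strong_induction_on with
  | _ n ih =>
  intro L _ _ hcard hL hmax P
  have hp := (Fact.out : p.Prime)
  by_cases hpL : p ∣ Nat.card L
  swap
  · have hbot : (P : Subgroup L) = ⊥ := by
      have h1 := P.card_eq_multiplicity
      have h2 : (Nat.card L).factorization p = 0 := Nat.factorization_eq_zero_of_not_dvd hpL
      rw [h2, pow_zero] at h1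
      exact Subgroup.card_eq_one.mp h1
    rw [hbot]; infer_instance
  · have hnt : Nontrivial L := by
      rw [← Finite.one_lt_card_iff_nontrivial]
      exact lt_of_lt_of_le hp.one_lt (Nat.le_of_dvd Nat.card_pos hpL)
    obtain ⟨x, hxn, hxp, hxmax⟩ := S0529.exists_normal_largest _ L rfl hnt hL
    have hxo : orderOf x = p := by
      have h1 : p ≤ orderOf x := hxmax p hp hpL
      have h2 : orderOf x ≤ p := hmax _ hxp (orderOf_dvd_natCard x)
      omega
    obtain ⟨Z, hZ⟩ : ∃ Z : Subgroup L, Z = Subgroup.zpowers x := ⟨_, rfl⟩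
    have hZn : Z.Normal := by rw [hZ]; exact hxn
    have hZcard : Nat.card Z = p := by rw [hZ, Nat.card_zpowers, hxo]
    have hZp : IsPGroup p Z := IsPGroup.of_card (n := 1) (by rw [hZcard, pow_one])
    have hZP : Z ≤ P := by
      have h1 : IsPGroup p ((P : Subgroup L) ⊔ Z : Subgroup L) :=
        IsPGroup.to_sup_of_normal_right P.2 hZp
      have h2 := P.is_maximal' h1 le_sup_left
      exact le_sup_right.trans (le_of_eq h2)
    have hmul : Nat.card L = Nat.card (L ⧸ Z) * p := by
      rw [← hZcard]; exact Subgroup.card_eq_card_quotient_mul_card_subgroup _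
    have hlt : Nat.card (L ⧸ Z) < n := by
      rw [← hcard, hmul]
      have h2 := hp.two_le
      have hpos : 0 < Nat.card (L ⧸ Z) := Nat.card_pos
      nlinarith
    have hQ : Cfsg.IsSupersolvable (L ⧸ Z) := Helper4.isSupersolvable_quotient _ hL
    have hmaxQ : ∀ q : ℕ, q.Prime → q ∣ Nat.card (L ⧸ Z) → q ≤ p := fun q hq hqd =>
      hmax q hq (by rw [hmul]; exact Dvd.dvd.mul_right hqd p)
    have hsurj : Function.Surjective (QuotientGroup.mk' Z) := QuotientGroup.mk'_surjective Z
    have hnorm := ih _ hlt (L ⧸ Z) rfl hQ hmaxQ (P.mapSurjective hsurj)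
    rw [Sylow.coe_mapSurjective] at hnorm
    have h3 : ((P : Subgroup L).map (QuotientGroup.mk' Z)).comap (QuotientGroup.mk' Z) = P := by
      rw [Subgroup.comap_map_eq, QuotientGroup.ker_mk']
      exact sup_eq_left.mpr hZP
    rw [← h3]
    exact hnorm.comap _

/-- Step: two supersolvable Hall subgroups of the same order normalizing a common nontrivial
subgroup `B ≤ H ⊓ K` are conjugate, given the statement for smaller groups. -/
theorem step (n : ℕ) (ih : ∀ m < n, ∀ (G : Type u) [Group G] [Finite G], Nat.card G = m →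
      ∀ H K : Subgroup G, Cfsg.IsSupersolvable H → Cfsg.IsSupersolvable K →
      Nat.card H = Nat.card K → (Nat.card H).Coprime H.index → ∃ x : G, MulAut.conj x • H = K)
    (G : Type u) [Group G] [Finite G] (hcard : Nat.card G = n) (H K B : Subgroup G)
    (hH : Cfsg.IsSupersolvable H) (hK : Cfsg.IsSupersolvable K) (hHK : Nat.card H = Nat.card K)
    (hHall : (Nat.card H).Coprime H.index) (hBH : B ≤ H) (hBK : B ≤ K) (hB : B ≠ ⊥)
    (hHN : H ≤ Subgroup.normalizer (B : Set G)) (hKN : K ≤ Subgroup.normalizer (B : Set G)) :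
    ∃ x : G, MulAut.conj x • H = K := by
  obtain ⟨N, hN⟩ : ∃ N, N = Subgroup.normalizer (B : Set G) := ⟨_, rfl⟩
  rw [← hN] at hHN hKN
  have hBN : B ≤ N := hBH.trans hHN
  haveI hBn : (B.subgroupOf N).Normal := by rw [hN]; infer_instance
  obtain ⟨π, hπ⟩ : ∃ π : ↥N →* ↥N ⧸ B.subgroupOf N, π = QuotientGroup.mk' (B.subgroupOf N) :=
    ⟨_, rfl⟩
  have hπs : Function.Surjective π := by rw [hπ]; exact QuotientGroup.mk'_surjective _
  have hπk : π.ker = B.subgroupOf N := by rw [hπ]; exact QuotientGroup.ker_mk' _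
  -- general facts for a subgroup `L` with `B ≤ L ≤ N`
  have key : ∀ L : Subgroup G, B ≤ L → L ≤ N → Cfsg.IsSupersolvable L →
      Cfsg.IsSupersolvable ((L.subgroupOf N).map π) ∧
      Nat.card ((L.subgroupOf N).map π) = B.relIndex L ∧
      ((L.subgroupOf N).map π).index = L.relIndex N := by
    intro L hBL hLN hL
    refine ⟨?_, ?_, ?_⟩
    · have h1 : Cfsg.IsSupersolvable (L.subgroupOf N) :=
        Helper4.isSupersolvable_of_surjective (Subgroup.subgroupOfEquivOfLe hLN).symm.toMonoidHom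
          (Subgroup.subgroupOfEquivOfLe hLN).symm.surjective hL
      exact Helper4.isSupersolvable_of_surjective (π.subgroupMap (L.subgroupOf N))
        (π.subgroupMap_surjective _) h1
    · have h1 : ((L.subgroupOf N).map π).index = L.relIndex N := by
        rw [Subgroup.index_map_eq _ hπs (by rw [hπk]; exact fun z hz => Subgroup.mem_subgroupOf.mpr (hBL (Subgroup.mem_subgroupOf.mp hz)))]
        rfl
      have h2 := ((L.subgroupOf N).map π).card_mul_index
      have h3 : Nat.card (↥N ⧸ B.subgroupOf N) = B.relIndex N := by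
        rw [← Subgroup.index_eq_card]; rfl
      have h4 := Subgroup.relIndex_mul_relIndex B L N hBL hLN
      rw [h1, h3, ← h4] at h2
      have hpos : 0 < L.relIndex N :=
        Nat.pos_of_ne_zero (show (L.subgroupOf N).index ≠ 0 from Subgroup.index_ne_zero_of_finite)
      exact Nat.eq_of_mul_eq_mul_right hpos h2
    · rw [Subgroup.index_map_eq _ hπs (by rw [hπk]; exact fun z hz => Subgroup.mem_subgroupOf.mpr (hBL (Subgroup.mem_subgroupOf.mp hz)))]
      rfl
  obtain ⟨hH1, hH2, hH3⟩ := key H hBH hHN hH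
  obtain ⟨hK1, hK2, hK3⟩ := key K hBK hKN hK
  have hrelH : B.relIndex H * Nat.card B = Nat.card H := by
    have h1 := (B.subgroupOf H).card_mul_index
    rw [S0650.card_subgroupOf hBH] at h1
    rw [mul_comm]; exact h1
  have hrelK : B.relIndex K * Nat.card B = Nat.card K := by
    have h1 := (B.subgroupOf K).card_mul_index
    rw [S0650.card_subgroupOf hBK] at h1
    rw [mul_comm]; exact h1
  have hBpos : 0 < Nat.card B := Nat.card_pos
  have hcardeq : Nat.card ((H.subgroupOf N).map π) = Nat.card ((K.subgroupOf N).map π) := by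
    rw [hH2, hK2]
    have : B.relIndex H * Nat.card B = B.relIndex K * Nat.card B := by rw [hrelH, hrelK, hHK]
    exact Nat.eq_of_mul_eq_mul_right hBpos this
  have hHall' : (Nat.card ((H.subgroupOf N).map π)).Coprime ((H.subgroupOf N).map π).index := by
    rw [hH2, hH3]
    exact Nat.Coprime.coprime_dvd_left (Dvd.intro _ hrelH)
      (Nat.Coprime.coprime_dvd_right (Subgroup.relIndex_dvd_index_of_le hHN) hHall)
  have hlt : Nat.card (↥N ⧸ B.subgroupOf N) < n := by
    have h3 : Nat.card (↥N ⧸ B.subgroupOf N) = B.relIndex N := by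
      rw [← Subgroup.index_eq_card]; rfl
    have h4 : B.relIndex N * Nat.card B = Nat.card N := by
      have h1 := (B.subgroupOf N).card_mul_index
      rw [S0650.card_subgroupOf hBN] at h1
      rw [mul_comm]; exact h1
    have h5 : 1 < Nat.card B := by
      have : Nat.card B ≠ 1 := fun h => hB (Subgroup.card_eq_one.mp h)
      omega
    have h6 : Nat.card N ≤ n := by rw [← hcard]; exact Subgroup.card_le_card_group N
    have h7 : 0 < B.relIndex N :=
      Nat.pos_of_ne_zero (show (B.subgroupOf N).index ≠ 0 from Subgroup.index_ne_zero_of_finite)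
    rw [h3]
    nlinarith
  obtain ⟨xb, hxb⟩ := ih _ hlt (↥N ⧸ B.subgroupOf N) rfl _ _ hH1 hK1 hcardeq hHall'
  obtain ⟨x, rfl⟩ := hπs xb
  refine ⟨(x : G), ?_⟩
  have hle : MulAut.conj (x : G) • H ≤ K := by
    intro y hy
    rw [Lead.mem_conj_smul'] at hy
    have hyN : y ∈ N := by
      have h1 := N.mul_mem (N.mul_mem x.2 (hHN hy)) (N.inv_mem x.2)
      have e : (x : G) * ((x : G)⁻¹ * y * x) * (x : G)⁻¹ = y := by group
      rwa [e] at h1
    have h1 : π ⟨(x : G)⁻¹ * y * x, hHN hy⟩ ∈ (H.subgroupOf N).map π :=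
      ⟨_, Subgroup.mem_subgroupOf.mpr hy, rfl⟩
    have h2 : π ⟨y, hyN⟩ ∈ MulAut.conj (π x) • (H.subgroupOf N).map π := by
      rw [Lead.mem_conj_smul']
      have e : (π x)⁻¹ * π ⟨y, hyN⟩ * π x = π ⟨(x : G)⁻¹ * y * x, hHN hy⟩ := by
        rw [← map_inv, ← map_mul, ← map_mul]
        congr 1
    
      rw [e]; exact h1
    rw [hxb] at h2
    obtain ⟨k, hk, hk2⟩ := h2
    rw [hπ] at hk2
    have h3 : k⁻¹ * ⟨y, hyN⟩ ∈ B.subgroupOf N := by
      rw [← QuotientGroup.eq]; exact hk2
    have h4 : (k : G)⁻¹ * y ∈ B := Subgroup.mem_subgroupOf.mp h3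
    have h5 : (k : G) ∈ K := Subgroup.mem_subgroupOf.mp hk
    have e : y = (k : G) * ((k : G)⁻¹ * y) := by group
    rw [e]; exact K.mul_mem h5 (hBK h4)
  apply Subgroup.eq_of_le_of_card_ge hle
  rw [← hHK]
  exact le_of_eq (Nat.card_congr (Subgroup.equivSMul (MulAut.conj (x : G)) H).toEquiv)

theorem aux : ∀ (n : ℕ) (G : Type u) [Group G] [Finite G], Nat.card G = n →
    ∀ H K : Subgroup G, Cfsg.IsSupersolvable H → Cfsg.IsSupersolvable K →
    Nat.card H = Nat.card K → (Nat.card H).Coprime H.index → ∃ x : G, MulAut.conj x • H = K := by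
  intro n
  induction n using Nat.strong_induction_on with
  | _ n ih =>
  intro G _ _ hcard H K hH hK hHK hHall
  by_cases hH1 : Nat.card H = 1
  · refine ⟨1, ?_⟩
    have e1 : H = ⊥ := Subgroup.card_eq_one.mp hH1
    have e2 : K = ⊥ := Subgroup.card_eq_one.mp (hHK ▸ hH1)
    rw [e1, e2]; simp
  obtain ⟨p, hp, hpH, hpmax⟩ : ∃ p : ℕ, p.Prime ∧ p ∣ Nat.card H ∧
      ∀ q : ℕ, q.Prime → q ∣ Nat.card H → q ≤ p := by
    have hne : (Nat.card H).primeFactors.Nonempty :=
      Nat.nonempty_primeFactors.mpr (by have := Nat.card_pos (α := H); omega)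
    refine ⟨(Nat.card H).primeFactors.max' hne, ?_, ?_, ?_⟩
    · exact Nat.prime_of_mem_primeFactors (Finset.max'_mem _ hne)
    · exact Nat.dvd_of_mem_primeFactors (Finset.max'_mem _ hne)
    · intro q hq hqd
      exact Finset.le_max' _ q (Nat.mem_primeFactors.mpr ⟨hq, hqd, Nat.card_pos.ne'⟩)
  haveI : Fact p.Prime := ⟨hp⟩
  obtain ⟨PH⟩ : Nonempty (Sylow p ↥H) := inferInstance
  obtain ⟨PK⟩ : Nonempty (Sylow p ↥K) := inferInstance
  have hPHn : (PH : Subgroup ↥H).Normal := sylow_normal_of_supersolvable p _ ↥H rfl hH hpmax PH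
  have hPKn : (PK : Subgroup ↥K).Normal :=
    sylow_normal_of_supersolvable p _ ↥K rfl hK (by rw [← hHK]; exact hpmax) PK
  obtain ⟨A, hA⟩ : ∃ A : Subgroup G, A = (PH : Subgroup ↥H).map H.subtype := ⟨_, rfl⟩
  obtain ⟨B, hB⟩ : ∃ B : Subgroup G, B = (PK : Subgroup ↥K).map K.subtype := ⟨_, rfl⟩
  have hAH : A ≤ H := by rw [hA]; exact Subgroup.map_subtype_le _
  have hBK : B ≤ K := by rw [hB]; exact Subgroup.map_subtype_le _
  have hAp : IsPGroup p A := by rw [hA]; exact PH.2.map _
  have hBp : IsPGroup p B := by rw [hB]; exact PK.2.map _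
  have hKidx : K.index = H.index := by
    have h1 := K.card_mul_index
    have h2 := H.card_mul_index
    rw [← hHK, ← h2] at h1
    exact Nat.eq_of_mul_eq_mul_left Nat.card_pos h1
  have hpidx : ¬ p ∣ H.index := by
    intro h
    have h1 : p ∣ Nat.gcd (Nat.card H) H.index := Nat.dvd_gcd hpH h
    rw [hHall] at h1
    exact hp.one_lt.ne' (Nat.dvd_one.mp h1)
  have hAidx : ¬ p ∣ A.index := by
    rw [hA, Subgroup.index_map_subtype]
    intro hdvd
    rcases (Nat.Prime.dvd_mul hp).mp hdvd with h | h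
    · exact PH.not_dvd_index h
    · exact hpidx h
  have hBidx : ¬ p ∣ B.index := by
    rw [hB, Subgroup.index_map_subtype]
    intro hdvd
    rcases (Nat.Prime.dvd_mul hp).mp hdvd with h | h
    · exact PK.not_dvd_index h
    · rw [hKidx] at h; exact hpidx h
  have hBne : B ≠ ⊥ := by
    intro e
    rw [e, Subgroup.index_bot] at hBidx
    have h1 := K.card_mul_index
    rw [← hHK] at h1
    exact hBidx (hpH.trans (Dvd.intro _ h1))
  -- conjugate A to B
  obtain ⟨g, hg⟩ := MulAction.exists_smul_eq G (hAp.toSylow hAidx) (hBp.toSylow hBidx)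
  have hgAB : MulAut.conj g • A = B := by
    have h1 := congrArg (fun P : Sylow p G => (P : Subgroup G)) hg
    simpa [Sylow.coe_subgroup_smul] using h1
  -- normalizers
  have hHA : ∀ y ∈ H, ∀ a ∈ A, y * a * y⁻¹ ∈ A := by
    intro y hy a ha
    rw [hA] at ha ⊢
    obtain ⟨a', ha', rfl⟩ := ha
    exact ⟨⟨y, hy⟩ * a' * ⟨y, hy⟩⁻¹, hPHn.conj_mem a' ha' ⟨y, hy⟩, rfl⟩
  have hKB : ∀ y ∈ K, ∀ a ∈ B, y * a * y⁻¹ ∈ B := by
    intro y hy a ha
    rw [hB] at ha ⊢
    obtain ⟨a', ha', rfl⟩ := ha
    exact ⟨⟨y, hy⟩ * a' * ⟨y, hy⟩⁻¹, hPKn.conj_mem a' ha' ⟨y, hy⟩, rfl⟩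
  obtain ⟨H₁, hH₁⟩ : ∃ H₁ : Subgroup G, H₁ = MulAut.conj g • H := ⟨_, rfl⟩
  have hH₁ss : Cfsg.IsSupersolvable H₁ := by
    rw [hH₁]
    exact Helper4.isSupersolvable_of_surjective (Subgroup.equivSMul (MulAut.conj g) H).toMonoidHom
      (Subgroup.equivSMul (MulAut.conj g) H).surjective hH
  have hH₁card : Nat.card H₁ = Nat.card H := by
    rw [hH₁]
    exact (Nat.card_congr (Subgroup.equivSMul (MulAut.conj g) H).toEquiv).symm
  have hH₁idx : H₁.index = H.index := by
    have h1 := H₁.card_mul_index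
    have h2 := H.card_mul_index
    rw [hH₁card, ← h2] at h1
    exact Nat.eq_of_mul_eq_mul_left Nat.card_pos h1
  have hBH₁ : B ≤ H₁ := by
    intro b hb
    rw [← hgAB, Lead.mem_conj_smul'] at hb
    rw [hH₁, Lead.mem_conj_smul']
    exact hAH hb
  have hH₁N : H₁ ≤ Subgroup.normalizer (B : Set G) := by
    intro y hy
    apply S0650.mem_normalizer_of_conj
    intro b hb
    rw [hH₁, Lead.mem_conj_smul'] at hy
    rw [← hgAB, Lead.mem_conj_smul'] at hb ⊢
    have h1 := hHA _ hy _ hb
    have e : g⁻¹ * (y * b * y⁻¹) * g = g⁻¹ * y * g * (g⁻¹ * b * g) * (g⁻¹ * y * g)⁻¹ := by group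
    rw [e]; exact h1
  have hKN : K ≤ Subgroup.normalizer (B : Set G) := by
    intro y hy
    apply S0650.mem_normalizer_of_conj
    intro b hb
    exact hKB y hy b hb
  obtain ⟨x, hx⟩ := step n ih G hcard H₁ K B hH₁ss hK (by rw [hH₁card, hHK])
    (by rw [hH₁card, hH₁idx]; exact hHall) hBH₁ hBK hBne hH₁N hKN
  refine ⟨x * g, ?_⟩
  rw [map_mul, mul_smul, ← hH₁]
  exact hx

/-- Let H and K be supersolvable subgroups of a finite group G of the same order, that order being coprime to their index. Then H and K are conjugate in G. -/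
theorem result {G : Type*} [Group G] [Finite G] (H K : Subgroup G) (hH : Cfsg.IsSupersolvable H) (hK : Cfsg.IsSupersolvable K) (hcard : Nat.card H = Nat.card K) (hHall : (Nat.card H).Coprime H.index) : ∃ x : G, MulAut.conj x • H = K := by
  exact aux _ G rfl H K hH hK hcard hHall

end Cfsg.Agent.S0582
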