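import Cfsg.Statements.S0587
import Cfsg.Agent.S0650

set_option autoImplicit false
open Cfsg

namespace Cfsg.Agent.S0587


variable {G : Type*} [Group G]

theorem key_sup (M : Subgroup G) (hM : IsCoatom M) (hcore : M.normalCore = ⊥) (N : Subgroup G)
    [hN : N.Normal] (hne : N ≠ ⊥) : N ⊔ M = ⊤ := by
  have h1 : ¬ N ≤ M := by
    intro h
    apply hne
    rw [eq_bot_iff, ← hcore]
    exact Subgroup.normal_le_normalCore.mpr h
  apply hM.2
  exact lt_of_le_of_ne le_sup_right (fun h => h1 (by rw [h]; exact le_sup_left))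

theorem normal_of_normalizer (M L X : Subgroup G) (hLM : L ⊔ M = ⊤)
    (hL : L ≤ Subgroup.normalizer (X : Set G)) (hMn : M ≤ Subgroup.normalizer (X : Set G)) :
    X.Normal := by
  have : Subgroup.normalizer (X : Set G) = ⊤ := by
    rw [eq_top_iff, ← hLM]; exact sup_le hL hMn
  exact Subgroup.normalizer_eq_top_iff.mp this

theorem le_core_bot (M : Subgroup G) (hcore : M.normalCore = ⊥) (X : Subgroup G) (hX : X.Normal)
    (hXM : X ≤ M) : X = ⊥ := by
  rw [eq_bot_iff, ← hcore]; exact Subgroup.normal_le_normalCore.mpr hXM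

theorem compl_of (N M : Subgroup G) [N.Normal] (h1 : N ⊔ M = ⊤) (h2 : N ⊓ M = ⊥) :
    Subgroup.IsComplement' N M := by
  apply Subgroup.isComplement'_of_disjoint_and_mul_eq_univ (disjoint_iff.mpr h2)
  rw [← Subgroup.normal_mul, h1]; rfl

/-- Let G be a finite group whose largest normal p-subgroup L is nontrivial, and M a maximal subgroup of G with trivial normal core. Then L is elementary abelian, M is a complement to L, L is a minimal normal subgroup of G, the centralizer of L is L, and for every prime q such that the largest normal q-subgroup of M is nontrivial, the order of L is congruent to 1 modulo q and q ≠ p. -/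
theorem result {G : Type*} [Group G] [Finite G] (p : ℕ) [Fact p.Prime] (hL : Cfsg.pCore p G ≠ ⊥) (M : Subgroup G) (hM : IsCoatom M) (hcore : M.normalCore = ⊥) : Cfsg.IsElementaryAbelian p (Cfsg.pCore p G) ∧ Subgroup.IsComplement' (Cfsg.pCore p G) M ∧ (∀ K : Subgroup G, K.Normal → K ≤ Cfsg.pCore p G → K = ⊥ ∨ K = Cfsg.pCore p G) ∧ Subgroup.centralizer ((Cfsg.pCore p G : Subgroup G) : Set G) = Cfsg.pCore p G ∧ ∀ (q : ℕ) [Fact q.Prime], Cfsg.pCore q ↥M ≠ ⊥ → Nat.card (Cfsg.pCore p G) % q = 1 % q ∧ q ≠ p := by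
  have hLn : (Cfsg.pCore p G).Normal := inferInstance
  have hLp : IsPGroup p (Cfsg.pCore p G) := Sylow.sSup_of_normal _ (fun _ h => h.2) (fun _ h => h.1)
  have hLM : (Cfsg.pCore p G) ⊔ M = ⊤ := key_sup M hM hcore (Cfsg.pCore p G) hL
  have hCn : (Subgroup.centralizer ((Cfsg.pCore p G) : Set G)).Normal := inferInstance
  have hZne : (Cfsg.pCore p G) ⊓ Subgroup.centralizer ((Cfsg.pCore p G) : Set G) ≠ ⊥ := by
    haveI : Nontrivial (Cfsg.pCore p G) := (Subgroup.nontrivial_iff_ne_bot (Cfsg.pCore p G)).mpr hL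
    haveI := hLp.center_nontrivial
    obtain ⟨z, hz1⟩ := exists_ne (1 : Subgroup.center (Cfsg.pCore p G))
    intro h
    have hmem : ((z : (Cfsg.pCore p G)) : G) ∈ (Cfsg.pCore p G) ⊓ Subgroup.centralizer ((Cfsg.pCore p G) : Set G) := by
      refine ⟨(z : (Cfsg.pCore p G)).2, Subgroup.mem_centralizer_iff.mpr ?_⟩
      intro y hy
      have := Subgroup.mem_center_iff.mp z.2 ⟨y, hy⟩
      exact congrArg Subtype.val this
    rw [h, Subgroup.mem_bot] at hmem
    exact hz1 (Subtype.ext (Subtype.ext hmem))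
  have hZM : ((Cfsg.pCore p G) ⊓ Subgroup.centralizer ((Cfsg.pCore p G) : Set G)) ⊔ M = ⊤ := key_sup M hM hcore _ hZne
  have hLMbot : (Cfsg.pCore p G) ⊓ M = ⊥ := by
    apply le_core_bot M hcore _ _ inf_le_right
    apply normal_of_normalizer M ((Cfsg.pCore p G) ⊓ Subgroup.centralizer ((Cfsg.pCore p G) : Set G)) ((Cfsg.pCore p G) ⊓ M) hZM
    · intro z hz
      apply Cfsg.Agent.S0650.mem_normalizer_of_conj
      intro x hx
      have h1 : z * x * z⁻¹ = x := by
        have := Subgroup.mem_centralizer_iff.mp hz.2 x hx.1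
        rw [← this, mul_inv_cancel_right]
      rw [h1]; exact hx
    · intro m hm
      apply Cfsg.Agent.S0650.mem_normalizer_of_conj
      intro x hx
      exact ⟨hLn.conj_mem x hx.1 m, M.mul_mem (M.mul_mem hm hx.2) (M.inv_mem hm)⟩
  have hcomp : Subgroup.IsComplement' (Cfsg.pCore p G) M := compl_of (Cfsg.pCore p G) M hLM hLMbot
  have hmin : ∀ K : Subgroup G, K.Normal → K ≤ (Cfsg.pCore p G) → K = ⊥ ∨ K = (Cfsg.pCore p G) := by
    intro K hK hKL
    by_cases hK0 : K = ⊥
    · exact Or.inl hK0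
    right
    have hKM : K ⊔ M = ⊤ := key_sup M hM hcore K hK0
    have hKMbot : K ⊓ M = ⊥ := by
      rw [eq_bot_iff, ← hLMbot]; exact inf_le_inf_right M hKL
    have hcompK : Subgroup.IsComplement' K M := compl_of K M hKM hKMbot
    have h1 := hcompK.card_mul_card
    have h2 := hcomp.card_mul_card
    have h3 : Nat.card K = Nat.card (Cfsg.pCore p G) := by
      have hMpos : 0 < Nat.card M := Nat.card_pos
      exact Nat.eq_of_mul_eq_mul_right hMpos (h1.trans h2.symm)
    exact Subgroup.eq_of_le_of_card_ge hKL h3.ge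
  have hZL : (Cfsg.pCore p G) ⊓ Subgroup.centralizer ((Cfsg.pCore p G) : Set G) = (Cfsg.pCore p G) :=
    (hmin _ inferInstance inf_le_left).resolve_left hZne
  have hLab : (Cfsg.pCore p G) ≤ Subgroup.centralizer ((Cfsg.pCore p G) : Set G) := by
    have h1 : (Cfsg.pCore p G) ⊓ Subgroup.centralizer ((Cfsg.pCore p G) : Set G) ≤ Subgroup.centralizer ((Cfsg.pCore p G) : Set G) :=
      inf_le_right
    rwa [hZL] at h1
  have hexp : ∀ a ∈ (Cfsg.pCore p G), a ^ p = 1 := by
    let N' : Subgroup G :=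
      { carrier := {x | x ∈ (Cfsg.pCore p G) ∧ x ^ p = 1}
        mul_mem' := by
          rintro x y ⟨hx, hxp⟩ ⟨hy, hyp⟩
          refine ⟨Subgroup.mul_mem _ hx hy, ?_⟩
          have hc : Commute x y := Subgroup.mem_centralizer_iff.mp (hLab hy) x hx
          rw [hc.mul_pow, hxp, hyp, one_mul]
        one_mem' := ⟨Subgroup.one_mem _, one_pow p⟩
        inv_mem' := by
          rintro x ⟨hx, hxp⟩
          exact ⟨Subgroup.inv_mem _ hx, by rw [inv_pow, hxp, inv_one]⟩ }
    have hN'n : N'.Normal := by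
      constructor
      intro x hx g
      refine ⟨hLn.conj_mem x hx.1 g, ?_⟩
      rw [conj_pow, hx.2, mul_one, mul_inv_cancel]
    have hN'ne : N' ≠ ⊥ := by
      haveI : Nontrivial (Cfsg.pCore p G) := (Subgroup.nontrivial_iff_ne_bot (Cfsg.pCore p G)).mpr hL
      obtain ⟨k, hk0, hk⟩ := hLp.nontrivial_iff_card.mp inferInstance
      have hdvd : p ∣ Nat.card (Cfsg.pCore p G) := by rw [hk]; exact dvd_pow_self p hk0.ne'
      obtain ⟨x, hx⟩ := exists_prime_orderOf_dvd_card' (G := (Cfsg.pCore p G)) p hdvd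
      intro h
      have hmem : (x : G) ∈ N' := ⟨x.2, by
        have h1 := pow_orderOf_eq_one x
        rw [hx] at h1
        simpa only [Subgroup.coe_pow, Subgroup.coe_one] using congrArg Subtype.val h1⟩
      rw [h, Subgroup.mem_bot] at hmem
      have hx1 : x = 1 := Subtype.ext hmem
      rw [hx1, orderOf_one] at hx
      exact (Fact.out : p.Prime).one_lt.ne hx
    have hN'L : N' = (Cfsg.pCore p G) := (hmin N' hN'n (fun x hx => hx.1)).resolve_left hN'ne
    intro a ha
    rw [← hN'L] at ha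
    exact ha.2
  have hCL : Subgroup.centralizer ((Cfsg.pCore p G) : Set G) = (Cfsg.pCore p G) := by
    have hCM : Subgroup.centralizer ((Cfsg.pCore p G) : Set G) ⊓ M = ⊥ := by
      apply le_core_bot M hcore _ _ inf_le_right
      apply normal_of_normalizer M (Cfsg.pCore p G) _ hLM
      · intro l hl
        apply Cfsg.Agent.S0650.mem_normalizer_of_conj
        intro x hx
        have h1 : l * x * l⁻¹ = x := by
          have := Subgroup.mem_centralizer_iff.mp hx.1 l hl
          rw [this, mul_inv_cancel_right]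
        rw [h1]; exact hx
      · intro m hm
        apply Cfsg.Agent.S0650.mem_normalizer_of_conj
        intro x hx
        exact ⟨hCn.conj_mem x hx.1 m, M.mul_mem (M.mul_mem hm hx.2) (M.inv_mem hm)⟩
    have hCsup : Subgroup.centralizer ((Cfsg.pCore p G) : Set G) ⊔ M = ⊤ := by
      rw [eq_top_iff, ← hLM]; exact sup_le_sup_right hLab M
    have hcompC : Subgroup.IsComplement' (Subgroup.centralizer ((Cfsg.pCore p G) : Set G)) M :=
      compl_of _ M hCsup hCM
    have h1 := hcompC.card_mul_card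
    have h2 := hcomp.card_mul_card
    have h3 : Nat.card (Subgroup.centralizer ((Cfsg.pCore p G) : Set G)) = Nat.card (Cfsg.pCore p G) := by
      have hMpos : 0 < Nat.card M := Nat.card_pos
      exact Nat.eq_of_mul_eq_mul_right hMpos (h1.trans h2.symm)
    exact (Subgroup.eq_of_le_of_card_ge hLab h3.le).symm
  refine ⟨⟨.of_setLike_mul_comm fun a ha b hb =>
    (Subgroup.mem_centralizer_iff.mp (hLab hb) a ha), hexp⟩, hcomp, hmin, hCL, ?_⟩
  intro q hqF hQ
  have hQM : (Cfsg.pCore q ↥M).map M.subtype ≤ M := by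
    rintro _ ⟨x, -, rfl⟩; exact x.2
  have hQne : (Cfsg.pCore q ↥M).map M.subtype ≠ ⊥ := by
    intro h; apply hQ
    exact (Subgroup.map_eq_bot_iff_of_injective _ M.subtype_injective).mp h
  have hQq : IsPGroup q ((Cfsg.pCore q ↥M).map M.subtype) :=
    (Sylow.sSup_of_normal _ (fun _ h => h.2) (fun _ h => h.1) :
      IsPGroup q (Cfsg.pCore q ↥M)).map _
  have hQnorm : ∀ m ∈ M, ∀ x ∈ (Cfsg.pCore q ↥M).map M.subtype,
      m * x * m⁻¹ ∈ (Cfsg.pCore q ↥M).map M.subtype := by
    rintro m hm _ ⟨x, hx, rfl⟩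
    exact ⟨⟨m, hm⟩ * x * ⟨m, hm⟩⁻¹,
      (inferInstance : (Cfsg.pCore q ↥M).Normal).conj_mem x hx ⟨m, hm⟩, rfl⟩
  have hQL : ¬ (Cfsg.pCore q ↥M).map M.subtype ≤ (Cfsg.pCore p G) := fun h =>
    hQne (by rw [eq_bot_iff, ← hLMbot]; exact le_inf h hQM)
  constructor
  · have hfix : (Cfsg.pCore p G) ⊓ Subgroup.centralizer
        ((((Cfsg.pCore q ↥M).map M.subtype : Subgroup G)) : Set G) = ⊥ := by
      have hn : ((Cfsg.pCore p G) ⊓ Subgroup.centralizer
          ((((Cfsg.pCore q ↥M).map M.subtype : Subgroup G)) : Set G)).Normal := by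
        apply normal_of_normalizer M (Cfsg.pCore p G) _ hLM
        · intro l hl
          apply Cfsg.Agent.S0650.mem_normalizer_of_conj
          intro x hx
          have h1 : l * x * l⁻¹ = x := by
            have := Subgroup.mem_centralizer_iff.mp (hLab hl) x hx.1
            rw [← this, mul_inv_cancel_right]
          rw [h1]; exact hx
        · intro m hm
          apply Cfsg.Agent.S0650.mem_normalizer_of_conj
          intro x hx
          refine ⟨hLn.conj_mem x hx.1 m, ?_⟩
          refine Subgroup.mem_centralizer_iff.mpr ?_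
          intro y hy
          have hy' : m⁻¹ * y * m⁻¹⁻¹ ∈ (Cfsg.pCore q ↥M).map M.subtype :=
            hQnorm m⁻¹ (M.inv_mem hm) y hy
          have hc := Subgroup.mem_centralizer_iff.mp hx.2 _ hy'
          calc y * (m * x * m⁻¹) = m * ((m⁻¹ * y * m⁻¹⁻¹) * x) * m⁻¹ := by group
            _ = m * (x * (m⁻¹ * y * m⁻¹⁻¹)) * m⁻¹ := by rw [hc]
            _ = m * x * m⁻¹ * y := by group
      rcases hmin _ hn inf_le_left with h | h
      · exact h
      · exfalso
        apply hQL
        have h1 : (Cfsg.pCore p G) ⊓ Subgroup.centralizer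
          ((((Cfsg.pCore q ↥M).map M.subtype : Subgroup G)) : Set G) ≤ Subgroup.centralizer
          ((((Cfsg.pCore q ↥M).map M.subtype : Subgroup G)) : Set G) := inf_le_right
        rw [h] at h1
        have h2 := Subgroup.le_centralizer_iff.mp h1
        rwa [hCL] at h2
    let φ : ↥((Cfsg.pCore q ↥M).map M.subtype) →* MulAut ↥(Cfsg.pCore p G) :=
      (MulAut.conjNormal (H := (Cfsg.pCore p G))).comp ((Cfsg.pCore q ↥M).map M.subtype).subtype
    letI : MulAction ↥((Cfsg.pCore q ↥M).map M.subtype) ↥(Cfsg.pCore p G) := MulAction.compHom ↥(Cfsg.pCore p G) φ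
    have hmod := hQq.card_modEq_card_fixedPoints (↥(Cfsg.pCore p G))
    have hfp : MulAction.fixedPoints ↥((Cfsg.pCore q ↥M).map M.subtype) ↥(Cfsg.pCore p G) = {1} := by
      ext l
      constructor
      · intro hl
        have hmem : (l : G) ∈ (Cfsg.pCore p G) ⊓ Subgroup.centralizer
            ((((Cfsg.pCore q ↥M).map M.subtype : Subgroup G)) : Set G) := by
          refine ⟨l.2, Subgroup.mem_centralizer_iff.mpr ?_⟩
          intro y hy
          have h1 := hl ⟨y, hy⟩
          have h2 : y * (l : G) * y⁻¹ = l := congrArg Subtype.val h1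
          calc y * (l : G) = (y * l * y⁻¹) * y := by group
            _ = l * y := by rw [h2]
        rw [hfix, Subgroup.mem_bot] at hmem
        exact Subtype.ext hmem
      · rintro rfl x
        exact map_one (φ x)
    rw [hfp] at hmod
    have h1 : Nat.card (({1} : Set ↥(Cfsg.pCore p G))) = 1 := by simp
    rw [h1] at hmod
    exact hmod
  · intro hqp
    have hQp : IsPGroup p ((Cfsg.pCore q ↥M).map M.subtype) := hqp ▸ hQq
    apply hQL
    have hLQn : ((Cfsg.pCore p G) ⊔ (Cfsg.pCore q ↥M).map M.subtype).Normal := by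
      apply normal_of_normalizer M (Cfsg.pCore p G) _ hLM
      · exact le_sup_left.trans Subgroup.le_normalizer
      · intro m hm
        apply Cfsg.Agent.S0650.mem_normalizer_of_conj
        intro x hx
        have h1 : ((Cfsg.pCore p G) ⊔ (Cfsg.pCore q ↥M).map M.subtype).map (MulAut.conj m).toMonoidHom ≤
            (Cfsg.pCore p G) ⊔ (Cfsg.pCore q ↥M).map M.subtype := by
          rw [Subgroup.map_sup]
          apply sup_le_sup
          · rintro _ ⟨y, hy, rfl⟩; exact hLn.conj_mem y hy m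
          · rintro _ ⟨y, hy, rfl⟩; exact hQnorm m hm y hy
        exact h1 ⟨x, hx, rfl⟩
    have hLQp : IsPGroup p ((Cfsg.pCore p G) ⊔ (Cfsg.pCore q ↥M).map M.subtype : Subgroup G) :=
      hLp.to_sup_of_normal_left hQp
    have h2 : (Cfsg.pCore p G) ⊔ (Cfsg.pCore q ↥M).map M.subtype ≤ (Cfsg.pCore p G) := le_sSup ⟨hLQn, hLQp⟩
    exact le_sup_right.trans h2

end Cfsg.Agent.S0587
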