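import Cfsg.Statements.S0593
import Cfsg.Agent.Helper5.QuadBridge

set_option autoImplicit false
open Cfsg

namespace Cfsg.Agent.S0593


open Cfsg.Agent.Helper5 Cfsg.Agent.Helper5.SL2
/-- For odd p, a faithful group on an elementary abelian p-group generated by two quadratically acting elements is a p-group or has non-abelian Sylow 2-subgroups. -/
theorem result {G : Type*} [Group G] [Finite G] {p : ℕ} [Fact p.Prime] (hp : p ≠ 2) (V H : Subgroup G) (hV : Cfsg.IsElementaryAbelian p V) (hHV : H ≤ Subgroup.normalizer (V : Set G)) (hf : H ⊓ Subgroup.centralizer (V : Set G) = ⊥) (a b : G) (hab : H = Subgroup.closure {a, b}) (ha : ⁅⁅V, Subgroup.zpowers a⁆, Subgroup.zpowers a⁆ = ⊥) (hb : ⁅⁅V, Subgroup.zpowers b⁆, Subgroup.zpowers b⁆ = ⊥) (hnp : ¬ IsPGroup p H) (T : Sylow 2 H) : ¬ IsMulCommutative T := by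
  haveI : IsMulCommutative V := hV.1
  subst hab
  have haI : a ∈ Subgroup.closure {a, b} := Subgroup.subset_closure (by simp)
  have hbI : b ∈ Subgroup.closure {a, b} := Subgroup.subset_closure (by simp)
  have hnp' : ∃ g ∈ Subgroup.closure {a, b}, ∀ k : ℕ,
      g ^ p ^ k ∉ Subgroup.centralizer (V : Set G) := by
    by_contra hcon
    push Not at hcon
    apply hnp
    rintro ⟨g, hg⟩
    obtain ⟨k, hk⟩ := hcon g hg
    refine ⟨k, Subtype.ext ?_⟩
    have h1 : g ^ p ^ k ∈ Subgroup.closure {a, b} ⊓ Subgroup.centralizer (V : Set G) :=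
      ⟨pow_mem hg _, hk⟩
    rw [hf, Subgroup.mem_bot] at h1
    rw [Subgroup.coe_pow]
    exact h1
  exact sylow2_of_quad_pair hp V hV.2 a b (hHV haI) (hHV hbI) (quad_elem V a ha) (quad_elem V b hb)
    hnp' T

end Cfsg.Agent.S0593
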