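import Cfsg.Statements.S0594
import Cfsg.Agent.Helper5.PStabSolv

set_option autoImplicit false
open Cfsg

namespace Cfsg.Agent.S0594


open scoped commutatorElement
/-- For odd p, two quadratic generators of a faithful group that is not a p-group, one of which acts nontrivially on a normal subgroup of order prime to p, force p = 3 and a section isomorphic to SL(2,3). -/
theorem result {G : Type*} [Group G] [Finite G] {p : ℕ} [Fact p.Prime] (hp : p ≠ 2) (V H : Subgroup G) (hV : Cfsg.IsElementaryAbelian p V) (hHV : H ≤ Subgroup.normalizer (V : Set G)) (hf : H ⊓ Subgroup.centralizer (V : Set G) = ⊥) (a b : G) (hab : H = Subgroup.closure {a, b}) (ha : ⁅⁅V, Subgroup.zpowers a⁆, Subgroup.zpowers a⁆ = ⊥) (hb : ⁅⁅V, Subgroup.zpowers b⁆, Subgroup.zpowers b⁆ = ⊥) (hnp : ¬ IsPGroup p H) (Q : Subgroup G) (hQH : Q ≤ H) (hQn : H ≤ Subgroup.normalizer (Q : Set G)) (hQ : (Nat.card Q).Coprime p) (hQa : ⁅Q, Subgroup.zpowers a⁆ ≠ ⊥) :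 p = 3 ∧ ∃ (K L : Subgroup G) (hL : (L.subgroupOf K).Normal), K ≤ H ∧ Nonempty ((K ⧸ L.subgroupOf K) ≃* Matrix.SpecialLinearGroup (Fin 2) (ZMod 3)) := by
  haveI : IsMulCommutative V := hV.1
  have haH : a ∈ H := by rw [hab]; exact Subgroup.subset_closure (by simp)
  -- x ∈ Q not commuting with a
  obtain ⟨x, hxQ, hxa⟩ : ∃ x ∈ Q, x * a ≠ a * x := by
    by_contra hcon
    push Not at hcon
    apply hQa
    rw [Subgroup.commutator_eq_bot_iff_le_centralizer]
    intro q hq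
    rw [Subgroup.mem_centralizer_iff]
    intro z hz
    obtain ⟨k, rfl⟩ := Subgroup.mem_zpowers_iff.mp hz
    have : Commute q a := hcon q hq
    exact ((this.zpow_right k).eq).symm
  have hxH : x ∈ H := hQH hxQ
  have hbH : x * a * x⁻¹ ∈ H := H.mul_mem (H.mul_mem hxH haH) (H.inv_mem hxH)
  have hleH : Subgroup.closure {a, x * a * x⁻¹} ≤ H := by
    apply (Subgroup.closure_le _).mpr
    intro y hy
    rcases hy with h | h
    · rw [h]; exact haH
    · rw [Set.mem_singleton_iff] at h; rw [h]; exact hbH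
  have hqa := Cfsg.Agent.Helper5.quad_elem V a ha
  have hqb := Cfsg.Agent.Helper5.quad_conj V a x (hHV hxH) hqa
  have hNn : ∀ g ∈ Subgroup.closure {a, x * a * x⁻¹}, ∀ n ∈ Q, g * n * g⁻¹ ∈ Q := by
    intro g hg n hn
    exact (Subgroup.mem_normalizer_iff.mp (hQn (hleH hg)) n).mp hn
  have hNe : ∀ n ∈ Q, n ^ Nat.card Q ∈ Subgroup.centralizer (V : Set G) := by
    intro n hn
    have : (⟨n, hn⟩ : Q) ^ Nat.card Q = 1 := pow_card_eq_one'
    have h2 : n ^ Nat.card Q = 1 := congrArg Subtype.val this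
    rw [h2]; exact Subgroup.one_mem _
  have hab' : a⁻¹ * (x * a * x⁻¹) ∈ Q := by
    have h1 : a⁻¹ * x * a⁻¹⁻¹ ∈ Q :=
      (Subgroup.mem_normalizer_iff.mp (hQn (H.inv_mem haH)) x).mp hxQ
    have h2 : a⁻¹ * (x * a * x⁻¹) = (a⁻¹ * x * a⁻¹⁻¹) * x⁻¹ := by group
    rw [h2]; exact Q.mul_mem h1 (Q.inv_mem hxQ)
  have hne : a⁻¹ * (x * a * x⁻¹) ∉ Subgroup.centralizer (V : Set G) := by
    intro hc
    have hmem : a⁻¹ * (x * a * x⁻¹) ∈ H ⊓ Subgroup.centralizer (V : Set G) :=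
      ⟨H.mul_mem (H.inv_mem haH) hbH, hc⟩
    rw [hf, Subgroup.mem_bot] at hmem
    apply hxa
    have : x * a * x⁻¹ = a := by
      calc x * a * x⁻¹ = a * (a⁻¹ * (x * a * x⁻¹)) := by group
        _ = a := by rw [hmem, mul_one]
    calc x * a = (x * a * x⁻¹) * x := by group
      _ = a * x := by rw [this]
  obtain ⟨h3, ψ, hψ⟩ := Cfsg.Agent.Helper5.quad_pair_group hp V hV.2 a (x * a * x⁻¹) (hHV haH)
    (hHV hbH) hqa hqb Q hNn (Nat.card Q) hQ hNe hab' hne
  subst h3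
  obtain ⟨L, hL, hiso⟩ := Cfsg.Agent.Helper5.sec_of_surj _ ψ hψ
  exact ⟨rfl, _, L, hL, hleH, hiso⟩


end Cfsg.Agent.S0594
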