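import Cfsg.Statements.S0595
import Cfsg.Agent.Helper5.QuadBridge
import Cfsg.Agent.S0010

set_option autoImplicit false
open Cfsg

namespace Cfsg.Agent.S0595


open Cfsg.Agent.Helper5 Cfsg.Agent.Helper5.SL2
/-- For odd p, a faithful action on an elementary abelian p-group that is not p-stable forces non-abelian Sylow 2-subgroups. -/
theorem result {G : Type*} [Group G] [Finite G] {p : ℕ} [Fact p.Prime] (hp : p ≠ 2) (V H : Subgroup G) (hV : Cfsg.IsElementaryAbelian p V) (hHV : H ≤ Subgroup.normalizer (V : Set G)) (hf : H ⊓ Subgroup.centralizer (V : Set G) = ⊥) (a : G) (haH : a ∈ H) (hq : ⁅⁅V, Subgroup.zpowers a⁆, Subgroup.zpowers a⁆ = ⊥) (hna : a ∉ (Cfsg.pCore p H).map H.subtype) (T : Sylow 2 H) : ¬ IsMulCommutative T := by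
  haveI : IsMulCommutative V := hV.1
  have hqa := quad_elem V a hq
  have haV := hHV haH
  -- Baer–Suzuki in `H`
  have hO : ∀ N : Subgroup ↥H, N.Normal → IsPGroup p N → (⟨a, haH⟩ : ↥H) ∉ N := by
    intro N hNn hNp hmem
    apply hna
    exact ⟨⟨a, haH⟩, Cfsg.Agent.S0010.le_pCore p N hNn hNp hmem, rfl⟩
  obtain ⟨g, hg⟩ := exists_conj_not_pgroup (p := p) (⟨a, haH⟩ : ↥H) hO
  have hbH : (g : G) * a * (g : G)⁻¹ ∈ H := H.mul_mem (H.mul_mem g.2 haH) (H.inv_mem g.2)
  have hle : Subgroup.closure {a, (g : G) * a * (g : G)⁻¹} ≤ H := by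
    apply (Subgroup.closure_le _).mpr
    intro y hy
    rcases hy with h | h
    · rw [h]; exact haH
    · rw [Set.mem_singleton_iff] at h; rw [h]; exact hbH
  have hnp' : ∃ d ∈ Subgroup.closure {a, (g : G) * a * (g : G)⁻¹}, ∀ k : ℕ,
      d ^ p ^ k ∉ Subgroup.centralizer (V : Set G) := by
    by_contra hcon
    push Not at hcon
    apply hg
    rintro ⟨d, hd⟩
    have hdG : (d : G) ∈ Subgroup.closure {a, (g : G) * a * (g : G)⁻¹} := by
      have h1 := Subgroup.mem_map_of_mem H.subtype hd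
      rw [MonoidHom.map_closure, Set.image_pair] at h1
      exact h1
    obtain ⟨k, hk⟩ := hcon d hdG
    have h2 : (d : G) ^ p ^ k ∈ H ⊓ Subgroup.centralizer (V : Set G) := ⟨pow_mem d.2 _, hk⟩
    rw [hf, Subgroup.mem_bot] at h2
    refine ⟨k, Subtype.ext (Subtype.ext ?_)⟩
    rw [Subgroup.coe_pow, Subgroup.coe_pow]
    exact h2
  have hNA := sylow2_of_quad_pair hp V hV.2 a ((g : G) * a * (g : G)⁻¹) haV (hHV hbH) hqa
    (quad_conj V a g (hHV g.2) hqa) hnp'
  exact NA2.of_le hle hNA T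

end Cfsg.Agent.S0595
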