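import Cfsg.Statements.S1464
import Cfsg.Agent.Helper5.PStabSolv

set_option autoImplicit false
open Cfsg

namespace Cfsg.Agent.S1464


open scoped commutatorElement
open Cfsg.Agent.Helper5 Cfsg.Agent.S0653

theorem mem_pCore_congr {X : Type*} [Group X] (p : ℕ) (C D : Subgroup X) [C.Normal] [D.Normal]
    (h : C = D) (x : X)
    (hx : (QuotientGroup.mk x : X ⧸ D) ∈ Cfsg.pCore p (X ⧸ D)) :
    (QuotientGroup.mk x : X ⧸ C) ∈ Cfsg.pCore p (X ⧸ C) := by
  subst h; exact hx

theorem centralizer_subgroupOf_eq {G : Type*} [Group G] (P : Subgroup G) :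
    (Subgroup.centralizer (P : Set G)).subgroupOf (Subgroup.normalizer (P : Set G)) =
      Subgroup.centralizer ((P.subgroupOf (Subgroup.normalizer (P : Set G)) :
        Subgroup ↥(Subgroup.normalizer (P : Set G))) : Set ↥(Subgroup.normalizer (P : Set G))) := by
  ext x
  rw [Subgroup.mem_subgroupOf, Subgroup.mem_centralizer_iff, Subgroup.mem_centralizer_iff]
  constructor
  · intro h y hy
    apply Subtype.ext
    exact h (y : G) (Subgroup.mem_subgroupOf.mp hy)
  · intro h y hy
    have := h ⟨y, Subgroup.le_normalizer hy⟩ (Subgroup.mem_subgroupOf.mpr hy)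
    exact congrArg Subtype.val this

theorem quad_subgroupOf {G : Type*} [Group G] (P A N : Subgroup G)
    (hquad : ⁅⁅P, A⁆, A⁆ = ⊥) (x : ↥N) (hx : (x : G) ∈ A) :
    ⁅⁅P.subgroupOf N, Subgroup.zpowers x⁆, Subgroup.zpowers x⁆ = ⊥ := by
  rw [← Subgroup.map_eq_bot_iff_of_injective _ N.subtype_injective, Subgroup.map_commutator,
    Subgroup.map_commutator, eq_bot_iff, ← hquad]
  have h1 : (P.subgroupOf N).map N.subtype ≤ P := by
    rw [Subgroup.subgroupOf_map_subtype]; exact inf_le_left
  have h2 : (Subgroup.zpowers x).map N.subtype ≤ A := by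
    rw [MonoidHom.map_zpowers, Subgroup.zpowers_le]
    exact hx
  exact Subgroup.commutator_mono (Subgroup.commutator_mono h1 h2) h2
/-- Let p be an odd prime and G a solvable group of odd order, P a p-subgroup with O_{p'}(G)P normal in G, and A a p-subgroup of N_G(P) with [[P, A], A] = 1. Then the image of A in the quotient N_G(P)/C_G(P) is contained in the p-core of that quotient. -/
theorem result {G : Type*} [Group G] [Finite G] [Group.IsSolvable G] (hodd : Odd (Nat.card G)) (p : ℕ) [Fact p.Prime] (hp : p ≠ 2) (P A : Subgroup G) (hP : IsPGroup p P) (hPn : (Cfsg.pPrimeCore p G ⊔ P).Normal)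
    (hA : IsPGroup p A) (hAN : A ≤ Subgroup.normalizer (P : Set G)) (hquad : ⁅⁅P, A⁆, A⁆ = ⊥) :
    (A.subgroupOf (Subgroup.normalizer (P : Set G))).map
        (QuotientGroup.mk' ((Subgroup.centralizer (P : Set G)).subgroupOf (Subgroup.normalizer (P : Set G))))
      ≤ Cfsg.pCore p _ := by
  have hodd' : Odd (Nat.card ↥(Subgroup.normalizer (P : Set G))) :=
    Odd.of_dvd_nat hodd (Subgroup.card_subgroup_dvd_card _)
  have hP' : IsPGroup p (P.subgroupOf (Subgroup.normalizer (P : Set G))) :=
    hP.comap_of_injective _ (Subgroup.subtype_injective _)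
  rintro _ ⟨x, hx, rfl⟩
  have hxA : (x : G) ∈ A := Subgroup.mem_subgroupOf.mp hx
  have h1 := pstable_odd hodd' hp (P.subgroupOf (Subgroup.normalizer (P : Set G))) hP' x
    (quad_subgroupOf P A _ hquad x hxA)
  exact mem_pCore_congr p _ _ (centralizer_subgroupOf_eq P) x h1


end Cfsg.Agent.S1464
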