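import Cfsg.Statements.S0596
import Cfsg.Agent.Helper5.SL2Sec
import Cfsg.Agent.S1464
import Cfsg.Agent.S0629
import Cfsg.Agent.S0010

set_option autoImplicit false
open Cfsg

namespace Cfsg.Agent.S0596


open scoped commutatorElement
open Cfsg.Agent.Helper5 Cfsg.Agent.S0653
/-- For odd p, a p-separable group with a faithful action on an elementary abelian p-group that is not p-stable has p = 3 and involves SL(2,3). -/
theorem result {G : Type*} [Group G] [Finite G] {p : ℕ} [Fact p.Prime] (hp : p ≠ 2) (V H : Subgroup G) (hV : Cfsg.IsElementaryAbelian p V) (hHV : H ≤ Subgroup.normalizer (V : Set G)) (hf : H ⊓ Subgroup.centralizer (V : Set G) = ⊥) (hsep : Cfsg.IsPSolvable p H) (a : G) (haH : a ∈ H) (hq : ⁅⁅V, Subgroup.zpowers a⁆, Subgroup.zpowers a⁆ = ⊥) (hna : a ∉ (Cfsg.pCore p H).map H.subtype) : p = 3 ∧ ∃ (K L : Subgroup G) (hL : (L.subgroupOf K).Normal), K ≤ H ∧ Nonempty ((K ⧸ L.subgroupOf K) ≃* Matrix.SpecialLinearGroup (Fin 2) (ZMod 3)) := by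
  have hpp := (Fact.out : p.Prime)
  set X := V ⊔ H with hX
  have hVX : V ≤ X := le_sup_left
  have hHX : H ≤ X := le_sup_right
  have hXN : X ≤ Subgroup.normalizer (V : Set G) := sup_le Subgroup.le_normalizer hHV
  haveI hVn : (V.subgroupOf X).Normal := (Subgroup.normal_subgroupOf_iff_le_normalizer hVX).mpr hXN
  have hVe : ∀ v : ↥(V.subgroupOf X), v ^ p = 1 := by
    intro v
    have := hV.2 _ (Subgroup.mem_subgroupOf.mp v.2)
    exact Subtype.ext (Subtype.ext (by simpa using this))
  have hVp : IsPGroup p (V.subgroupOf X) := fun v => ⟨1, by rw [pow_one]; exact hVe v⟩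
  have hVc : V ≤ Subgroup.centralizer (V : Set G) := by
    intro x hx
    rw [Subgroup.mem_centralizer_iff]
    intro y hy
    have := hV.1.is_comm.comm (⟨y, hy⟩ : ↥V) ⟨x, hx⟩
    exact congrArg Subtype.val this
  -- the map `H → X / V`
  set f : ↥H →* ↥X ⧸ V.subgroupOf X :=
    (QuotientGroup.mk' (V.subgroupOf X)).comp (Subgroup.inclusion hHX) with hfdef
  have hfs : Function.Surjective f := by
    intro y
    obtain ⟨x, rfl⟩ := QuotientGroup.mk'_surjective (V.subgroupOf X) y
    have hR : X ≤ (f.range.comap (QuotientGroup.mk' (V.subgroupOf X))).map X.subtype := by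
      apply sup_le
      · intro v hv
        refine ⟨⟨v, hVX hv⟩, ?_, rfl⟩
        show QuotientGroup.mk' (V.subgroupOf X) ⟨v, hVX hv⟩ ∈ f.range
        have h1 : QuotientGroup.mk' (V.subgroupOf X) ⟨v, hVX hv⟩ = 1 :=
          (QuotientGroup.eq_one_iff _).mpr (Subgroup.mem_subgroupOf.mpr hv)
        rw [h1]
        exact one_mem _
      · intro h hh
        exact ⟨⟨h, hHX hh⟩, ⟨⟨h, hh⟩, rfl⟩, rfl⟩
    obtain ⟨x', hx', hxx⟩ := hR x.2
    have : x' = x := Subtype.ext hxx
    rw [this] at hx'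
    exact hx'
  -- `X` is `p`-solvable
  have hXs : Cfsg.IsPSolvable p ↥X := by
    apply isPSolvable_of_normal_step (V.subgroupOf X) (Or.inl ((IsPGroup.iff_card).mp hVp))
    exact Cfsg.Agent.S0629.isPSolvable_of_mulEquiv (QuotientGroup.quotientKerEquivOfSurjective f hfs)
      (Cfsg.Agent.Helper13.isPSolvable_quotient hsep f.ker)
  have hq' := Cfsg.Agent.S1464.quad_subgroupOf V (Subgroup.zpowers a) X hq ⟨a, hHX haH⟩
    (Subgroup.mem_zpowers a)
  rcases pstable_psolv_aux hp hXs _ (V.subgroupOf X) hVp rfl ⟨a, hHX haH⟩ hq' with h | ⟨h3, hs⟩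
  · exfalso
    apply hna
    set φ : ↥H →* ↥X ⧸ Subgroup.centralizer ((V.subgroupOf X : Subgroup ↥X) : Set ↥X) :=
      (QuotientGroup.mk' _).comp (Subgroup.inclusion hHX) with hφ
    have hφi : Function.Injective φ := by
      rw [injective_iff_map_eq_one]
      intro h hh
      have h1 : Subgroup.inclusion hHX h ∈
          Subgroup.centralizer ((V.subgroupOf X : Subgroup ↥X) : Set ↥X) :=
        (QuotientGroup.eq_one_iff _).mp hh
      have h2 : (h : G) ∈ H ⊓ Subgroup.centralizer (V : Set G) := by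
        refine ⟨h.2, ?_⟩
        show (h : G) ∈ Subgroup.centralizer (V : Set G)
        rw [Subgroup.mem_centralizer_iff]
        intro v hv
        have := (Subgroup.mem_centralizer_iff.mp h1) ⟨v, hVX hv⟩ (Subgroup.mem_subgroupOf.mpr hv)
        exact congrArg Subtype.val this
      rw [hf, Subgroup.mem_bot] at h2
      exact Subtype.ext h2
    have hNp : IsPGroup p ((Cfsg.pCore p
        (↥X ⧸ Subgroup.centralizer ((V.subgroupOf X : Subgroup ↥X) : Set ↥X))).comap φ) :=
      (Cfsg.Agent.S0010.pCore_isPGroup p).comap_of_injective φ hφi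
    have hle := Cfsg.Agent.S0010.le_pCore p _ inferInstance hNp
    exact ⟨⟨a, haH⟩, hle h, rfl⟩
  · subst h3
    have hs1 := hasSL2Sec_quot_three (V.subgroupOf X) (fun n hn => by
      have := congrArg Subtype.val (hVe ⟨n, hn⟩)
      simpa using this) hs
    obtain ⟨K0, ψ0, hψ0⟩ := hasSL2Sec_lift 3 f hfs hs1
    refine ⟨rfl, ?_⟩
    obtain ⟨L, hL, hiso⟩ := sec_of_surj (K0.map H.subtype)
      (ψ0.comp (K0.equivMapOfInjective H.subtype H.subtype_injective).symm.toMonoidHom)
      (hψ0.comp (K0.equivMapOfInjective H.subtype H.subtype_injective).symm.surjective)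
    exact ⟨K0.map H.subtype, L, hL, Subgroup.map_subtype_le _, hiso⟩


end Cfsg.Agent.S0596
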