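import Cfsg.Statements.S0615
import Mathlib
import Cfsg.Agent.Helper21.SubnIrr

set_option autoImplicit false
set_option linter.style.haveILetI false
open Cfsg

namespace Cfsg.Agent.S0615

/-- Two subnormal subgroups acting irreducibly on their incomparable commutator modules, in a faithful group with trivial largest normal p-subgroup, generate their direct product, and the commutator module splits accordingly. -/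
theorem result {G : Type*} [Group G] [Finite G] {p : ℕ} [Fact p.Prime] (V E E₁ E₂ : Subgroup G) (hV : Cfsg.IsElementaryAbelian p V) (hEV : E ≤ Subgroup.normalizer (V : Set G)) (hf : E ⊓ Subgroup.centralizer (V : Set G) = ⊥) (hgen : E = E₁ ⊔ E₂) (hs₁ : (E₁.subgroupOf E).IsSubnormal) (hs₂ : (E₂.subgroupOf E).IsSubnormal) (hOp : Cfsg.pCore p ↥E = ⊥) (hirr₁ : (∀ U : Subgroup G, U ≤ ⁅V, E₁⁆ → E₁ ≤ Subgroup.normalizer (U : Set G) → U = ⊥ ∨ U = ⁅V, E₁⁆)) (hirr₂ : (∀ U : Subgroup G, U ≤ ⁅V, E₂⁆ → E₂ ≤ Subgroup.normalizer (U : Set G) → U = ⊥ ∨ U = ⁅V, E₂⁆)) (h12 : ¬ ⁅V, E₁⁆ ≤ ⁅V, E₂⁆) (h21 : ¬ ⁅V, E₂⁆ ≤ ⁅V, E₁⁆) (hc₁ : 2 < Nat.card E₁) (hc₂ : 2 < Nat.card E₂) : ⁅E₁, E₂⁆ = ⊥ ∧ E₁ ⊓ E₂ = ⊥ ∧ ⁅V, E₁⁆ ⊓ ⁅V, E₂⁆ = ⊥ ∧ ⁅V, E⁆ = ⁅V, E₁⁆ ⊔ ⁅V, E₂⁆ := by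
  have hVcomm : ∀ u ∈ V, ∀ v ∈ V, u * v = v * u := fun u hu v hv =>
    congrArg Subtype.val (hV.1.is_comm.comm ⟨u, hu⟩ ⟨v, hv⟩)
  have hE₁E : E₁ ≤ E := by rw [hgen]; exact le_sup_left
  have hE₂E : E₂ ≤ E := by rw [hgen]; exact le_sup_right
  have hs₁' : Cfsg.Agent.Helper21.Sn E₁ E := by
    have h := Cfsg.Agent.Helper21.Sn.of_isSubnormal E (E₁.subgroupOf E) hs₁
    rwa [Subgroup.map_subgroupOf_eq_of_le hE₁E] at h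
  have hs₂' : Cfsg.Agent.Helper21.Sn E₂ E := by
    have h := Cfsg.Agent.Helper21.Sn.of_isSubnormal E (E₂.subgroupOf E) hs₂
    rwa [Subgroup.map_subgroupOf_eq_of_le hE₂E] at h
  exact Cfsg.Agent.Helper21.subn_pair V E E₁ E₂ hVcomm hV.2 hEV hf hgen hs₁' hs₂'
    (fun P hP hPp => Cfsg.Agent.Helper21.sn_pgroup_eq_bot E hOp P hP hPp)
    hirr₁ hirr₂ h12 h21 hc₁ hc₂

end Cfsg.Agent.S0615
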