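import Cfsg.Statements.S0626
import Cfsg.Agent.Helper5.PStabGen
import Cfsg.Agent.S0625
import Cfsg.Agent.S0010

set_option autoImplicit false
open Cfsg

namespace Cfsg.Agent.S0626


open Cfsg.Agent.Helper5 Cfsg.Agent.Helper5.SL2
/-- For odd p, groups whose Sylow 2-subgroups are abelian are p-stable in the action sense. -/
theorem result {G : Type*} [Group G] [Finite G] {p : ℕ} [Fact p.Prime] (hp : p ≠ 2) (hab : ∀ T : Sylow 2 G, IsMulCommutative T) : Cfsg.IsActionPStable p G := by
  have hG : ¬ NA2 G := by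
    intro h
    obtain ⟨T⟩ : Nonempty (Sylow 2 G) := inferInstance
    exact h T (hab T)
  refine ⟨?_, ?_, ?_⟩
  · intro V _ hV
    exact pstable_of_not_NA2 hp hG V (fun v => ⟨1, by
      apply Subtype.ext; rw [pow_one, Subgroup.coe_pow]; exact hV.2 _ v.2⟩)
  · apply Cfsg.Agent.S0625.section_stable _ _ (Cfsg.Agent.S0010.pCore_isPGroup p)
    intro V _ hV
    exact pstable_of_not_NA2 hp (fun h => hG (NA2.of_surjective (QuotientGroup.mk' _)
      (QuotientGroup.mk'_surjective _) h)) V hV
  · intro S V _ hVle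
    apply pstable_of_not_NA2 hp (fun h => hG (NA2.of_subgroup h)) V
    intro v
    have hv : ((v : ↥(Subgroup.normalizer (Cfsg.thompsonSubgroupOf p (S : Subgroup G) : Set G))) : G) ∈
        (S : Subgroup G) := by
      have h1 := hVle (Subgroup.mem_map_of_mem _ v.2)
      obtain ⟨s, -, hs⟩ := h1
      have hs' : (s : G) = ((v : ↥(Subgroup.normalizer (Cfsg.thompsonSubgroupOf p (S : Subgroup G) : Set G))) : G) := hs
      rw [← hs']
      exact s.2
    obtain ⟨k, hk⟩ := S.isPGroup' ⟨_, hv⟩
    refine ⟨k, ?_⟩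
    apply Subtype.ext
    apply Subtype.ext
    have := congrArg Subtype.val hk
    simpa using this

end Cfsg.Agent.S0626
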