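import Cfsg.Statements.S0632
import Cfsg.Agent.S0667
import Cfsg.Agent.Helper10.PComp

set_option autoImplicit false
open Cfsg

namespace Cfsg.Agent.S0632


open scoped commutatorElement

variable {G : Type*} [Group G]

theorem frattini_setup [Finite G] {p : ℕ} [Fact p.Prime] (K : Subgroup G) [K.Normal]
    (hK : (Nat.card K).Coprime p) (P : Subgroup G) (hP : IsPGroup p P) (hn : (K ⊔ P).Normal) :
    K ⊓ P = ⊥ ∧ Subgroup.normalizer (P : Set G) ⊔ K = ⊤ := by
  obtain ⟨P₀, hP₀⟩ := hP.exists_le_sylow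
  have hVn : (P.map (QuotientGroup.mk' K)).Normal := by
    have : (K ⊔ P).map (QuotientGroup.mk' K) = P.map (QuotientGroup.mk' K) := by
      rw [Subgroup.map_sup, QuotientGroup.map_mk'_self, bot_sup_eq]
    rw [← this]
    exact Subgroup.Normal.map hn _ (QuotientGroup.mk'_surjective K)
  obtain ⟨h1, h2, h3, h4⟩ := Cfsg.Agent.S0667.lift_setup K hK (P.map (QuotientGroup.mk' K))
    (hP.map _) P₀
  have e : (P₀ : Subgroup G) ⊓ (P.map (QuotientGroup.mk' K)).comap (QuotientGroup.mk' K) = P := by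
    apply le_antisymm
    · intro x hx
      obtain ⟨y, hy, hyx⟩ := hx.2
      have hyv : y ∈ (P₀ : Subgroup G) ⊓
          (P.map (QuotientGroup.mk' K)).comap (QuotientGroup.mk' K) :=
        ⟨hP₀ hy, Subgroup.mem_map_of_mem _ hy⟩
      have hk : y⁻¹ * x ∈ K := by
        rw [← QuotientGroup.eq]; exact hyx
      have hmem : y⁻¹ * x ∈ K ⊓ ((P₀ : Subgroup G) ⊓
          (P.map (QuotientGroup.mk' K)).comap (QuotientGroup.mk' K)) :=
        ⟨hk, Subgroup.mul_mem _ (Subgroup.inv_mem _ hyv) hx⟩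
      rw [h2, Subgroup.mem_bot, inv_mul_eq_one] at hmem
      rw [← hmem]; exact hy
    · intro x hx
      exact ⟨hP₀ hx, Subgroup.mem_map_of_mem _ hx⟩
  rw [e] at h2 h4
  exact ⟨h2, h4⟩

theorem exists_iso (K : Subgroup G) [K.Normal] (P : Subgroup G)
    (hd : K ⊓ P = ⊥) (hN : Subgroup.normalizer (P : Set G) ⊔ K = ⊤) :
    ∃ Ψ : ↥(Subgroup.normalizer (P : Set G)) ⧸
          (Subgroup.centralizer (P : Set G)).subgroupOf (Subgroup.normalizer (P : Set G)) →*
        ↥(Subgroup.normalizer ((P.map (QuotientGroup.mk' K) : Subgroup (G ⧸ K)) : Set (G ⧸ K))) ⧸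
          (Subgroup.centralizer
            ((P.map (QuotientGroup.mk' K) : Subgroup (G ⧸ K)) : Set (G ⧸ K))).subgroupOf
            (Subgroup.normalizer ((P.map (QuotientGroup.mk' K) : Subgroup (G ⧸ K)) : Set (G ⧸ K))),
      Function.Bijective Ψ ∧ ∀ (a : G) (ha : a ∈ Subgroup.normalizer (P : Set G))
        (ha' : QuotientGroup.mk' K a ∈
          Subgroup.normalizer ((P.map (QuotientGroup.mk' K) : Subgroup (G ⧸ K)) : Set (G ⧸ K))),
        Ψ (QuotientGroup.mk' _ ⟨a, ha⟩) = QuotientGroup.mk' _ ⟨QuotientGroup.mk' K a, ha'⟩ := by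
  have hle : ∀ a ∈ Subgroup.normalizer (P : Set G), QuotientGroup.mk' K a ∈
      Subgroup.normalizer ((P.map (QuotientGroup.mk' K) : Subgroup (G ⧸ K)) : Set (G ⧸ K)) := by
    intro a ha
    exact Subgroup.le_normalizer_map (QuotientGroup.mk' K) (Subgroup.mem_map_of_mem _ ha)
  let ψ₀ : ↥(Subgroup.normalizer (P : Set G)) →*
      ↥(Subgroup.normalizer ((P.map (QuotientGroup.mk' K) : Subgroup (G ⧸ K)) : Set (G ⧸ K))) :=
    ((QuotientGroup.mk' K).comp (Subgroup.normalizer (P : Set G)).subtype).codRestrict _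
      (fun x => hle x x.2)
  let ψ := (QuotientGroup.mk' ((Subgroup.centralizer
      ((P.map (QuotientGroup.mk' K) : Subgroup (G ⧸ K)) : Set (G ⧸ K))).subgroupOf
        (Subgroup.normalizer
          ((P.map (QuotientGroup.mk' K) : Subgroup (G ⧸ K)) : Set (G ⧸ K))))).comp ψ₀
  have hker : (Subgroup.centralizer (P : Set G)).subgroupOf (Subgroup.normalizer (P : Set G)) ≤
      ψ.ker := by
    intro x hx
    rw [Subgroup.mem_subgroupOf] at hx
    rw [MonoidHom.mem_ker]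
    show QuotientGroup.mk' _ (ψ₀ x) = 1
    rw [QuotientGroup.mk'_apply, QuotientGroup.eq_one_iff, Subgroup.mem_subgroupOf]
    show QuotientGroup.mk' K (x : G) ∈ _
    refine Subgroup.mem_centralizer_iff.mpr ?_
    intro v hv
    obtain ⟨s, hs, rfl⟩ := hv
    have := Subgroup.mem_centralizer_iff.mp hx s hs
    rw [← map_mul, ← map_mul, this]
  refine ⟨QuotientGroup.lift _ ψ hker, ⟨?_, ?_⟩, ?_⟩
  · rw [injective_iff_map_eq_one]
    intro q hq
    obtain ⟨x, rfl⟩ := QuotientGroup.mk'_surjective _ q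
    have h1 : ψ x = 1 := hq
    have h2 : QuotientGroup.mk' K (x : G) ∈ Subgroup.centralizer
        ((P.map (QuotientGroup.mk' K) : Subgroup (G ⧸ K)) : Set (G ⧸ K)) := by
      have h3 : ψ₀ x ∈ (Subgroup.centralizer
          ((P.map (QuotientGroup.mk' K) : Subgroup (G ⧸ K)) : Set (G ⧸ K))).subgroupOf
          (Subgroup.normalizer
            ((P.map (QuotientGroup.mk' K) : Subgroup (G ⧸ K)) : Set (G ⧸ K))) := by
        rw [← QuotientGroup.eq_one_iff]; exact h1
      exact h3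
    rw [QuotientGroup.mk'_apply, QuotientGroup.eq_one_iff, Subgroup.mem_subgroupOf]
    refine Subgroup.mem_centralizer_iff.mpr ?_
    intro s hs
    have hc : (x : G) * s * (x : G)⁻¹ * s⁻¹ ∈ K ⊓ P := by
      refine ⟨?_, ?_⟩
      · show (x : G) * s * (x : G)⁻¹ * s⁻¹ ∈ K
        rw [← QuotientGroup.eq_one_iff]
        show QuotientGroup.mk' K ((x : G) * s * (x : G)⁻¹ * s⁻¹) = 1
        have := Subgroup.mem_centralizer_iff.mp h2 (QuotientGroup.mk' K s)
          (Subgroup.mem_map_of_mem _ hs)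
        rw [map_mul, map_mul, map_mul, map_inv, map_inv, ← this]
        group
      · exact P.mul_mem ((Subgroup.mem_normalizer_iff.mp x.2 s).1 hs) (P.inv_mem hs)
    rw [hd, Subgroup.mem_bot] at hc
    have e : s * (x : G) = ((x : G) * s * (x : G)⁻¹ * s⁻¹)⁻¹ * ((x : G) * s) := by group
    rw [e, hc, inv_one, one_mul]
  · intro q
    obtain ⟨⟨yb, hyb⟩, rfl⟩ := QuotientGroup.mk'_surjective _ q
    obtain ⟨y, rfl⟩ := QuotientGroup.mk'_surjective K yb
    have hy : y ∈ Subgroup.normalizer (P : Set G) ⊔ K := by rw [hN]; trivial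
    obtain ⟨n, hn, k, hk, rfl⟩ := Subgroup.mem_sup_of_normal_right.mp hy
    refine ⟨QuotientGroup.mk' _ ⟨n, hn⟩, ?_⟩
    show QuotientGroup.mk' _ (ψ₀ ⟨n, hn⟩) = _
    congr 1
    apply Subtype.ext
    show QuotientGroup.mk' K n = QuotientGroup.mk' K (n * k)
    rw [map_mul, QuotientGroup.mk'_apply, QuotientGroup.mk'_apply,
      (QuotientGroup.eq_one_iff k).mpr hk, mul_one]
  · intro a ha ha'
    rfl

theorem fwd_aux [Finite G] {p : ℕ} [Fact p.Prime] (K : Subgroup G) [K.Normal]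
    (P A : Subgroup G) (Pb Ab : Subgroup (G ⧸ K))
    (h1 : P.map (QuotientGroup.mk' K) = Pb)
    (hd : K ⊓ P = ⊥) (hN : Subgroup.normalizer (P : Set G) ⊔ K = ⊤)
    (hA : ∀ ab ∈ Ab, ∃ a ∈ A, QuotientGroup.mk' K a = ab)
    (hAN : A ≤ Subgroup.normalizer (P : Set G))
    (hmain : (A.subgroupOf (Subgroup.normalizer (P : Set G))).map
          (QuotientGroup.mk' ((Subgroup.centralizer (P : Set G)).subgroupOf
            (Subgroup.normalizer (P : Set G)))) ≤ Cfsg.pCore p _) :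
    (Ab.subgroupOf (Subgroup.normalizer (Pb : Set (G ⧸ K)))).map
          (QuotientGroup.mk' ((Subgroup.centralizer (Pb : Set (G ⧸ K))).subgroupOf
            (Subgroup.normalizer (Pb : Set (G ⧸ K))))) ≤ Cfsg.pCore p _ := by
  subst h1
  obtain ⟨Ψ, ⟨hinj, hsurj⟩, hΨ⟩ := exists_iso K P hd hN
  have hRp : IsPGroup p (Cfsg.pCore p (↥(Subgroup.normalizer (P : Set G)) ⧸
      (Subgroup.centralizer (P : Set G)).subgroupOf (Subgroup.normalizer (P : Set G)))) :=
    Sylow.sSup_of_normal _ (fun _ h => h.2) (fun _ h => h.1)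
  have hmap : (Cfsg.pCore p _).map Ψ ≤ Cfsg.pCore p _ :=
    le_sSup ⟨Subgroup.Normal.map inferInstance Ψ hsurj, hRp.map Ψ⟩
  rintro _ ⟨⟨ab, habN⟩, hab, rfl⟩
  rw [SetLike.mem_coe, Subgroup.mem_subgroupOf] at hab
  obtain ⟨a, ha, rfl⟩ := hA ab hab
  rw [← hΨ a (hAN ha) habN]
  apply hmap
  exact Subgroup.mem_map_of_mem Ψ (hmain (Subgroup.mem_map_of_mem _
    (by rw [Subgroup.mem_subgroupOf]; exact ha)))

theorem bwd_aux [Finite G] {p : ℕ} [Fact p.Prime] (K : Subgroup G) [K.Normal]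
    (P A : Subgroup G)
    (hd : K ⊓ P = ⊥) (hN : Subgroup.normalizer (P : Set G) ⊔ K = ⊤)
    (hmain : ((A.map (QuotientGroup.mk' K)).subgroupOf (Subgroup.normalizer
        ((P.map (QuotientGroup.mk' K) : Subgroup (G ⧸ K)) : Set (G ⧸ K)))).map
          (QuotientGroup.mk' ((Subgroup.centralizer
            ((P.map (QuotientGroup.mk' K) : Subgroup (G ⧸ K)) : Set (G ⧸ K))).subgroupOf
            (Subgroup.normalizer
              ((P.map (QuotientGroup.mk' K) : Subgroup (G ⧸ K)) : Set (G ⧸ K))))) ≤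
        Cfsg.pCore p _) :
    (A.subgroupOf (Subgroup.normalizer (P : Set G))).map
          (QuotientGroup.mk' ((Subgroup.centralizer (P : Set G)).subgroupOf
            (Subgroup.normalizer (P : Set G)))) ≤ Cfsg.pCore p _ := by
  obtain ⟨Ψ, ⟨hinj, hsurj⟩, hΨ⟩ := exists_iso K P hd hN
  have hRp : IsPGroup p (Cfsg.pCore p
      (↥(Subgroup.normalizer ((P.map (QuotientGroup.mk' K) : Subgroup (G ⧸ K)) : Set (G ⧸ K))) ⧸
          (Subgroup.centralizer
            ((P.map (QuotientGroup.mk' K) : Subgroup (G ⧸ K)) : Set (G ⧸ K))).subgroupOf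
            (Subgroup.normalizer
              ((P.map (QuotientGroup.mk' K) : Subgroup (G ⧸ K)) : Set (G ⧸ K))))) :=
    Sylow.sSup_of_normal _ (fun _ h => h.2) (fun _ h => h.1)
  have hcomap : (Cfsg.pCore p _).comap Ψ ≤ Cfsg.pCore p _ :=
    le_sSup ⟨inferInstance, hRp.comap_of_injective Ψ hinj⟩
  rintro _ ⟨⟨a, haN⟩, ha, rfl⟩
  rw [SetLike.mem_coe, Subgroup.mem_subgroupOf] at ha
  apply hcomap
  rw [Subgroup.mem_comap]
  have haN' := Subgroup.le_normalizer_map (QuotientGroup.mk' K)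
    (Subgroup.mem_map_of_mem (QuotientGroup.mk' K) haN)
  rw [hΨ a haN haN']
  apply hmain
  exact Subgroup.mem_map_of_mem _
    (by rw [Subgroup.mem_subgroupOf]; exact Subgroup.mem_map_of_mem _ ha)

/-- For a group with a nontrivial normal p-subgroup, p-stability passes to and from the quotient by the largest normal subgroup of order prime to p. -/
theorem result {G : Type*} [Group G] [Finite G] {p : ℕ} [Fact p.Prime] (hO : Cfsg.pCore p G ≠ ⊥) : Cfsg.IsPStable p G ↔ Cfsg.IsPStable p (G ⧸ Cfsg.pPrimeCore p G) := by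
  have hKc : (Nat.card (Cfsg.pPrimeCore p G)).Coprime p := Cfsg.Agent.S0667.pPrimeCore_coprime' p
  have hπs : Function.Surjective (QuotientGroup.mk' (Cfsg.pPrimeCore p G)) :=
    QuotientGroup.mk'_surjective _
  have hObar : Cfsg.pCore p (G ⧸ Cfsg.pPrimeCore p G) ≠ ⊥ := by
    intro h
    apply hO
    have hOp : IsPGroup p (Cfsg.pCore p G) :=
      Sylow.sSup_of_normal _ (fun _ h => h.2) (fun _ h => h.1)
    have hle : (Cfsg.pCore p G).map (QuotientGroup.mk' (Cfsg.pPrimeCore p G)) ≤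
        Cfsg.pCore p (G ⧸ Cfsg.pPrimeCore p G) :=
      le_sSup ⟨Subgroup.Normal.map inferInstance _ hπs, hOp.map _⟩
    rw [h, le_bot_iff, Subgroup.map_eq_bot_iff, QuotientGroup.ker_mk'] at hle
    obtain ⟨k, hk⟩ := (IsPGroup.iff_card).mp hOp
    have hcop : (Nat.card (Cfsg.pPrimeCore p G)).Coprime (Nat.card (Cfsg.pCore p G)) := by
      rw [hk]; exact Nat.Coprime.pow_right _ hKc
    have := (Subgroup.disjoint_of_coprime_natCard hcop).eq_bot
    rw [eq_bot_iff, ← this]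
    exact le_inf hle le_rfl
  constructor
  · rintro ⟨hodd, -, hst⟩
    refine ⟨hodd, hObar, ?_⟩
    intro Ab Pb hAb hPb hnorm hle hn hquad
    have hPbn : Pb.Normal := by
      have := Cfsg.Agent.Helper10.pPrimeCore_quotient p G
      rw [this, bot_sup_eq] at hn
      exact hn
    obtain ⟨Q, hQ⟩ := hAb.exists_le_sylow
    obtain ⟨P₁, rfl⟩ := Sylow.mapSurjective_surjective hπs p Q
    rw [Sylow.coe_mapSurjective] at hQ
    obtain ⟨h1, h2, h3, h4⟩ := Cfsg.Agent.S0667.lift_setup (Cfsg.pPrimeCore p G) hKc Pb hPb P₁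
    have hPp : IsPGroup p ((P₁ : Subgroup G) ⊓
        Pb.comap (QuotientGroup.mk' (Cfsg.pPrimeCore p G)) : Subgroup G) :=
      P₁.isPGroup'.to_le inf_le_left
    have hAp : IsPGroup p ((P₁ : Subgroup G) ⊓
        Ab.comap (QuotientGroup.mk' (Cfsg.pPrimeCore p G)) : Subgroup G) :=
      P₁.isPGroup'.to_le inf_le_left
    have hAmap : ∀ ab ∈ Ab, ∃ a ∈ ((P₁ : Subgroup G) ⊓
        Ab.comap (QuotientGroup.mk' (Cfsg.pPrimeCore p G)) : Subgroup G),
        QuotientGroup.mk' (Cfsg.pPrimeCore p G) a = ab := by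
      intro ab hab
      obtain ⟨a, ha, rfl⟩ := hQ hab
      exact ⟨a, ⟨ha, hab⟩, rfl⟩
    have hAnorm : ∀ a ∈ ((P₁ : Subgroup G) ⊓
        Ab.comap (QuotientGroup.mk' (Cfsg.pPrimeCore p G)) : Subgroup G),
        ∀ x ∈ ((P₁ : Subgroup G) ⊓
          Pb.comap (QuotientGroup.mk' (Cfsg.pPrimeCore p G)) : Subgroup G),
        a * x * a⁻¹ ∈ ((P₁ : Subgroup G) ⊓
          Pb.comap (QuotientGroup.mk' (Cfsg.pPrimeCore p G)) : Subgroup G) := by
      intro a ha x hx
      refine ⟨Subgroup.mul_mem _ (Subgroup.mul_mem _ ha.1 hx.1) (Subgroup.inv_mem _ ha.1), ?_⟩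
      show QuotientGroup.mk' (Cfsg.pPrimeCore p G) (a * x * a⁻¹) ∈ Pb
      rw [map_mul, map_mul, map_inv]
      exact hnorm _ ha.2 _ hx.2
    have hPle : ((P₁ : Subgroup G) ⊓
        Pb.comap (QuotientGroup.mk' (Cfsg.pPrimeCore p G)) : Subgroup G) ≤
        Cfsg.pPrimePCore p G := by
      intro x hx
      show QuotientGroup.mk' (Cfsg.pPrimeCore p G) x ∈ Cfsg.pCore p (G ⧸ Cfsg.pPrimeCore p G)
      have : Pb ≤ Cfsg.pCore p (G ⧸ Cfsg.pPrimeCore p G) := le_sSup ⟨hPbn, hPb⟩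
      exact this hx.2
    have hKPn : (Cfsg.pPrimeCore p G ⊔ ((P₁ : Subgroup G) ⊓
        Pb.comap (QuotientGroup.mk' (Cfsg.pPrimeCore p G)))).Normal := by
      rw [h3]; infer_instance
    have hAN : ((P₁ : Subgroup G) ⊓
        Ab.comap (QuotientGroup.mk' (Cfsg.pPrimeCore p G)) : Subgroup G) ≤
        Subgroup.normalizer ((((P₁ : Subgroup G) ⊓
          Pb.comap (QuotientGroup.mk' (Cfsg.pPrimeCore p G)) : Subgroup G)) : Set G) := by
      intro a ha
      exact Cfsg.Agent.S0650.mem_normalizer_of_conj _ a (fun x hx => hAnorm a ha x hx)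
    have hcomm_le : ∀ H : Subgroup G, H ≤ ((P₁ : Subgroup G) ⊓
          Pb.comap (QuotientGroup.mk' (Cfsg.pPrimeCore p G)) : Subgroup G) →
        ⁅H, ((P₁ : Subgroup G) ⊓
          Ab.comap (QuotientGroup.mk' (Cfsg.pPrimeCore p G)) : Subgroup G)⁆ ≤
        ((P₁ : Subgroup G) ⊓
          Pb.comap (QuotientGroup.mk' (Cfsg.pPrimeCore p G)) : Subgroup G) := by
      intro H hH
      rw [Subgroup.commutator_le]
      intro x hx y hy
      have e : ⁅x, y⁆ = x * (y * x⁻¹ * y⁻¹) := by rw [commutatorElement_def]; group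
      rw [e]
      exact Subgroup.mul_mem _ (hH hx) (hAnorm y hy x⁻¹ (Subgroup.inv_mem _ (hH hx)))
    have hq : ⁅⁅((P₁ : Subgroup G) ⊓
          Pb.comap (QuotientGroup.mk' (Cfsg.pPrimeCore p G)) : Subgroup G), ((P₁ : Subgroup G) ⊓
          Ab.comap (QuotientGroup.mk' (Cfsg.pPrimeCore p G)) : Subgroup G)⁆, ((P₁ : Subgroup G) ⊓
          Ab.comap (QuotientGroup.mk' (Cfsg.pPrimeCore p G)) : Subgroup G)⁆ = ⊥ := by
      rw [eq_bot_iff, ← h2]
      refine le_inf ?_ (hcomm_le _ (hcomm_le _ le_rfl))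
      have hmap : (⁅⁅((P₁ : Subgroup G) ⊓
          Pb.comap (QuotientGroup.mk' (Cfsg.pPrimeCore p G)) : Subgroup G), ((P₁ : Subgroup G) ⊓
          Ab.comap (QuotientGroup.mk' (Cfsg.pPrimeCore p G)) : Subgroup G)⁆, ((P₁ : Subgroup G) ⊓
          Ab.comap (QuotientGroup.mk' (Cfsg.pPrimeCore p G)) : Subgroup G)⁆).map
          (QuotientGroup.mk' (Cfsg.pPrimeCore p G)) = ⊥ := by
        rw [eq_bot_iff, Subgroup.map_commutator, Subgroup.map_commutator, ← hquad, h1]
        have hA' : ((P₁ : Subgroup G) ⊓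
          Ab.comap (QuotientGroup.mk' (Cfsg.pPrimeCore p G)) : Subgroup G).map
            (QuotientGroup.mk' (Cfsg.pPrimeCore p G)) ≤ Ab :=
          Subgroup.map_le_iff_le_comap.mpr inf_le_right
        exact Subgroup.commutator_mono (Subgroup.commutator_mono le_rfl hA') hA'
      have := (Subgroup.map_eq_bot_iff _).mp hmap
      rwa [QuotientGroup.ker_mk'] at this
    have hmain := hst _ _ hAp hPp hAnorm hPle hKPn hq
    exact fwd_aux (Cfsg.pPrimeCore p G) _ _ Pb Ab h1 h2 h4 hAmap hAN hmain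
  · rintro ⟨hodd, -, hst⟩
    refine ⟨hodd, hO, ?_⟩
    intro A P hAp hPp hnorm hle hn hquad
    obtain ⟨hd, hN⟩ := frattini_setup (Cfsg.pPrimeCore p G) hKc P hPp hn
    apply bwd_aux (Cfsg.pPrimeCore p G) P A hd hN
    have hPbn : (P.map (QuotientGroup.mk' (Cfsg.pPrimeCore p G))).Normal := by
      have : (Cfsg.pPrimeCore p G ⊔ P).map (QuotientGroup.mk' (Cfsg.pPrimeCore p G)) =
          P.map (QuotientGroup.mk' (Cfsg.pPrimeCore p G)) := by
        rw [Subgroup.map_sup, QuotientGroup.map_mk'_self, bot_sup_eq]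
      rw [← this]
      exact Subgroup.Normal.map hn _ hπs
    apply hst (A.map (QuotientGroup.mk' (Cfsg.pPrimeCore p G)))
      (P.map (QuotientGroup.mk' (Cfsg.pPrimeCore p G))) (hAp.map _) (hPp.map _)
    · rintro _ ⟨a, ha, rfl⟩ _ ⟨x, hx, rfl⟩
      rw [← map_mul, ← map_inv, ← map_mul]
      exact Subgroup.mem_map_of_mem _ (hnorm a ha x hx)
    · intro x hx
      show QuotientGroup.mk' _ x ∈ Cfsg.pCore p _
      have : (P.map (QuotientGroup.mk' (Cfsg.pPrimeCore p G))).map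
          (QuotientGroup.mk' (Cfsg.pPrimeCore p (G ⧸ Cfsg.pPrimeCore p G))) ≤ Cfsg.pCore p _ :=
        le_sSup ⟨Subgroup.Normal.map hPbn _ (QuotientGroup.mk'_surjective _),
          (hPp.map _).map _⟩
      exact this (Subgroup.mem_map_of_mem _ hx)
    · infer_instance
    · rw [← Subgroup.map_commutator, ← Subgroup.map_commutator, hquad, Subgroup.map_bot]

end Cfsg.Agent.S0632
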