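import Cfsg.Statements.S0640
import Cfsg.Agent.S0650

set_option autoImplicit false
open Cfsg

namespace Cfsg.Agent.S0640


open scoped commutatorElement

variable {R : Type*} [Group R]

theorem pow_conj_class2 (a e z : R) (hea : e * a = a * e * z) (hze : z * e = e * z) (k : ℕ) :
    e ^ k * a = a * e ^ k * z ^ k := by
  have hzpe : ∀ j : ℕ, z ^ j * e = e * z ^ j := fun j =>
    (Commute.pow_left (show Commute z e from hze) j).eq
  induction k with
  | zero => simp
  | succ k ih =>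
      calc e ^ (k + 1) * a = e ^ k * (e * a) := by rw [pow_succ, mul_assoc]
        _ = e ^ k * (a * e * z) := by rw [hea]
        _ = (e ^ k * a) * e * z := by simp only [mul_assoc]
        _ = a * e ^ k * z ^ k * e * z := by rw [ih]
        _ = a * e ^ k * (z ^ k * e) * z := by simp only [mul_assoc]
        _ = a * e ^ k * (e * z ^ k) * z := by rw [hzpe]
        _ = a * e ^ (k + 1) * z ^ (k + 1) := by rw [pow_succ, pow_succ]; simp only [mul_assoc]

theorem mul_pow_p_class2 {p : ℕ} [Fact p.Prime] (hp : p ≠ 2) (a e : R)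
    (hza : (e⁻¹ * a⁻¹ * e * a) * a = a * (e⁻¹ * a⁻¹ * e * a))
    (hze : (e⁻¹ * a⁻¹ * e * a) * e = e * (e⁻¹ * a⁻¹ * e * a))
    (hep : e ^ p * a = a * e ^ p) : (a * e) ^ p = a ^ p * e ^ p := by
  have hea : e * a = a * e * (e⁻¹ * a⁻¹ * e * a) := by group
  have h1 := Cfsg.Agent.S0650.pow_mul_class2 a e (e⁻¹ * a⁻¹ * e * a) hea hza hze p
  have h2 := pow_conj_class2 a e (e⁻¹ * a⁻¹ * e * a) hea hze p
  have hzp : (e⁻¹ * a⁻¹ * e * a) ^ p = 1 := by
    rw [hep] at h2
    have h3 : a * e ^ p * 1 = a * e ^ p * (e⁻¹ * a⁻¹ * e * a) ^ p := by rw [mul_one]; exact h2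
    exact (mul_left_cancel h3).symm
  have hsum : ∃ m, (∑ i ∈ Finset.range p, i) = p * m := by
    have h3 := Finset.sum_range_id_mul_two p
    obtain ⟨m, hm⟩ : ∃ m, p - 1 = 2 * m := by
      have hodd : Odd p := (Fact.out : p.Prime).odd_of_ne_two hp
      obtain ⟨m, hm⟩ := hodd
      exact ⟨m, by omega⟩
    refine ⟨m, ?_⟩
    rw [hm] at h3
    have h4 : (∑ i ∈ Finset.range p, i) * 2 = (p * m) * 2 := by rw [h3]; ring
    exact Nat.eq_of_mul_eq_mul_right (by norm_num) h4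
  obtain ⟨m, hm⟩ := hsum
  rw [h1, hm, pow_mul, hzp, one_pow, mul_one]

theorem iter_aux (α : MulAut R) (x w : R) (h1 : α x = x * w) (h2 : α w = w) (n : ℕ) :
    (α ^ n) x = x * w ^ n := by
  induction n with
  | zero => simp
  | succ n ih =>
    rw [pow_succ', MulAut.mul_apply, ih, map_mul, map_pow, h1, h2, pow_succ', mul_assoc]

theorem triv_of (α : MulAut R) {p q : ℕ} (hp : p.Prime) (hq : q.Prime) (hqp : q ≠ p)
    (hαq : α ^ q = 1) (x w : R) (h1 : α x = x * w) (h2 : α w = w) (k : ℕ)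
    (hw : w ^ p ^ k = 1) : w = 1 := by
  have h3 := iter_aux α x w h1 h2 q
  rw [hαq, MulAut.one_apply] at h3
  have h4 : w ^ q = 1 := by
    have h5 : x * 1 = x * w ^ q := by rw [mul_one]; exact h3
    exact (mul_left_cancel h5).symm
  have h5 : orderOf w ∣ Nat.gcd q (p ^ k) :=
    Nat.dvd_gcd (orderOf_dvd_of_pow_eq_one h4) (orderOf_dvd_of_pow_eq_one hw)
  have hc : Nat.gcd q (p ^ k) = 1 := Nat.Coprime.pow_right k ((Nat.coprime_primes hq hp).mpr hqp)
  rw [hc] at h5
  exact orderOf_eq_one_iff.mp (Nat.dvd_one.mp h5)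

theorem card_lt_pgroup [Finite R] {p : ℕ} [Fact p.Prime] (hR : IsPGroup p R) (H K : Subgroup R)
    (h : H < K) : p * Nat.card H ≤ Nat.card K := by
  obtain ⟨a, ha⟩ := (IsPGroup.iff_card).mp (hR.to_subgroup H)
  obtain ⟨b, hb⟩ := (IsPGroup.iff_card).mp (hR.to_subgroup K)
  have hdvd : Nat.card H ∣ Nat.card K := Subgroup.card_dvd_of_le h.le
  rw [ha, hb] at hdvd ⊢
  have hab : a ≤ b := (Nat.pow_dvd_pow_iff_le_right (Fact.out : p.Prime).one_lt).mp hdvd
  have hne : a ≠ b := by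
    intro hab'
    apply h.ne
    exact Subgroup.eq_of_le_of_card_ge h.le (by rw [ha, hb, hab'])
  have h1 : a + 1 ≤ b := by omega
  calc p * p ^ a = p ^ (a + 1) := by rw [pow_succ']
    _ ≤ p ^ b := Nat.pow_le_pow_right (Fact.out : p.Prime).pos h1

theorem zc_comm (X : Subgroup R) :
    ∀ a ∈ X ⊓ Subgroup.centralizer (X : Set R), ∀ b ∈ X ⊓ Subgroup.centralizer (X : Set R),
      a * b = b * a := fun a ha b hb => Subgroup.mem_centralizer_iff.mp hb.2 a ha.1


theorem sq_sub_one' (p : ℕ) (hp : 1 ≤ p) : p ^ 2 - 1 = (p - 1) * (p + 1) := by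
  obtain ⟨m, rfl⟩ : ∃ m, p = m + 1 := ⟨p - 1, by omega⟩
  rw [Nat.add_sub_cancel]
  have h : (m + 1) ^ 2 = m * (m + 1 + 1) + 1 := by ring
  rw [h, Nat.add_sub_cancel]

theorem core [Finite R] {p : ℕ} [Fact p.Prime] (hp : p ≠ 2) (hR : IsPGroup p R)
    (hrk : Cfsg.PRankLE p 2 R) (q : ℕ) (hq : q.Prime) (hqp : q ≠ p) (α : MulAut R)
    (hαq : α ^ q = 1) (hα1 : α ≠ 1) : q ∣ p ^ 2 - 1 := by
  classical
  have hp' : p.Prime := Fact.out
  haveI : Fact q.Prime := ⟨hq⟩
  have hpk : ∀ x : R, ∃ k : ℕ, x ^ p ^ k = 1 := fun x => hR x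
  -- Step 1: a minimal invariant subgroup with nontrivial action
  have hSne : ({Q : Subgroup R | (∀ x ∈ Q, α x ∈ Q) ∧ ∃ x ∈ Q, α x ≠ x}).Nonempty := by
    refine ⟨⊤, fun x _ => Subgroup.mem_top _, ?_⟩
    by_contra h
    push Not at h
    exact hα1 (MulEquiv.ext fun x => h x (Subgroup.mem_top x))
  obtain ⟨Q, ⟨hQinv, x₀, hx₀Q, hx₀⟩, hQmin⟩ := Set.exists_min_image
    {Q : Subgroup R | (∀ x ∈ Q, α x ∈ Q) ∧ ∃ x ∈ Q, α x ≠ x} (fun Q => Nat.card Q)
    (Set.toFinite _) hSne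
  have hsub : ∀ Q' : Subgroup R, Q' ≤ Q → Q' ≠ Q → (∀ x ∈ Q', α x ∈ Q') →
      ∀ x ∈ Q', α x = x := by
    intro Q' hle hne hinv x hx
    by_contra hxne
    have h1 := hQmin Q' ⟨hinv, x, hx, hxne⟩
    exact hne (Subgroup.eq_of_le_of_card_ge hle h1)
  -- Step 2: Q = [Q, α]
  have hgen : Subgroup.closure {g : R | ∃ x ∈ Q, g = x⁻¹ * α x} = Q := by
    by_contra hne
    have hle : Subgroup.closure {g : R | ∃ x ∈ Q, g = x⁻¹ * α x} ≤ Q := by
      rw [Subgroup.closure_le]
      rintro _ ⟨x, hx, rfl⟩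
      exact Q.mul_mem (Q.inv_mem hx) (hQinv x hx)
    have hinvK : ∀ g ∈ Subgroup.closure {g : R | ∃ x ∈ Q, g = x⁻¹ * α x},
        α g ∈ Subgroup.closure {g : R | ∃ x ∈ Q, g = x⁻¹ * α x} := by
      intro g hg
      induction hg using Subgroup.closure_induction with
      | mem g hg =>
        obtain ⟨x, hx, rfl⟩ := hg
        apply Subgroup.subset_closure
        exact ⟨α x, hQinv x hx, by rw [map_mul, map_inv]⟩
      | one => rw [map_one]; exact Subgroup.one_mem _
      | mul a b _ _ iha ihb => rw [map_mul]; exact Subgroup.mul_mem _ iha ihb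
      | inv a _ iha => rw [map_inv]; exact Subgroup.inv_mem _ iha
    have htriv := hsub _ hle hne hinvK
    apply hx₀
    have hw : x₀⁻¹ * α x₀ ∈ Subgroup.closure {g : R | ∃ x ∈ Q, g = x⁻¹ * α x} :=
      Subgroup.subset_closure ⟨x₀, hx₀Q, rfl⟩
    obtain ⟨k, hk⟩ := hpk (x₀⁻¹ * α x₀)
    have h1 := triv_of α hp' hq hqp hαq x₀ (x₀⁻¹ * α x₀) (by group) (htriv _ hw) k hk
    exact (inv_mul_eq_one.mp h1).symm
  -- Step 3: class two
  have hDle : ⁅Q, Q⁆ ≤ Q := by
    rw [Subgroup.commutator_le]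
    intro a ha b hb
    rw [commutatorElement_def]
    exact Q.mul_mem (Q.mul_mem (Q.mul_mem ha hb) (Q.inv_mem ha)) (Q.inv_mem hb)
  have hQne : Q ≠ ⊥ := by
    intro h
    rw [h, Subgroup.mem_bot] at hx₀Q
    rw [hx₀Q, map_one] at hx₀
    exact hx₀ rfl
  have hDne : ⁅Q, Q⁆ ≠ Q := by
    intro h
    haveI : Nontrivial Q := (Subgroup.nontrivial_iff_ne_bot Q).mpr hQne
    haveI : Group.IsNilpotent Q := (hR.to_subgroup Q).isNilpotent
    have h1 := Group.IsSolvable.commutator_lt_top_of_nontrivial ↥Q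
    apply h1.ne
    apply Subgroup.map_injective Q.subtype_injective
    rw [commutator_def, Subgroup.map_commutator, ← MonoidHom.range_eq_map, Subgroup.range_subtype]
    exact h
  have hDinv : ∀ c ∈ ⁅Q, Q⁆, α c ∈ ⁅Q, Q⁆ := by
    intro c hc
    have hmapQ : Q.map α.toMonoidHom ≤ Q := by
      rintro _ ⟨x, hx, rfl⟩; exact hQinv x hx
    have h1 : (⁅Q, Q⁆).map α.toMonoidHom ≤ ⁅Q, Q⁆ := by
      rw [Subgroup.map_commutator]; exact Subgroup.commutator_mono hmapQ hmapQ
    exact h1 ⟨c, hc, rfl⟩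
  have hDtriv := hsub _ hDle hDne hDinv
  have hcent : ∀ c ∈ ⁅Q, Q⁆, ∀ g ∈ Q, g * c = c * g := by
    intro c hc g hg
    rw [← hgen] at hg
    induction hg using Subgroup.closure_induction with
    | mem g hg =>
      obtain ⟨x, hx, rfl⟩ := hg
      have hd : c * x * c⁻¹ * x⁻¹ ∈ ⁅Q, Q⁆ := Subgroup.commutator_mem_commutator (hDle hc) hx
      have h1 := hDtriv _ hd
      rw [map_mul, map_mul, map_mul, map_inv, map_inv, hDtriv c hc] at h1
      have h2 : α x * c⁻¹ * (α x)⁻¹ = x * c⁻¹ * x⁻¹ := by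
        have h3 := congrArg (fun t => c⁻¹ * t) h1
        simpa [mul_assoc] using h3
      have h3 : x⁻¹ * α x * c⁻¹ = c⁻¹ * (x⁻¹ * α x) := by
        calc x⁻¹ * α x * c⁻¹ = x⁻¹ * (α x * c⁻¹ * (α x)⁻¹) * α x := by group
          _ = x⁻¹ * (x * c⁻¹ * x⁻¹) * α x := by rw [h2]
          _ = c⁻¹ * (x⁻¹ * α x) := by group
      calc x⁻¹ * α x * c = c * (c⁻¹ * (x⁻¹ * α x)) * c := by group
        _ = c * (x⁻¹ * α x * c⁻¹) * c := by rw [h3]
        _ = c * (x⁻¹ * α x) := by group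
    | one => rw [one_mul, mul_one]
    | mul a b _ _ iha ihb => rw [mul_assoc, ihb, ← mul_assoc, iha, mul_assoc]
    | inv a _ iha =>
      calc a⁻¹ * c = a⁻¹ * (c * a) * a⁻¹ := by group
        _ = a⁻¹ * (a * c) * a⁻¹ := by rw [iha]
        _ = c * a⁻¹ := by group
  -- Step 4: exponent p
  have hmulp : ∀ a ∈ Q, ∀ e ∈ Q, e ^ p * a = a * e ^ p → (a * e) ^ p = a ^ p * e ^ p := by
    intro a ha e he hep
    have hz : e⁻¹ * a⁻¹ * e * a ∈ ⁅Q, Q⁆ := by
      have h1 := Subgroup.commutator_mem_commutator (Q.inv_mem he) (Q.inv_mem ha)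
      rw [commutatorElement_def, inv_inv, inv_inv] at h1
      exact h1
    exact mul_pow_p_class2 hp a e (hcent _ hz a ha).symm (hcent _ hz e he).symm hep
  have hexp : ∀ x ∈ Q, x ^ p = 1 := by
    let E : Subgroup R :=
      { carrier := {x | x ∈ Q ∧ x ^ p = 1}
        mul_mem' := by
          rintro a e ⟨ha, hap⟩ ⟨he, hep⟩
          refine ⟨Q.mul_mem ha he, ?_⟩
          rw [hmulp a ha e he (by rw [hep, one_mul, mul_one]), hap, hep, one_mul]
        one_mem' := ⟨Q.one_mem, one_pow p⟩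
        inv_mem' := by
          rintro x ⟨hx, hxp⟩
          exact ⟨Q.inv_mem hx, by rw [inv_pow, hxp, inv_one]⟩ }
    by_contra hcon
    push Not at hcon
    obtain ⟨y₀, hy₀Q, hy₀⟩ := hcon
    have hEle : E ≤ Q := fun x hx => hx.1
    have hEne : E ≠ Q := by
      intro h
      have h1 : y₀ ∈ E := by rw [h]; exact hy₀Q
      exact hy₀ h1.2
    have hEinv : ∀ x ∈ E, α x ∈ E := fun x hx =>
      ⟨hQinv x hx.1, by rw [← map_pow, hx.2, map_one]⟩
    have hEtriv := hsub E hEle hEne hEinv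
    have hall : ∀ k : ℕ, ∀ x ∈ Q, x ^ p ^ k = 1 → α x = x := by
      intro k
      induction k with
      | zero =>
        intro x _ hx
        rw [pow_zero, pow_one] at hx
        rw [hx, map_one]
      | succ k ih =>
        intro x hx hxk
        have h1 : α (x ^ p) = x ^ p :=
          ih (x ^ p) (Q.pow_mem hx p) (by rw [← pow_mul, ← pow_succ']; exact hxk)
        have hyQ : α x ∈ Q := hQinv x hx
        have hyp : (α x) ^ p = x ^ p := by rw [← map_pow]; exact h1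
        have hw : x⁻¹ * α x ∈ E := by
          refine ⟨Q.mul_mem (Q.inv_mem hx) hyQ, ?_⟩
          have h2 : (α x) ^ p * x⁻¹ = x⁻¹ * (α x) ^ p := by
            rw [hyp]
            have h3 : x ^ p * x⁻¹ = x⁻¹ * x ^ p := ((Commute.refl x).pow_left p).inv_right.eq
            exact h3
          rw [hmulp x⁻¹ (Q.inv_mem hx) (α x) hyQ h2, hyp, inv_pow, inv_mul_cancel]
        have h2 := hEtriv _ hw
        have h3 := triv_of α hp' hq hqp hαq x (x⁻¹ * α x) (by group) h2 1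
          (by rw [pow_one]; exact hw.2)
        exact (inv_mul_eq_one.mp h3).symm
    obtain ⟨k, hk⟩ := hpk x₀
    exact hx₀ (hall k x₀ hx₀Q hk)
  -- Step 5: orders
  have hab_le : ∀ A : Subgroup R, A ≤ Q → (∀ a ∈ A, ∀ b ∈ A, a * b = b * a) →
      Nat.card A ≤ p ^ 2 := by
    intro A hA hcomm
    exact hrk A (.of_setLike_mul_comm hcomm) (fun a ha => hexp a (hA ha))
  have hp2 : 2 ≤ p := hp'.two_le
  have hcardQ : Nat.card Q ≤ p ^ 3 := by
    by_cases hab : ∀ a ∈ Q, ∀ b ∈ Q, a * b = b * a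
    · exact (hab_le Q le_rfl hab).trans (Nat.pow_le_pow_right hp'.pos (by norm_num))
    push Not at hab
    obtain ⟨x, hx, b, hb, hxb⟩ := hab
    have hZne : Q ⊓ Subgroup.centralizer (Q : Set R) ≠ ⊥ := by
      haveI : Nontrivial Q := (Subgroup.nontrivial_iff_ne_bot Q).mpr hQne
      haveI := (hR.to_subgroup Q).center_nontrivial
      obtain ⟨z, hz1⟩ := exists_ne (1 : Subgroup.center Q)
      intro h
      have hmem : ((z : Q) : R) ∈ Q ⊓ Subgroup.centralizer (Q : Set R) := by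
        refine ⟨(z : Q).2, Subgroup.mem_centralizer_iff.mpr ?_⟩
        intro y hy
        have := Subgroup.mem_center_iff.mp z.2 ⟨y, hy⟩
        exact congrArg Subtype.val this
      rw [h, Subgroup.mem_bot] at hmem
      exact hz1 (Subtype.ext (Subtype.ext hmem))
    have hZp : p ≤ Nat.card ↥(Q ⊓ Subgroup.centralizer (Q : Set R)) := by
      have := card_lt_pgroup hR ⊥ _ (bot_lt_iff_ne_bot.mpr hZne)
      rwa [Subgroup.card_bot, mul_one] at this
    have hxZ : x ∉ Q ⊓ Subgroup.centralizer (Q : Set R) := fun h =>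
      hxb (Subgroup.mem_centralizer_iff.mp h.2 b hb).symm
    have hxC : x ∈ Q ⊓ Subgroup.centralizer ({x} : Set R) :=
      ⟨hx, Subgroup.mem_centralizer_iff.mpr (by rintro _ rfl; rfl)⟩
    have hCQ : Q ⊓ Subgroup.centralizer ({x} : Set R) ≤ Q := inf_le_left
    have hZZC : Q ⊓ Subgroup.centralizer (Q : Set R) <
        (Q ⊓ Subgroup.centralizer ({x} : Set R)) ⊓
          Subgroup.centralizer ((Q ⊓ Subgroup.centralizer ({x} : Set R) : Subgroup R) : Set R) := by
      refine lt_of_le_of_ne ?_ ?_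
      · intro z hz
        refine ⟨⟨hz.1, Subgroup.mem_centralizer_iff.mpr ?_⟩, Subgroup.mem_centralizer_iff.mpr ?_⟩
        · rintro _ rfl
          exact Subgroup.mem_centralizer_iff.mp hz.2 _ hx
        · intro c hc
          exact Subgroup.mem_centralizer_iff.mp hz.2 c (hCQ hc)
      · intro h
        apply hxZ
        rw [h]
        refine ⟨hxC, Subgroup.mem_centralizer_iff.mpr ?_⟩
        intro c hc
        exact (Subgroup.mem_centralizer_iff.mp hc.2 x rfl).symm
    have hZCle := hab_le _ (inf_le_left.trans hCQ)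
      (zc_comm (Q ⊓ Subgroup.centralizer ({x} : Set R)))
    have h2 := card_lt_pgroup hR _ _ hZZC
    have hZle : Nat.card ↥(Q ⊓ Subgroup.centralizer (Q : Set R)) ≤ p := by
      have h3 : p * Nat.card ↥(Q ⊓ Subgroup.centralizer (Q : Set R)) ≤ p * p := by
        rw [← sq]; exact h2.trans hZCle
      exact Nat.le_of_mul_le_mul_left h3 hp'.pos
    have hCab : ∀ a ∈ Q ⊓ Subgroup.centralizer ({x} : Set R),
        ∀ b ∈ Q ⊓ Subgroup.centralizer ({x} : Set R), a * b = b * a := by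
      by_contra hcon
      push Not at hcon
      obtain ⟨y, hy, b', hb', hyb⟩ := hcon
      have hyC₂ : y ∈ (Q ⊓ Subgroup.centralizer ({x} : Set R)) ⊓
          Subgroup.centralizer ({y} : Set R) :=
        ⟨hy, Subgroup.mem_centralizer_iff.mpr (by rintro _ rfl; rfl)⟩
      have hlt : (Q ⊓ Subgroup.centralizer ({x} : Set R)) ⊓
          Subgroup.centralizer ((Q ⊓ Subgroup.centralizer ({x} : Set R) : Subgroup R) : Set R) <
          ((Q ⊓ Subgroup.centralizer ({x} : Set R)) ⊓ Subgroup.centralizer ({y} : Set R)) ⊓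
          Subgroup.centralizer ((((Q ⊓ Subgroup.centralizer ({x} : Set R)) ⊓
            Subgroup.centralizer ({y} : Set R) : Subgroup R)) : Set R) := by
        refine lt_of_le_of_ne ?_ ?_
        · intro z hz
          refine ⟨⟨hz.1, Subgroup.mem_centralizer_iff.mpr ?_⟩,
            Subgroup.mem_centralizer_iff.mpr ?_⟩
          · rintro _ rfl
            exact Subgroup.mem_centralizer_iff.mp hz.2 _ hy
          · intro c hc
            exact Subgroup.mem_centralizer_iff.mp hz.2 c hc.1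
        · intro h
          have hyZC : y ∈ (Q ⊓ Subgroup.centralizer ({x} : Set R)) ⊓ Subgroup.centralizer
              ((Q ⊓ Subgroup.centralizer ({x} : Set R) : Subgroup R) : Set R) := by
            rw [h]
            refine ⟨hyC₂, Subgroup.mem_centralizer_iff.mpr ?_⟩
            intro c hc
            exact (Subgroup.mem_centralizer_iff.mp hc.2 y rfl).symm
          exact hyb (Subgroup.mem_centralizer_iff.mp hyZC.2 b' hb').symm
      have h1 := card_lt_pgroup hR _ _ hlt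
      have h3 := hab_le _ (inf_le_left.trans (inf_le_left.trans hCQ))
        (zc_comm ((Q ⊓ Subgroup.centralizer ({x} : Set R)) ⊓ Subgroup.centralizer ({y} : Set R)))
      have h4 : p * (p * p) ≤ p ^ 2 :=
        ((Nat.mul_le_mul_left p ((Nat.mul_le_mul_left p hZp).trans h2)).trans h1).trans h3
      have h5 : p * (p * p) ≤ 1 * (p * p) := by rw [one_mul]; rw [sq] at h4; exact h4
      have h6 : p ≤ 1 := Nat.le_of_mul_le_mul_right h5 (Nat.mul_pos hp'.pos hp'.pos)
      omega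
    have hCle := hab_le _ hCQ hCab
    have hZmem : ∀ y ∈ Q, y * x * y⁻¹ * x⁻¹ ∈ Q ⊓ Subgroup.centralizer (Q : Set R) := by
      intro y hy
      have hd : y * x * y⁻¹ * x⁻¹ ∈ ⁅Q, Q⁆ := Subgroup.commutator_mem_commutator hy hx
      exact ⟨hDle hd, Subgroup.mem_centralizer_iff.mpr (fun g hg => hcent _ hd g hg)⟩
    let φ : ↥Q →* ↥(Q ⊓ Subgroup.centralizer (Q : Set R)) :=
      { toFun := fun y => ⟨(y : R) * x * (y : R)⁻¹ * x⁻¹, hZmem y y.2⟩
        map_one' := by apply Subtype.ext; simp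
        map_mul' := by
          intro y₁ y₂
          apply Subtype.ext
          show ((y₁ : R) * y₂) * x * ((y₁ : R) * y₂)⁻¹ * x⁻¹ =
            ((y₁ : R) * x * (y₁ : R)⁻¹ * x⁻¹) * ((y₂ : R) * x * (y₂ : R)⁻¹ * x⁻¹)
          have hd₂ : (y₂ : R) * x * (y₂ : R)⁻¹ * x⁻¹ ∈ ⁅Q, Q⁆ :=
            Subgroup.commutator_mem_commutator y₂.2 hx
          have h1 : (y₁ : R) * ((y₂ : R) * x * (y₂ : R)⁻¹ * x⁻¹) =
              ((y₂ : R) * x * (y₂ : R)⁻¹ * x⁻¹) * y₁ := hcent _ hd₂ _ y₁.2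
          have h2 : ((y₁ : R) * x * (y₁ : R)⁻¹ * x⁻¹) * ((y₂ : R) * x * (y₂ : R)⁻¹ * x⁻¹) =
              ((y₂ : R) * x * (y₂ : R)⁻¹ * x⁻¹) * ((y₁ : R) * x * (y₁ : R)⁻¹ * x⁻¹) :=
            hcent _ hd₂ _ (hDle (Subgroup.commutator_mem_commutator y₁.2 hx))
          calc ((y₁ : R) * y₂) * x * ((y₁ : R) * y₂)⁻¹ * x⁻¹
              = ((y₁ : R) * ((y₂ : R) * x * (y₂ : R)⁻¹ * x⁻¹)) * x * (y₁ : R)⁻¹ * x⁻¹ := by group
            _ = (((y₂ : R) * x * (y₂ : R)⁻¹ * x⁻¹) * y₁) * x * (y₁ : R)⁻¹ * x⁻¹ := by rw [h1]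
            _ = ((y₂ : R) * x * (y₂ : R)⁻¹ * x⁻¹) * ((y₁ : R) * x * (y₁ : R)⁻¹ * x⁻¹) := by
                group
            _ = _ := h2.symm }
    have hker : (φ.ker).map Q.subtype ≤ Q ⊓ Subgroup.centralizer ({x} : Set R) := by
      rintro _ ⟨y, hy, rfl⟩
      refine ⟨y.2, Subgroup.mem_centralizer_iff.mpr ?_⟩
      intro x' hx'
      rw [Set.mem_singleton_iff] at hx'
      rw [hx']
      have h1 : (y : R) * x * (y : R)⁻¹ * x⁻¹ = 1 :=
        congrArg Subtype.val (MonoidHom.mem_ker.mp hy)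
      have h3 : (y : R) * x = x * y := by
        calc (y : R) * x = ((y : R) * x * (y : R)⁻¹ * x⁻¹) * (x * y) := by group
          _ = x * y := by rw [h1, one_mul]
      exact h3.symm
    have hcard1 : Nat.card φ.ker ≤ Nat.card ↥(Q ⊓ Subgroup.centralizer ({x} : Set R)) := by
      rw [← Subgroup.card_map_of_injective Q.subtype_injective]
      exact Subgroup.card_le_of_le hker
    have hcard2 : Nat.card Q = Nat.card φ.ker * Nat.card φ.range := by
      rw [← Subgroup.index_ker, Subgroup.card_mul_index]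
    have hcard3 : Nat.card φ.range ≤ p := (Subgroup.card_le_card_group _).trans hZle
    calc Nat.card Q = Nat.card φ.ker * Nat.card φ.range := hcard2
      _ ≤ p ^ 2 * p := Nat.mul_le_mul (hcard1.trans hCle) hcard3
      _ = p ^ 3 := by ring
  have hfix3 : Nat.card Q = p ^ 3 → ∃ c ∈ Q, c ≠ 1 ∧ α c = c := by
    intro h3
    have hnab : ¬ ∀ a ∈ Q, ∀ b ∈ Q, a * b = b * a := by
      intro hab
      have h4 := hab_le Q le_rfl hab
      rw [h3] at h4
      have h5 : p ^ 2 < p ^ 3 := Nat.pow_lt_pow_right hp'.one_lt (by norm_num)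
      omega
    push Not at hnab
    obtain ⟨a, ha, b, hb, hab⟩ := hnab
    have hd : a * b * a⁻¹ * b⁻¹ ∈ ⁅Q, Q⁆ := Subgroup.commutator_mem_commutator ha hb
    refine ⟨a * b * a⁻¹ * b⁻¹, hDle hd, ?_, hDtriv _ hd⟩
    intro h
    apply hab
    calc a * b = (a * b * a⁻¹ * b⁻¹) * (b * a) := by group
      _ = b * a := by rw [h, one_mul]
  -- Step 6: counting
  let F : Subgroup R :=
    { carrier := {x | x ∈ Q ∧ α x = x}
      mul_mem' := by
        rintro a b ⟨ha, ha'⟩ ⟨hb, hb'⟩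
        exact ⟨Q.mul_mem ha hb, by rw [map_mul, ha', hb']⟩
      one_mem' := ⟨Q.one_mem, map_one α⟩
      inv_mem' := by
        rintro a ⟨ha, ha'⟩
        exact ⟨Q.inv_mem ha, by rw [map_inv, ha']⟩ }
  have hFQ : F ≤ Q := fun x hx => hx.1
  have hFlt : F < Q := lt_of_le_of_ne hFQ (fun h => hx₀ (by
    have h1 : x₀ ∈ F := by rw [h]; exact hx₀Q
    exact h1.2))
  have hmod : Nat.card Q ≡ Nat.card F [MOD q] := by
    let f : Function.End ↥Q := fun x => ⟨α x, hQinv x x.2⟩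
    have hfn : ∀ n : ℕ, ∀ x : ↥Q, (((f ^ n) x : ↥Q) : R) = (α ^ n) x := by
      intro n
      induction n with
      | zero => intro x; rfl
      | succ n ih =>
        intro x
        rw [pow_succ', pow_succ']
        show α (((f ^ n) x : ↥Q) : R) = α ((α ^ n) x)
        rw [ih]
    have hf : f ^ q ^ 1 = 1 := by
      rw [pow_one]
      funext x
      apply Subtype.ext
      rw [hfn, hαq]
      rfl
    haveI : Fintype ↥Q := Fintype.ofFinite _
    have h := Equiv.Perm.card_fixedPoints_modEq (p := q) (n := 1) hf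
    have e : ↥(Function.fixedPoints f) ≃ ↥F :=
      { toFun := fun x => ⟨((x : ↥Q) : R), ⟨(x : ↥Q).2, congrArg Subtype.val x.2⟩⟩
        invFun := fun y => ⟨⟨y.1, y.2.1⟩, Subtype.ext y.2.2⟩
        left_inv := fun _ => rfl
        right_inv := fun _ => rfl }
    rw [← Nat.card_eq_fintype_card, ← Nat.card_eq_fintype_card, Nat.card_congr e] at h
    exact h
  obtain ⟨a, ha⟩ := (IsPGroup.iff_card).mp (hR.to_subgroup Q)
  obtain ⟨b, hb⟩ := (IsPGroup.iff_card).mp (hR.to_subgroup F)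
  have hba : b + 1 ≤ a := by
    have h1 := card_lt_pgroup hR F Q hFlt
    rw [ha, hb, ← pow_succ'] at h1
    exact (Nat.pow_le_pow_iff_right hp'.one_lt).mp h1
  have ha3 : a ≤ 3 := by
    rw [ha] at hcardQ
    exact (Nat.pow_le_pow_iff_right hp'.one_lt).mp hcardQ
  have hb1 : a = 3 → 1 ≤ b := by
    intro h3
    obtain ⟨c, hc, hc1, hc2⟩ := hfix3 (by rw [ha, h3])
    by_contra hb0
    have hb0' : b = 0 := by omega
    rw [hb0', pow_zero] at hb
    have hFbot : F = ⊥ := (Subgroup.card_eq_one).mp hb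
    have hcF : c ∈ F := ⟨hc, hc2⟩
    rw [hFbot, Subgroup.mem_bot] at hcF
    exact hc1 hcF
  have hdvd : q ∣ p ^ a - p ^ b := by
    rw [ha, hb] at hmod
    exact (Nat.modEq_iff_dvd' (Nat.pow_le_pow_right hp'.pos (by omega))).mp hmod.symm
  have hcop : Nat.Coprime q (p ^ b) :=
    Nat.Coprime.pow_right b ((Nat.coprime_primes hq hp').mpr hqp)
  have hp21 : p ^ 2 - 1 = (p - 1) * (p + 1) := sq_sub_one' p hp'.pos
  have hd : a = b + 1 ∨ a = b + 2 := by omega
  rcases hd with hd | hd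
  · rw [hd, pow_succ, ← Nat.mul_sub_one] at hdvd
    have h1 : q ∣ p - 1 := hcop.dvd_of_dvd_mul_left hdvd
    rw [hp21]
    exact h1.trans (dvd_mul_right _ _)
  · have h2 : p ^ (b + 2) - p ^ b = p ^ b * (p ^ 2 - 1) := by rw [pow_add, Nat.mul_sub_one]
    rw [hd, h2] at hdvd
    exact hcop.dvd_of_dvd_mul_left hdvd

/-- For odd p, a prime q ≠ p dividing the order of the automorphism group of a p-group of rank at most 2 divides p² - 1 and is less than p. -/
theorem result {R : Type*} [Group R] [Finite R] {p : ℕ} [Fact p.Prime] (hp : p ≠ 2) (hR : IsPGroup p R) (hrk : Cfsg.PRankLE p 2 R) (q : ℕ) (hq : q.Prime) (hqp : q ≠ p) (hdvd : q ∣ Nat.card (MulAut R)) : q ∣ p ^ 2 - 1 ∧ q < p := by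
  haveI : Fact q.Prime := ⟨hq⟩
  obtain ⟨α, hα⟩ := exists_prime_orderOf_dvd_card' (G := MulAut R) q hdvd
  have hαq : α ^ q = 1 := by rw [← hα]; exact pow_orderOf_eq_one α
  have hα1 : α ≠ 1 := by
    intro h; rw [h, orderOf_one] at hα; exact hq.one_lt.ne hα
  have h1 := core hp hR hrk q hq hqp α hαq hα1
  refine ⟨h1, ?_⟩
  have hp' : p.Prime := Fact.out
  by_contra hlt
  push Not at hlt
  have hlt' : p < q := lt_of_le_of_ne hlt (Ne.symm hqp)
  have hp21 : p ^ 2 - 1 = (p - 1) * (p + 1) := sq_sub_one' p hp'.pos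
  rw [hp21] at h1
  have hp2 := hp'.two_le
  rcases (Nat.Prime.dvd_mul hq).mp h1 with h | h
  · have := Nat.le_of_dvd (by omega) h
    omega
  · have hle := Nat.le_of_dvd (by omega) h
    have hq' : q = p + 1 := by omega
    have hodd : Odd p := hp'.odd_of_ne_two hp
    have heven : Even q := by rw [hq']; exact hodd.add_one
    have hq2 : q = 2 := (Nat.Prime.even_iff hq).mp heven
    omega

end Cfsg.Agent.S0640
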