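import Cfsg.Statements.S0647

set_option autoImplicit false
open Cfsg

namespace Cfsg.Agent.S0647

theorem adjoin_comm {S : Type*} [Group S] (A : Subgroup S) (hA : IsMulCommutative A) (x : S)
    (hx : ∀ a ∈ A, a * x = x * a) :
    IsMulCommutative (Subgroup.closure ((A : Set S) ∪ {x})) := by
  apply Subgroup.isMulCommutative_closure
  intro y hy z hz
  rcases hy with hy | hy <;> rcases hz with hz | hz
  · exact setLike_mul_comm hy hz
  · rw [Set.mem_singleton_iff] at hz; subst hz; exact hx y hy
  · rw [Set.mem_singleton_iff] at hy; subst hy; exact (hx z hz).symm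
  · rw [Set.mem_singleton_iff] at hy hz; subst hy; subst hz; rfl

/-- For a nonempty family of maximal abelian subgroups of a finite group, the intersection of the family is the centre of the subgroup it generates, which is also the full centralizer of that subgroup. -/
theorem result {S : Type*} [Group S] [Finite S] (𝒜 : Set (Subgroup S)) (hne : 𝒜.Nonempty) (hab : ∀ A ∈ 𝒜, IsMulCommutative A) (hmax : ∀ A ∈ 𝒜, ∀ B : Subgroup S, IsMulCommutative B → A ≤ B → B = A) : sInf 𝒜 = sSup 𝒜 ⊓ Subgroup.centralizer ((sSup 𝒜 : Subgroup S) : Set S) ∧ sInf 𝒜 = Subgroup.centralizer ((sSup 𝒜 : Subgroup S) : Set S) := by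
  have h1 : Subgroup.centralizer ((sSup 𝒜 : Subgroup S) : Set S) ≤ sInf 𝒜 := by
    intro x hx
    rw [Subgroup.mem_sInf]
    intro A hA
    have hxA : ∀ a ∈ A, a * x = x * a := by
      intro a ha
      exact hx a (le_sSup hA ha)
    have hB := adjoin_comm A (hab A hA) x hxA
    have hle : A ≤ Subgroup.closure ((A : Set S) ∪ {x}) := by
      intro a ha
      exact Subgroup.subset_closure (Or.inl ha)
    have heq := hmax A hA _ hB hle
    rw [← heq]
    exact Subgroup.subset_closure (Or.inr rfl)
  have h2 : sInf 𝒜 ≤ Subgroup.centralizer ((sSup 𝒜 : Subgroup S) : Set S) := by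
    intro x hx
    rw [Subgroup.mem_sInf] at hx
    rw [Subgroup.mem_centralizer_iff]
    intro y hy
    have hy' : y ∈ sSup 𝒜 := hy
    have hcl : sSup 𝒜 ≤ Subgroup.centralizer ({x} : Set S) := by
      apply sSup_le
      intro A hA a ha
      rw [Subgroup.mem_centralizer_iff]
      intro z hz
      rw [Set.mem_singleton_iff] at hz
      subst hz
      haveI := hab A hA
      exact setLike_mul_comm (hx A hA) ha
    have := hcl hy'
    rw [Subgroup.mem_centralizer_iff] at this
    exact (this x rfl).symm
  have h3 : sInf 𝒜 ≤ sSup 𝒜 := by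
    obtain ⟨A, hA⟩ := hne
    exact (sInf_le hA).trans (le_sSup hA)
  have h4 : sInf 𝒜 = Subgroup.centralizer ((sSup 𝒜 : Subgroup S) : Set S) := le_antisymm h2 h1
  refine ⟨?_, h4⟩
  apply le_antisymm
  · exact le_inf h3 h2
  · exact inf_le_right.trans h1

end Cfsg.Agent.S0647
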