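import Cfsg.Statements.S0652
import Cfsg.Agent.S0651
import Mathlib

set_option autoImplicit false
open Cfsg

namespace Cfsg.Agent.S0652

/-- For odd p and D normal in the p-group S, the elementary abelian subgroups of D of largest order satisfy the replacement property for class-2 normal subgroups of S. -/
theorem result {S : Type*} [Group S] [Finite S] {p : ℕ} [Fact p.Prime] (hS : IsPGroup p S) (hp : p ≠ 2) (D : Subgroup S) [D.Normal] : ∀ (B : Subgroup S) [B.Normal], ⁅⁅B, B⁆, B⁆ = ⊥ → (∃ U ∈ (Set.image (fun A : Subgroup ↥D => A.map D.subtype) (Cfsg.maxElementaryAbelianSubgroups p ↥D)), ⁅B, B⁆ ≤ U ∧ ¬ B ≤ U) → ∃ A ∈ (Set.image (fun A : Subgroup ↥D => A.map D.subtype) (Cfsg.maxElementaryAbelianSubgroups p ↥D)), ⁅B, B⁆ ≤ A ∧ ¬ B ≤ A ∧ B ≤ Subgroup.normalizer (A : Set S) := by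
  intro B _ _ hU
  apply Cfsg.Agent.S0651.replacement_general hS hp D _ ?_ ?_ B hU
  · rintro A ⟨A', hA', rfl⟩
    refine ⟨Subgroup.map_subtype_le A', ?_⟩
    have := hA'.1.1
    infer_instance
  · rintro A ⟨A', hA', rfl⟩ As hAsD hAsc hcard hexp
    refine ⟨As.subgroupOf D, ⟨⟨inferInstance, ?_⟩, ?_⟩, Subgroup.map_subgroupOf_eq_of_le hAsD⟩
    · intro a ha
      rw [Subgroup.mem_subgroupOf] at ha
      have h1 : Monoid.exponent (A'.map D.subtype) ∣ p := by
        apply Monoid.exponent_dvd_of_forall_pow_eq_one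
        rintro ⟨x, a', ha', rfl⟩
        apply Subtype.ext
        show (D.subtype a') ^ p = 1
        rw [← map_pow, hA'.1.2 a' ha', map_one]
      have h2 : Monoid.exponent As ∣ p := hexp.trans h1
      have h3 : (⟨(a : S), ha⟩ : As) ^ p = 1 :=
        (Monoid.exponent_dvd_iff_forall_pow_eq_one.mp h2) ⟨a, ha⟩
      have h4 : (a : S) ^ p = 1 := congrArg Subtype.val h3
      apply Subtype.ext
      exact h4
    · intro B' hB'
      have h1 : Nat.card (As.subgroupOf D) = Nat.card As :=
        Cfsg.Agent.S0650.card_subgroupOf hAsD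
      rw [h1, hcard, Subgroup.card_map_of_injective D.subtype_injective]
      exact hA'.2 B' hB'

end Cfsg.Agent.S0652
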