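import Cfsg.Statements.S0655
import Cfsg.Agent.S0605

set_option autoImplicit false
open Cfsg

namespace Cfsg.Agent.S0655

/-- In a p-group the intersection of all elementary abelian subgroups of largest order is the subgroup generated by the elements of order dividing p in the centre (equivalently the centralizer) of the elementary-version Thompson subgroup. -/
theorem result {S : Type*} [Group S] [Finite S] {p : ℕ} [Fact p.Prime] (hS : IsPGroup p S) : sInf (Cfsg.maxElementaryAbelianSubgroups p S) = Cfsg.omegaCenterThompson p S ∧ Cfsg.omegaCenterThompson p S = Cfsg.omegaOne p (Subgroup.centralizer (Cfsg.thompsonSubgroup p S : Set S)) := by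
  have h1 : sInf (Cfsg.maxElementaryAbelianSubgroups p S) ≤ Cfsg.omegaCenterThompson p S := by
    intro x hx
    rw [Subgroup.mem_sInf] at hx
    obtain ⟨A, hA⟩ := Cfsg.Agent.S0605.exists_max p S
    apply Subgroup.subset_closure
    refine ⟨⟨le_sSup hA (hx A hA), ?_⟩, hA.1.2 x (hx A hA)⟩
    have hJ : Cfsg.thompsonSubgroup p S ≤ Subgroup.centralizer ({x} : Set S) := by
      apply sSup_le
      intro B hB b hb
      rw [Subgroup.mem_centralizer_iff]
      intro y hy
      rw [Set.mem_singleton_iff] at hy
      subst hy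
      have := hB.1.1
      exact setLike_mul_comm (hx B hB) hb
    show x ∈ Subgroup.centralizer (Cfsg.thompsonSubgroup p S : Set S)
    rw [Subgroup.mem_centralizer_iff]
    intro h hh
    exact ((Subgroup.mem_centralizer_iff.mp (hJ hh)) x rfl).symm
  have h2 : Cfsg.omegaCenterThompson p S ≤
      Cfsg.omegaOne p (Subgroup.centralizer (Cfsg.thompsonSubgroup p S : Set S)) :=
    Subgroup.closure_mono (fun x hx => ⟨hx.1.2, hx.2⟩)
  have h3 : Cfsg.omegaOne p (Subgroup.centralizer (Cfsg.thompsonSubgroup p S : Set S)) ≤
      sInf (Cfsg.maxElementaryAbelianSubgroups p S) := by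
    unfold Cfsg.omegaOne
    rw [Subgroup.closure_le]
    intro x hx
    rw [SetLike.mem_coe, Subgroup.mem_sInf]
    intro A hA
    have hAJ : A ≤ Cfsg.thompsonSubgroup p S := le_sSup hA
    have hxA : ∀ a ∈ A, a * x = x * a := fun a ha => hx.1 a (hAJ ha)
    have hB := Cfsg.Agent.S0605.elab_adjoin p A hA.1 x hxA hx.2
    have hle : A ≤ Subgroup.closure ((A : Set S) ∪ {x}) := fun a ha =>
      Subgroup.subset_closure (Or.inl ha)
    have hcard := hA.2 _ hB
    have heq : A = Subgroup.closure ((A : Set S) ∪ {x}) := Subgroup.eq_of_le_of_card_ge hle hcard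
    rw [heq]
    exact Subgroup.subset_closure (Or.inr rfl)
  exact ⟨le_antisymm h1 (h2.trans h3), le_antisymm h2 (h3.trans h1)⟩

end Cfsg.Agent.S0655
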