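import Cfsg.Statements.S0656
import Cfsg.Agent.Helper5.SL2Sect
import Cfsg.Agent.S0010

set_option autoImplicit false
open Cfsg

namespace Cfsg.Agent.S0656


open Cfsg.Agent.Helper5 Cfsg.Agent.Helper5.SL2
/-- For odd p, a faithful group on an elementary abelian p-group with no nontrivial normal p-subgroup in which some nontrivial p-element acts quadratically has a section isomorphic to SL(2, p). -/
theorem result {G : Type*} [Group G] [Finite G] {p : ℕ} [Fact p.Prime] (hp : p ≠ 2) (V H : Subgroup G) (hV : Cfsg.IsElementaryAbelian p V) (hHV : H ≤ Subgroup.normalizer (V : Set G)) (hf : H ⊓ Subgroup.centralizer (V : Set G) = ⊥) (hO : Cfsg.pCore p ↥H = ⊥) (x : G) (hxH : x ∈ H) (hx1 : x ≠ 1) (hxp : ∃ k : ℕ, orderOf x = p ^ k) (hq : ⁅⁅V, Subgroup.zpowers x⁆, Subgroup.zpowers x⁆ = ⊥) : ∃ (K L : Subgroup G) (hL : (L.subgroupOf K).Normal), K ≤ H ∧ Nonempty ((K ⧸ L.subgroupOf K) ≃* Matrix.SpecialLinearGroup (Fin 2) (ZMod p)) := by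
  haveI : IsMulCommutative V := hV.1
  have hqa := quad_elem V x hq
  have haV := hHV hxH
  have hO' : ∀ N : Subgroup ↥H, N.Normal → IsPGroup p N → (⟨x, hxH⟩ : ↥H) ∉ N := by
    intro N hNn hNp hmem
    have h1 := Cfsg.Agent.S0010.le_pCore p N hNn hNp hmem
    rw [hO, Subgroup.mem_bot] at h1
    exact hx1 (congrArg Subtype.val h1)
  obtain ⟨g, hg⟩ := exists_conj_not_pgroup (p := p) (⟨x, hxH⟩ : ↥H) hO'
  have hbH : (g : G) * x * (g : G)⁻¹ ∈ H := H.mul_mem (H.mul_mem g.2 hxH) (H.inv_mem g.2)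
  have hle : Subgroup.closure {x, (g : G) * x * (g : G)⁻¹} ≤ H := by
    apply (Subgroup.closure_le _).mpr
    intro y hy
    rcases hy with h | h
    · rw [h]; exact hxH
    · rw [Set.mem_singleton_iff] at h; rw [h]; exact hbH
  have hnp' : ∃ d ∈ Subgroup.closure {x, (g : G) * x * (g : G)⁻¹}, ∀ k : ℕ,
      d ^ p ^ k ∉ Subgroup.centralizer (V : Set G) := by
    by_contra hcon
    push Not at hcon
    apply hg
    rintro ⟨d, hd⟩
    have hdG : (d : G) ∈ Subgroup.closure {x, (g : G) * x * (g : G)⁻¹} := by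
      have h1 := Subgroup.mem_map_of_mem H.subtype hd
      rw [MonoidHom.map_closure, Set.image_pair] at h1
      exact h1
    obtain ⟨k, hk⟩ := hcon d hdG
    have h2 : (d : G) ^ p ^ k ∈ H ⊓ Subgroup.centralizer (V : Set G) := ⟨pow_mem d.2 _, hk⟩
    rw [hf, Subgroup.mem_bot] at h2
    refine ⟨k, Subtype.ext (Subtype.ext ?_)⟩
    rw [Subgroup.coe_pow, Subgroup.coe_pow]
    exact h2
  obtain ⟨K, ψ, hKle, hψ⟩ := sl2_section_of_quad_pair hp V hV.2 x ((g : G) * x * (g : G)⁻¹) haV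
    (hHV hbH) hqa (quad_conj V x g (hHV g.2) hqa) hnp'
  obtain ⟨L, hL, hiso⟩ := sec_of_surj K ψ hψ
  exact ⟨K, L, hL, hKle.trans hle, hiso⟩

end Cfsg.Agent.S0656
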