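import Cfsg.Statements.S0657
import Cfsg.Agent.Helper5.SL2Sect

set_option autoImplicit false
open Cfsg

namespace Cfsg.Agent.S0657


open scoped commutatorElement
open Cfsg.Agent.Helper5 Cfsg.Agent.Helper5.SL2 Cfsg.Agent.S0653

theorem mk_mem_pCore_of_eq {X : Type*} [Group X] {p : ℕ} (C₁ C₂ : Subgroup X) [h1 : C₁.Normal]
    [h2 : C₂.Normal] (h : C₁ = C₂) (a : X)
    (ha : (QuotientGroup.mk' C₂ a) ∈ Cfsg.pCore p (X ⧸ C₂)) :
    (QuotientGroup.mk' C₁ a) ∈ Cfsg.pCore p (X ⧸ C₁) := by
  subst h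
  exact ha

/-- For odd p, a group that fails to be p-stable modulo its largest normal subgroup of order prime to p, and whose upper p-series does not stop there, has a section isomorphic to SL(2, p). -/
theorem result {G : Type*} [Group G] [Finite G] {p : ℕ} [Fact p.Prime] (hp : p ≠ 2) (hO : Cfsg.pPrimeCore p G < Cfsg.pPrimePCore p G) (hns : ¬ Cfsg.IsPStable p (G ⧸ Cfsg.pPrimeCore p G)) : ∃ (K L : Subgroup G) (hL : (L.subgroupOf K).Normal), K ≤ ⊤ ∧ Nonempty ((K ⧸ L.subgroupOf K) ≃* Matrix.SpecialLinearGroup (Fin 2) (ZMod p)) := by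
  suffices hsec : HasSL2Sec p G by
    obtain ⟨K, ψ, hψ⟩ := hsec
    obtain ⟨L, hL, hiso⟩ := sec_of_surj K ψ hψ
    exact ⟨K, L, hL, le_top, hiso⟩
  by_contra hno
  apply hns
  refine ⟨(Fact.out : p.Prime).odd_of_ne_two hp, ?_, ?_⟩
  · intro h
    have h1 : Cfsg.pPrimePCore p G = Cfsg.pPrimeCore p G := by
      unfold Cfsg.pPrimePCore
      rw [h, MonoidHom.comap_bot, QuotientGroup.ker_mk']
    exact absurd h1 hO.ne'
  · intro A P hA hP hAP hPle hPn hquad
    rintro _ ⟨a, ha, rfl⟩
    haveI hVn : (P.subgroupOf (Subgroup.normalizer (P : Set (G ⧸ Cfsg.pPrimeCore p G)))).Normal :=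
      Subgroup.normal_in_normalizer
    have hVp : IsPGroup p (P.subgroupOf (Subgroup.normalizer (P : Set (G ⧸ Cfsg.pPrimeCore p G)))) :=
      hP.comap_subtype
    have hq : ⁅⁅P.subgroupOf (Subgroup.normalizer (P : Set (G ⧸ Cfsg.pPrimeCore p G))),
        Subgroup.zpowers a⁆, Subgroup.zpowers a⁆ = ⊥ := by
      have hzA : ∀ z ∈ Subgroup.zpowers a, (z : G ⧸ Cfsg.pPrimeCore p G) ∈ A := by
        intro z hz
        obtain ⟨i, rfl⟩ := Subgroup.mem_zpowers_iff.mp hz
        have ha' : (a : G ⧸ Cfsg.pPrimeCore p G) ∈ A := ha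
        rw [Subgroup.coe_zpow]
        exact A.zpow_mem ha' i
      rw [Subgroup.commutator_eq_bot_iff_le_centralizer, Subgroup.commutator_le]
      intro v hv z hz
      rw [Subgroup.mem_centralizer_iff]
      intro z' hz'
      have hvP : (v : G ⧸ Cfsg.pPrimeCore p G) ∈ P := hv
      have h1 : ⁅⁅(v : G ⧸ Cfsg.pPrimeCore p G), (z : G ⧸ Cfsg.pPrimeCore p G)⁆,
          (z' : G ⧸ Cfsg.pPrimeCore p G)⁆ ∈ ⁅⁅P, A⁆, A⁆ :=
        Subgroup.commutator_mem_commutator (Subgroup.commutator_mem_commutator hvP (hzA z hz))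
          (hzA z' hz')
      rw [hquad, Subgroup.mem_bot] at h1
      have h2 := commutatorElement_eq_one_iff_mul_comm.mp h1
      apply Subtype.ext
      exact h2.symm
    rcases quad_mem_LL_or_sec hp _ hVp a hq with h | h
    · have hC : (Subgroup.centralizer (P : Set (G ⧸ Cfsg.pPrimeCore p G))).subgroupOf
          (Subgroup.normalizer (P : Set (G ⧸ Cfsg.pPrimeCore p G))) =
          Subgroup.centralizer ((P.subgroupOf
            (Subgroup.normalizer (P : Set (G ⧸ Cfsg.pPrimeCore p G))) : Subgroup _) : Set _) := by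
        ext z
        rw [Subgroup.mem_subgroupOf, Subgroup.mem_centralizer_iff, Subgroup.mem_centralizer_iff]
        constructor
        · intro h' w hw
          apply Subtype.ext
          exact h' (w : G ⧸ Cfsg.pPrimeCore p G) hw
        · intro h' g hg
          have h3 := h' ⟨g, Subgroup.le_normalizer hg⟩ hg
          exact congrArg Subtype.val h3
      exact mk_mem_pCore_of_eq _ _ hC a h
    · exfalso
      apply hno
      exact hasSL2Sec_lift p (QuotientGroup.mk' (Cfsg.pPrimeCore p G))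
        (QuotientGroup.mk'_surjective _) (hasSL2Sec_subgroup p _ h)

end Cfsg.Agent.S0657
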