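import Cfsg.Statements.S0663
import Cfsg.Agent.Helper17.Basic
import Cfsg.Agent.Helper10.AxB
import Cfsg.Agent.S0650

set_option autoImplicit false
open Cfsg

namespace Cfsg.Agent.S0663


open scoped commutatorElement
open Subgroup

section
variable {L : Type*} [Group L]

/-- Elements normalizing `T` whose commutators with `G` lie in `T`. -/
def stab (T G : Subgroup L) : Subgroup L where
  carrier := {x | x ∈ normalizer (T : Set L) ∧ ∀ g ∈ G, ⁅x, g⁆ ∈ T}
  one_mem' := ⟨Subgroup.one_mem _, fun g _ => by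
    rw [commutatorElement_one_left]; exact T.one_mem⟩
  mul_mem' := by
    rintro x y ⟨hx, hx'⟩ ⟨hy, hy'⟩
    refine ⟨Subgroup.mul_mem _ hx hy, fun g hg => ?_⟩
    have e : ⁅x * y, g⁆ = x * ⁅y, g⁆ * x⁻¹ * ⁅x, g⁆ := by
      simp only [commutatorElement_def]; group
    rw [e]
    exact T.mul_mem ((Subgroup.mem_normalizer_iff.mp hx _).mp (hy' g hg)) (hx' g hg)
  inv_mem' := by
    rintro x ⟨hx, hx'⟩
    refine ⟨Subgroup.inv_mem _ hx, fun g hg => ?_⟩
    have e : ⁅x⁻¹, g⁆ = x⁻¹ * (⁅x, g⁆)⁻¹ * x⁻¹⁻¹ := by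
      simp only [commutatorElement_def]; group
    rw [e]
    exact (Subgroup.mem_normalizer_iff.mp (Subgroup.inv_mem _ hx) _).mp (T.inv_mem (hx' g hg))

theorem commutator_sup_le (X₁ X₂ T G : Subgroup L) (h1 : X₁ ≤ normalizer (T : Set L))
    (h2 : X₂ ≤ normalizer (T : Set L)) (hc1 : ⁅X₁, G⁆ ≤ T) (hc2 : ⁅X₂, G⁆ ≤ T) :
    ⁅X₁ ⊔ X₂, G⁆ ≤ T := by
  have hle : X₁ ⊔ X₂ ≤ stab T G := by
    apply sup_le
    · intro x hx; exact ⟨h1 hx, fun g hg => hc1 (Subgroup.commutator_mem_commutator hx hg)⟩
    · intro x hx; exact ⟨h2 hx, fun g hg => hc2 (Subgroup.commutator_mem_commutator hx hg)⟩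
  rw [Subgroup.commutator_le]
  intro x hx g hg
  exact (hle hx).2 g hg

/-- A normal subgroup of prime index contains the commutator subgroup. -/
theorem commutator_le_of_relIndex_prime [Finite L] {p : ℕ} [Fact p.Prime] (A B : Subgroup L)
    (hBA : B ≤ A) (hn : A ≤ normalizer (B : Set L)) (hidx : B.relIndex A = p) : ⁅A, A⁆ ≤ B := by
  haveI : (B.subgroupOf A).Normal := (Subgroup.normal_subgroupOf_iff_le_normalizer hBA).mpr hn
  have hcard : Nat.card (↥A ⧸ B.subgroupOf A) = p := by
    rw [← Subgroup.index_eq_card]; exact hidx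
  haveI : IsCyclic (↥A ⧸ B.subgroupOf A) := isCyclic_of_prime_card hcard
  rw [Subgroup.commutator_le]
  intro x hx y hy
  have h1 : (QuotientGroup.mk' (B.subgroupOf A)) ⁅(⟨x, hx⟩ : ↥A), ⟨y, hy⟩⁆ = 1 := by
    rw [map_commutatorElement, commutatorElement_eq_one_iff_mul_comm]
    obtain ⟨g, hg⟩ := IsCyclic.exists_generator (α := ↥A ⧸ B.subgroupOf A)
    obtain ⟨i, hi⟩ := hg (QuotientGroup.mk' (B.subgroupOf A) ⟨x, hx⟩)
    obtain ⟨j, hj⟩ := hg (QuotientGroup.mk' (B.subgroupOf A) ⟨y, hy⟩)
    have hi' : g ^ i = QuotientGroup.mk' (B.subgroupOf A) ⟨x, hx⟩ := hi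
    have hj' : g ^ j = QuotientGroup.mk' (B.subgroupOf A) ⟨y, hy⟩ := hj
    rw [← hi', ← hj']
    exact (Commute.zpow_zpow_self g i j).eq
  have h2 : ⁅(⟨x, hx⟩ : ↥A), ⟨y, hy⟩⁆ ∈ B.subgroupOf A := by
    rw [← QuotientGroup.ker_mk' (B.subgroupOf A)]; exact h1
  exact Subgroup.mem_subgroupOf.mp h2

/-- `A` normalizes `[A,G,G]` when `[A,G,G]` has prime index in `[A,G]`. -/
theorem normalizes_two_step [Finite L] {p : ℕ} [Fact p.Prime] (A G : Subgroup L)
    (hidx : (⁅⁅A, G⁆, G⁆).relIndex ⁅A, G⁆ = p) :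
    A ≤ normalizer ((⁅⁅A, G⁆, G⁆ : Subgroup L) : Set L) := by
  obtain ⟨B, hB⟩ : ∃ B : Subgroup L, B = ⁅A, G⁆ := ⟨_, rfl⟩
  rw [← hB] at hidx ⊢
  obtain ⟨C, hC⟩ : ∃ C : Subgroup L, C = ⁅B, G⁆ := ⟨_, rfl⟩
  rw [← hC] at hidx ⊢
  have hAB : A ≤ normalizer (B : Set L) := by
    rw [hB]; exact Helper17.le_normalizer_commutator_left A G
  have hGB : G ≤ normalizer (B : Set L) := by
    rw [hB]; exact Helper17.le_normalizer_commutator_right A G
  have hBC : B ≤ normalizer (C : Set L) := by
    rw [hC]; exact Helper17.le_normalizer_commutator_left B G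
  have hCB : C ≤ B := by rw [hC]; exact Helper17.commutator_le_left_of_le_normalizer hGB
  have hab := commutator_le_of_relIndex_prime B C hCB hBC hidx
  intro x hx
  apply Helper17.mem_normalizer_of_cj_le
  rw [Subgroup.map_le_iff_le_comap]
  nth_rewrite 1 [hC]
  rw [Subgroup.commutator_le]
  intro m hm g hg
  rw [Subgroup.mem_comap]
  have hm' : x * m * x⁻¹ ∈ B := (Subgroup.mem_normalizer_iff.mp (hAB hx) m).mp hm
  have hc : ⁅x, g⁆ ∈ B := by rw [hB]; exact Subgroup.commutator_mem_commutator hx hg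
  have e : (MulAut.conj x).toMonoidHom ⁅m, g⁆ =
      ⁅x * m * x⁻¹, ⁅x, g⁆⁆ * (⁅x, g⁆ * ⁅x * m * x⁻¹, g⁆ * ⁅x, g⁆⁻¹) := by
    simp only [MulEquiv.coe_toMonoidHom, MulAut.conj_apply, commutatorElement_def]
    group
  rw [e]
  refine C.mul_mem (hab (Subgroup.commutator_mem_commutator hm' hc)) ?_
  apply (Subgroup.mem_normalizer_iff.mp (hBC hc) _).mp
  rw [hC]; exact Subgroup.commutator_mem_commutator hm' hg

end

section
variable {L : Type*} [Group L] [Finite L] {p : ℕ} [Fact p.Prime]

theorem chain_inv (N G : Subgroup L) (hGN : G ≤ normalizer (N : Set L)) :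
    ∀ i, Cfsg.iterCommutator N G i ≤ N ∧
      G ≤ normalizer ((Cfsg.iterCommutator N G i : Subgroup L) : Set L) := by
  intro i
  induction i with
  | zero => exact ⟨le_rfl, hGN⟩
  | succ i ih =>
    exact ⟨(Helper17.commutator_le_left_of_le_normalizer ih.2).trans ih.1,
      Helper17.le_normalizer_commutator_right _ _⟩

theorem chain_succ_le (N G : Subgroup L) (hGN : G ≤ normalizer (N : Set L)) (i : ℕ) :
    Cfsg.iterCommutator N G (i + 1) ≤ Cfsg.iterCommutator N G i :=
  Helper17.commutator_le_left_of_le_normalizer (chain_inv N G hGN i).2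

theorem chain_anti (N G : Subgroup L) (hGN : G ≤ normalizer (N : Set L)) :
    Antitone (Cfsg.iterCommutator N G) :=
  antitone_nat_of_succ_le (chain_succ_le N G hGN)

/-- a nontrivial `G`-invariant subgroup loses at least a factor `p` on commutation -/
theorem card_comm_mul_le (N G : Subgroup L) (hN : IsPGroup p N) (hG : IsPGroup p G)
    (H : Subgroup L) (hHN : H ≤ N) (hGH : G ≤ normalizer (H : Set L)) (hne : H ≠ ⊥) :
    Nat.card (⁅H, G⁆ : Subgroup L) * p ≤ Nat.card H := by
  have hp := (Fact.out : p.Prime)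
  have hneq := Helper10.commutator_ne_self_of_pGroup H G (hN.to_le hHN) hG hGH hne
  have hle : ⁅H, G⁆ ≤ H := Helper17.commutator_le_left_of_le_normalizer hGH
  obtain ⟨a, ha⟩ := IsPGroup.iff_card.mp (hN.to_le (hle.trans hHN))
  obtain ⟨b, hb⟩ := IsPGroup.iff_card.mp (hN.to_le hHN)
  have hdvd := Subgroup.card_dvd_of_le hle
  rw [ha, hb] at hdvd
  have hab : a ≤ b := (Nat.pow_dvd_pow_iff_le_right hp.one_lt).mp hdvd
  have hab' : a ≠ b := by
    intro e
    apply hneq
    apply Subgroup.eq_of_le_of_card_ge hle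
    rw [ha, hb, e]
  rw [ha, hb, ← pow_succ]
  exact Nat.pow_le_pow_right hp.pos (by omega)

/-- uniseriality gives the orders of the chain -/
theorem claimA (N G : Subgroup L) (hGN : G ≤ normalizer (N : Set L)) (n : ℕ)
    (hn : Nat.card N = p ^ n)
    (hU : ∀ H : Subgroup L, H ≤ N → G ≤ normalizer (H : Set L) → H ≠ ⊥ →
      (⁅H, G⁆).relIndex H = p) :
    ∀ i ≤ n, Nat.card (Cfsg.iterCommutator N G i) = p ^ (n - i) := by
  have hp := (Fact.out : p.Prime)
  intro i
  induction i with
  | zero => intro _; exact hn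
  | succ i ih =>
    intro hi
    have h1 := ih (by omega)
    have hne : Cfsg.iterCommutator N G i ≠ ⊥ := by
      intro e
      rw [e, Subgroup.card_bot] at h1
      have h2 : 1 < p ^ (n - i) := Nat.one_lt_pow (by omega) hp.one_lt
      omega
    have hinv := chain_inv N G hGN i
    have h2 := hU _ hinv.1 hinv.2 hne
    have hle := chain_succ_le N G hGN i
    have h3 := (( Cfsg.iterCommutator N G (i + 1)).subgroupOf (Cfsg.iterCommutator N G i)).card_mul_index
    rw [S0650.card_subgroupOf hle] at h3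
    have h4 : Nat.card (Cfsg.iterCommutator N G (i + 1)) * p = p ^ (n - i) := by
      rw [← h1, ← h3]; congr 1; exact h2.symm
    have h5 : p ^ (n - i) = p ^ (n - (i + 1)) * p := by
      rw [← pow_succ]; congr 1; omega
    rw [h5] at h4
    exact Nat.eq_of_mul_eq_mul_right hp.pos h4

/-- a nontrivial last-but-one term gives the orders of the chain -/
theorem claimA' (N G : Subgroup L) (hN : IsPGroup p N) (hG : IsPGroup p G)
    (hGN : G ≤ normalizer (N : Set L)) (n : ℕ) (hn : Nat.card N = p ^ n) (hn0 : n ≠ 0)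
    (hK : Cfsg.iterCommutator N G (n - 1) ≠ ⊥) :
    ∀ i ≤ n, Nat.card (Cfsg.iterCommutator N G i) = p ^ (n - i) := by
  have hp := (Fact.out : p.Prime)
  have hne : ∀ i ≤ n - 1, Cfsg.iterCommutator N G i ≠ ⊥ := by
    intro i hi e
    apply hK
    rw [eq_bot_iff, ← e]
    exact chain_anti N G hGN hi
  have hstep : ∀ i ≤ n - 1, Nat.card (Cfsg.iterCommutator N G (i + 1)) * p ≤
      Nat.card (Cfsg.iterCommutator N G i) := by
    intro i hi
    have hinv := chain_inv N G hGN i
    exact card_comm_mul_le N G hN hG _ hinv.1 hinv.2 (hne i hi)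
  have hupper : ∀ i ≤ n, Nat.card (Cfsg.iterCommutator N G i) * p ^ i ≤ p ^ n := by
    intro i
    induction i with
    | zero => intro _; rw [pow_zero, mul_one]; exact le_of_eq hn
    | succ i ih =>
      intro hi
      have h1 := ih (by omega)
      have h2 := hstep i (by omega)
      calc Nat.card (Cfsg.iterCommutator N G (i + 1)) * p ^ (i + 1)
          = (Nat.card (Cfsg.iterCommutator N G (i + 1)) * p) * p ^ i := by rw [pow_succ]; ring
        _ ≤ Nat.card (Cfsg.iterCommutator N G i) * p ^ i := Nat.mul_le_mul_right _ h2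
        _ ≤ p ^ n := h1
  have hlower : ∀ d ≤ n - 1, p ^ (d + 1) ≤ Nat.card (Cfsg.iterCommutator N G (n - 1 - d)) := by
    intro d
    induction d with
    | zero =>
      intro _
      obtain ⟨e, he⟩ := IsPGroup.iff_card.mp (hN.to_le (chain_inv N G hGN (n - 1)).1)
      have he0 : e ≠ 0 := by
        rintro rfl
        rw [pow_zero] at he
        exact hK (Subgroup.card_eq_one.mp he)
      rw [Nat.sub_zero, he]
      exact Nat.pow_le_pow_right hp.pos (by omega)
    | succ d ih =>
      intro hd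
      have h1 := ih (by omega)
      have h2 := hstep (n - 1 - (d + 1)) (by omega)
      have e : n - 1 - (d + 1) + 1 = n - 1 - d := by omega
      rw [e] at h2
      calc p ^ (d + 1 + 1) = p ^ (d + 1) * p := pow_succ _ _
        _ ≤ Nat.card (Cfsg.iterCommutator N G (n - 1 - d)) * p := Nat.mul_le_mul_right _ h1
        _ ≤ _ := h2
  have hmain : ∀ i ≤ n - 1, Nat.card (Cfsg.iterCommutator N G i) = p ^ (n - i) := by
    intro i hi
    have h1 := hlower (n - 1 - i) (by omega)
    have e1 : n - 1 - (n - 1 - i) = i := by omega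
    have e2 : n - 1 - i + 1 = n - i := by omega
    rw [e1, e2] at h1
    have h2 := hupper i (by omega)
    have h3 : p ^ n = p ^ (n - i) * p ^ i := by rw [← pow_add]; congr 1; omega
    rw [h3] at h2
    exact le_antisymm (Nat.le_of_mul_le_mul_right h2 (pow_pos hp.pos i)) h1
  intro i hi
  by_cases hi' : i ≤ n - 1
  · exact hmain i hi'
  · have hin : i = n := by omega
    subst hin
    have h1 := hstep (i - 1) le_rfl
    have e : i - 1 + 1 = i := by omega
    rw [e, hmain (i - 1) le_rfl] at h1
    have e2 : i - (i - 1) = 1 := by omega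
    rw [e2, pow_one] at h1
    have h2 : Nat.card (Cfsg.iterCommutator N G i) ≤ 1 := by
      by_contra hgt
      have h3 : 2 ≤ Nat.card (Cfsg.iterCommutator N G i) := by omega
      have h4 : 2 * p ≤ Nat.card (Cfsg.iterCommutator N G i) * p := Nat.mul_le_mul_right _ h3
      have h5 := hp.pos
      omega
    have h3 : 0 < Nat.card (Cfsg.iterCommutator N G i) := Nat.card_pos
    rw [Nat.sub_self, pow_zero]
    omega

/-- With the right chain orders, the `G`-invariant subgroups are exactly the chain terms. -/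
theorem main (N G : Subgroup L) (hN : IsPGroup p N) (hGN : G ≤ normalizer (N : Set L)) (n : ℕ)
    (hC : ∀ i ≤ n, Nat.card (Cfsg.iterCommutator N G i) = p ^ (n - i)) :
    ∀ H : Subgroup L, H ≤ N → G ≤ normalizer (H : Set L) →
      ∃ i ≤ n, H = Cfsg.iterCommutator N G i := by
  have hp := (Fact.out : p.Prime)
  have hbot : Cfsg.iterCommutator N G n = ⊥ := by
    apply Subgroup.card_eq_one.mp
    rw [hC n le_rfl, Nat.sub_self, pow_zero]
  have hcardstep : ∀ i < n, Nat.card (Cfsg.iterCommutator N G i) =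
      Nat.card (Cfsg.iterCommutator N G (i + 1)) * p := by
    intro i hi
    rw [hC i hi.le, hC (i + 1) hi, ← pow_succ]; congr 1; omega
  have hidx : ∀ i < n, (Cfsg.iterCommutator N G (i + 1)).relIndex (Cfsg.iterCommutator N G i) = p := by
    intro i hi
    have hle := chain_succ_le N G hGN i
    have h3 := ((Cfsg.iterCommutator N G (i + 1)).subgroupOf
      (Cfsg.iterCommutator N G i)).card_mul_index
    rw [S0650.card_subgroupOf hle, hcardstep i hi] at h3
    exact Nat.eq_of_mul_eq_mul_left Nat.card_pos h3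
  have hmax : ∀ i < n, ∀ H : Subgroup L, Cfsg.iterCommutator N G (i + 1) ≤ H →
      H ≤ Cfsg.iterCommutator N G i → H ≠ Cfsg.iterCommutator N G (i + 1) →
      H = Cfsg.iterCommutator N G i := by
    intro i hi H h1 h2 h3
    apply Subgroup.eq_of_le_of_card_ge h2
    obtain ⟨d, hd⟩ := Subgroup.card_dvd_of_le h1
    have h4 := Subgroup.card_dvd_of_le h2
    rw [hcardstep i hi, hd] at h4
    have h5 : d ∣ p := Nat.dvd_of_mul_dvd_mul_left Nat.card_pos h4
    rcases (Nat.dvd_prime hp).mp h5 with h6 | h6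
    · exfalso
      apply h3
      apply (Subgroup.eq_of_le_of_card_ge h1 _).symm
      rw [hd, h6, mul_one]
    · rw [hcardstep i hi, hd, h6]
  have hQ : ∀ d i, i + d + 1 = n → ∀ H : Subgroup L, H ≤ Cfsg.iterCommutator N G i →
      G ≤ normalizer (H : Set L) → ¬ H ≤ Cfsg.iterCommutator N G (i + 1) →
      H = Cfsg.iterCommutator N G i := by
    intro d
    induction d with
    | zero =>
      intro i hi H hH hGH hnot
      apply hmax i (by omega) H _ hH
      · intro e; apply hnot; rw [e]
      · have e : i + 1 = n := by omega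
        rw [e, hbot]; exact bot_le
    | succ d ih =>
      intro i hi H hH hGH hnot
      apply hmax i (by omega) H _ hH
      · intro e; apply hnot; rw [e]
      · -- K (i+1) ≤ H
        have hH₁le : ⁅H, G⁆ ≤ Cfsg.iterCommutator N G (i + 1) :=
          Subgroup.commutator_mono hH le_rfl
        have hH₁inv : G ≤ normalizer ((⁅H, G⁆ : Subgroup L) : Set L) :=
          Helper17.le_normalizer_commutator_right H G
        by_cases hcase : ⁅H, G⁆ ≤ Cfsg.iterCommutator N G (i + 1 + 1)
        · exfalso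
          have hN2 : Cfsg.iterCommutator N G i ≤
              normalizer ((Cfsg.iterCommutator N G (i + 1 + 1) : Subgroup L) : Set L) :=
            normalizes_two_step (p := p) (Cfsg.iterCommutator N G i) G (hidx (i + 1) (by omega))
          have h1 := commutator_sup_le H (Cfsg.iterCommutator N G (i + 1))
            (Cfsg.iterCommutator N G (i + 1 + 1)) G (hH.trans hN2)
            (Helper17.le_normalizer_commutator_left _ G) hcase le_rfl
          have h2 : H ⊔ Cfsg.iterCommutator N G (i + 1) = Cfsg.iterCommutator N G i := by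
            apply hmax i (by omega) _ le_sup_right (sup_le hH (chain_succ_le N G hGN i))
            intro e
            apply hnot
            rw [← e]; exact le_sup_left
          rw [h2] at h1
          have h3 : Cfsg.iterCommutator N G (i + 1) ≤ Cfsg.iterCommutator N G (i + 1 + 1) := h1
          have h4 := Subgroup.card_le_of_le h3
          rw [hcardstep (i + 1) (by omega)] at h4
          have h5 : 0 < Nat.card (Cfsg.iterCommutator N G (i + 1 + 1)) := Nat.card_pos
          have h6 := hp.two_le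
          nlinarith
        · have h1 := ih (i + 1) (by omega) ⁅H, G⁆ hH₁le hH₁inv hcase
          rw [← h1]
          exact Helper17.commutator_le_left_of_le_normalizer hGH
  intro H hHN hGH
  by_cases hHbot : H = ⊥
  · exact ⟨n, le_rfl, by rw [hHbot, hbot]⟩
  have hex : ∃ k, ¬ H ≤ Cfsg.iterCommutator N G k := by
    refine ⟨n, ?_⟩
    rw [hbot]
    intro h
    exact hHbot (eq_bot_iff.mpr h)
  classical
  obtain ⟨k, hk, hkmin⟩ : ∃ k, ¬ H ≤ Cfsg.iterCommutator N G k ∧
      ∀ m < k, H ≤ Cfsg.iterCommutator N G m := by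
    refine ⟨Nat.find hex, Nat.find_spec hex, fun m hm => ?_⟩
    by_contra hcon
    exact Nat.find_min hex hm hcon
  have hk0 : k ≠ 0 := by
    rintro rfl
    exact hk hHN
  have hkn : k ≤ n := by
    by_contra hgt
    have h1 := hkmin n (by omega)
    rw [hbot] at h1
    exact hHbot (eq_bot_iff.mpr h1)
  refine ⟨k - 1, by omega, ?_⟩
  apply hQ (n - k) (k - 1) (by omega) H (hkmin (k - 1) (by omega)) hGH
  have e : k - 1 + 1 = k := by omega
  rw [e]; exact hk

/-- chain orders give uniseriality -/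
theorem U_of_C (N G : Subgroup L) (hN : IsPGroup p N) (hGN : G ≤ normalizer (N : Set L)) (n : ℕ)
    (hC : ∀ i ≤ n, Nat.card (Cfsg.iterCommutator N G i) = p ^ (n - i))
    (H : Subgroup L) (hHN : H ≤ N) (hGH : G ≤ normalizer (H : Set L)) (hne : H ≠ ⊥) :
    (⁅H, G⁆).relIndex H = p := by
  have hp := (Fact.out : p.Prime)
  obtain ⟨i, hi, rfl⟩ := main N G hN hGN n hC H hHN hGH
  have hin : i < n := by
    rcases Nat.lt_or_ge i n with h | h
    · exact h
    · exfalso
      have e : i = n := by omega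
      apply hne
      apply Subgroup.card_eq_one.mp
      rw [hC i hi, e, Nat.sub_self, pow_zero]
  have hle := chain_succ_le N G hGN i
  have h3 := ((Cfsg.iterCommutator N G (i + 1)).subgroupOf
    (Cfsg.iterCommutator N G i)).card_mul_index
  rw [S0650.card_subgroupOf hle, hC i hi, hC (i + 1) hin] at h3
  have h5 : p ^ (n - i) = p ^ (n - (i + 1)) * p := by
    rw [← pow_succ]; congr 1; omega
  rw [h5] at h3
  exact Nat.eq_of_mul_eq_mul_left (pow_pos hp.pos _) h3

/-- chain orders give normality of the chain in `N` -/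
theorem normal_of_C (N G : Subgroup L) (hN : IsPGroup p N) (hGN : G ≤ normalizer (N : Set L))
    (n : ℕ) (hC : ∀ i ≤ n, Nat.card (Cfsg.iterCommutator N G i) = p ^ (n - i)) :
    ∀ i ≤ n, N ≤ normalizer ((Cfsg.iterCommutator N G i : Subgroup L) : Set L) := by
  have hp := (Fact.out : p.Prime)
  intro i hi
  have key : ∀ d j, j + d = i → Cfsg.iterCommutator N G j ≤
      normalizer ((Cfsg.iterCommutator N G i : Subgroup L) : Set L) := by
    intro d
    induction d with
    | zero =>
      intro j hj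
      have e : j = i := by omega
      rw [e]; exact Subgroup.le_normalizer
    | succ d ih =>
      intro j hj
      have h1 := ih (j + 1) (by omega)
      intro x hx
      apply Helper17.mem_normalizer_of_cj_eq_self
      have hxN : x ∈ N := (chain_inv N G hGN j).1 hx
      have hleN : Helper17.cj x (Cfsg.iterCommutator N G i) ≤ N := by
        rintro _ ⟨k, hk, rfl⟩
        exact N.mul_mem (N.mul_mem hxN ((chain_inv N G hGN i).1 hk)) (N.inv_mem hxN)
      have hGinv : G ≤ normalizer ((Helper17.cj x (Cfsg.iterCommutator N G i) : Subgroup L) : Set L) := by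
        intro g hg
        apply S0650.mem_normalizer_of_conj
        rintro _ ⟨k, hk, rfl⟩
        have hc : ⁅x⁻¹, g⁆ ∈ Cfsg.iterCommutator N G (j + 1) :=
          Subgroup.commutator_mem_commutator
            ((Cfsg.iterCommutator N G j).inv_mem hx) hg
        have hgk : g * k * g⁻¹ ∈ Cfsg.iterCommutator N G i :=
          (Subgroup.mem_normalizer_iff.mp ((chain_inv N G hGN i).2 hg) k).mp hk
        have h2 : ⁅x⁻¹, g⁆ * (g * k * g⁻¹) * ⁅x⁻¹, g⁆⁻¹ ∈ Cfsg.iterCommutator N G i :=
          (Subgroup.mem_normalizer_iff.mp (h1 hc) _).mp hgk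
        refine ⟨⁅x⁻¹, g⁆ * (g * k * g⁻¹) * ⁅x⁻¹, g⁆⁻¹, h2, ?_⟩
        simp only [MulEquiv.coe_toMonoidHom, MulAut.conj_apply, commutatorElement_def]
        group
      obtain ⟨l, hl, hl'⟩ := main N G hN hGN n hC _ hleN hGinv
      have hcard := Helper17.card_cj x (Cfsg.iterCommutator N G i)
      rw [hl', hC l hl, hC i hi] at hcard
      have hli : n - l = n - i := Nat.pow_right_injective hp.two_le hcard
      have e : l = i := by omega
      rw [hl', e]
  exact key i 0 (by omega)

end

/-- A p-group acts uniserially on a p-group N of order p^n exactly when the iterated commutator chain from N has length n; in that case the chain terms are all the invariant subgroups of N and they are normal in N. -/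
theorem result {L : Type*} [Group L] [Finite L] {p : ℕ} [Fact p.Prime] (N G : Subgroup L) (hN : IsPGroup p N) (hG : IsPGroup p G) (hGN : G ≤ Subgroup.normalizer (N : Set L)) (n : ℕ) (hn : Nat.card N = p ^ n) : ((∀ H : Subgroup L, H ≤ N → G ≤ Subgroup.normalizer (H : Set L) → H ≠ ⊥ → (⁅H, G⁆).relIndex H = p) ↔ Cfsg.iterCommutator N G (n - 1) ≠ ⊥ ∨ n = 0) ∧ ((∀ H : Subgroup L, H ≤ N → G ≤ Subgroup.normalizer (H : Set L) → H ≠ ⊥ → (⁅H, G⁆).relIndex H = p) → ∀ H : Subgroup L, H ≤ N → G ≤ Subgroup.normalizer (H : Set L) → (∃ i ≤ n, H = Cfsg.iterCommutator N G i) ∧ N ≤ Subgroup.normalizer (H : Set L)) := by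
  have hp := (Fact.out : p.Prime)
  refine ⟨⟨fun hU => ?_, fun h => ?_⟩, fun hU H hHN hGH => ?_⟩
  · by_cases hn0 : n = 0
    · right; exact hn0
    · left
      have hC := claimA N G hGN n hn hU
      intro e
      have h1 := hC (n - 1) (by omega)
      rw [e, Subgroup.card_bot] at h1
      have h2 : n - (n - 1) = 1 := by omega
      rw [h2, pow_one] at h1
      exact hp.one_lt.ne h1
  · intro H hHN hGH hne
    by_cases hn0 : n = 0
    · exfalso
      rw [hn0, pow_zero] at hn
      have h1 : N = ⊥ := Subgroup.card_eq_one.mp hn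
      apply hne; rw [eq_bot_iff, ← h1]; exact hHN
    · have hK : Cfsg.iterCommutator N G (n - 1) ≠ ⊥ := by
        rcases h with h | h
        · exact h
        · exact absurd h hn0
      have hC := claimA' N G hN hG hGN n hn hn0 hK
      exact U_of_C N G hN hGN n hC H hHN hGH hne
  · have hC := claimA N G hGN n hn hU
    obtain ⟨i, hi, rfl⟩ := main N G hN hGN n hC H hHN hGH
    exact ⟨⟨i, hi, rfl⟩, normal_of_C N G hN hGN n hC i hi⟩

end Cfsg.Agent.S0663
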