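import Mathlib
import Cfsg.Statements.S0693
import Cfsg.Agent.Helper6.Enum2

set_option autoImplicit false
open Cfsg

namespace Cfsg.Agent.S0693

open Cfsg.Agent.Helper6

def eL : List T4 :=
  [(1, 0, 0, 1), (0, 58, 1, 0), (9, 15, 49, 49), (58, 0, 0, 58), (15, 50, 49, 10), (10, 10, 9, 15),
    (49, 44, 10, 9), (0, 1, 58, 0), (50, 44, 10, 10), (10, 49, 15, 50), (44, 10, 9, 49), (48, 20,
    46, 45), (49, 50, 49, 44), (44, 9, 10, 49), (49, 49, 50, 44), (10, 15, 49, 50), (20, 11, 45,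
    13), (50, 10, 44, 10), (13, 14, 48, 20), (1, 29, 4, 58), (55, 48, 23, 4), (49, 10, 44, 9), (15,
    49, 50, 10), (11, 39, 13, 14), (10, 9, 10, 15), (14, 46, 20, 11), (29, 58, 58, 55), (48, 4, 4,
    36), (11, 13, 39, 14), (55, 1, 1, 29), (36, 55, 55, 48), (14, 20, 46, 11), (39, 48, 14, 46),
    (9, 49, 15, 49), (46, 45, 11, 39), (58, 30, 55, 1), (4, 11, 36, 55), (13, 48, 14, 20), (1, 4,
    29, 58), (55, 23, 48, 4), (20, 45, 11, 13), (35, 32, 31, 25), (38, 31, 30, 54), (28, 35, 34,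
    32), (45, 13, 39, 48), (30, 1, 1, 4), (11, 55, 55, 23), (48, 46, 20, 45), (4, 58, 58, 30), (23,
    4, 4, 11), (45, 39, 13, 48), (32, 24, 25, 28), (31, 21, 54, 29), (35, 31, 32, 25), (28, 34, 35,
    32), (29, 5, 38, 31), (25, 27, 28, 35), (54, 28, 29, 38), (46, 11, 45, 39), (58, 55, 30, 1),
    (4, 36, 11, 55), (39, 14, 48, 46), (24, 27, 28, 34), (21, 28, 29, 5), (31, 24, 25, 27), (34,
    31, 32, 24), (5, 30, 31, 21), (27, 34, 35, 31), (28, 5, 38, 30), (10, 19, 19, 48), (5, 38, 38,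
    53), (30, 21, 54, 28), (27, 35, 34, 31), (28, 38, 5, 30), (24, 28, 27, 34), (31, 25, 24, 27),
    (30, 54, 21, 28), (34, 32, 31, 24), (5, 31, 30, 21), (19, 49, 48, 40), (38, 54, 53, 21), (21,
    29, 28, 5), (40, 11, 10, 19), (21, 6, 5, 38), (25, 16, 42, 34), (18, 19, 45, 41), (25, 28, 27,
    35), (54, 29, 28, 38), (32, 25, 24, 28), (31, 54, 21, 29), (49, 40, 40, 11), (54, 21, 21, 6),
    (29, 38, 5, 31), (11, 19, 19, 49), (6, 38, 38, 54), (16, 34, 34, 17), (19, 41, 41, 14), (38,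
    30, 31, 54), (17, 25, 25, 16), (14, 18, 18, 19), (40, 10, 11, 19), (21, 5, 6, 38), (19, 48, 49,
    40), (38, 53, 54, 21), (34, 43, 17, 25), (41, 40, 14, 18), (25, 42, 16, 34), (18, 45, 19, 41),
    (40, 18, 18, 45), (56, 52, 52, 3), (42, 34, 34, 43), (48, 40, 40, 10), (53, 21, 21, 5), (43,
    25, 25, 42), (45, 41, 41, 40), (52, 3, 3, 7), (34, 17, 43, 25), (41, 14, 40, 18), (7, 56, 56,
    52), (3, 7, 7, 56)]

def eW : List (List ℕ) :=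
  [[], [0], [1], [0, 0], [1, 0], [0, 1], [1, 1], [0, 0, 0], [1, 0, 0], [0, 1, 0], [1, 1, 0], [1, 0,
    1], [0, 1, 1], [1, 0, 0, 0], [0, 1, 0, 0], [1, 1, 0, 0], [1, 0, 1, 0], [0, 1, 1, 0], [0, 1, 0,
    1], [1, 1, 0, 1], [1, 0, 1, 1], [0, 1, 0, 0, 0], [1, 1, 0, 0, 0], [1, 0, 1, 0, 0], [0, 1, 1, 0,
    0], [0, 1, 0, 1, 0], [1, 1, 0, 1, 0], [1, 0, 1, 1, 0], [1, 0, 1, 0, 1], [0, 1, 1, 0, 1], [0, 1,
    0, 1, 1], [1, 1, 0, 1, 1], [1, 0, 1, 0, 0, 0], [0, 1, 1, 0, 0, 0], [0, 1, 0, 1, 0, 0], [1, 1,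
    0, 1, 0, 0], [1, 0, 1, 1, 0, 0], [1, 0, 1, 0, 1, 0], [0, 1, 1, 0, 1, 0], [0, 1, 0, 1, 1, 0],
    [1, 1, 0, 1, 1, 0], [1, 1, 0, 1, 0, 1], [1, 0, 1, 1, 0, 1], [1, 0, 1, 0, 1, 1], [0, 1, 0, 1, 0,
    0, 0], [1, 1, 0, 1, 0, 0, 0], [1, 0, 1, 1, 0, 0, 0], [1, 0, 1, 0, 1, 0, 0], [0, 1, 1, 0, 1, 0,
    0], [0, 1, 0, 1, 1, 0, 0], [1, 1, 0, 1, 1, 0, 0], [1, 1, 0, 1, 0, 1, 0], [1, 0, 1, 1, 0, 1, 0],
    [1, 0, 1, 0, 1, 1, 0], [0, 1, 1, 0, 1, 0, 1], [0, 1, 0, 1, 1, 0, 1], [1, 1, 0, 1, 1, 0, 1], [1,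
    1, 0, 1, 0, 1, 1], [1, 0, 1, 0, 1, 0, 0, 0], [0, 1, 1, 0, 1, 0, 0, 0], [0, 1, 0, 1, 1, 0, 0,
    0], [1, 1, 0, 1, 1, 0, 0, 0], [1, 1, 0, 1, 0, 1, 0, 0], [1, 0, 1, 1, 0, 1, 0, 0], [1, 0, 1, 0,
    1, 1, 0, 0], [0, 1, 1, 0, 1, 0, 1, 0], [0, 1, 0, 1, 1, 0, 1, 0], [1, 1, 0, 1, 1, 0, 1, 0], [1,
    1, 0, 1, 0, 1, 1, 0], [1, 0, 1, 1, 0, 1, 0, 1], [1, 0, 1, 0, 1, 1, 0, 1], [0, 1, 1, 0, 1, 0, 1,
    1], [1, 1, 0, 1, 0, 1, 0, 0, 0], [1, 0, 1, 1, 0, 1, 0, 0, 0], [1, 0, 1, 0, 1, 1, 0, 0, 0], [0,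
    1, 1, 0, 1, 0, 1, 0, 0], [0, 1, 0, 1, 1, 0, 1, 0, 0], [1, 1, 0, 1, 1, 0, 1, 0, 0], [1, 1, 0, 1,
    0, 1, 1, 0, 0], [1, 0, 1, 1, 0, 1, 0, 1, 0], [1, 0, 1, 0, 1, 1, 0, 1, 0], [0, 1, 1, 0, 1, 0, 1,
    1, 0], [0, 1, 0, 1, 1, 0, 1, 0, 1], [1, 1, 0, 1, 1, 0, 1, 0, 1], [1, 1, 0, 1, 0, 1, 1, 0, 1],
    [1, 0, 1, 1, 0, 1, 0, 1, 1], [0, 1, 1, 0, 1, 0, 1, 0, 0, 0], [0, 1, 0, 1, 1, 0, 1, 0, 0, 0],
    [1, 1, 0, 1, 1, 0, 1, 0, 0, 0], [1, 1, 0, 1, 0, 1, 1, 0, 0, 0], [1, 0, 1, 1, 0, 1, 0, 1, 0, 0],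
    [1, 0, 1, 0, 1, 1, 0, 1, 0, 0], [0, 1, 1, 0, 1, 0, 1, 1, 0, 0], [0, 1, 0, 1, 1, 0, 1, 0, 1, 0],
    [1, 1, 0, 1, 1, 0, 1, 0, 1, 0], [1, 1, 0, 1, 0, 1, 1, 0, 1, 0], [1, 0, 1, 1, 0, 1, 0, 1, 1, 0],
    [1, 0, 1, 0, 1, 1, 0, 1, 0, 1], [0, 1, 1, 0, 1, 0, 1, 1, 0, 1], [0, 1, 0, 1, 1, 0, 1, 0, 1, 1],
    [1, 0, 1, 1, 0, 1, 0, 1, 0, 0, 0], [1, 0, 1, 0, 1, 1, 0, 1, 0, 0, 0], [0, 1, 0, 1, 1, 0, 1, 0,
    1, 0, 0], [1, 1, 0, 1, 1, 0, 1, 0, 1, 0, 0], [1, 1, 0, 1, 0, 1, 1, 0, 1, 0, 0], [1, 0, 1, 1, 0,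
    1, 0, 1, 1, 0, 0], [0, 1, 1, 0, 1, 0, 1, 1, 0, 1, 0], [0, 1, 0, 1, 1, 0, 1, 0, 1, 1, 0], [1, 1,
    0, 1, 0, 1, 1, 0, 1, 0, 1], [1, 0, 1, 1, 0, 1, 0, 1, 1, 0, 1], [1, 0, 1, 0, 1, 1, 0, 1, 0, 1,
    1], [0, 1, 0, 1, 1, 0, 1, 0, 1, 0, 0, 0], [1, 1, 0, 1, 1, 0, 1, 0, 1, 0, 0, 0], [1, 1, 0, 1, 0,
    1, 1, 0, 1, 0, 0, 0], [0, 1, 0, 1, 1, 0, 1, 0, 1, 1, 0, 0], [1, 0, 1, 1, 0, 1, 0, 1, 1, 0, 1,
    0], [1, 0, 1, 0, 1, 1, 0, 1, 0, 1, 1, 0], [0, 1, 1, 0, 1, 0, 1, 1, 0, 1, 0, 1], [0, 1, 0, 1, 1,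
    0, 1, 0, 1, 1, 0, 1], [1, 1, 0, 1, 0, 1, 1, 0, 1, 0, 1, 1]]

def eG : List T4 :=
  [(0, 58, 1, 0), (9, 15, 49, 49)]


theorem chk : t4check 59 eG eL eW = true := by decide +kernel

theorem nd : t4nodup 59 eL = true := by decide +kernel

theorem fr : t4free 59 eL = true := by decide +kernel

theorem len : eL.length = 120 := by decide +kernel

theorem mA : (!![0, -1; 1, 0] : Matrix (Fin 2) (Fin 2) (ZMod 59)) = t4mat 59 (0, 58, 1, 0) := by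
  unfold t4mat; decide +kernel

theorem mB : (!![9, 15; -10, -10] : Matrix (Fin 2) (Fin 2) (ZMod 59))
    = t4mat 59 (9, 15, 49, 49) := by
  unfold t4mat; decide +kernel

theorem mC : (!![4, 0; 0, 4] : Matrix (Fin 2) (Fin 2) (ZMod 59)) = (4 : ZMod 59) • 1 := by
  decide +kernel

theorem four_pow : (4 : ZMod 59) ^ 29 = 1 := by decide +kernel

theorem four_ne : (4 : ZMod 59) ≠ 1 := by decide +kernel

/-- An exceptional sharply doubly transitive group of degree 59^2: the listed matrices generate a subgroup of GL(2,59) of order 3480 acting regularly on the non-zero vectors. -/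
theorem result (A : Matrix.GeneralLinearGroup (Fin 2) (ZMod 59)) (B : Matrix.GeneralLinearGroup (Fin 2) (ZMod 59)) (C : Matrix.GeneralLinearGroup (Fin 2) (ZMod 59)) (hA : (A : Matrix (Fin 2) (Fin 2) (ZMod 59)) = !![0, -1; 1, 0]) (hB : (B : Matrix (Fin 2) (Fin 2) (ZMod 59)) = !![9, 15; -10, -10]) (hC : (C : Matrix (Fin 2) (Fin 2) (ZMod 59)) = !![4, 0; 0, 4]) : Nat.card (Subgroup.closure ({A, B, C} : Set (Matrix.GeneralLinearGroup (Fin 2) (ZMod 59)))) = 3480 ∧ ∀ v w : Fin 2 → ZMod 59, v ≠ 0 → w ≠ 0 → ∃! h : Subgroup.closure ({A, B, C} : Set (Matrix.GeneralLinearGroup (Fin 2) (ZMod 59))), Matrix.mulVec ((h : Matrix.GeneralLinearGroup (Fin 2) (ZMod 59)) : Matrix (Fin 2) (Fin 2) (ZMod 59)) v = w := by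
  haveI : Fact (Nat.Prime 59) := ⟨by norm_num⟩
  haveI : Fact (Nat.Prime 29) := ⟨by norm_num⟩
  have hS : ∀ s ∈ ({A, B} : Set (Matrix.GeneralLinearGroup (Fin 2) (ZMod 59))), ∃ t ∈ eG,
      (s : Matrix (Fin 2) (Fin 2) (ZMod 59)) = t4mat 59 t := by
    rintro s (rfl | rfl)
    · exact ⟨(0, 58, 1, 0), by simp [eG], hA.trans mA⟩
    · exact ⟨(9, 15, 49, 49), by simp [eG], hB.trans mB⟩
  have hgs : ∀ t ∈ eG, ∃ s ∈ ({A, B} : Set (Matrix.GeneralLinearGroup (Fin 2) (ZMod 59))),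
      (s : Matrix (Fin 2) (Fin 2) (ZMod 59)) = t4mat 59 t := by
    intro t ht
    simp only [eG, List.mem_cons, List.not_mem_nil, or_false] at ht
    rcases ht with rfl | rfl
    · exact ⟨A, by simp, hA.trans mA⟩
    · exact ⟨B, by simp, hB.trans mB⟩
  have hKcard : Nat.card (Subgroup.closure
      ({A, B} : Set (Matrix.GeneralLinearGroup (Fin 2) (ZMod 59)))) = 120 :=
    (t4_card _ eG eL eW hS hgs chk nd).trans len
  have hKfree := t4_free _ eG eL eW hS hgs chk fr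
  have hCs : (C : Matrix (Fin 2) (Fin 2) (ZMod 59)) = (4 : ZMod 59) • 1 := hC.trans mC
  have hCc : ∀ g : Matrix.GeneralLinearGroup (Fin 2) (ZMod 59), Commute C g := by
    intro g
    apply Units.ext
    rw [Units.val_mul, Units.val_mul, hCs, Matrix.smul_mul, Matrix.mul_smul, one_mul, mul_one]
  have hCpow : ∀ j : ℕ, ((C ^ j : Matrix.GeneralLinearGroup (Fin 2) (ZMod 59)) :
      Matrix (Fin 2) (Fin 2) (ZMod 59)) = ((4 : ZMod 59) ^ j) • 1 := by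
    intro j
    rw [Units.val_pow_eq_pow_val, hCs, smul_pow, one_pow]
  have hC29 : C ^ 29 = 1 := by
    apply Units.ext
    rw [hCpow, four_pow, one_smul]
    rfl
  have hC1 : C ≠ 1 := by
    intro h1
    have h2 := hCpow 1
    rw [pow_one, h1, pow_one] at h2
    have h3 := congrFun (congrFun h2 0) 0
    simp at h3
    exact four_ne h3.symm
  have hord : orderOf C = 29 := orderOf_eq_prime hC29 hC1
  have hKH : Subgroup.closure ({A, B} : Set (Matrix.GeneralLinearGroup (Fin 2) (ZMod 59)))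
      ≤ Subgroup.closure ({A, B, C} : Set (Matrix.GeneralLinearGroup (Fin 2) (ZMod 59))) := by
    apply Subgroup.closure_mono
    rintro x (rfl | rfl)
    · simp
    · simp
  have h120 : 120 ∣ Nat.card (Subgroup.closure
      ({A, B, C} : Set (Matrix.GeneralLinearGroup (Fin 2) (ZMod 59)))) := by
    rw [← hKcard]
    exact Subgroup.card_dvd_of_le hKH
  have h29 : 29 ∣ Nat.card (Subgroup.closure
      ({A, B, C} : Set (Matrix.GeneralLinearGroup (Fin 2) (ZMod 59)))) := by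
    rw [← hord]
    exact Subgroup.orderOf_dvd_natCard _ (Subgroup.subset_closure (by simp))
  have h3480 : 120 * 29 ∣ Nat.card (Subgroup.closure
      ({A, B, C} : Set (Matrix.GeneralLinearGroup (Fin 2) (ZMod 59)))) :=
    Nat.Coprime.mul_dvd_of_dvd_of_dvd (by norm_num) h120 h29
  have hstr : ∀ h ∈ Subgroup.closure
      ({A, B, C} : Set (Matrix.GeneralLinearGroup (Fin 2) (ZMod 59))),
      ∃ k ∈ Subgroup.closure ({A, B} : Set (Matrix.GeneralLinearGroup (Fin 2) (ZMod 59))),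
      ∃ j : ℕ, h = k * C ^ j := by
    intro h hh
    induction hh using Subgroup.closure_induction_left with
    | one => exact ⟨1, Subgroup.one_mem _, 0, by simp⟩
    | mul_left x hx y hy ih =>
      obtain ⟨k, hk, j, rfl⟩ := ih
      rcases hx with hx | hx | hx
      · exact ⟨x * k, Subgroup.mul_mem _ (Subgroup.subset_closure (by rw [hx]; simp)) hk, j,
          by rw [mul_assoc]⟩
      · exact ⟨x * k, Subgroup.mul_mem _ (Subgroup.subset_closure (by rw [hx]; simp)) hk, j,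
          by rw [mul_assoc]⟩
      · rw [Set.mem_singleton_iff] at hx
        refine ⟨k, hk, j + 1, ?_⟩
        rw [hx, ← mul_assoc, (hCc k).eq, mul_assoc, ← pow_succ']
    | inv_mul_cancel x hx y hy ih =>
      obtain ⟨k, hk, j, rfl⟩ := ih
      rcases hx with hx | hx | hx
      · exact ⟨x⁻¹ * k, Subgroup.mul_mem _ (Subgroup.inv_mem _
          (Subgroup.subset_closure (by rw [hx]; simp))) hk, j, by rw [mul_assoc]⟩
      · exact ⟨x⁻¹ * k, Subgroup.mul_mem _ (Subgroup.inv_mem _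
          (Subgroup.subset_closure (by rw [hx]; simp))) hk, j, by rw [mul_assoc]⟩
      · rw [Set.mem_singleton_iff] at hx
        refine ⟨k, hk, 28 + j, ?_⟩
        have hinv : C⁻¹ = C ^ 28 := by
          apply inv_eq_of_mul_eq_one_right
          rw [← pow_succ', hC29]
        rw [hx, hinv, ← mul_assoc, ((hCc k).pow_left 28).eq, mul_assoc, ← pow_add]
  have hfree : ∀ h ∈ Subgroup.closure
      ({A, B, C} : Set (Matrix.GeneralLinearGroup (Fin 2) (ZMod 59))),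
      ∀ v : Fin 2 → ZMod 59, v ≠ 0 →
      Matrix.mulVec (h : Matrix (Fin 2) (Fin 2) (ZMod 59)) v = v → h = 1 := by
    intro h hh v hv hhv
    obtain ⟨k, hk, j, rfl⟩ := hstr h hh
    have hpow : (k * C ^ j) ^ 29 = k ^ 29 := by
      rw [(((hCc k).pow_left j).symm).mul_pow, ← pow_mul, mul_comm j 29, pow_mul, hC29, one_pow,
        mul_one]
    have hfix : ∀ n : ℕ, Matrix.mulVec (((k * C ^ j) ^ n :
        Matrix.GeneralLinearGroup (Fin 2) (ZMod 59)) : Matrix (Fin 2) (Fin 2) (ZMod 59)) v = v := by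
      intro n
      induction n with
      | zero => simp
      | succ n ih => rw [pow_succ, Units.val_mul, ← Matrix.mulVec_mulVec, hhv, ih]
    have hk29 : k ^ 29 = 1 :=
      hKfree (k ^ 29) (Subgroup.pow_mem _ hk 29) v hv (by rw [← hpow]; exact hfix 29)
    have hk120 : k ^ 120 = 1 := by
      have h1 := pow_card_eq_one' (G := Subgroup.closure
        ({A, B} : Set (Matrix.GeneralLinearGroup (Fin 2) (ZMod 59)))) (x := ⟨k, hk⟩)
      rw [hKcard] at h1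
      have h2 := congrArg Subtype.val h1
      simpa using h2
    have hk1 : k = 1 := by
      have h1 : k ^ 841 = 1 := by
        rw [show 841 = 29 * 29 from rfl, pow_mul, hk29, one_pow]
      have h2 : k ^ 841 = k := by
        rw [show 841 = 120 * 7 + 1 from rfl, pow_add, pow_mul, hk120, one_pow, one_mul, pow_one]
      rw [← h2, h1]
    rw [hk1, one_mul] at hhv ⊢
    rw [hCpow, Matrix.smul_mulVec, Matrix.one_mulVec] at hhv
    have h4 : ((4 : ZMod 59) ^ j - 1) • v = 0 := by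
      rw [sub_smul, hhv, one_smul, sub_self]
    rcases smul_eq_zero.1 h4 with h5 | h5
    · apply Units.ext
      rw [hCpow, sub_eq_zero.1 h5, one_smul]
      rfl
    · exact absurd h5 hv
  have hreg := regular_of_free (Subgroup.closure
    ({A, B, C} : Set (Matrix.GeneralLinearGroup (Fin 2) (ZMod 59))))
    (Nat.le_of_dvd Nat.card_pos h3480) hfree
  exact ⟨hreg.1.trans (by norm_num), hreg.2⟩

end Cfsg.Agent.S0693
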