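import Mathlib
import Cfsg.Statements.S0749

set_option autoImplicit false
open Cfsg

namespace Cfsg.Agent.S0749

open Module

universe u v

theorem extend_aux {F : Type u} {V : Type v} [Field F] [AddCommGroup V] [Module F V]
    [FiniteDimensional F V] (B : LinearMap.BilinForm F V) (hB : B.Nondegenerate) (hA : B.IsAlt)
    (k : ℕ) :
    ∀ (X : Submodule F V) (f : V →ₗ[F] V), finrank F V - finrank F X ≤ k →
      (∀ x ∈ X, ∀ x' ∈ X, B (f x) (f x') = B x x') → (∀ x ∈ X, f x = 0 → x = 0) →
      ∃ g : V ≃ₗ[F] V, (∀ u v : V, B (g u) (g v) = B u v) ∧ ∀ x ∈ X, g x = f x := by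
  classical
  have hanti : ∀ x y : V, B x y = - B y x := fun x y => (hA.neg_eq y x).symm
  have htop : ∀ (X : Submodule F V) (f : V →ₗ[F] V), X = ⊤ →
      (∀ x ∈ X, ∀ x' ∈ X, B (f x) (f x') = B x x') → (∀ x ∈ X, f x = 0 → x = 0) →
      ∃ g : V ≃ₗ[F] V, (∀ u v : V, B (g u) (g v) = B u v) ∧ ∀ x ∈ X, g x = f x := by
    rintro X f rfl hiso hinj
    have hinj' : Function.Injective f := by
      rw [← LinearMap.ker_eq_bot, LinearMap.ker_eq_bot']
      intro m hm
      exact hinj m Submodule.mem_top hm
    refine ⟨LinearEquiv.ofInjectiveEndo f hinj', ?_, ?_⟩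
    · intro u v
      rw [LinearEquiv.coe_ofInjectiveEndo]
      exact hiso u Submodule.mem_top v Submodule.mem_top
    · intro x _
      rw [LinearEquiv.coe_ofInjectiveEndo]
  induction k with
  | zero =>
    intro X f hk hiso hinj
    have hle := Submodule.finrank_le X
    exact htop X f (Submodule.eq_top_of_finrank_eq (by omega)) hiso hinj
  | succ k ih =>
    intro X f hk hiso hinj
    by_cases hXtop : X = ⊤
    · exact htop X f hXtop hiso hinj
    obtain ⟨v0, hv0⟩ : ∃ v0 : V, v0 ∉ X := by
      by_contra hcon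
      push Not at hcon
      exact hXtop (Submodule.eq_top_iff'.mpr hcon)
    -- restriction of f to X
    obtain ⟨fX, hfXdef⟩ : ∃ fX : X →ₗ[F] V, fX = f.domRestrict X := ⟨_, rfl⟩
    have hfX : ∀ x : X, fX x = f (x : V) := fun x => by rw [hfXdef]; rfl
    have hfXinj : Function.Injective fX := by
      rw [← LinearMap.ker_eq_bot, LinearMap.ker_eq_bot']
      intro m hm
      rw [hfX] at hm
      exact Subtype.ext (hinj m m.2 hm)
    obtain ⟨r, hr⟩ := LinearMap.exists_leftInverse_of_injective fX (LinearMap.ker_eq_bot.mpr hfXinj)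
    have hr' : ∀ x : X, r (fX x) = x := fun x => by
      have := congrArg (fun g => g x) hr
      simpa using this
    obtain ⟨Y, hYdef⟩ : ∃ Y : Submodule F V, Y = LinearMap.range fX := ⟨_, rfl⟩
    have hYmem : ∀ y : V, y ∈ Y ↔ ∃ x ∈ X, f x = y := by
      intro y
      rw [hYdef, LinearMap.mem_range]
      constructor
      · rintro ⟨x, rfl⟩
        exact ⟨x, x.2, (hfX x).symm⟩
      · rintro ⟨x, hx, rfl⟩
        exact ⟨⟨x, hx⟩, hfX _⟩
    have hYfin : finrank F Y = finrank F X := by
      rw [hYdef]
      exact LinearMap.finrank_range_of_inj hfXinj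
    -- key claim
    have hkey : ∃ v w : V, v ∉ X ∧ w ∉ Y ∧ ∀ x ∈ X, B w (f x) = B v x := by
      obtain ⟨w0, hw0def⟩ : ∃ w0 : V,
          w0 = (B.toDual hB).symm ((B v0).comp (X.subtype.comp r)) := ⟨_, rfl⟩
      have hw0 : ∀ x ∈ X, B w0 (f x) = B v0 x := by
        intro x hx
        rw [hw0def, LinearMap.BilinForm.apply_toDual_symm_apply]
        have h1 := hr' ⟨x, hx⟩
        rw [hfX] at h1
        simp only [LinearMap.comp_apply, Submodule.subtype_apply]
        rw [h1]
      by_cases hw0Y : w0 ∈ Y
      · obtain ⟨x0, hx0, hfx0⟩ := (hYmem w0).mp hw0Y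
        have hv' : v0 - x0 ∉ X := by
          intro h
          apply hv0
          have := X.add_mem h hx0
          simpa using this
        have hv'orth : ∀ x ∈ X, B (v0 - x0) x = 0 := by
          intro x hx
          rw [map_sub, LinearMap.sub_apply, ← hw0 x hx, ← hfx0, hiso x0 hx0 x hx, sub_self]
        -- need u orthogonal to Y, not in Y
        have hu : ∃ u : V, u ∉ Y ∧ ∀ x ∈ X, B u (f x) = 0 := by
          by_contra hcon
          push Not at hcon
          have hOY : B.orthogonal Y ≤ Y := by
            intro u hu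
            by_contra huY
            obtain ⟨x, hx, hne⟩ := hcon u huY
            apply hne
            rw [hanti]
            have : B (f x) u = 0 := hu (f x) ((hYmem _).mpr ⟨x, hx, rfl⟩)
            rw [this, neg_zero]
          have hOY' : B.orthogonal Y ≤ (X ⊓ B.orthogonal X).map f := by
            intro u hu
            obtain ⟨x, hx, rfl⟩ := (hYmem u).mp (hOY hu)
            refine ⟨x, ⟨hx, ?_⟩, rfl⟩
            intro n hn
            change B n x = 0
            rw [← hiso n hn x hx]
            exact hu (f n) ((hYmem _).mpr ⟨n, hn, rfl⟩)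
          have h1 := Submodule.finrank_mono hOY'
          have h2 := Submodule.finrank_map_le f (X ⊓ B.orthogonal X)
          have hlt : X ⊓ B.orthogonal X < B.orthogonal X := by
            refine lt_of_le_of_ne inf_le_right ?_
            intro heq
            have hmem : v0 - x0 ∈ B.orthogonal X := by
              intro n hn
              change B n (v0 - x0) = 0
              rw [hanti, hv'orth n hn, neg_zero]
            rw [← heq] at hmem
            exact hv' hmem.1
          have h3 := Submodule.finrank_lt_finrank_of_lt hlt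
          have h4 := LinearMap.BilinForm.finrank_orthogonal hB Y
          have h5 := LinearMap.BilinForm.finrank_orthogonal hB X
          omega
        obtain ⟨u, huY, hu⟩ := hu
        refine ⟨v0 - x0, u, hv', huY, ?_⟩
        intro x hx
        rw [hu x hx, hv'orth x hx]
      · exact ⟨v0, w0, hv0, hw0Y, hw0⟩
    obtain ⟨v, w, hvX, hwY, hvw⟩ := hkey
    -- functional vanishing on X with value 1 at v
    obtain ⟨c0, hc0v, hc0X⟩ := Submodule.exists_dual_map_eq_bot_of_notMem hvX inferInstance
    have hc0X' : ∀ x ∈ X, c0 x = 0 := by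
      intro x hx
      have : c0 x ∈ X.map c0 := Submodule.mem_map_of_mem hx
      rw [hc0X] at this
      exact (Submodule.mem_bot F).mp this
    obtain ⟨c, hcdef⟩ : ∃ c : V →ₗ[F] F, c = (c0 v)⁻¹ • c0 := ⟨_, rfl⟩
    have hcv : c v = 1 := by
      rw [hcdef, LinearMap.smul_apply, smul_eq_mul, inv_mul_cancel₀ hc0v]
    have hcX : ∀ x ∈ X, c x = 0 := by
      intro x hx
      rw [hcdef, LinearMap.smul_apply, hc0X' x hx, smul_zero]
    obtain ⟨f', hf'def⟩ : ∃ f' : V →ₗ[F] V, f' = f + c.smulRight (w - f v) := ⟨_, rfl⟩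
    have hf'app : ∀ z : V, f' z = f z + c z • (w - f v) := fun z => by
      rw [hf'def]; rfl
    have hf'X : ∀ x ∈ X, f' x = f x := by
      intro x hx
      rw [hf'app, hcX x hx, zero_smul, add_zero]
    have hf'v : f' v = w := by
      rw [hf'app, hcv, one_smul]; abel
    have hf'gen : ∀ x ∈ X, ∀ a : F, f' (x + a • v) = f x + a • w := by
      intro x hx a
      rw [map_add, map_smul, hf'X x hx, hf'v]
    have hmemX' : ∀ z ∈ X ⊔ Submodule.span F {v}, ∃ x ∈ X, ∃ a : F, z = x + a • v := by
      intro z hz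
      obtain ⟨x, hx, y, hy, rfl⟩ := Submodule.mem_sup.mp hz
      obtain ⟨a, rfl⟩ := Submodule.mem_span_singleton.mp hy
      exact ⟨x, hx, a, rfl⟩
    have hlt : X < X ⊔ Submodule.span F {v} := by
      refine lt_of_le_of_ne le_sup_left ?_
      intro heq
      apply hvX
      rw [heq]
      exact Submodule.mem_sup_right (Submodule.mem_span_singleton_self v)
    have hfinlt := Submodule.finrank_lt_finrank_of_lt hlt
    have hiso' : ∀ z ∈ X ⊔ Submodule.span F {v}, ∀ z' ∈ X ⊔ Submodule.span F {v},
        B (f' z) (f' z') = B z z' := by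
      intro z hz z' hz'
      obtain ⟨x, hx, a, rfl⟩ := hmemX' z hz
      obtain ⟨x', hx', a', rfl⟩ := hmemX' z' hz'
      rw [hf'gen x hx, hf'gen x' hx']
      simp only [map_add, map_smul, LinearMap.add_apply, LinearMap.smul_apply, smul_eq_mul]
      rw [hiso x hx x' hx', hvw x' hx', hanti (f x) w, hvw x hx, hA w, hA v, hanti x v]
    have hinj' : ∀ z ∈ X ⊔ Submodule.span F {v}, f' z = 0 → z = 0 := by
      intro z hz hfz
      obtain ⟨x, hx, a, rfl⟩ := hmemX' z hz
      rw [hf'gen x hx] at hfz
      have ha : a = 0 := by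
        by_contra ha
        apply hwY
        rw [hYmem]
        refine ⟨(-a⁻¹) • x, X.smul_mem _ hx, ?_⟩
        rw [map_smul]
        have : f x = -(a • w) := eq_neg_of_add_eq_zero_left hfz
        rw [this, smul_neg, neg_smul, neg_neg, smul_smul, inv_mul_cancel₀ ha, one_smul]
      subst ha
      rw [zero_smul, add_zero] at hfz ⊢
      exact hinj x hx hfz
    obtain ⟨g, hg1, hg2⟩ := ih (X ⊔ Submodule.span F {v}) f' (by omega) hiso' hinj'
    refine ⟨g, hg1, ?_⟩
    intro x hx
    rw [hg2 x (Submodule.mem_sup_left hx), hf'X x hx]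

/-- Witt's Lemma for alternating forms. If B is a non-degenerate alternating bilinear form on a finite-dimensional vector space V (over any field) and φ is a linear equivalence between subspaces X and Y of V preserving B, then φ extends to a B-preserving linear automorphism of V. -/
theorem result {F V : Type*} [Field F] [AddCommGroup V] [Module F V] [FiniteDimensional F V] (B : LinearMap.BilinForm F V) (hB : B.Nondegenerate) (hA : B.IsAlt) (X Y : Submodule F V) (φ : X ≃ₗ[F] Y) (hφ : ∀ x x' : X, B (φ x : V) (φ x' : V) = B (x : V) (x' : V)) : ∃ g : V ≃ₗ[F] V, (∀ u v : V, B (g u) (g v) = B u v) ∧ ∀ x : X, g (x : V) = (φ x : V) := by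
  obtain ⟨r0, hr0⟩ := LinearMap.exists_leftInverse_of_injective X.subtype X.ker_subtype
  have hr0' : ∀ x : X, r0 (x : V) = x := fun x => by
    have := congrArg (fun g => g x) hr0
    simpa using this
  obtain ⟨f, hfdef⟩ : ∃ f : V →ₗ[F] V, f = Y.subtype.comp (φ.toLinearMap.comp r0) := ⟨_, rfl⟩
  have hf : ∀ x : X, f (x : V) = (φ x : V) := by
    intro x
    rw [hfdef]
    simp only [LinearMap.comp_apply, Submodule.subtype_apply, LinearEquiv.coe_coe]
    rw [hr0']
  obtain ⟨g, hg1, hg2⟩ := extend_aux B hB hA (Module.finrank F V - Module.finrank F X) X f le_rfl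
    (by
      intro x hx x' hx'
      have h1 := hf ⟨x, hx⟩
      have h2 := hf ⟨x', hx'⟩
      simp only at h1 h2
      rw [h1, h2]
      exact hφ ⟨x, hx⟩ ⟨x', hx'⟩)
    (by
      intro x hx h0
      have h1 := hf ⟨x, hx⟩
      simp only at h1
      rw [h0] at h1
      have h2 : φ ⟨x, hx⟩ = 0 := Subtype.ext h1.symm
      have h3 : (⟨x, hx⟩ : X) = 0 := by
        rwa [LinearEquiv.map_eq_zero_iff] at h2
      exact congrArg Subtype.val h3)
  refine ⟨g, hg1, ?_⟩
  intro x
  rw [hg2 x x.2, hf]

end Cfsg.Agent.S0749
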