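import Cfsg.Statements.S0851
import Mathlib
import Cfsg.Agent.Helper11.Sibley4
import Cfsg.Agent.Helper11.TIInd

set_option autoImplicit false
open Cfsg

namespace Cfsg.Agent.S0851

open Cfsg.Agent.Helper11

/-- The abelian T.I. subgroup with Frobenius normaliser: the relevant characters of `N` are
coherent (trivially so when there is at most one of them). -/
theorem ti_frob_abelian {G : Type*} [Group G] [Fintype G] (N : Subgroup G) [Fintype N]
    (K : Subgroup G) (hnorm : ∀ n ∈ N, ∀ k ∈ K, n * k * n⁻¹ ∈ K)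
    (hTI : ∀ g : G, g ∉ N → ∀ k ∈ K, g * k * g⁻¹ ∈ K → k = 1)
    (hC : ∀ k ∈ K, k ≠ 1 → Subgroup.centralizer ({k} : Set G) ≤ K)
    (hab : ∀ a ∈ K, ∀ b ∈ K, a * b = b * a) :
    ∃ (ε : ℂ) (f : {χ : IrrCharacter N // ∃ k : N, (k : G) ∈ K ∧
        (χ : N → ℂ) k ≠ (χ : N → ℂ) 1} → IrrCharacter G),
      (ε = 1 ∨ ε = -1) ∧ Function.Injective f ∧
      ∀ χ ξ, indFun N ((χ.1 : N → ℂ) - (ξ.1 : N → ℂ)) =
        ε • ((f χ : G → ℂ) - (f ξ : G → ℂ)) := by
  classical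
  by_cases htwo : ∃ χ ξ : {χ : IrrCharacter N // ∃ k : N, (k : G) ∈ K ∧
      (χ : N → ℂ) k ≠ (χ : N → ℂ) 1}, χ ≠ ξ
  · haveI hKn : (K.subgroupOf N).Normal := ⟨fun k hk x => by
      rw [Subgroup.mem_subgroupOf] at hk ⊢
      simpa using hnorm x x.2 k hk⟩
    have hCL : ∀ h ∈ K.subgroupOf N, h ≠ 1 →
        Subgroup.centralizer ({h} : Set N) ≤ K.subgroupOf N := by
      intro h hh h1 x hx
      rw [Subgroup.mem_subgroupOf]
      apply hC (h : G) (Subgroup.mem_subgroupOf.mp hh) (fun h0 => h1 (Subtype.ext h0))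
      rw [Subgroup.mem_centralizer_iff] at hx ⊢
      intro y hy
      rw [Set.mem_singleton_iff] at hy
      rw [hy]
      have := hx h (Set.mem_singleton h)
      exact congrArg Subtype.val this
    have hSeq := frob_irr_set_eq (K.subgroupOf N) hCL
    have hmemS : ∀ χ : {χ : IrrCharacter N // ∃ k : N, (k : G) ∈ K ∧
        (χ : N → ℂ) k ≠ (χ : N → ℂ) 1},
        (χ.1 : N → ℂ) ∈ indAbove (K.subgroupOf N) ⊥ := by
      intro χ
      rw [mem_indAbove, ← hSeq]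
      obtain ⟨k, hk, hne⟩ := χ.2
      exact ⟨χ.1.2, k, Subgroup.mem_subgroupOf.mpr hk, hne⟩
    have hirr : ∀ ξ ∈ indAbove (K.subgroupOf N) ⊥, IsIrrCharacter N ξ :=
      fun ξ hξ => frob_irr_of_mem (K.subgroupOf N) hCL ((mem_indAbove _ _ _).mp hξ)
    have hdeg1 : ∀ ξ ∈ indAbove (K.subgroupOf N) ⊥, ξ 1 = ((K.subgroupOf N).index : ℂ) := by
      intro ξ hξ
      obtain ⟨θ, hθ, -, -, rfl⟩ := (mem_indAbove _ _ _).mp hξ
      rw [Cfsg.Agent.Helper2.indFun_one_apply]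
      have h1 := irr_one_of_comm (A := K.subgroupOf N) (fun a b => Subtype.ext (Subtype.ext
        (hab _ (Subgroup.mem_subgroupOf.mp a.2) _ (Subgroup.mem_subgroupOf.mp b.2)))) ⟨θ, hθ⟩
      have h2 : θ 1 = 1 := h1
      rw [h2, mul_one]
    obtain ⟨χ₀, ξ₀, hne₀⟩ := htwo
    have htwo' : ∃ χ ∈ indAbove (K.subgroupOf N) ⊥, ∃ ψ ∈ indAbove (K.subgroupOf N) ⊥, χ ≠ ψ :=
      ⟨_, hmemS χ₀, _, hmemS ξ₀, fun h => hne₀ (Subtype.ext (Subtype.ext h))⟩
    obtain ⟨hτ, hτ1⟩ := ti_isLinearIsometryOn N K hTI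
    rw [← coe_indAbove] at hτ hτ1
    have hcoh := coherent_const_degree_irr (indAbove (K.subgroupOf N) ⊥) hirr htwo'
      (fun ξ hξ ξ' hξ' => by rw [hdeg1 ξ hξ, hdeg1 ξ' hξ']) (fun α => indFun N α) hτ hτ1
    obtain ⟨-, τ₁, hτ₁, hext⟩ := hcoh
    have hirr' : ∀ χ ∈ (↑(indAbove (K.subgroupOf N) ⊥) : Set (N → ℂ)), IsIrrCharacter N χ :=
      fun χ hχ => hirr χ (Finset.mem_coe.mp hχ)
    have htwo'' : ∃ χ ∈ (↑(indAbove (K.subgroupOf N) ⊥) : Set (N → ℂ)),
        ∃ ψ ∈ (↑(indAbove (K.subgroupOf N) ⊥) : Set (N → ℂ)), χ ≠ ψ := by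
      obtain ⟨a, ha, b, hb, hab'⟩ := htwo'
      exact ⟨a, Finset.mem_coe.mpr ha, b, Finset.mem_coe.mpr hb, hab'⟩
    have h0 : ∀ α ∈ zspan (↑(indAbove (K.subgroupOf N) ⊥) : Set (N → ℂ)), α 1 = 0 →
        τ₁ α 1 = 0 := by
      intro α hα h1
      have hmem := mem_zspanOn_compl_one hα h1
      rw [hext α hmem]
      exact hτ1 α hmem
    obtain ⟨ε, hε, hirrε, hinj⟩ := irr_sign_uniform _ hirr' htwo'' τ₁ hτ₁ h0
    have hε0 : ε ≠ 0 := by rcases hε with rfl | rfl <;> norm_num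
    have hεsq : ε * ε = 1 := by rcases hε with rfl | rfl <;> norm_num
    refine ⟨ε, fun χ => ⟨ε • τ₁ (χ.1 : N → ℂ), hirrε _ (Finset.mem_coe.mpr (hmemS χ))⟩, hε, ?_, ?_⟩
    · intro χ ξ h
      have h1 : ε • τ₁ (χ.1 : N → ℂ) = ε • τ₁ (ξ.1 : N → ℂ) := congrArg Subtype.val h
      have h2 : τ₁ (χ.1 : N → ℂ) = τ₁ (ξ.1 : N → ℂ) := smul_right_injective _ hε0 h1
      exact Subtype.ext (Subtype.ext (hinj _ (Finset.mem_coe.mpr (hmemS χ)) _
        (Finset.mem_coe.mpr (hmemS ξ)) h2))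
    · intro χ ξ
      obtain ⟨hadd, hsmul, -, -⟩ := hτ₁
      have hχ : (χ.1 : N → ℂ) ∈ zspan (↑(indAbove (K.subgroupOf N) ⊥) : Set (N → ℂ)) :=
        Submodule.subset_span (Finset.mem_coe.mpr (hmemS χ))
      have hξ : (ξ.1 : N → ℂ) ∈ zspan (↑(indAbove (K.subgroupOf N) ⊥) : Set (N → ℂ)) :=
        Submodule.subset_span (Finset.mem_coe.mpr (hmemS ξ))
      have hnegξ : ((-1 : ℤ) • (ξ.1 : N → ℂ)) ∈
          zspan (↑(indAbove (K.subgroupOf N) ⊥) : Set (N → ℂ)) :=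
        Submodule.smul_mem _ _ hξ
      have e1 : (χ.1 : N → ℂ) - (ξ.1 : N → ℂ) = (χ.1 : N → ℂ) + (-1 : ℤ) • (ξ.1 : N → ℂ) := by
        rw [neg_smul, one_smul, sub_eq_add_neg]
      have hmem : (χ.1 : N → ℂ) - (ξ.1 : N → ℂ) ∈
          zspanOn (↑(indAbove (K.subgroupOf N) ⊥) : Set (N → ℂ)) {1}ᶜ := by
        apply mem_zspanOn_compl_one (Submodule.sub_mem _ hχ hξ)
        rw [Pi.sub_apply, hdeg1 _ (hmemS χ), hdeg1 _ (hmemS ξ), sub_self]
      have e2 := hext _ hmem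
      simp only at e2
      rw [← e2, e1, hadd _ hχ _ hnegξ, hsmul _ hξ]
      funext g
      simp only [Pi.add_apply, Pi.smul_apply, Pi.sub_apply, smul_eq_mul, neg_smul, one_smul,
        Pi.neg_apply]
      linear_combination (-(τ₁ (χ.1 : N → ℂ) g - τ₁ (ξ.1 : N → ℂ) g)) * hεsq
  · push Not at htwo
    refine ⟨1, fun _ => Cfsg.Agent.Helper25.trivChar G, Or.inl rfl, fun χ ξ _ => htwo χ ξ,
      fun χ ξ => ?_⟩
    rw [htwo χ ξ, sub_self, sub_self, smul_zero, Cfsg.Agent.Helper2.indFun_zero]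

/-- Let K be a subgroup of the finite group G that meets each conjugate by an element outside its normalizer N trivially, is properly contained in N, and contains the centralizer of each of its non-identity elements (a T.I. subgroup with Frobenius normalizer). Suppose K is abelian, let e be the index of K in N, and call an irreducible character of N relevant when it takes at some element of K a value different from its degree. Then either there is exactly one relevant character and K is an elementary abelian p-group of order e + 1 for some prime p, or there are a sign ε and an injective map f from the relevant characters to the irreducible characters of G such that inducing χ - ξ to G gives ε (f χ - f ξ) for all relevant χ and ξ. -/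
theorem result {G : Type*} [Group G] [Fintype G] (K : Subgroup G) (hTI : ∀ g : G, g ∉ Subgroup.normalizer (K : Set G) → ∀ k ∈ K, g * k * g⁻¹ ∈ K → k = 1) (hlt : K < Subgroup.normalizer (K : Set G)) (hC : ∀ k ∈ K, k ≠ 1 → Subgroup.centralizer ({k} : Set G) ≤ K) (hab : ∀ a ∈ K, ∀ b ∈ K, a * b = b * a) : (Nat.card {χ : Cfsg.IrrCharacter (Subgroup.normalizer (K : Set G)) // ∃ k : Subgroup.normalizer (K : Set G), (k : G) ∈ K ∧ (χ : ↥(Subgroup.normalizer (K : Set G)) → ℂ) k ≠ (χ : ↥(Subgroup.normalizer (K : Set G)) → ℂ) 1} = 1 ∧ ∃ p : ℕ, p.Prime ∧ Cfsg.IsElementaryAbelian p K ∧ Nat.card K = (K.subgroupOf (Subgroup.normalizer (K : Set G))).index + 1) ∨ ∃ (ε : ℂ) (f : {χ : Cfsg.IrrCharacter (Subgroup.normalizer (K : Set G)) // ∃ k : Subgroup.normalizer (K : Set G), (k : G) ∈ K ∧ (χ : ↥(Subgroup.normalizer (K : Set G)) → ℂ) k ≠ (χ : ↥(Subgroup.normalizer (K : Set G)) → ℂ) 1} → Cfsg.IrrCharacter G), (ε = 1 ∨ ε = -1) ∧ Function.Injective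 f ∧ ∀ χ ξ, Cfsg.indFun (Subgroup.normalizer (K : Set G)) ((χ.1 : ↥(Subgroup.normalizer (K : Set G)) → ℂ) - (ξ.1 : ↥(Subgroup.normalizer (K : Set G)) → ℂ)) = ε • ((f χ : G → ℂ) - (f ξ : G → ℂ)) := by
  classical
  right
  letI : Fintype ↥(Subgroup.normalizer (K : Set G)) := Fintype.ofFinite _
  exact ti_frob_abelian (Subgroup.normalizer (K : Set G)) K
    (fun n hn k hk => (Subgroup.mem_normalizer_iff.mp hn k).mp hk) hTI hC hab

end Cfsg.Agent.S0851
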