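import Cfsg.Statements.S0852
import Mathlib
import Cfsg.Agent.Helper7.TIFrob

set_option autoImplicit false
open Cfsg

namespace Cfsg.Agent.S0852

open Cfsg.Agent.Helper11 Cfsg.Agent.Helper7

/-- With at least two relevant characters, no relevant character is constant on `K ∖ 1`. -/
theorem relS_nonconst {G : Type*} [Group G] [Fintype G] (N : Subgroup G) [Fintype N]
    (K : Subgroup G) (hnorm : ∀ n ∈ N, ∀ k ∈ K, n * k * n⁻¹ ∈ K)
    (hC : ∀ k ∈ K, k ≠ 1 → Subgroup.centralizer ({k} : Set G) ≤ K)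
    {χ ξ : N → ℂ} (hχ : χ ∈ relS N K) (hξ : ξ ∈ relS N K) (hne : χ ≠ ξ) :
    ∃ a b : N, (a : G) ∈ K ∧ (b : G) ∈ K ∧ a ≠ 1 ∧ b ≠ 1 ∧ χ a ≠ χ b := by
  classical
  by_contra hcon
  push Not at hcon
  haveI := subgroupOf_normal_of_norm N K hnorm
  have hCL := centralizer_subgroupOf_le N K hC
  obtain ⟨k₀, hk₀K, hk₀ne⟩ := hχ.2
  have hk₀1 : k₀ ≠ 1 := fun h => hk₀ne (by rw [h])
  obtain ⟨v, hv⟩ : ∃ v : ℂ, v = χ k₀ := ⟨_, rfl⟩
  have hval : ∀ k : ↥(K.subgroupOf N), k ≠ 1 → χ (k : N) = v := by
    intro k hk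
    rw [hv]
    exact hcon (k : N) k₀ (Subgroup.mem_subgroupOf.mp k.2) hk₀K (fun h => hk (Subtype.ext h)) hk₀1
  have hvan : ∀ x : N, x ∉ K.subgroupOf N → χ x = 0 := fun x hx =>
    relS_vanish N K hnorm hC hχ x (fun h => hx (Subgroup.mem_subgroupOf.mpr h))
  obtain ⟨n, hn⟩ : ∃ n : ℂ, n = (Nat.card ↥(K.subgroupOf N) : ℂ) := ⟨_, rfl⟩
  obtain ⟨d, hd⟩ : ∃ d : ℕ, d = charDegree χ := ⟨_, rfl⟩
  have hd1 : χ 1 = (d : ℂ) := by
    rw [hd]
    exact Cfsg.Agent.Helper25.char_one_eq_degree (Cfsg.Agent.Helper25.isCharacter_of_irr hχ.1)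
  -- (A)
  have hA : (d : ℂ) + (n - 1) * v = 0 := by
    have h1 := irr_inner_fun hχ.1 (Cfsg.Agent.Helper25.trivChar N).2
    have h2 : χ ≠ ((Cfsg.Agent.Helper25.trivChar N : IrrCharacter N) : N → ℂ) := by
      intro h
      apply hk₀ne
      rw [h, Cfsg.Agent.Helper25.trivChar_apply, Cfsg.Agent.Helper25.trivChar_apply]
    rw [if_neg h2] at h1
    unfold classInner at h1
    have hN0 : (Nat.card N : ℂ)⁻¹ ≠ 0 := inv_ne_zero (Nat.cast_ne_zero.mpr Nat.card_pos.ne')
    have h3 := (mul_eq_zero.mp h1).resolve_left hN0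
    have h4 : ∑ x : N, χ x = 0 := by
      rw [← h3]
      apply Finset.sum_congr rfl
      intro x _
      rw [Cfsg.Agent.Helper25.trivChar_apply, map_one, mul_one]
    rw [sum_subgroup_support (K.subgroupOf N) χ hvan,
      sum_const_off_one (fun k : ↥(K.subgroupOf N) => χ (k : N)) v hval] at h4
    simp only [OneMemClass.coe_one] at h4
    rw [hd1, ← hn] at h4
    exact h4
  have hnr : (starRingEnd ℂ) n = n := by rw [hn]; exact Complex.conj_natCast _
  have hw : n - 1 ≠ 0 := by
    intro h0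
    have hK1 : K.subgroupOf N ≠ ⊥ := by
      intro h
      have h1 : k₀ ∈ K.subgroupOf N := Subgroup.mem_subgroupOf.mpr hk₀K
      rw [h, Subgroup.mem_bot] at h1
      exact hk₀1 h1
    have h2 : (Nat.card ↥(K.subgroupOf N) : ℂ) = ((1 : ℕ) : ℂ) := by
      rw [Nat.cast_one, ← hn]
      linear_combination h0
    have h3 := Nat.cast_injective h2
    have := (Subgroup.one_lt_card_iff_ne_bot (K.subgroupOf N)).mpr hK1
    omega
  have hvr : (starRingEnd ℂ) v = v := by
    have h1 := congrArg (starRingEnd ℂ) hA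
    rw [map_add, map_mul, map_sub, map_one, hnr, Complex.conj_natCast, map_zero] at h1
    have h2 : (n - 1) * ((starRingEnd ℂ) v - v) = 0 := by linear_combination h1 - hA
    have h3 := (mul_eq_zero.mp h2).resolve_left hw
    linear_combination h3
  -- (B)
  have hB : (d : ℂ) * d + (n - 1) * (v * v) = (Nat.card N : ℂ) := by
    have h1 := irr_inner_fun hχ.1 hχ.1
    rw [if_pos rfl] at h1
    unfold classInner at h1
    have hN0 : (Nat.card N : ℂ) ≠ 0 := Nat.cast_ne_zero.mpr Nat.card_pos.ne'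
    have h3 : ∑ x : N, χ x * (starRingEnd ℂ) (χ x) = (Nat.card N : ℂ) := by
      field_simp at h1
      linear_combination h1
    rw [sum_subgroup_support (K.subgroupOf N) (fun x : N => χ x * (starRingEnd ℂ) (χ x))
      (fun x hx => by rw [hvan x hx, zero_mul]),
      sum_const_off_one (fun k : ↥(K.subgroupOf N) => χ (k : N) * (starRingEnd ℂ) (χ (k : N)))
        (v * v) (fun k hk => by rw [hval k hk, hvr])] at h3
    simp only [OneMemClass.coe_one] at h3
    rw [hd1, Complex.conj_natCast, ← hn] at h3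
    exact h3
  have hcardN : (Nat.card N : ℂ) = ((K.subgroupOf N).index : ℂ) * n := by
    rw [hn, ← Nat.cast_mul, mul_comm, Subgroup.card_mul_index]
  have hn0 : n ≠ 0 := by rw [hn]; exact Nat.cast_ne_zero.mpr Nat.card_pos.ne'
  have hkey : (d : ℂ) * d = ((K.subgroupOf N).index : ℂ) * (n - 1) := by
    have h1 : (d : ℂ) * d * n = (Nat.card N : ℂ) * (n - 1) := by
      linear_combination (n - 1) * hB + ((d : ℂ) - (n - 1) * v) * hA
    rw [hcardN] at h1
    have h2 : n * ((d : ℂ) * d - ((K.subgroupOf N).index : ℂ) * (n - 1)) = 0 := by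
      linear_combination h1
    have h3 := (mul_eq_zero.mp h2).resolve_left hn0
    linear_combination h3
  have hpos : 1 ≤ Nat.card ↥(K.subgroupOf N) := Nat.card_pos
  have hkeyN : d * d = (K.subgroupOf N).index * (Nat.card ↥(K.subgroupOf N) - 1) := by
    have h1 : ((d * d : ℕ) : ℂ) =
        (((K.subgroupOf N).index * (Nat.card ↥(K.subgroupOf N) - 1) : ℕ) : ℂ) := by
      rw [Nat.cast_mul, Nat.cast_mul, Nat.cast_sub hpos, Nat.cast_one, ← hn]
      exact hkey
    exact Nat.cast_injective h1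
  have hsum := frob_sum_degree_sq (K.subgroupOf N) hCL ⊥
  rw [Subgroup.relIndex_bot_left] at hsum
  have hχm : χ ∈ indAbove (K.subgroupOf N) ⊥ := by
    rw [mem_indAbove, ← relS_eq N K hnorm hC]; exact hχ
  have hξm : ξ ∈ indAbove (K.subgroupOf N) ⊥ := by
    rw [mem_indAbove, ← relS_eq N K hnorm hC]; exact hξ
  have hsub : ({χ, ξ} : Finset (N → ℂ)) ⊆ indAbove (K.subgroupOf N) ⊥ := by
    intro f hf
    rcases Finset.mem_insert.mp hf with rfl | hf
    · exact hχm
    · rw [Finset.mem_singleton] at hf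
      rw [hf]; exact hξm
  have hle := Finset.sum_le_sum_of_subset (f := fun φ : N → ℂ => charDegree φ ^ 2) hsub
  rw [Finset.sum_pair hne, hsum, ← hd] at hle
  have hξpos : 0 < charDegree ξ := Cfsg.Agent.Helper25.irr_degree_pos ⟨ξ, hξ.1⟩
  nlinarith

/-- Let K be a subgroup of the finite group G that meets each conjugate by an element outside its normalizer N trivially, is properly contained in N, and contains the centralizer of each of its non-identity elements (a T.I. subgroup with Frobenius normalizer). Let S be the set of irreducible characters of N taking at some element of K a value different from their degree, suppose S has at least two members, and let star be a linear isometry on the integer span of S into the generalized characters of G that agrees with induction on the members vanishing at the identity (so S is coherent, with star as the extending isometry). Then an irreducible character ψ of G is of the form star χ or -star χ for some χ in S if and only if ψ is not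 constant on the non-identity elements of K. -/
theorem result {G : Type*} [Group G] [Fintype G] (K : Subgroup G) (hTI : ∀ g : G, g ∉ Subgroup.normalizer (K : Set G) → ∀ k ∈ K, g * k * g⁻¹ ∈ K → k = 1) (hlt : K < Subgroup.normalizer (K : Set G)) (hC : ∀ k ∈ K, k ≠ 1 → Subgroup.centralizer ({k} : Set G) ≤ K) [Fintype ↥(Subgroup.normalizer (K : Set G))] (S : Set (↥(Subgroup.normalizer (K : Set G)) → ℂ)) (hS : S = {χ : ↥(Subgroup.normalizer (K : Set G)) → ℂ | Cfsg.IsIrrCharacter ↥(Subgroup.normalizer (K : Set G)) χ ∧ ∃ k : ↥(Subgroup.normalizer (K : Set G)), (k : G) ∈ K ∧ χ k ≠ χ 1}) (htwo : ∃ χ ∈ S, ∃ ξ ∈ S, χ ≠ ξ) (star : (↥(Subgroup.normalizer (K : Set G)) → ℂ) → (G → ℂ)) (hstar : Cfsg.IsLinearIsometryOn (Cfsg.zspan S) star) (hext : ∀ α ∈ Cfsg.zspanOn S ({1}ᶜ : Set ↥(Subgroup.normalizer (K : Set G))), star α = Cfsg.indFun (Subgroup.normalizer (K : Set G)) α) (ψ : G → ℂ) (hψ : Cfsg.IsIrrCharacter G ψ) : (∃ χ ∈ S, ψ = star χ ∨ ψ = -star χ) ↔ ∃ a ∈ K, ∃ b ∈ K, a ≠ 1 ∧ b ≠ 1 ∧ ψ a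 ≠ ψ b := by
  classical
  have hnorm : ∀ n ∈ Subgroup.normalizer (K : Set G), ∀ k ∈ K, n * k * n⁻¹ ∈ K :=
    fun n hn k hk => (Subgroup.mem_normalizer_iff.mp hn k).mp hk
  have hS' : S = relS (Subgroup.normalizer (K : Set G)) K := hS
  obtain ⟨hadd, hsmul, hiso, hgen⟩ := hstar
  have hmem : ∀ χ ∈ S, χ ∈ zspan S := fun χ hχ => Submodule.subset_span hχ
  have hirr : ∀ χ ∈ S, IsIrrCharacter ↥(Subgroup.normalizer (K : Set G)) χ := by
    intro χ hχ
    rw [hS'] at hχ
    exact hχ.1
  have hψcl : IsClassFunction G ψ :=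
    Cfsg.Agent.Helper25.char_isClassFunction (Cfsg.Agent.Helper25.isCharacter_of_irr hψ)
  constructor
  · rintro ⟨χ, hχ, hor⟩
    obtain ⟨χ₁, hχ₁, ξ₁, hξ₁, hne₁⟩ := htwo
    obtain ⟨ξ, hξ, hne⟩ : ∃ ξ ∈ S, χ ≠ ξ := by
      by_cases h : χ = χ₁
      · exact ⟨ξ₁, hξ₁, by rw [h]; exact hne₁⟩
      · exact ⟨χ₁, hχ₁, h⟩
    have hχ' : χ ∈ relS (Subgroup.normalizer (K : Set G)) K := by rw [← hS']; exact hχ
    have hξ' : ξ ∈ relS (Subgroup.normalizer (K : Set G)) K := by rw [← hS']; exact hξ
    obtain ⟨a, b, haK, hbK, ha1, hb1, hab⟩ :=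
      relS_nonconst (Subgroup.normalizer (K : Set G)) K hnorm hC hχ' hξ' hne
    obtain ⟨c, hc⟩ := tifrob_const (Subgroup.normalizer (K : Set G)) K hnorm hC (star χ)
      (Cfsg.Agent.Helper2.isGeneralizedCharacter_iff.mp (hgen χ (hmem χ hχ))).1 χ
      (Cfsg.Agent.Helper25.char_isClassFunction (Cfsg.Agent.Helper25.isCharacter_of_irr hχ'.1))
      (by
        intro α hα
        rw [← hS'] at hα
        rw [← hext α hα]
        exact hiso χ (hmem χ hχ) α hα.1)
    have h1 := hc a haK ha1
    have h2 := hc b hbK hb1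
    have hstarne : star χ (a : G) ≠ star χ (b : G) := by
      intro h
      apply hab
      linear_combination h2 - h1 + h
    refine ⟨(a : G), haK, (b : G), hbK, fun h => ha1 (Subtype.ext h), fun h => hb1 (Subtype.ext h),
      ?_⟩
    rcases hor with rfl | rfl
    · exact hstarne
    · intro h
      apply hstarne
      simp only [Pi.neg_apply] at h
      exact neg_injective h
  · rintro ⟨a, haK, b, hbK, ha1, hb1, hab⟩
    by_contra hcon
    push Not at hcon
    have h0 : ∀ α ∈ zspan S, α 1 = 0 → star α 1 = 0 := by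
      intro α hα h1
      have hm := mem_zspanOn_compl_one hα h1
      rw [hext α hm, Cfsg.Agent.Helper2.indFun_one_apply, h1, mul_zero]
    obtain ⟨ε, hε, hirrε, -⟩ := irr_sign_uniform S hirr htwo star ⟨hadd, hsmul, hiso, hgen⟩ h0
    have hε0 : (starRingEnd ℂ) ε ≠ 0 := by
      rcases hε with rfl | rfl <;> simp
    have horth : ∀ χ ∈ S, classInner ψ (star χ) = 0 := by
      intro χ hχ
      have hne : ψ ≠ ε • star χ := by
        rcases hε with rfl | rfl
        · rw [one_smul]; exact (hcon χ hχ).1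
        · rw [neg_smul, one_smul]; exact (hcon χ hχ).2
      have h1 := irr_inner_fun hψ (hirrε χ hχ)
      rw [if_neg hne, Cfsg.Agent.Helper2.classInner_smul_right] at h1
      exact (mul_eq_zero.mp h1).resolve_left hε0
    have hstar0 : star 0 = 0 := by
      have h := hsmul 0 (Submodule.zero_mem _) 0
      rwa [zero_smul, zero_smul] at h
    have horth' : ∀ α ∈ zspan S, classInner ψ (star α) = 0 := by
      intro α hα
      refine Submodule.span_induction (p := fun y _ => classInner ψ (star y) = 0) ?_ ?_ ?_ ?_ hα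
      · intro y hy
        exact horth y hy
      · rw [hstar0]
        unfold classInner
        simp
      · intro y y' hy1 hy2 h1 h2
        rw [hadd y hy1 y' hy2, Cfsg.Agent.Helper2.classInner_add_right, h1, h2, add_zero]
      · intro n y hy1 h1
        rw [hsmul y hy1 n, zsmul_fun_eq, Cfsg.Agent.Helper2.classInner_smul_right, h1, mul_zero]
    obtain ⟨c, hc⟩ := tifrob_const (Subgroup.normalizer (K : Set G)) K hnorm hC ψ hψcl 0
      (fun _ _ => rfl)
      (by
        intro α hα
        rw [← hS'] at hα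
        rw [← hext α hα, horth' α hα.1]
        unfold classInner
        simp)
    have h1 := hc ⟨a, Subgroup.le_normalizer haK⟩ haK (fun h => ha1 (congrArg Subtype.val h))
    have h2 := hc ⟨b, Subgroup.le_normalizer hbK⟩ hbK (fun h => hb1 (congrArg Subtype.val h))
    simp only [Pi.zero_apply, sub_zero] at h1 h2
    exact hab (h1.trans h2.symm)

end Cfsg.Agent.S0852
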