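import Cfsg.Statements.S0853
import Mathlib
import Cfsg.Agent.Helper7.TIFrob

set_option autoImplicit false
open Cfsg

namespace Cfsg.Agent.S0853

open Cfsg.Agent.Helper11 Cfsg.Agent.Helper7

theorem star_const {G : Type*} [Group G] [Fintype G] (N : Subgroup G) [Fintype N] (K : Subgroup G)
    (hnorm : ∀ n ∈ N, ∀ k ∈ K, n * k * n⁻¹ ∈ K)
    (hTI : ∀ g : G, g ∉ N → ∀ k ∈ K, g * k * g⁻¹ ∈ K → k = 1)
    (hKne : K.subgroupOf N ≠ ⊤)
    (hC : ∀ k ∈ K, k ≠ 1 → Subgroup.centralizer ({k} : Set G) ≤ K)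
    (S : Set (N → ℂ)) (hS : S = relS N K)
    (htwo : ∃ χ ∈ S, ∃ ξ ∈ S, χ ≠ ξ)
    (star : (N → ℂ) → (G → ℂ)) (hstar : IsLinearIsometryOn (zspan S) star)
    (hext : ∀ α ∈ zspanOn S ({1}ᶜ : Set N), star α = indFun N α) :
    ∃ m : ℤ, ∀ χ ∈ S, ∀ k : N, (k : G) ∈ K → k ≠ 1 →
      star χ k - χ k = (m : ℂ) * χ 1 / ((K.subgroupOf N).index : ℂ) := by
  classical
  subst hS
  haveI := subgroupOf_normal_of_norm N K hnorm
  have hCL := centralizer_subgroupOf_le N K hC
  obtain ⟨hadd, hsmul, hiso, hgen⟩ := hstar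
  have hmem : ∀ χ ∈ relS N K, χ ∈ zspan (relS N K) := fun χ hχ => Submodule.subset_span hχ
  have hconst : ∀ χ ∈ relS N K, ∃ c : ℂ, ∀ k : N, (k : G) ∈ K → k ≠ 1 →
      star χ k - χ k = c := by
    intro χ hχ
    apply tifrob_const N K hnorm hC (star χ)
      (Cfsg.Agent.Helper2.isGeneralizedCharacter_iff.mp (hgen χ (hmem χ hχ))).1 χ
      (Cfsg.Agent.Helper25.char_isClassFunction (Cfsg.Agent.Helper25.isCharacter_of_irr hχ.1))
    intro α hα
    rw [← hext α hα]
    exact hiso χ (hmem χ hχ) α hα.1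
  choose! c hc using hconst
  obtain ⟨χ₁, hχ₁, -, -, -⟩ := htwo
  obtain ⟨k₀, hk₀K, hk₀ne⟩ := hχ₁.2
  have hk₀1 : k₀ ≠ 1 := fun h => hk₀ne (by rw [h])
  have hdeg : ∀ χ ∈ relS N K, χ 1 = (charDegree χ : ℂ) := fun χ hχ =>
    Cfsg.Agent.Helper25.char_one_eq_degree (Cfsg.Agent.Helper25.isCharacter_of_irr hχ.1)
  have hrel : ∀ χ ∈ relS N K, ∀ ξ ∈ relS N K, ξ 1 * c χ = χ 1 * c ξ := by
    intro χ hχ ξ hξ
    have hα := relS_pair_mem N K hχ hξ
    have h1 := hext _ hα
    have e3 : ξ 1 • χ - χ 1 • ξ = (charDegree ξ : ℤ) • χ + (-(charDegree χ : ℤ)) • ξ := by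
      rw [zsmul_fun_eq, zsmul_fun_eq, hdeg χ hχ, hdeg ξ hξ]
      push_cast
      rw [neg_smul, sub_eq_add_neg]
    have h2 : star (ξ 1 • χ - χ 1 • ξ) =
        (charDegree ξ : ℤ) • star χ + (-(charDegree χ : ℤ)) • star ξ := by
      rw [e3, hadd _ (Submodule.smul_mem _ _ (hmem χ hχ)) _ (Submodule.smul_mem _ _ (hmem ξ hξ)),
        hsmul _ (hmem χ hχ), hsmul _ (hmem ξ hξ)]
    have h3 := congrFun (h2.symm.trans h1) (k₀ : G)
    rw [tifrob_ind_apply N K hnorm hTI hC hα k₀ hk₀K hk₀1] at h3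
    simp only [Pi.add_apply, Pi.smul_apply, Pi.sub_apply] at h3
    simp only [smul_eq_mul, zsmul_eq_mul] at h3
    push_cast at h3
    have h4 := hc χ hχ k₀ hk₀K hk₀1
    have h5 := hc ξ hξ k₀ hk₀K hk₀1
    rw [← h4, ← h5]
    rw [hdeg χ hχ, hdeg ξ hξ] at h3 ⊢
    linear_combination h3
  have hK1 : K.subgroupOf N ≠ ⊥ := by
    intro h
    have h1 : k₀ ∈ K.subgroupOf N := Subgroup.mem_subgroupOf.mpr hk₀K
    rw [h, Subgroup.mem_bot] at h1
    exact hk₀1 h1
  have hnil : Group.IsNilpotent (K.subgroupOf N) :=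
    frob_kernel_nilpotent (K.subgroupOf N) hCL hKne
  have hsolv : Group.IsSolvable (K.subgroupOf N) := by
    have _i := hnil
    infer_instance
  obtain ⟨θ, hθ, hθ1⟩ := exists_linear_irrAbove (K.subgroupOf N) hsolv ⊥
    (bot_lt_iff_ne_bot.mpr hK1)
  obtain ⟨χ₀, hχ₀def⟩ : ∃ χ₀ : N → ℂ,
      χ₀ = indFun (K.subgroupOf N) (θ : (K.subgroupOf N) → ℂ) := ⟨_, rfl⟩
  have hχ₀ : χ₀ ∈ relS N K := by
    rw [relS_eq N K hnorm hC, mem_inducedIrrAbove_iff]
    exact ⟨θ, hθ, hχ₀def⟩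
  have hχ₀1 : χ₀ 1 = ((K.subgroupOf N).index : ℂ) := by
    rw [hχ₀def, Cfsg.Agent.Helper2.indFun_one_apply, hθ1, mul_one]
  have hχ₀char : IsCharacter N χ₀ := Cfsg.Agent.Helper25.isCharacter_of_irr hχ₀.1
  have hint : ∃ m : ℤ, c χ₀ = (m : ℂ) := by
    obtain ⟨a, b, ha, hb, hab⟩ := hgen χ₀ (hmem χ₀ hχ₀)
    have h1 : IsIntegral ℤ (c χ₀) := by
      rw [← hc χ₀ hχ₀ k₀ hk₀K hk₀1, hab]
      exact IsIntegral.sub (IsIntegral.sub (Cfsg.Agent.Helper25.char_isIntegral ha _)
        (Cfsg.Agent.Helper25.char_isIntegral hb _))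
        (Cfsg.Agent.Helper25.char_isIntegral hχ₀char _)
    obtain ⟨F, hF⟩ : ∃ F : ↥(K.subgroupOf N) → ℂ,
        F = fun x : ↥(K.subgroupOf N) => star χ₀ ((x : N) : G) - χ₀ (x : N) := ⟨_, rfl⟩
    have hFgen : IsGeneralizedCharacter ↥(K.subgroupOf N) F := by
      refine ⟨fun x : ↥(K.subgroupOf N) => a ((x : N) : G),
        (fun x : ↥(K.subgroupOf N) => b ((x : N) : G)) + (fun x : ↥(K.subgroupOf N) => χ₀ (x : N)),
        ?_, ?_, ?_⟩
      · exact Cfsg.Agent.Helper2.isCharacter_comp (N.subtype.comp (K.subgroupOf N).subtype) ha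
      · exact Cfsg.Agent.Helper2.isCharacter_add
          (Cfsg.Agent.Helper2.isCharacter_comp (N.subtype.comp (K.subgroupOf N).subtype) hb)
          (Cfsg.Agent.Helper2.isCharacter_restrict (K.subgroupOf N) hχ₀char)
      · funext x
        rw [hF, hab]
        simp only [Pi.sub_apply, Pi.add_apply]
        ring
    obtain ⟨z, hz⟩ := (Cfsg.Agent.Helper2.isGeneralizedCharacter_iff.mp hFgen).2
      (Cfsg.Agent.Helper25.trivChar ↥(K.subgroupOf N))
    have hsum1 : ∑ x : ↥(K.subgroupOf N), F x = (Nat.card ↥(K.subgroupOf N) : ℂ) * (z : ℂ) := by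
      rw [← hz]
      unfold classInner
      have hK0 : (Nat.card ↥(K.subgroupOf N) : ℂ) ≠ 0 := Nat.cast_ne_zero.mpr Nat.card_pos.ne'
      rw [← mul_assoc, mul_inv_cancel₀ hK0, one_mul]
      apply Finset.sum_congr rfl
      intro x _
      rw [Cfsg.Agent.Helper25.trivChar_apply, map_one, mul_one]
    have hsum2 : ∑ x : ↥(K.subgroupOf N), F x =
        F 1 + ((Nat.card ↥(K.subgroupOf N) : ℂ) - 1) * c χ₀ := by
      apply sum_const_off_one
      intro x hx
      rw [hF]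
      exact hc χ₀ hχ₀ (x : N) (Subgroup.mem_subgroupOf.mp x.2) (fun h => hx (Subtype.ext h))
    obtain ⟨z₁, hz₁⟩ : ∃ z₁ : ℤ, F 1 = (z₁ : ℂ) := by
      refine ⟨(charDegree a : ℤ) - (charDegree b : ℤ) - ((K.subgroupOf N).index : ℤ), ?_⟩
      rw [hF]
      simp only [OneMemClass.coe_one]
      rw [hab, Pi.sub_apply, Cfsg.Agent.Helper25.char_one_eq_degree ha,
        Cfsg.Agent.Helper25.char_one_eq_degree hb, hχ₀1]
      push_cast
      ring
    have hcard2 : 2 ≤ Nat.card ↥(K.subgroupOf N) := by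
      have := (Subgroup.one_lt_card_iff_ne_bot (K.subgroupOf N)).mpr hK1
      omega
    have hne : ((Nat.card ↥(K.subgroupOf N) : ℂ) - 1) ≠ 0 := by
      intro h0
      have h2 : (Nat.card ↥(K.subgroupOf N) : ℂ) = ((1 : ℕ) : ℂ) := by
        rw [Nat.cast_one]
        linear_combination h0
      have h3 := Nat.cast_injective h2
      omega
    apply int_of_rat_isIntegral (c χ₀) h1
      (((Nat.card ↥(K.subgroupOf N) : ℚ) * z - z₁) / ((Nat.card ↥(K.subgroupOf N) : ℚ) - 1))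
    push_cast
    rw [eq_div_iff hne]
    rw [hsum1, hz₁] at hsum2
    linear_combination -hsum2
  obtain ⟨m, hm⟩ := hint
  refine ⟨m, ?_⟩
  intro χ hχ k hk hk1
  rw [hc χ hχ k hk hk1]
  have h6 := hrel χ hχ χ₀ hχ₀
  rw [hχ₀1, hm] at h6
  have he : ((K.subgroupOf N).index : ℂ) ≠ 0 :=
    Nat.cast_ne_zero.mpr Subgroup.index_ne_zero_of_finite
  field_simp
  linear_combination h6

/-- Let K be a subgroup of the finite group G that meets each conjugate by an element outside its normalizer N trivially, is properly contained in N, and contains the centralizer of each of its non-identity elements (a T.I. subgroup with Frobenius normalizer). Let S be the set of irreducible characters of N taking at some element of K a value different from their degree, suppose S has at least two members, and let star be a linear isometry on the integer span of S into the generalized characters of G that agrees with induction on the members vanishing at the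 identity (so S is coherent, with star as the extending isometry). Then there is a single integer m such that star χ k - χ k = m * χ 1 / e for every χ in S and every non-identity element k of K, where e is the index of K in N. -/
theorem result {G : Type*} [Group G] [Fintype G] (K : Subgroup G) (hTI : ∀ g : G, g ∉ Subgroup.normalizer (K : Set G) → ∀ k ∈ K, g * k * g⁻¹ ∈ K → k = 1) (hlt : K < Subgroup.normalizer (K : Set G)) (hC : ∀ k ∈ K, k ≠ 1 → Subgroup.centralizer ({k} : Set G) ≤ K) [Fintype ↥(Subgroup.normalizer (K : Set G))] (S : Set (↥(Subgroup.normalizer (K : Set G)) → ℂ)) (hS : S = {χ : ↥(Subgroup.normalizer (K : Set G)) → ℂ | Cfsg.IsIrrCharacter ↥(Subgroup.normalizer (K : Set G)) χ ∧ ∃ k : ↥(Subgroup.normalizer (K : Set G)), (k : G) ∈ K ∧ χ k ≠ χ 1}) (htwo : ∃ χ ∈ S, ∃ ξ ∈ S, χ ≠ ξ) (star : (↥(Subgroup.normalizer (K : Set G)) → ℂ) → (G → ℂ)) (hstar : Cfsg.IsLinearIsometryOn (Cfsg.zspan S) star) (hext : ∀ α ∈ Cfsg.zspanOn S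 ({1}ᶜ : Set ↥(Subgroup.normalizer (K : Set G))), star α = Cfsg.indFun (Subgroup.normalizer (K : Set G)) α) : ∃ m : ℤ, ∀ χ ∈ S, ∀ k : ↥(Subgroup.normalizer (K : Set G)), (k : G) ∈ K → k ≠ 1 → star χ k - χ k = (m : ℂ) * χ 1 / ((K.subgroupOf (Subgroup.normalizer (K : Set G))).index : ℂ) := by
  classical
  have hnorm : ∀ n ∈ Subgroup.normalizer (K : Set G), ∀ k ∈ K, n * k * n⁻¹ ∈ K :=
    fun n hn k hk => (Subgroup.mem_normalizer_iff.mp hn k).mp hk
  have hKne : K.subgroupOf (Subgroup.normalizer (K : Set G)) ≠ ⊤ := by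
    intro h
    rw [Subgroup.subgroupOf_eq_top] at h
    exact (not_le_of_gt hlt) h
  exact star_const (Subgroup.normalizer (K : Set G)) K hnorm hTI hKne hC S hS htwo star hstar hext

end Cfsg.Agent.S0853
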