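import Cfsg.Statements.S0880
import Mathlib
import Cfsg.Agent.Helper18.ZassOdd

set_option autoImplicit false
open Cfsg

namespace Cfsg.Agent.S0880

/-- Let G be a finite simple Zassenhaus group on Ω with n points whose two-point stabilizer E has odd order less than n - 2. Then there are two elements of G, each fixing no point of Ω, that are not conjugate. -/
theorem result {G Ω : Type*} [Group G] [Finite G] [MulAction G Ω] [Fintype Ω] (hZ : Cfsg.IsZassenhausGroup G Ω) {a b : Ω} (hab : a ≠ b) [IsSimpleGroup G] (hodd : Odd (Nat.card ↥(MulAction.stabilizer G a ⊓ MulAction.stabilizer G b : Subgroup G))) (hlt : Nat.card ↥(MulAction.stabilizer G a ⊓ MulAction.stabilizer G b : Subgroup G) < Fintype.card Ω - 2) : ∃ x y : G, (∀ c : Ω, x • c ≠ c) ∧ (∀ c : Ω, y • c ≠ c) ∧ ¬ IsConj x y := by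
  classical
  have Z := Cfsg.Agent.Helper3.zdata_of hZ
  have : Fintype G := Fintype.ofFinite G
  obtain ⟨e, he⟩ : ∃ e, e = Nat.card ↥(MulAction.stabilizer G a ⊓ MulAction.stabilizer G b : Subgroup G) :=
    ⟨_, rfl⟩
  obtain ⟨n, hn⟩ : ∃ n, n = Fintype.card Ω := ⟨_, rfl⟩
  have hn3 : 3 ≤ n := by
    obtain ⟨c, hca, hcb⟩ := Z.exists_three a b hab
    rw [hn, ← Finset.card_univ]
    exact Finset.two_lt_card.mpr ⟨a, Finset.mem_univ _, b, Finset.mem_univ _, c,
      Finset.mem_univ _, hab, hca.symm, hcb.symm⟩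
  have he3 : 3 ≤ e := by
    have h1 : e ≠ 1 := by
      intro h
      rw [he] at h
      have hbot := Subgroup.card_eq_one.mp h
      obtain ⟨x, hx1, hxa, hxb⟩ := Z.exists_fix2 a b hab
      have h2 : x ∈ MulAction.stabilizer G a ⊓ MulAction.stabilizer G b := by
        rw [Subgroup.mem_inf, MulAction.mem_stabilizer_iff, MulAction.mem_stabilizer_iff]
        exact ⟨hxa, hxb⟩
      rw [hbot, Subgroup.mem_bot] at h2
      exact hx1 h2
    obtain ⟨k, hk⟩ := hodd
    rw [← he] at hk
    omega
  have hGcard : Fintype.card G = n * (n - 1) * e := by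
    rw [← Nat.card_eq_fintype_card, hn, he]; exact Cfsg.Agent.Helper18.zass_card_G Z hab
  have hstab : ∀ c : Ω, (Finset.univ.filter (fun g : G => g • c = c)).card = (n - 1) * e := by
    intro c
    obtain ⟨c1, hc1⟩ := Z.exists_ne c
    rw [Finset.card_eq_sum_card_fiberwise (f := fun g : G => g • c1) (t := Finset.univ.erase c)]
    · rw [Finset.sum_const_nat (m := e)]
      · rw [Finset.card_erase_of_mem (Finset.mem_univ c), Finset.card_univ, hn]
      · intro d hd
        have hdc : d ≠ c := Finset.ne_of_mem_erase hd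
        rw [he, ← Cfsg.Agent.Helper18.zass_card_map2 Z hab hc1.symm hdc.symm (c := c) (d := c1)
          (c' := c) (d' := d), Nat.card_eq_fintype_card, Fintype.card_subtype]
        apply congrArg Finset.card
        ext g
        simp only [Finset.mem_filter, Finset.mem_univ, true_and]
    · intro g hg
      simp only [Finset.coe_filter, Finset.mem_univ, true_and, Set.mem_ofPred_eq,
        Finset.coe_erase, Finset.coe_univ, Set.mem_sdiff, Set.mem_univ,
        Set.mem_singleton_iff] at hg ⊢
      intro h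
      exact hc1 (smul_left_cancel g (h.trans hg.symm))
  have hS1 : ∑ g : G, (Finset.univ.filter (fun c : Ω => g • c = c)).card = n * ((n - 1) * e) := by
    have h1 : ∑ g : G, (Finset.univ.filter (fun c : Ω => g • c = c)).card =
        ∑ c : Ω, (Finset.univ.filter (fun g : G => g • c = c)).card := by
      simp only [Finset.card_filter]
      exact Finset.sum_comm
    rw [h1, Finset.sum_const_nat (fun c _ => hstab c), Finset.card_univ, hn]
  have hS2 : ∑ g : G, ((Finset.univ.filter (fun c : Ω => g • c = c)).offDiag).card =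
      (n * n - n) * e := by
    have h0 : ∀ g : G, (Finset.univ.filter (fun c : Ω => g • c = c)).offDiag =
        (Finset.univ : Finset Ω).offDiag.filter (fun p => g • p.1 = p.1 ∧ g • p.2 = p.2) := by
      intro g; ext p
      simp only [Finset.mem_offDiag, Finset.mem_filter, Finset.mem_univ, true_and]
      tauto
    have h1 : ∑ g : G, ((Finset.univ.filter (fun c : Ω => g • c = c)).offDiag).card =
        ∑ p ∈ (Finset.univ : Finset Ω).offDiag,
          (Finset.univ.filter (fun g : G => g • p.1 = p.1 ∧ g • p.2 = p.2)).card := by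
      simp only [h0, Finset.card_filter]
      exact Finset.sum_comm
    rw [h1, Finset.sum_const_nat (m := e)]
    · rw [Finset.offDiag_card, Finset.card_univ, hn]
    · intro p hp
      rw [Finset.mem_offDiag] at hp
      rw [he, ← Cfsg.Agent.Helper18.zass_card_map2 Z hab hp.2.2 hp.2.2,
        Nat.card_eq_fintype_card, Fintype.card_subtype]
  have hle2 : ∀ g : G, g ≠ 1 → (Finset.univ.filter (fun c : Ω => g • c = c)).card ≤ 2 := by
    intro g hg
    by_contra hcon
    rw [not_le, Finset.two_lt_card] at hcon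
    obtain ⟨p, hp, q, hq, r, hr, hpq, hpr, hqr⟩ := hcon
    simp only [Finset.mem_filter, Finset.mem_univ, true_and] at hp hq hr
    exact hg (Z.three g p q r hpq hqr hpr hp hq hr)
  have h3n : 3 * n ≤ n * n := Nat.mul_le_mul_right n hn3
  obtain ⟨δ, hδ⟩ : ∃ δ, δ + 3 * n = n * n + 2 := ⟨n * n + 2 - 3 * n, by omega⟩
  have hid : ∀ g : G, 2 * (if (∀ c : Ω, g • c ≠ c) then 1 else 0)
      + 2 * (Finset.univ.filter (fun c : Ω => g • c = c)).card + (if g = 1 then δ else 0)
      = 2 + ((Finset.univ.filter (fun c : Ω => g • c = c)).offDiag).card := by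
    intro g
    rw [Finset.offDiag_card]
    by_cases hg : g = 1
    · subst hg
      have h1 : (Finset.univ.filter (fun c : Ω => (1 : G) • c = c)) = Finset.univ := by
        ext c; simp
      have h2 : ¬ (∀ c : Ω, (1 : G) • c ≠ c) := fun h => h a (one_smul _ _)
      rw [h1, Finset.card_univ, ← hn, if_neg h2, if_pos rfl]
      have h4 : n ≤ n * n := Nat.le_mul_self n
      omega
    · rw [if_neg hg]
      have h1 := hle2 g hg
      have h2 : (∀ c : Ω, g • c ≠ c) ↔
          (Finset.univ.filter (fun c : Ω => g • c = c)).card = 0 := by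
        rw [Finset.card_eq_zero, Finset.filter_eq_empty_iff]
        simp
      by_cases h3 : ∀ c : Ω, g • c ≠ c
      · rw [if_pos h3, h2.mp h3]
      · rw [if_neg h3]
        have h4 : (Finset.univ.filter (fun c : Ω => g • c = c)).card ≠ 0 :=
          fun h => h3 (h2.mpr h)
        generalize (Finset.univ.filter (fun c : Ω => g • c = c)).card = f at h1 h4 ⊢
        interval_cases f
        · exact absurd rfl h4
        · rfl
        · rfl
  obtain ⟨F, hF⟩ : ∃ F : Finset G, F = Finset.univ.filter (fun g : G => ∀ c : Ω, g • c ≠ c) :=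
    ⟨_, rfl⟩
  have e1 : ∑ g : G, (2 * (if (∀ c : Ω, g • c ≠ c) then 1 else 0)
      + 2 * (Finset.univ.filter (fun c : Ω => g • c = c)).card + (if g = 1 then δ else 0))
      = 2 * F.card + 2 * (n * ((n - 1) * e)) + δ := by
    rw [Finset.sum_add_distrib, Finset.sum_add_distrib, ← Finset.mul_sum, ← Finset.mul_sum, hS1,
      Finset.sum_ite_eq', if_pos (Finset.mem_univ _), ← Finset.card_filter, ← hF]
  have e2 : ∑ g : G, (2 + ((Finset.univ.filter (fun c : Ω => g • c = c)).offDiag).card)
      = 2 * Fintype.card G + (n * n - n) * e := by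
    rw [Finset.sum_add_distrib, hS2, Finset.sum_const, Finset.card_univ, smul_eq_mul, mul_comm]
  have hsum : 2 * F.card + 2 * (n * ((n - 1) * e)) + δ = 2 * Fintype.card G + (n * n - n) * e :=
    e1.symm.trans ((Finset.sum_congr rfl (fun g _ => hid g)).trans e2)
  have hT1 : n * ((n - 1) * e) = Fintype.card G := by rw [hGcard, mul_assoc]
  have hT2 : (n * n - n) * e = Fintype.card G := by rw [hGcard, Nat.mul_sub_one]
  rw [hT1, hT2] at hsum
  have hFδ : 2 * F.card + δ = Fintype.card G := by omega
  obtain ⟨m1, hm1⟩ : ∃ m1, m1 + 1 = n := ⟨n - 1, by omega⟩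
  have hnm : n * m1 + n = n * n := by rw [← hm1]; ring
  have hTge : 3 * (n * m1) ≤ Fintype.card G := by
    rw [hGcard, ← hm1, Nat.add_sub_cancel, hm1, mul_comm 3]
    exact Nat.mul_le_mul_left _ he3
  by_contra hcon
  have hall : ∀ x y : G, (∀ c : Ω, x • c ≠ c) → (∀ c : Ω, y • c ≠ c) → IsConj x y := by
    intro x y hx hy
    by_contra h
    exact hcon ⟨x, y, hx, hy, h⟩
  have hFpos : 0 < F.card := by
    by_contra h0
    have h1 : F.card = 0 := by omega
    have h2 : 9 ≤ n * n := by nlinarith
    omega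
  obtain ⟨x0, hx0⟩ := Finset.card_pos.mp hFpos
  rw [hF, Finset.mem_filter] at hx0
  have hx0f := hx0.2
  obtain ⟨C, hC⟩ : ∃ C : Finset G, C = Finset.univ.filter (fun g : G => g * x0 = x0 * g) :=
    ⟨_, rfl⟩
  have hGF : Fintype.card G = F.card * C.card := by
    rw [← Finset.card_univ (α := G),
      Finset.card_eq_sum_card_fiberwise (f := fun g : G => g * x0 * g⁻¹) (t := F)]
    · rw [Finset.sum_const_nat]
      intro t ht
      rw [hF, Finset.mem_filter] at ht
      obtain ⟨g0, hg0⟩ := isConj_iff.mp (hall x0 t hx0f ht.2)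
      apply Finset.card_bij (fun g _ => g0⁻¹ * g)
      · intro g hg
        rw [Finset.mem_filter] at hg
        rw [hC, Finset.mem_filter]
        refine ⟨Finset.mem_univ _, ?_⟩
        have h1 : g * x0 * g⁻¹ = g0 * x0 * g0⁻¹ := hg.2.trans hg0.symm
        calc g0⁻¹ * g * x0 = g0⁻¹ * (g * x0 * g⁻¹) * g := by group
          _ = g0⁻¹ * (g0 * x0 * g0⁻¹) * g := by rw [h1]
          _ = x0 * (g0⁻¹ * g) := by group
      · intro g1 _ g2 _ h
        exact mul_left_cancel h
      · intro c hc
        rw [hC, Finset.mem_filter] at hc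
        refine ⟨g0 * c, ?_, by group⟩
        rw [Finset.mem_filter]
        refine ⟨Finset.mem_univ _, ?_⟩
        calc g0 * c * x0 * (g0 * c)⁻¹ = g0 * (c * x0) * c⁻¹ * g0⁻¹ := by group
          _ = g0 * (x0 * c) * c⁻¹ * g0⁻¹ := by rw [hc.2]
          _ = g0 * x0 * g0⁻¹ := by group
          _ = t := hg0
    · intro g _
      rw [hF]
      simp only [Finset.coe_filter, Finset.mem_univ, true_and, Set.mem_ofPred_eq]
      intro c hc
      apply hx0f (g⁻¹ • c)
      rw [mul_smul, mul_smul] at hc
      rw [eq_inv_smul_iff]; exact hc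
  have hC2 : 2 ≤ C.card := by
    have h1 : (1 : G) ∈ C := by
      rw [hC, Finset.mem_filter]; exact ⟨Finset.mem_univ _, by rw [one_mul, mul_one]⟩
    have h2 : x0 ∈ C := by rw [hC, Finset.mem_filter]; exact ⟨Finset.mem_univ _, rfl⟩
    have h3 : x0 ≠ 1 := by rintro rfl; exact hx0f a (one_smul _ _)
    exact Finset.one_lt_card.mpr ⟨1, h1, x0, h2, h3.symm⟩
  rcases Nat.lt_or_ge C.card 3 with hk | hk
  · have hk2 : C.card = 2 := by omega
    rw [hk2] at hGF
    omega
  · have h1 : F.card * 3 ≤ F.card * C.card := Nat.mul_le_mul_left _ hk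
    omega

end Cfsg.Agent.S0880
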