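import Cfsg.Statements.S0883
import Mathlib
import Cfsg.Agent.Helper18.ZassOdd

set_option autoImplicit false
open Cfsg

namespace Cfsg.Agent.S0883

/-- Let G be a finite simple Zassenhaus group on Ω with h + 1 points whose two-point stabilizer E has odd order e with 2e < h - 1, and let H be the subgroup of the stabilizer of a consisting of the identity and the elements fixing no point other than a (given here as a subgroup of the stabilizer of order one less than the number of points whose non-identity elements fix only a; it is the Frobenius kernel of the stabilizer). If a non-identity element u of H is a product of two involutions of G, then u is an involution. -/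
theorem result {G Ω : Type*} [Group G] [Finite G] [MulAction G Ω] [Fintype Ω] (hZ : Cfsg.IsZassenhausGroup G Ω) {a b : Ω} (hab : a ≠ b) [IsSimpleGroup G] (h e : ℕ) (hh : Fintype.card Ω = h + 1) (he : Nat.card ↥(MulAction.stabilizer G a ⊓ MulAction.stabilizer G b : Subgroup G) = e) (hodd : Odd e) (hlt : 2 * e < h - 1) (H : Subgroup G) (hHa : H ≤ MulAction.stabilizer G a) (hHcard : Nat.card H + 1 = Fintype.card Ω) (hHfix : ∀ u ∈ H, u ≠ 1 → ∀ c : Ω, u • c = c → c = a) (u : G) (hu : u ∈ H) (hu1 : u ≠ 1) (x y : G) (hx : orderOf x = 2) (hy : orderOf y = 2) (hxy : x * y = u) : orderOf u = 2 := by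
  classical
  have hodd' : Odd (Nat.card ↥(MulAction.stabilizer G a ⊓ MulAction.stabilizer G b : Subgroup G)) := by
    rw [he]; exact hodd
  have Z := Cfsg.Agent.Helper3.zdata_of hZ
  have hxx : x * x = 1 := by rw [← pow_two, ← hx, pow_orderOf_eq_one]
  have hyy : y * y = 1 := by rw [← pow_two, ← hy, pow_orderOf_eq_one]
  have hxinv : x⁻¹ = x := inv_eq_of_mul_eq_one_left hxx
  have hyinv : y⁻¹ = y := inv_eq_of_mul_eq_one_left hyy
  have huinv : u⁻¹ = y * x := by rw [← hxy, mul_inv_rev, hxinv, hyinv]
  have hui : u⁻¹ ∈ H := H.inv_mem hu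
  have hui1 : u⁻¹ ≠ 1 := inv_ne_one.mpr hu1
  have hua : u • a = a := hHa hu
  have hfixx : ∀ w : G, u⁻¹ = w * u * w⁻¹ → w • a = a := by
    intro w hw
    apply hHfix u⁻¹ hui hui1
    rw [hw, mul_smul, mul_smul, inv_smul_smul, hua]
  have hxa : x • a = a := by
    apply hfixx x
    rw [huinv, ← hxy, hxinv]
    calc y * x = (x * x) * y * x := by rw [hxx, one_mul]
      _ = x * (x * y) * x := by group
  have hya : y • a = a := by
    apply hfixx y
    rw [huinv, ← hxy, hyinv]
    calc y * x = y * x * (y * y) := by rw [hyy, mul_one]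
      _ = y * (x * y) * y := by group
  have hn1 : 0 < Fintype.card Ω := Fintype.card_pos_iff.mpr ⟨a⟩
  have hnodd : Fintype.card Ω % 2 = 1 := by
    have hm := Cfsg.Agent.Helper18.zass_invol_moved hZ hab hodd' hx
    have hle : Nat.card {c : Ω // x • c ≠ c} < Fintype.card Ω := by
      rw [Nat.card_eq_fintype_card]
      exact Fintype.card_subtype_lt (x := a) (by simpa using hxa)
    omega
  obtain ⟨K, hK1, hK2, hK3, hK4, hK5⟩ := Z.exists_ker a
  have hHK : H ≤ K := by
    intro v hv
    by_cases hv1 : v = 1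
    · rw [hv1]; exact K.one_mem
    · exact hK5 v (hHa hv) (fun c hc hvc => hc (hHfix v hv hv1 c hvc))
  have hKcard : Nat.card K ≤ Fintype.card Ω - 1 := by
    have hne : ∀ k : K, (k : G) • b ≠ a := by
      intro k h
      have h1 : (k : G) • b = (k : G) • a := by rw [hK1 k k.2]; exact h
      exact hab (smul_left_cancel _ h1).symm
    have hinj : Function.Injective (fun k : K => (⟨(k : G) • b, hne k⟩ : {c : Ω // ¬ c = a})) := by
      intro k k' hkk
      have h1 : (k : G) • b = (k' : G) • b := congrArg Subtype.val hkk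
      by_contra hne'
      have h2 : (k' : G)⁻¹ * (k : G) ≠ 1 := by
        intro h3
        apply hne'
        apply Subtype.ext
        exact (inv_mul_eq_one.mp h3).symm
      have h4 := hK3 _ (K.mul_mem (K.inv_mem k'.2) k.2) h2 b hab.symm
      apply h4
      rw [mul_smul, h1, inv_smul_smul]
    have h5 := Nat.card_le_card_of_injective _ hinj
    rw [Nat.card_eq_fintype_card (α := {c : Ω // ¬ c = a}), Fintype.card_subtype_compl,
      Fintype.card_subtype_eq] at h5
    exact h5
  have hCK : ∀ w : G, orderOf w = 2 → w • a = a → ∀ g : G, g * w = w * g → g ∈ K := by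
    intro w hw hwa g hg
    have hww : w * w = 1 := by rw [← pow_two, ← hw, pow_orderOf_eq_one]
    have hw1 : w ≠ 1 := by intro h; rw [h, orderOf_one] at hw; omega
    by_cases hg1 : g = 1
    · rw [hg1]; exact K.one_mem
    have hga : g • a = a := by
      have h1 : w • (g • a) = g • a := by rw [← mul_smul, ← hg, mul_smul, hwa]
      exact Cfsg.Agent.Helper18.zass_invol_fix_unique hZ hab hodd' hw h1 hwa
    apply hK5 g hga
    intro c hc hgc
    have hgE : g ∈ MulAction.stabilizer G a ⊓ MulAction.stabilizer G c := by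
      rw [Subgroup.mem_inf, MulAction.mem_stabilizer_iff, MulAction.mem_stabilizer_iff]
      exact ⟨hga, hgc⟩
    exact Cfsg.Agent.Helper18.zass_key hZ hab hodd' (Ne.symm hc) hgE hg1 hww hw1 hg.symm
  have hyK : y ∈ K := hCK y hy hya y rfl
  have : Fintype G := Fintype.ofFinite G
  obtain ⟨C, hC⟩ : ∃ C : Finset G, C = Finset.univ.filter (fun g : G => g * x = x * g) :=
    ⟨_, rfl⟩
  obtain ⟨I, hI⟩ : ∃ I : Finset G, I = Finset.univ.filter (fun g : G => orderOf g = 2) :=
    ⟨_, rfl⟩
  have hGI : Fintype.card G = I.card * C.card := by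
    rw [← Finset.card_univ (α := G),
      Finset.card_eq_sum_card_fiberwise (f := fun g : G => g * x * g⁻¹) (t := I)]
    · rw [Finset.sum_const_nat]
      intro t ht
      rw [hI, Finset.mem_filter] at ht
      obtain ⟨g0, hg0⟩ := isConj_iff.mp
        (Cfsg.Agent.Helper18.zass_conj_invol hZ hab hodd' hx ht.2)
      apply Finset.card_bij (fun g _ => g0⁻¹ * g)
      · intro g hg
        rw [Finset.mem_filter] at hg
        rw [hC, Finset.mem_filter]
        refine ⟨Finset.mem_univ _, ?_⟩
        have h1 : g * x * g⁻¹ = g0 * x * g0⁻¹ := hg.2.trans hg0.symm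
        calc g0⁻¹ * g * x = g0⁻¹ * (g * x * g⁻¹) * g := by group
          _ = g0⁻¹ * (g0 * x * g0⁻¹) * g := by rw [h1]
          _ = x * (g0⁻¹ * g) := by group
      · intro g1 _ g2 _ h
        exact mul_left_cancel h
      · intro c hc
        rw [hC, Finset.mem_filter] at hc
        refine ⟨g0 * c, ?_, by group⟩
        rw [Finset.mem_filter]
        refine ⟨Finset.mem_univ _, ?_⟩
        calc g0 * c * x * (g0 * c)⁻¹ = g0 * (c * x) * c⁻¹ * g0⁻¹ := by group
          _ = g0 * (x * c) * c⁻¹ * g0⁻¹ := by rw [hc.2]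
          _ = g0 * x * g0⁻¹ := by group
          _ = t := hg0
    · intro g _
      rw [hI]
      simp only [Finset.coe_filter, Finset.mem_univ, true_and, Set.mem_ofPred_eq]
      rw [← hx]
      exact (MulAut.conj g).orderOf_eq x
  have hG := Cfsg.Agent.Helper18.zass_card_G Z hab
  have hIc := Cfsg.Agent.Helper18.zass_card_invol hZ hab hodd'
  rw [Nat.card_eq_fintype_card] at hG
  have hIcard : Nat.card {x : G // orderOf x = 2} = I.card := by
    rw [Nat.card_eq_fintype_card, Fintype.card_subtype, hI]
  rw [hIcard, he, hnodd] at hIc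
  rw [he, hGI] at hG
  -- hIc : I.card * (n - 1) = n * (n - 1) * e ; hG : I.card * C.card = n * (n - 1) * e
  have hn3 : 3 ≤ Fintype.card Ω := by omega
  have he1 : 0 < e := by obtain ⟨k, hk⟩ := hodd; omega
  have hIne : I.card = Fintype.card Ω * e := by
    have h1 : I.card * (Fintype.card Ω - 1) = (Fintype.card Ω * e) * (Fintype.card Ω - 1) := by
      rw [hIc]; ring
    exact Nat.eq_of_mul_eq_mul_right (by omega) h1
  have hCcard : C.card = Fintype.card Ω - 1 := by
    rw [hIne] at hG
    have h1 : (Fintype.card Ω * e) * C.card = (Fintype.card Ω * e) * (Fintype.card Ω - 1) := by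
      rw [hG]; ring
    exact Nat.eq_of_mul_eq_mul_left (Nat.mul_pos hn1 he1) h1
  obtain ⟨KF, hKF⟩ : ∃ KF : Finset G, KF = Finset.univ.filter (fun g : G => g ∈ K) := ⟨_, rfl⟩
  have hKFcard : KF.card = Nat.card K := by
    rw [Nat.card_eq_fintype_card, Fintype.card_subtype, hKF]
  have hCKF : C ⊆ KF := by
    intro g hg
    rw [hC, Finset.mem_filter] at hg
    rw [hKF, Finset.mem_filter]
    exact ⟨Finset.mem_univ _, hCK x hx hxa g hg.2⟩
  have hCeq : C = KF := Finset.eq_of_subset_of_card_le hCKF (by rw [hKFcard, hCcard]; exact hKcard)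
  have hyC : y ∈ C := by
    rw [hCeq, hKF, Finset.mem_filter]
    exact ⟨Finset.mem_univ _, hyK⟩
  rw [hC, Finset.mem_filter] at hyC
  have hcomm : y * x = x * y := hyC.2
  apply orderOf_eq_prime _ hu1
  rw [pow_two, ← hxy]
  calc x * y * (x * y) = x * (y * x) * y := by group
    _ = x * (x * y) * y := by rw [hcomm]
    _ = (x * x) * (y * y) := by group
    _ = 1 := by rw [hxx, hyy, one_mul]

end Cfsg.Agent.S0883
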