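import Cfsg.Statements.S0994
import Cfsg.Agent.Lead.Transfer
import Mathlib

set_option autoImplicit false
open Cfsg

namespace Cfsg.Agent.S0994

/-- No finite simple group has order 1188 = 2^2 * 3^3 * 11. -/
theorem result {G : Type*} [Group G] [Finite G] [IsSimpleGroup G] : Nat.card G ≠ 1188 := by
  intro h
  haveI : Fact (Nat.Prime 11) := ⟨by norm_num⟩
  obtain ⟨P⟩ : Nonempty (Sylow 11 G) := inferInstance
  have hfac : (1188 : ℕ).factorization 11 = 1 := by
    have e : (1188 : ℕ) = 11 * 108 := by norm_num
    rw [e, Nat.factorization_mul (by norm_num) (by norm_num), Finsupp.add_apply,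
      Nat.Prime.factorization_self (by norm_num),
      Nat.factorization_eq_zero_of_not_dvd (by norm_num)]
  have hP : Nat.card P = 11 := by rw [P.card_eq_multiplicity, h, hfac, pow_one]
  have hidx : (P : Subgroup G).index = 108 := by
    have h1 := (P : Subgroup G).card_mul_index
    have h2 : Nat.card (P : Subgroup G) = 11 := hP
    rw [h, h2] at h1
    omega
  have hn1 : Nat.card (Sylow 11 G) ∣ 108 := hidx ▸ P.card_dvd_index
  have hn2 : Nat.card (Sylow 11 G) ≡ 1 [MOD 11] := card_sylow_modEq_one 11 G
  have hn3 : Nat.card (Sylow 11 G) ≠ 1 :=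
    Lead.simple_card_sylow_ne_one P (by rw [hP]; norm_num) (by rw [hP, h]; norm_num)
  have hn : Nat.card (Sylow 11 G) = 12 := by
    have hle : Nat.card (Sylow 11 G) ≤ 108 := Nat.le_of_dvd (by norm_num) hn1
    generalize Nat.card (Sylow 11 G) = n at *
    unfold Nat.ModEq at hn2
    interval_cases n <;> omega
  have hNcard : Nat.card (Subgroup.normalizer ((P : Subgroup G) : Set G)) = 99 := by
    have h2 := Lead.card_normalizer_mul_card_sylow P
    rw [hn, h] at h2
    omega
  have hNC := Lead.normalizer_le_centralizer_of_coprime (P : Subgroup G) (by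
    rw [hNcard, Lead.card_mulAut_of_prime_card hP]; norm_num)
  rcases Lead.simple_sylow_card P hNC with h1 | h1 <;> omega

end Cfsg.Agent.S0994
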