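import Mathlib
import Cfsg.Statements.S1129
import Cfsg.Agent.Helper14.RankOne3
import Cfsg.Agent.S0033

set_option autoImplicit false
open Cfsg

namespace Cfsg.Agent.S1129


open MulAction Cfsg.Agent.Helper14

variable {G Ω : Type*} [Group G] [MulAction G Ω] {a : Ω} {t : G} {Q : Subgroup G}

/-- two distinct commuting involutions give two distinct involutions of `G_a` -/
theorem exists_two_invol [Finite G] (hS : Cfsg.IsRankOneSetup G Ω a t Q)
    (h2 : ∃ x y : G, x ≠ 1 ∧ y ≠ 1 ∧ x ≠ y ∧ x * x = 1 ∧ y * y = 1 ∧ x * y = y * x) :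
    ∃ s s' : G, s ∈ Cfsg.involutionsIn (stabilizer G a : Set G) ∧
      s' ∈ Cfsg.involutionsIn (stabilizer G a : Set G) ∧ s ≠ s' := by
  obtain ⟨x, y, hx1, hy1, hxy, hx2, hy2, hcomm⟩ := h2
  obtain ⟨c, hc, hcu⟩ := ro_invol_unique_fix hS hx1 hx2
  have hyc : y • c = c := by
    apply hcu
    show x • y • c = y • c
    rw [← mul_smul, hcomm, mul_smul, hc]
  haveI := ro_pretrans hS
  obtain ⟨g, hg⟩ := MulAction.exists_smul_eq G c a
  have hconj : ∀ z : G, z ≠ 1 → z * z = 1 → z • c = c →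
      g * z * g⁻¹ ∈ Cfsg.involutionsIn (stabilizer G a : Set G) := by
    intro z hz1 hz2 hzc
    refine ⟨?_, ?_, ?_⟩
    · show g * z * g⁻¹ ∈ stabilizer G a
      rw [mem_stabilizer_iff, mul_smul, mul_smul, ← hg, inv_smul_smul, hzc]
    · intro h
      apply hz1
      calc z = g⁻¹ * (g * z * g⁻¹) * g := by group
        _ = 1 := by rw [h]; group
    · calc g * z * g⁻¹ * (g * z * g⁻¹) = g * (z * z) * g⁻¹ := by group
        _ = 1 := by rw [hz2]; group
  refine ⟨g * x * g⁻¹, g * y * g⁻¹, hconj x hx1 hx2 hc, hconj y hy1 hy2 hyc, ?_⟩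
  intro h
  apply hxy
  calc x = g⁻¹ * (g * x * g⁻¹) * g := by group
    _ = g⁻¹ * (g * y * g⁻¹) * g := by rw [h]
    _ = y := by group

/-- a non-identity element of `K` -/
theorem exists_K_ne_one [Finite G] (hS : Cfsg.IsRankOneSetup G Ω a t Q)
    (h2 : ∃ x y : G, x ≠ 1 ∧ y ≠ 1 ∧ x ≠ y ∧ x * x = 1 ∧ y * y = 1 ∧ x * y = y * x) :
    ∃ k ∈ Cfsg.invertedBy (stabilizer G a ⊓ stabilizer G (t • a)) t, k ≠ 1 := by
  obtain ⟨s, s', hs, hs', hne⟩ := exists_two_invol hS h2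
  obtain ⟨k, hk, hks⟩ := ro_K_conj hS hs hs'
  refine ⟨k, hk, ?_⟩
  rintro rfl
  apply hne
  rw [← hks]
  group

/-- powers of elements of `K` are in `K` -/
theorem K_pow_mem (hS : Cfsg.IsRankOneSetup G Ω a t Q) {k : G}
    (hk : k ∈ Cfsg.invertedBy (stabilizer G a ⊓ stabilizer G (t • a)) t) (n : ℕ) :
    k ^ n ∈ Cfsg.invertedBy (stabilizer G a ⊓ stabilizer G (t • a)) t := by
  refine ⟨Subgroup.pow_mem _ hk.1 n, ?_⟩
  have h := hk.2
  calc t * k ^ n * t⁻¹ = (t * k * t⁻¹) ^ n := by rw [conj_pow]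
    _ = (k ^ n)⁻¹ := by rw [h, inv_pow]

/-- conjugation action of `G_a` on `Q` -/
def conjQ (hS : Cfsg.IsRankOneSetup G Ω a t Q) : ↥(stabilizer G a) →* MulAut ↥Q :=
  MonoidHom.mk' (fun g =>
    { toFun := fun x => ⟨(g : G) * x * (g : G)⁻¹, hS.conj_mem g g.2 x x.2⟩
      invFun := fun x => ⟨(g : G)⁻¹ * x * (g : G), by
        have := hS.conj_mem (g : G)⁻¹ (Subgroup.inv_mem _ g.2) x x.2
        rwa [inv_inv] at this⟩
      left_inv := fun x => Subtype.ext (by show (g : G)⁻¹ * ((g : G) * x * (g : G)⁻¹) * g = x; group)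
      right_inv := fun x => Subtype.ext (by show (g : G) * ((g : G)⁻¹ * x * g) * (g : G)⁻¹ = x; group)
      map_mul' := fun x y => Subtype.ext (by
        show (g : G) * ((x : G) * y) * (g : G)⁻¹ = (g : G) * x * (g : G)⁻¹ * ((g : G) * y * (g : G)⁻¹)
        group) })
    (fun g g' => by
      apply MulEquiv.ext
      intro x
      apply Subtype.ext
      show ((g * g' : ↥(stabilizer G a)) : G) * x * ((g * g' : ↥(stabilizer G a)) : G)⁻¹
        = (g : G) * ((g' : G) * x * (g' : G)⁻¹) * (g : G)⁻¹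
      rw [Subgroup.coe_mul]
      group)

theorem conjQ_apply (hS : Cfsg.IsRankOneSetup G Ω a t Q) (g : ↥(stabilizer G a)) (x : ↥Q) :
    ((conjQ hS g x : ↥Q) : G) = (g : G) * x * (g : G)⁻¹ := rfl

/-- `Q` is nilpotent -/
theorem main [Finite G] (hS : Cfsg.IsRankOneSetup G Ω a t Q)
    (h2 : ∃ x y : G, x ≠ 1 ∧ y ≠ 1 ∧ x ≠ y ∧ x * x = 1 ∧ y * y = 1 ∧ x * y = y * x) :
    Group.IsNilpotent Q := by
  obtain ⟨k, hk, hk1⟩ := exists_K_ne_one hS h2
  obtain ⟨o, ho⟩ : ∃ o, o = orderOf k := ⟨_, rfl⟩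
  have hopos : 0 < o := by rw [ho]; exact orderOf_pos k
  have ho1 : o ≠ 1 := by
    rw [ho]
    intro h
    exact hk1 (orderOf_eq_one_iff.mp h)
  obtain ⟨p, hp, hpo⟩ := Nat.exists_prime_and_dvd ho1
  obtain ⟨m, hm⟩ := hpo
  have hmpos : 0 < m := by
    rcases Nat.eq_zero_or_pos m with h | h
    · rw [h, mul_zero] at hm; omega
    · exact h
  have hmlt : m < o := by
    rw [hm]
    have := hp.two_le
    nlinarith
  have hkm := K_pow_mem hS hk m
  have hkm1 : k ^ m ≠ 1 := pow_ne_one_of_lt_orderOf hmpos.ne' (by rw [← ho]; exact hmlt)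
  have hkmG : k ^ m ∈ stabilizer G a := hkm.1.1
  have hpow : conjQ hS ⟨k ^ m, hkmG⟩ ^ p = 1 := by
    rw [← map_pow]
    have : (⟨k ^ m, hkmG⟩ : ↥(stabilizer G a)) ^ p = 1 := by
      apply Subtype.ext
      rw [Subgroup.coe_pow, Subgroup.coe_one]
      show (k ^ m) ^ p = 1
      rw [← pow_mul, mul_comm, ← hm, ho, pow_orderOf_eq_one]
    rw [this, map_one]
  refine Cfsg.Agent.S0033.thompson_pow (conjQ hS ⟨k ^ m, hkmG⟩) ?_ p hp hpow
  intro x hx
  have hx' : k ^ m * (x : G) * (k ^ m)⁻¹ = x := by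
    have := congrArg Subtype.val hx
    rwa [conjQ_apply] at this
  exact Subtype.ext (ro_K_fpf hS hkm x.2 hx' hkm1)


/-- In the rank-one set-up (`G` finite and doubly transitive on `Ω`, `t` an involution moving `a`, `Q` normal in `G_a` with `G_a = Q D`, `Q ⊓ D = 1` for the two-point stabiliser `D = G_a ⊓ G_{t • a}`, `|Q|` even, `|D|` odd), with the action faithful and `G` containing two distinct commuting involutions: `Q` is nilpotent. -/
theorem result {G Ω : Type*} [Group G] [Finite G] [MulAction G Ω] [FaithfulSMul G Ω] {a : Ω} {t : G} {Q : Subgroup G}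
    (hS : Cfsg.IsRankOneSetup G Ω a t Q)
    (h2 : ∃ x y : G, x ≠ 1 ∧ y ≠ 1 ∧ x ≠ y ∧ x * x = 1 ∧ y * y = 1 ∧ x * y = y * x) :
    Group.IsNilpotent Q := by
  exact main hS h2

end Cfsg.Agent.S1129
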