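import Mathlib
import Cfsg.Statements.S1130
import Cfsg.Agent.Helper14.RankOne3
import Cfsg.Agent.S1129

set_option autoImplicit false
open Cfsg

namespace Cfsg.Agent.S1130


open MulAction Cfsg.Agent.Helper14

/-- a finite nilpotent group of even order has a central involution -/
theorem central_invol_of_nilpotent {H : Type*} [Group H] [Finite H] [Group.IsNilpotent H]
    (h2 : 2 ∣ Nat.card H) : ∃ z : H, z ≠ 1 ∧ z * z = 1 ∧ ∀ x, z * x = x * z := by
  haveI : Fact (Nat.Prime 2) := ⟨Nat.prime_two⟩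
  obtain ⟨S⟩ : Nonempty (Sylow 2 H) := inferInstance
  have hSne : (S : Subgroup H) ≠ ⊥ := S.ne_bot_of_dvd_card h2
  haveI : Nontrivial ↥(S : Subgroup H) := (Subgroup.nontrivial_iff_ne_bot _).mpr hSne
  haveI : Nontrivial (Subgroup.center ↥(S : Subgroup H)) := S.isPGroup'.center_nontrivial
  have hcard : 2 ∣ Nat.card (Subgroup.center ↥(S : Subgroup H)) := by
    have hp : IsPGroup 2 (Subgroup.center ↥(S : Subgroup H)) := S.isPGroup'.to_subgroup _
    rcases hp.card_eq_or_dvd with h | h
    · exfalso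
      have := Finite.one_lt_card (α := Subgroup.center ↥(S : Subgroup H))
      omega
    · exact h
  obtain ⟨z, hz⟩ := exists_prime_orderOf_dvd_card' (G := Subgroup.center ↥(S : Subgroup H)) 2 hcard
  obtain ⟨w, hw⟩ : ∃ w : H, w = ((z : ↥(S : Subgroup H)) : H) := ⟨_, rfl⟩
  have hw1 : w ≠ 1 := by
    intro h
    have : z = 1 := by
      apply Subtype.ext
      apply Subtype.ext
      rw [← hw, h]
      rfl
    rw [this, orderOf_one] at hz
    omega
  have hw2 : w * w = 1 := by
    have h1 : z ^ 2 = 1 := by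
      have := pow_orderOf_eq_one z
      rwa [hz] at this
    have h2 := congrArg (fun u : Subgroup.center ↥(S : Subgroup H) => ((u : ↥(S : Subgroup H)) : H)) h1
    simp only [Subgroup.coe_pow, Subgroup.coe_one] at h2
    rw [← hw] at h2
    rw [← pow_two]
    exact h2
  have hwS : ∀ y ∈ (S : Subgroup H), w * y = y * w := by
    intro y hy
    have h1 := Subgroup.mem_center_iff.mp z.2 ⟨y, hy⟩
    have h2 := congrArg Subtype.val h1
    simp only [Subgroup.coe_mul] at h2
    rw [hw]
    exact h2.symm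
  have hwmem : w ∈ (S : Subgroup H) := by rw [hw]; exact (z : ↥(S : Subgroup H)).2
  refine ⟨w, hw1, hw2, ?_⟩
  have htop : Subgroup.centralizer {w} = ⊤ := by
    apply Subgroup.eq_top_of_card_eq
    apply Nat.dvd_antisymm (Subgroup.card_subgroup_dvd_card _)
    rw [Nat.dvd_iff_prime_pow_dvd_dvd]
    intro p k hp hdvd
    haveI : Fact p.Prime := ⟨hp⟩
    have hex : ∃ P : Sylow p H, (P : Subgroup H) ≤ Subgroup.centralizer {w} := by
      by_cases hp2 : p = 2
      · subst hp2
        refine ⟨S, ?_⟩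
        intro y hy
        rw [Subgroup.mem_centralizer_iff]
        intro u hu
        rw [Set.mem_singleton_iff] at hu
        rw [hu]
        exact hwS y hy
      · obtain ⟨P⟩ : Nonempty (Sylow p H) := inferInstance
        refine ⟨P, ?_⟩
        intro y hy
        rw [Subgroup.mem_centralizer_iff]
        intro u hu
        rw [Set.mem_singleton_iff] at hu
        rw [hu]
        have hd : Disjoint (S : Subgroup H) (P : Subgroup H) :=
          IsPGroup.disjoint_of_ne 2 p (Ne.symm hp2) _ _ S.isPGroup' P.isPGroup'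
        exact Subgroup.commute_of_normal_of_disjoint _ _ inferInstance inferInstance hd w y
          hwmem hy
    obtain ⟨P, hP⟩ := hex
    exact (P.pow_dvd_card_of_pow_dvd_card hdvd).trans (Subgroup.card_dvd_of_le hP)
  intro x
  have hx : x ∈ Subgroup.centralizer {w} := by rw [htop]; exact Subgroup.mem_top x
  exact (Subgroup.mem_centralizer_iff.mp hx w rfl)

variable {G Ω : Type*} [Group G] [MulAction G Ω] {a : Ω} {t : G} {Q : Subgroup G}

/-- involutions of `G_a` are central in `Q` -/
theorem invol_central [Finite G] (hS : Cfsg.IsRankOneSetup G Ω a t Q)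
    (h2 : ∃ x y : G, x ≠ 1 ∧ y ≠ 1 ∧ x ≠ y ∧ x * x = 1 ∧ y * y = 1 ∧ x * y = y * x)
    {s : G} (hs : s ∈ Cfsg.involutionsIn (stabilizer G a : Set G)) :
    s ∈ Q ∧ ∀ x ∈ Q, s * x = x * s := by
  haveI : Group.IsNilpotent ↥Q := Cfsg.Agent.S1129.main hS h2
  obtain ⟨z₀, hz1, hz2, hzc⟩ := central_invol_of_nilpotent (H := ↥Q)
    (even_iff_two_dvd.mp hS.even_card)
  obtain ⟨z, hz⟩ : ∃ z : G, z = (z₀ : G) := ⟨_, rfl⟩
  have hzQ : z ∈ Q := by rw [hz]; exact z₀.2
  have hzI : z ∈ Cfsg.involutionsIn (stabilizer G a : Set G) := by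
    refine ⟨hS.le hzQ, ?_, ?_⟩
    · intro h
      apply hz1
      apply Subtype.ext
      rw [← hz, h]
      rfl
    · have := congrArg Subtype.val hz2
      rw [Subgroup.coe_mul, ← hz] at this
      exact this
  have hzc' : ∀ x ∈ Q, z * x = x * z := by
    intro x hx
    have := congrArg Subtype.val (hzc ⟨x, hx⟩)
    rw [Subgroup.coe_mul, Subgroup.coe_mul, ← hz] at this
    exact this
  obtain ⟨k, hk, hks⟩ := ro_K_conj hS hzI hs
  refine ⟨ro_invol_mem_Q hS hs.1 hs.2.2, ?_⟩
  intro x hx
  have hkx : k * x * k⁻¹ ∈ Q := hS.conj_mem k hk.1.1 x hx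
  rw [← hks]
  calc k⁻¹ * z * k * x = k⁻¹ * (z * (k * x * k⁻¹)) * k := by group
    _ = k⁻¹ * ((k * x * k⁻¹) * z) * k := by rw [hzc' _ hkx]
    _ = x * (k⁻¹ * z * k) := by group


/-- In the rank-one set-up (`G` finite and doubly transitive on `Ω`, `t` an involution moving `a`, `Q` normal in `G_a` with `G_a = Q D`, `Q ⊓ D = 1` for the two-point stabiliser `D = G_a ⊓ G_{t • a}`, `|Q|` even, `|D|` odd), with the action faithful and `G` containing two distinct commuting involutions: the involutions of `G_a` lie in `Z(Q)`, and together with `1` they are closed under multiplication (so form an elementary abelian 2-subgroup). -/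
theorem result {G Ω : Type*} [Group G] [Finite G] [MulAction G Ω] [FaithfulSMul G Ω] {a : Ω} {t : G} {Q : Subgroup G}
    (hS : Cfsg.IsRankOneSetup G Ω a t Q)
    (h2 : ∃ x y : G, x ≠ 1 ∧ y ≠ 1 ∧ x ≠ y ∧ x * x = 1 ∧ y * y = 1 ∧ x * y = y * x) :
    (∀ s ∈ Cfsg.involutionsIn (MulAction.stabilizer G a : Set G), s ∈ Q ∧ ∀ x ∈ Q, s * x = x * s) ∧
      ∀ s ∈ Cfsg.involutionsIn (MulAction.stabilizer G a : Set G), ∀ s' ∈ Cfsg.involutionsIn (MulAction.stabilizer G a : Set G),
        s * s' = 1 ∨ s * s' ∈ Cfsg.involutionsIn (MulAction.stabilizer G a : Set G) := by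
  constructor
  · intro s hs
    exact invol_central hS h2 hs
  · intro s hs s' hs'
    by_cases h1 : s * s' = 1
    · exact Or.inl h1
    · right
      have hc := (invol_central hS h2 hs).2 s' (invol_central hS h2 hs').1
      refine ⟨Subgroup.mul_mem _ hs.1 hs'.1, h1, ?_⟩
      calc s * s' * (s * s') = s * (s' * s) * s' := by group
        _ = s * (s * s') * s' := by rw [hc]
        _ = (s * s) * (s' * s') := by group
        _ = 1 := by rw [hs.2.2, hs'.2.2, one_mul]

end Cfsg.Agent.S1130
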