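import Mathlib
import Cfsg.Statements.S1135
import Cfsg.Agent.Helper14.RankOne3
import Cfsg.Agent.S1130
import Cfsg.Agent.S1134

set_option autoImplicit false
open Cfsg

namespace Cfsg.Agent.S1135


open MulAction Cfsg.Agent.Helper14

variable {G Ω : Type*} [Group G] [MulAction G Ω] {a : Ω} {t : G} {Q : Subgroup G}

/-- conjugates of involutions -/
theorem conj_invol {g z : G} (hz1 : z ≠ 1) (hz2 : z * z = 1) :
    g * z * g⁻¹ ≠ 1 ∧ (g * z * g⁻¹) * (g * z * g⁻¹) = 1 := by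
  constructor
  · intro h
    apply hz1
    calc z = g⁻¹ * (g * z * g⁻¹) * g := by group
      _ = 1 := by rw [h]; group
  · calc g * z * g⁻¹ * (g * z * g⁻¹) = g * (z * z) * g⁻¹ := by group
      _ = 1 := by rw [hz2]; group

/-- a product of two involutions which is not of order at most 2 commutes with no involution -/
theorem no_invol_comm [Finite G] (hS : Cfsg.IsRankOneSetup G Ω a t Q)
    (h2 : ∃ x y : G, x ≠ 1 ∧ y ≠ 1 ∧ x ≠ y ∧ x * x = 1 ∧ y * y = 1 ∧ x * y = y * x)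
    (u v : G) (hu1 : u ≠ 1) (hu2 : u * u = 1) (hv1 : v ≠ 1) (hv2 : v * v = 1)
    (hx : (u * v) * (u * v) ≠ 1) (j : G) (hj1 : j ≠ 1) (hj2 : j * j = 1)
    (hj : j * (u * v) = (u * v) * j) : False := by
  -- fixed point of j
  obtain ⟨c, hc, hcu⟩ := ro_invol_unique_fix hS hj1 hj2
  have hXc : (u * v) • c = c := by
    apply hcu
    show j • (u * v) • c = (u * v) • c
    rw [← mul_smul, hj, mul_smul, hc]
  haveI := ro_pretrans hS
  obtain ⟨h, hh⟩ := MulAction.exists_smul_eq G c a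
  -- conjugate by h
  obtain ⟨u₁, hu₁⟩ : ∃ u₁ : G, u₁ = h * u * h⁻¹ := ⟨_, rfl⟩
  obtain ⟨v₁, hv₁⟩ : ∃ v₁ : G, v₁ = h * v * h⁻¹ := ⟨_, rfl⟩
  obtain ⟨j₁, hj₁⟩ : ∃ j₁ : G, j₁ = h * j * h⁻¹ := ⟨_, rfl⟩
  have hu₁' := conj_invol (g := h) hu1 hu2
  have hv₁' := conj_invol (g := h) hv1 hv2
  have hj₁' := conj_invol (g := h) hj1 hj2
  rw [← hu₁] at hu₁'
  rw [← hv₁] at hv₁'
  rw [← hj₁] at hj₁'
  have hX₁ : u₁ * v₁ = h * (u * v) * h⁻¹ := by rw [hu₁, hv₁]; group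
  have hX₁a : (u₁ * v₁) • a = a := by
    rw [hX₁, mul_smul, mul_smul, ← hh, inv_smul_smul, hXc]
  have hj₁a : j₁ • a = a := by
    rw [hj₁, mul_smul, mul_smul, ← hh, inv_smul_smul, hc]
  have hj₁X : j₁ * (u₁ * v₁) = (u₁ * v₁) * j₁ := by
    rw [hX₁, hj₁]
    calc h * j * h⁻¹ * (h * (u * v) * h⁻¹) = h * (j * (u * v)) * h⁻¹ := by group
      _ = h * ((u * v) * j) * h⁻¹ := by rw [hj]
      _ = h * (u * v) * h⁻¹ * (h * j * h⁻¹) := by group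
  have hX₁sq : (u₁ * v₁) * (u₁ * v₁) ≠ 1 := by
    intro h1
    apply hx
    rw [hX₁] at h1
    calc u * v * (u * v) = h⁻¹ * (h * (u * v) * h⁻¹ * (h * (u * v) * h⁻¹)) * h := by group
      _ = 1 := by rw [h1]; group
  have hu₁inv : u₁⁻¹ = u₁ := inv_eq_of_mul_eq_one_left hu₁'.2
  have hv₁inv : v₁⁻¹ = v₁ := inv_eq_of_mul_eq_one_left hv₁'.2
  -- u₁ does not fix a
  have hu₁a : u₁ • a ≠ a := by
    intro hfix
    have hu₁I : u₁ ∈ Cfsg.involutionsIn (stabilizer G a : Set G) :=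
      ⟨mem_stabilizer_iff.mpr hfix, hu₁'.1, hu₁'.2⟩
    have hv₁a : v₁ • a = a := by
      have : v₁ = u₁ * (u₁ * v₁) := by
        calc v₁ = (u₁ * u₁) * v₁ := by rw [hu₁'.2, one_mul]
          _ = u₁ * (u₁ * v₁) := by group
      rw [this, mul_smul, hX₁a, hfix]
    have hv₁I : v₁ ∈ Cfsg.involutionsIn (stabilizer G a : Set G) :=
      ⟨mem_stabilizer_iff.mpr hv₁a, hv₁'.1, hv₁'.2⟩
    have hc := (Cfsg.Agent.S1130.invol_central hS h2 hu₁I).2 v₁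
      (Cfsg.Agent.S1130.invol_central hS h2 hv₁I).1
    apply hX₁sq
    calc u₁ * v₁ * (u₁ * v₁) = u₁ * (v₁ * u₁) * v₁ := by group
      _ = u₁ * (u₁ * v₁) * v₁ := by rw [hc]
      _ = (u₁ * u₁) * (v₁ * v₁) := by group
      _ = 1 := by rw [hu₁'.2, hv₁'.2, one_mul]
  obtain ⟨y, hy, hyb⟩ := ro_trans hS hu₁a
  -- conjugate by y⁻¹
  obtain ⟨u₂, hu₂⟩ : ∃ u₂ : G, u₂ = y⁻¹ * u₁ * y := ⟨_, rfl⟩
  obtain ⟨X₂, hX₂⟩ : ∃ X₂ : G, X₂ = y⁻¹ * (u₁ * v₁) * y := ⟨_, rfl⟩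
  obtain ⟨j₂, hj₂⟩ : ∃ j₂ : G, j₂ = y⁻¹ * j₁ * y := ⟨_, rfl⟩
  have hya : y • a = a := ro_Q_fix hS hy
  have hyinva : y⁻¹ • a = a := ro_Q_fix hS (Q.inv_mem hy)
  have hu₂2 : u₂ * u₂ = 1 := by
    rw [hu₂]
    calc y⁻¹ * u₁ * y * (y⁻¹ * u₁ * y) = y⁻¹ * (u₁ * u₁) * y := by group
      _ = 1 := by rw [hu₁'.2]; group
  have hu₂a : u₂ • a = t • a := by
    rw [hu₂, mul_smul, mul_smul, hya, ← hyb, inv_smul_smul]
  have hS' := ro_swap_setup hS hu₂2 hu₂a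
  have hu₂inv : u₂⁻¹ = u₂ := inv_eq_of_mul_eq_one_left hu₂2
  have hX₂a : X₂ • a = a := by
    rw [hX₂, mul_smul, mul_smul, hya, hX₁a, hyinva]
  have hX₂inv : u₂ * X₂ * u₂⁻¹ = X₂⁻¹ := by
    rw [hu₂inv, hu₂, hX₂]
    calc y⁻¹ * u₁ * y * (y⁻¹ * (u₁ * v₁) * y) * (y⁻¹ * u₁ * y)
        = y⁻¹ * ((u₁ * u₁) * v₁ * u₁) * y := by group
      _ = y⁻¹ * (v₁⁻¹ * u₁⁻¹) * y := by rw [hu₁'.2, one_mul, hv₁inv, hu₁inv]
      _ = (y⁻¹ * (u₁ * v₁) * y)⁻¹ := by group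
  have hX₂b : X₂ • (u₂ • a) = u₂ • a := by
    have hX₂inv' : u₂ * X₂ * u₂ = X₂⁻¹ := by
      have := hX₂inv
      rwa [hu₂inv] at this
    have e : X₂ * u₂ = u₂ * X₂⁻¹ := by
      calc X₂ * u₂ = (u₂ * u₂) * X₂ * u₂ := by rw [hu₂2, one_mul]
        _ = u₂ * (u₂ * X₂ * u₂) := by group
        _ = u₂ * X₂⁻¹ := by rw [hX₂inv']
    rw [← mul_smul, e, mul_smul, inv_smul_eq_iff.mpr hX₂a.symm]
  have hX₂K : X₂ ∈ Cfsg.invertedBy (stabilizer G a ⊓ stabilizer G (u₂ • a)) u₂ :=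
    ⟨Subgroup.mem_inf.mpr ⟨mem_stabilizer_iff.mpr hX₂a, mem_stabilizer_iff.mpr hX₂b⟩, hX₂inv⟩
  have hj₂I : j₂ ∈ Cfsg.involutionsIn (stabilizer G a : Set G) := by
    have h1 := conj_invol (g := y⁻¹) hj₁'.1 hj₁'.2
    rw [inv_inv, ← hj₂] at h1
    refine ⟨?_, h1.1, h1.2⟩
    show j₂ ∈ stabilizer G a
    rw [mem_stabilizer_iff, hj₂, mul_smul, mul_smul, hya, hj₁a, hyinva]
  have hj₂X : j₂ * X₂ = X₂ * j₂ := by
    rw [hj₂, hX₂]
    calc y⁻¹ * j₁ * y * (y⁻¹ * (u₁ * v₁) * y) = y⁻¹ * (j₁ * (u₁ * v₁)) * y := by group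
      _ = y⁻¹ * ((u₁ * v₁) * j₁) * y := by rw [hj₁X]
      _ = y⁻¹ * (u₁ * v₁) * y * (y⁻¹ * j₁ * y) := by group
  have hX₂1 := ro_K_comm_invol hS' hj₂I hX₂K hj₂X
  apply hX₁sq
  have : u₁ * v₁ = 1 := by
    calc u₁ * v₁ = y * (y⁻¹ * (u₁ * v₁) * y) * y⁻¹ := by group
      _ = 1 := by rw [← hX₂, hX₂1]; group
  rw [this, one_mul]


/-- In the rank-one set-up (`G` finite and doubly transitive on `Ω`, `t` an involution moving `a`, `Q` normal in `G_a` with `G_a = Q D`, `Q ⊓ D = 1` for the two-point stabiliser `D = G_a ⊓ G_{t • a}`, `|Q|` even, `|D|` odd), with the action faithful and `G` containing two distinct commuting involutions: if `x = u v` with `u, v` involutions and `x² ≠ 1`, then `x` is conjugate to `u' t` for some involution `u'` of `G_a`, and `|C_G(x)|` is odd. -/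
theorem result {G Ω : Type*} [Group G] [Finite G] [MulAction G Ω] [FaithfulSMul G Ω] {a : Ω} {t : G} {Q : Subgroup G}
    (hS : Cfsg.IsRankOneSetup G Ω a t Q)
    (h2 : ∃ x y : G, x ≠ 1 ∧ y ≠ 1 ∧ x ≠ y ∧ x * x = 1 ∧ y * y = 1 ∧ x * y = y * x)
    (u v : G) (hu1 : u ≠ 1) (hu2 : u * u = 1) (hv1 : v ≠ 1) (hv2 : v * v = 1) (hx : (u * v) * (u * v) ≠ 1) :
    (∃ g : G, ∃ u' ∈ Cfsg.involutionsIn (MulAction.stabilizer G a : Set G), g * (u * v) * g⁻¹ = u' * t) ∧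
      Odd (Nat.card ↥(Subgroup.centralizer {u * v})) := by
  constructor
  · -- conjugate u into G_a
    obtain ⟨c, hc, hcu⟩ := ro_invol_unique_fix hS hu1 hu2
    haveI := ro_pretrans hS
    obtain ⟨h, hh⟩ := MulAction.exists_smul_eq G c a
    obtain ⟨u₁, hu₁⟩ : ∃ u₁ : G, u₁ = h * u * h⁻¹ := ⟨_, rfl⟩
    obtain ⟨v₁, hv₁⟩ : ∃ v₁ : G, v₁ = h * v * h⁻¹ := ⟨_, rfl⟩
    have hu₁' := conj_invol (g := h) hu1 hu2
    have hv₁' := conj_invol (g := h) hv1 hv2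
    rw [← hu₁] at hu₁'
    rw [← hv₁] at hv₁'
    have hX₁ : u₁ * v₁ = h * (u * v) * h⁻¹ := by rw [hu₁, hv₁]; group
    have hu₁a : u₁ • a = a := by
      rw [hu₁, mul_smul, mul_smul, ← hh, inv_smul_smul, hc]
    have hu₁I : u₁ ∈ Cfsg.involutionsIn (stabilizer G a : Set G) :=
      ⟨mem_stabilizer_iff.mpr hu₁a, hu₁'.1, hu₁'.2⟩
    have hX₁sq : (u₁ * v₁) * (u₁ * v₁) ≠ 1 := by
      intro h1
      apply hx
      rw [hX₁] at h1
      calc u * v * (u * v) = h⁻¹ * (h * (u * v) * h⁻¹ * (h * (u * v) * h⁻¹)) * h := by group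
        _ = 1 := by rw [h1]; group
    have hv₁a : v₁ • a ≠ a := by
      intro hfix
      have hv₁I : v₁ ∈ Cfsg.involutionsIn (stabilizer G a : Set G) :=
        ⟨mem_stabilizer_iff.mpr hfix, hv₁'.1, hv₁'.2⟩
      have hc := (Cfsg.Agent.S1130.invol_central hS h2 hu₁I).2 v₁
        (Cfsg.Agent.S1130.invol_central hS h2 hv₁I).1
      apply hX₁sq
      calc u₁ * v₁ * (u₁ * v₁) = u₁ * (v₁ * u₁) * v₁ := by group
        _ = u₁ * (u₁ * v₁) * v₁ := by rw [hc]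
        _ = (u₁ * u₁) * (v₁ * v₁) := by group
        _ = 1 := by rw [hu₁'.2, hv₁'.2, one_mul]
    obtain ⟨y, hy, hyb⟩ := ro_trans hS hv₁a
    have hya : y • a = a := ro_Q_fix hS hy
    obtain ⟨v₂, hv₂⟩ : ∃ v₂ : G, v₂ = y⁻¹ * v₁ * y := ⟨_, rfl⟩
    have hv₂2 : v₂ * v₂ = 1 := by
      rw [hv₂]
      calc y⁻¹ * v₁ * y * (y⁻¹ * v₁ * y) = y⁻¹ * (v₁ * v₁) * y := by group
        _ = 1 := by rw [hv₁'.2]; group
    have hv₂a : v₂ • a = t • a := by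
      rw [hv₂, mul_smul, mul_smul, hya, ← hyb, inv_smul_smul]
    have hu₁y : y⁻¹ * u₁ * y = u₁ := by
      have hc := (Cfsg.Agent.S1130.invol_central hS h2 hu₁I).2 y hy
      calc y⁻¹ * u₁ * y = y⁻¹ * (u₁ * y) := by group
        _ = y⁻¹ * (y * u₁) := by rw [hc]
        _ = u₁ := by group
    obtain ⟨w, hwD, hw, -⟩ := Cfsg.Agent.S1134.sqrt_conj hS hv₂2 hv₂a
    refine ⟨w * y⁻¹ * h, w * u₁ * w⁻¹, ?_, ?_⟩
    · have h1 := conj_invol (g := w) hu₁'.1 hu₁'.2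
      refine ⟨?_, h1.1, h1.2⟩
      exact Subgroup.mul_mem _ (Subgroup.mul_mem _ hwD.1 hu₁I.1) (Subgroup.inv_mem _ hwD.1)
    · calc w * y⁻¹ * h * (u * v) * (w * y⁻¹ * h)⁻¹
          = w * (y⁻¹ * (h * u * h⁻¹) * y) * (y⁻¹ * (h * v * h⁻¹) * y) * w⁻¹ := by group
        _ = w * u₁ * v₂ * w⁻¹ := by rw [← hu₁, ← hv₁, hu₁y, ← hv₂]
        _ = w * u₁ * w⁻¹ * (w * v₂ * w⁻¹) := by group
        _ = w * u₁ * w⁻¹ * t := by rw [hw]
  · by_contra hodd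
    rw [Nat.not_odd_iff_even] at hodd
    obtain ⟨j, hj⟩ := exists_prime_orderOf_dvd_card' (G := ↥(Subgroup.centralizer {u * v})) 2
      (even_iff_two_dvd.mp hodd)
    have hj1 : (j : G) ≠ 1 := by
      intro h
      have : j = 1 := Subtype.ext h
      rw [this, orderOf_one] at hj
      omega
    have hj2 : (j : G) * (j : G) = 1 := by
      have h1 : j ^ 2 = 1 := by
        have := pow_orderOf_eq_one j
        rwa [hj] at this
      have h2 := congrArg Subtype.val h1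
      rw [Subgroup.coe_pow, Subgroup.coe_one, pow_two] at h2
      exact h2
    have hjc : (j : G) * (u * v) = (u * v) * (j : G) :=
      (Subgroup.mem_centralizer_iff.mp j.2 (u * v) rfl).symm
    exact no_invol_comm hS h2 u v hu1 hu2 hv1 hv2 hx j hj1 hj2 hjc

end Cfsg.Agent.S1135
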