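import Cfsg.Statements.S1249

set_option autoImplicit false
open Cfsg

namespace Cfsg.Agent.S1249

theorem mem_smul_sylow {G : Type*} [Group G] {p : ℕ} (P : Sylow p G) (h x : G) :
    x ∈ ((h • P : Sylow p G) : Subgroup G) ↔ h⁻¹ * x * h ∈ (P : Subgroup G) := by
  rw [Sylow.coe_subgroup_smul, Subgroup.mem_pointwise_smul_iff_inv_smul_mem, MulAut.smul_def]
  simp

/-- Let P and Q be Sylow p-subgroups of the finite group G both containing the subgroup A. If A is strongly closed in P, then A is strongly closed in Q. -/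
theorem result {G : Type*} [Group G] [Finite G] {p : ℕ} [Fact p.Prime] (P Q : Sylow p G) (A : Subgroup G) (hAQ : A ≤ Q) (hA : Cfsg.IsStronglyClosed A (P : Subgroup G)) : Cfsg.IsStronglyClosed A (Q : Subgroup G) := by
  obtain ⟨hAP, hcl⟩ := hA
  refine ⟨hAQ, ?_⟩
  obtain ⟨h, rfl⟩ := MulAction.exists_smul_eq G P Q
  -- conjugation by h⁻¹ maps A into A
  have h1 : ∀ y ∈ A, h⁻¹ * y * h ∈ A := by
    intro y hy
    have := hcl y hy h⁻¹
    rw [inv_inv] at this
    exact this ((mem_smul_sylow P h y).1 (hAQ hy))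
  -- hence conjugation by h maps A into A
  have h2 : ∀ a ∈ A, h * a * h⁻¹ ∈ A := by
    intro a ha
    let f : A → A := fun y => ⟨h⁻¹ * y * h, h1 y y.2⟩
    have hf : Function.Injective f := by
      intro y1 y2 hy
      have : h⁻¹ * (y1 : G) * h = h⁻¹ * (y2 : G) * h := congrArg Subtype.val hy
      apply Subtype.ext
      simpa using this
    obtain ⟨y, hy⟩ := (Finite.injective_iff_surjective.1 hf) ⟨a, ha⟩
    have hy' : h⁻¹ * (y : G) * h = a := congrArg Subtype.val hy
    have : h * a * h⁻¹ = y := by rw [← hy']; group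
    rw [this]; exact y.2
  intro x hx g hg
  have h3 : h⁻¹ * (g * x * g⁻¹) * h ∈ (P : Subgroup G) := (mem_smul_sylow P h _).1 hg
  have h4 : (h⁻¹ * g) * x * (h⁻¹ * g)⁻¹ ∈ A := by
    apply hcl x hx
    have : (h⁻¹ * g) * x * (h⁻¹ * g)⁻¹ = h⁻¹ * (g * x * g⁻¹) * h := by group
    rw [this]; exact h3
  have h5 := h2 _ h4
  have : h * ((h⁻¹ * g) * x * (h⁻¹ * g)⁻¹) * h⁻¹ = g * x * g⁻¹ := by group
  rw [this] at h5
  exact h5

end Cfsg.Agent.S1249
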