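import Cfsg.Statements.S1250
import Cfsg.Agent.Helper9.Fusion

set_option autoImplicit false
open Cfsg

namespace Cfsg.Agent.S1250

open Cfsg.Agent.Helper9 in
/-- Let S be a Sylow p-subgroup of the finite group G, A ≤ S strongly closed in S, and N a normal subgroup. Then the image of A in G ⧸ N is strongly closed in the image of S (which is a Sylow p-subgroup of G ⧸ N). -/
theorem result {G : Type*} [Group G] [Finite G] {p : ℕ} [Fact p.Prime] (S : Sylow p G) (A : Subgroup G) (hA : Cfsg.IsStronglyClosed A (S : Subgroup G)) (N : Subgroup G) [N.Normal] : Cfsg.IsStronglyClosed (A.map (QuotientGroup.mk' N)) ((S : Subgroup G).map (QuotientGroup.mk' N)) := by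
  refine ⟨Subgroup.map_mono hA.1, ?_⟩
  rintro _ ⟨a, ha, rfl⟩ q hq
  obtain ⟨g, rfl⟩ := QuotientGroup.mk_surjective q
  set y := g * a * g⁻¹ with hy
  have hq' : (y : G ⧸ N) ∈ (S : Subgroup G).map (QuotientGroup.mk' N) := by
    convert hq using 1
    simp [hy]
  obtain ⟨s₀, hs₀, hs₀y⟩ := hq'
  have hyH : y ∈ (S : Subgroup G) ⊔ N := by
    have h1 : s₀⁻¹ * y ∈ N := QuotientGroup.eq.mp hs₀y
    have h2 : y = s₀ * (s₀⁻¹ * y) := by group
    rw [h2]
    exact Subgroup.mul_mem _ (Subgroup.mem_sup_left hs₀) (Subgroup.mem_sup_right h1)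
  have hyp : IsPGroup p (Subgroup.zpowers y) := by
    have h1 : Subgroup.zpowers y = (Subgroup.zpowers a).map (MulAut.conj g).toMonoidHom := by
      rw [MonoidHom.map_zpowers]; rfl
    rw [h1]
    apply IsPGroup.map
    apply S.2.to_le
    rw [Subgroup.zpowers_le]
    exact hA.1 ha
  obtain ⟨c, hc, hcp⟩ := sylow_pair ((S : Subgroup G) ⊔ N) S (Subgroup.zpowers y) le_sup_left
    (Subgroup.zpowers_le.mpr hyH) S.2 hyp
  have hmax : (S : Subgroup G) ⊔ (Subgroup.zpowers y).map (MulAut.conj c).toMonoidHom = S :=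
    S.is_maximal' hcp le_sup_left
  have hcy : c * y * c⁻¹ ∈ (S : Subgroup G) := by
    have : c * y * c⁻¹ ∈ (Subgroup.zpowers y).map (MulAut.conj c).toMonoidHom := by
      rw [mem_map_conj]
      convert Subgroup.mem_zpowers y using 1
      group
    rw [← hmax]
    exact Subgroup.mem_sup_right this
  have hcmk : (c : G ⧸ N) ∈ (S : Subgroup G).map (QuotientGroup.mk' N) := by
    have : (QuotientGroup.mk' N) c ∈ ((S : Subgroup G) ⊔ N).map (QuotientGroup.mk' N) :=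
      Subgroup.mem_map_of_mem _ hc
    rw [Subgroup.map_sup, QuotientGroup.map_mk'_self, sup_bot_eq] at this
    exact this
  obtain ⟨s, hs, hsc⟩ := hcmk
  have hn : s⁻¹ * c ∈ N := QuotientGroup.eq.mp hsc
  have ha' : (s⁻¹ * c * g) * a * (s⁻¹ * c * g)⁻¹ ∈ A := by
    apply hA.2 a ha
    have : (s⁻¹ * c * g) * a * (s⁻¹ * c * g)⁻¹ = s⁻¹ * (c * y * c⁻¹) * s := by rw [hy]; group
    rw [this]
    exact mul_mem (mul_mem (inv_mem hs) hcy) hs
  refine ⟨(s⁻¹ * c * g) * a * (s⁻¹ * c * g)⁻¹, ha', ?_⟩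
  have h1 : ((s⁻¹ * c : G) : G ⧸ N) = 1 := (QuotientGroup.eq_one_iff _).mpr hn
  show (((s⁻¹ * c * g) * a * (s⁻¹ * c * g)⁻¹ : G) : G ⧸ N) = (g : G ⧸ N) * (a : G ⧸ N) * (g : G ⧸ N)⁻¹
  rw [QuotientGroup.mk_mul, QuotientGroup.mk_mul, QuotientGroup.mk_inv, QuotientGroup.mk_mul, h1, one_mul]

end Cfsg.Agent.S1250
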