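import Cfsg.Statements.S1292
import Mathlib
import Cfsg.Agent.Helper10.PLocal

set_option autoImplicit false
open Cfsg
open Cfsg.Agent.Helper10

namespace Cfsg.Agent.S1292

/-- Let G be a finite group such that F*(C_G(t)) = O_2(C_G(t)) for every involution t. Then F*(N_G(T)) = O_2(N_G(T)) for every nontrivial 2-subgroup T of G. -/
theorem result {G : Type*} [Group G] [Finite G] (h : ∀ t : G, orderOf t = 2 → Cfsg.generalizedFittingSubgroup ↥(Subgroup.centralizer ({t} : Set G)) = Cfsg.pCore 2 ↥(Subgroup.centralizer ({t} : Set G))) (T : Subgroup G) (hT : IsPGroup 2 ↥T) (hT1 : T ≠ ⊥) : Cfsg.generalizedFittingSubgroup ↥(Subgroup.normalizer (T : Set G)) = Cfsg.pCore 2 ↥(Subgroup.normalizer (T : Set G)) := by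
  have hTnt : Nontrivial T := (Subgroup.nontrivial_iff_ne_bot T).mpr hT1
  have hZnt : Nontrivial (Subgroup.center T) := hT.center_nontrivial
  have h2dvd : 2 ∣ Nat.card (Subgroup.center T) := by
    have hZp : IsPGroup 2 (Subgroup.center T) := hT.to_subgroup _
    rcases hZp.card_eq_or_dvd with h1 | h1
    · exfalso
      have := Finite.one_lt_card_iff_nontrivial.mpr hZnt
      omega
    · exact h1
  obtain ⟨z, hz⟩ := exists_prime_orderOf_dvd_card' 2 h2dvd
  obtain ⟨t, ht⟩ : ∃ t : G, t = ((z : T) : G) := ⟨_, rfl⟩
  have ht2 : orderOf t = 2 := by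
    rw [ht, Subgroup.orderOf_coe, Subgroup.orderOf_coe]; exact hz
  have htT : t ∈ T := by rw [ht]; exact (z : T).2
  have htc : ∀ u ∈ T, u * t = t * u := by
    intro u hu
    have := Subgroup.mem_center_iff.mp z.2 ⟨u, hu⟩
    rw [ht]
    exact congrArg Subtype.val this
  have hHF := h t ht2
  have hRn' : (pCore 2 (Subgroup.centralizer ({t} : Set G))).Normal :=
    Cfsg.Agent.S0010.pCore_normal 2
  obtain ⟨H, hH⟩ : ∃ H : Subgroup G, H = Subgroup.centralizer ({t} : Set G) := ⟨_, rfl⟩
  obtain ⟨R, hR⟩ : ∃ R : Subgroup G, R = (pCore 2 (Subgroup.centralizer ({t} : Set G))).map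
      (Subgroup.centralizer ({t} : Set G)).subtype := ⟨_, rfl⟩
  have hRp : IsPGroup 2 R := by
    rw [hR]; exact (Cfsg.Agent.S0010.pCore_isPGroup 2).map _
  have hRH : R ≤ H := by
    rw [hR, hH]; rintro _ ⟨m, _, rfl⟩; exact m.2
  have hHR : H ≤ Subgroup.normalizer (R : Set G) := by
    rw [hR, hH]; exact le_normalizer_map_subtype _ _
  have hcentR : H ⊓ Subgroup.centralizer (R : Set G) ≤ R := by
    intro x hx
    obtain ⟨hxH, hxC⟩ := Subgroup.mem_inf.mp hx
    rw [hH] at hxH
    have hc := centralizer_gfitting_le (Subgroup.centralizer ({t} : Set G))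
    rw [hHF] at hc
    have hmem : (⟨x, hxH⟩ : Subgroup.centralizer ({t} : Set G)) ∈ Subgroup.centralizer
        ((pCore 2 (Subgroup.centralizer ({t} : Set G)) : Subgroup _) : Set _) := by
      rw [Subgroup.mem_centralizer_iff]
      intro r hr
      apply Subtype.ext
      apply Subgroup.mem_centralizer_iff.mp hxC
      rw [hR]
      exact ⟨r, hr, rfl⟩
    rw [hR]
    exact ⟨⟨x, hxH⟩, hc hmem, rfl⟩
  have hTH : T ≤ H := by
    intro u hu
    rw [hH, Subgroup.mem_centralizer_iff]
    intro y hy
    rw [Set.mem_singleton_iff] at hy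
    rw [hy]
    exact (htc u hu).symm
  have hCTH : Subgroup.centralizer (T : Set G) ≤ H := by
    rw [hH]; exact Subgroup.centralizer_le (Set.singleton_subset_iff.mpr htT)
  have hO : pPrimeCore 2 (Subgroup.normalizer (T : Set G)) = ⊥ := by
    have hWN : (pPrimeCore 2 (Subgroup.normalizer (T : Set G))).map
        (Subgroup.normalizer (T : Set G)).subtype ≤ Subgroup.normalizer (T : Set G) := by
      rintro _ ⟨m, _, rfl⟩; exact m.2
    have hNW := le_normalizer_map_subtype (Subgroup.normalizer (T : Set G))
      (pPrimeCore 2 (Subgroup.normalizer (T : Set G)))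
    have hWc : ∀ w ∈ (pPrimeCore 2 (Subgroup.normalizer (T : Set G))).map
        (Subgroup.normalizer (T : Set G)).subtype, (orderOf w).Coprime 2 := by
      apply coprime_of_card_coprime
      rw [Subgroup.card_map_of_injective (Subgroup.subtype_injective _)]
      exact pPrimeCore_coprime 2 _
    have hTW : ⁅T, (pPrimeCore 2 (Subgroup.normalizer (T : Set G))).map
        (Subgroup.normalizer (T : Set G)).subtype⁆ = ⊥ :=
      comm_eq_bot_of_pGroup_coprime hT hWc hWN (Subgroup.le_normalizer.trans hNW)
    have hWH : (pPrimeCore 2 (Subgroup.normalizer (T : Set G))).map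
        (Subgroup.normalizer (T : Set G)).subtype ≤ H := by
      rw [Subgroup.commutator_comm] at hTW
      exact (Subgroup.commutator_eq_bot_iff_le_centralizer.mp hTW).trans hCTH
    have h1 := AxB_coprime T _ R hRp hT hWc (hTH.trans hHR) (hWH.trans hHR) hWN
      (Subgroup.le_normalizer.trans hNW)
      ((inf_le_right.trans (Subgroup.centralizer_le_normalizer _)).trans hNW)
    rw [Subgroup.commutator_comm, Subgroup.commutator_eq_bot_iff_le_centralizer] at h1
    have h2 : (pPrimeCore 2 (Subgroup.normalizer (T : Set G))).map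
        (Subgroup.normalizer (T : Set G)).subtype ≤ R := (le_inf hWH h1).trans hcentR
    have h3 : (pPrimeCore 2 (Subgroup.normalizer (T : Set G))).map
        (Subgroup.normalizer (T : Set G)).subtype = ⊥ := by
      rw [eq_bot_iff, ← inf_eq_bot_of_pGroup_coprime hRp hWc]
      exact le_inf h2 le_rfl
    exact (Subgroup.map_eq_bot_iff_of_injective _ (Subgroup.subtype_injective _)).mp h3
  have hLy : layer (Subgroup.normalizer (T : Set G)) = ⊥ := by
    rw [eq_bot_iff]
    apply sSup_le
    intro K hK
    exfalso
    have hK'N : K.map (Subgroup.normalizer (T : Set G)).subtype ≤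
        Subgroup.normalizer (T : Set G) := by
      rintro _ ⟨m, _, rfl⟩; exact m.2
    have hKT : ⁅T, K.map (Subgroup.normalizer (T : Set G)).subtype⁆ = ⊥ := by
      have h1 := comp_comm_normal_pGroup 2 hK
        (Subgroup.normal_in_normalizer : (T.subgroupOf (Subgroup.normalizer (T : Set G))).Normal)
        hT.comap_subtype
      have h3 := congrArg (Subgroup.map (Subgroup.normalizer (T : Set G)).subtype) h1
      rw [Subgroup.map_commutator, Subgroup.map_subgroupOf_eq_of_le Subgroup.le_normalizer,
        Subgroup.map_bot] at h3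
      rw [Subgroup.commutator_comm]; exact h3
    have hK'H : K.map (Subgroup.normalizer (T : Set G)).subtype ≤ H := by
      have := hKT
      rw [Subgroup.commutator_comm] at this
      exact (Subgroup.commutator_eq_bot_iff_le_centralizer.mp this).trans hCTH
    have hK'M : K.map (Subgroup.normalizer (T : Set G)).subtype ≤
        Subgroup.normalizer (T : Set G) ⊓ H := le_inf hK'N hK'H
    have hK₁ : IsComponent ((K.map (Subgroup.normalizer (T : Set G)).subtype).subgroupOf
        (Subgroup.normalizer (T : Set G) ⊓ H)) := by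
      refine ⟨?_, qs_of_equiv ((K.equivMapOfInjective _ (Subgroup.subtype_injective _)).trans
        (Subgroup.subgroupOfEquivOfLe hK'M).symm) hK.2⟩
      have e : (K.map (Subgroup.normalizer (T : Set G)).subtype).subgroupOf
          (Subgroup.normalizer (T : Set G) ⊓ H) =
          ((K.map (Subgroup.normalizer (T : Set G)).subtype).subgroupOf
            (Subgroup.normalizer (T : Set G))).comap (Subgroup.inclusion
              (inf_le_left : Subgroup.normalizer (T : Set G) ⊓ H ≤
                Subgroup.normalizer (T : Set G))) := by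
        ext x; rfl
      rw [e]
      apply Subgroup.IsSubnormal.comap
      have e2 : (K.map (Subgroup.normalizer (T : Set G)).subtype).subgroupOf
          (Subgroup.normalizer (T : Set G)) = K :=
        Subgroup.comap_map_eq_self_of_injective (Subgroup.subtype_injective _) K
      rw [e2]; exact hK.1
    have hUM : R ⊓ Subgroup.centralizer (T : Set G) ≤ Subgroup.normalizer (T : Set G) ⊓ H :=
      le_inf (inf_le_right.trans (Subgroup.centralizer_le_normalizer _)) (inf_le_left.trans hRH)
    have hMU : Subgroup.normalizer (T : Set G) ⊓ H ≤ Subgroup.normalizer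
        ((R ⊓ Subgroup.centralizer (T : Set G) : Subgroup G) : Set G) :=
      le_normalizer_inf (inf_le_right.trans hHR)
        (inf_le_left.trans (normalizer_le_normalizer_centralizer T))
    have h1 := comp_comm_normal_pGroup 2 hK₁ (Subgroup.normal_subgroupOf_of_le_normalizer hMU)
      ((hRp.to_le inf_le_left).comap_subtype)
    rw [comm_subgroupOf_iff hK'M hUM] at h1
    have h2 := AxB_perfect T (K.map (Subgroup.normalizer (T : Set G)).subtype) R hRp hT
      (by rw [← Subgroup.map_commutator, comp_perfect hK]) (hTH.trans hHR) (hK'H.trans hHR) hKT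
      (by rw [Subgroup.commutator_comm]; exact h1)
    rw [Subgroup.commutator_comm, Subgroup.commutator_eq_bot_iff_le_centralizer] at h2
    have h3 : K.map (Subgroup.normalizer (T : Set G)).subtype ≤ R :=
      (le_inf hK'H h2).trans hcentR
    have hsolv : Group.IsSolvable (R.subgroupOf (Subgroup.normalizer (T : Set G))) :=
      solvable_of_pGroup hRp.comap_subtype
    exact comp_not_le_solvable hK hsolv (Subgroup.map_le_iff_le_comap.mp h3)
  unfold generalizedFittingSubgroup
  rw [hLy, bot_sup_eq, fitting_eq_pCore_of_pPrimeCore_bot 2 hO]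

end Cfsg.Agent.S1292
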