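import Cfsg.Statements.S1293
import Mathlib
import Cfsg.Agent.Helper10.PLocal

set_option autoImplicit false
open Cfsg
open Cfsg.Agent.Helper10

namespace Cfsg.Agent.S1293

/-- Let G be finite with L_{p'}(G) = 1, and H = N_G(P) for a nontrivial p-subgroup P. Then L_{p'}(H) = 1 and O_{p'}(H) ≤ O_{p'}(G). -/
theorem result {G : Type*} [Group G] [Finite G] (p : ℕ) [Fact p.Prime] (hL : Cfsg.pLayer p G = ⊥) (P : Subgroup G) (hP : IsPGroup p ↥P) (hP1 : P ≠ ⊥) : Cfsg.pLayer p ↥(Subgroup.normalizer (P : Set G)) = ⊥ ∧ (Cfsg.pPrimeCore p ↥(Subgroup.normalizer (P : Set G))).map (Subgroup.normalizer (P : Set G)).subtype ≤ Cfsg.pPrimeCore p G := by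
  have hWN : (pPrimeCore p (Subgroup.normalizer (P : Set G))).map
      (Subgroup.normalizer (P : Set G)).subtype ≤ Subgroup.normalizer (P : Set G) := by
    rintro _ ⟨m, _, rfl⟩; exact m.2
  have hNW := le_normalizer_map_subtype (Subgroup.normalizer (P : Set G))
    (pPrimeCore p (Subgroup.normalizer (P : Set G)))
  have hWc : (Nat.card ((pPrimeCore p (Subgroup.normalizer (P : Set G))).map
      (Subgroup.normalizer (P : Set G)).subtype)).Coprime p := by
    rw [Subgroup.card_map_of_injective (Subgroup.subtype_injective _)]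
    exact pPrimeCore_coprime p _
  have h2 : (pPrimeCore p (Subgroup.normalizer (P : Set G))).map
      (Subgroup.normalizer (P : Set G)).subtype ≤ pPrimeCore p G :=
    le_pPrimeCore_of_pLayer_bot p hL P _ hP (coprime_of_card_coprime _ hWc) hWN
      (Subgroup.le_normalizer.trans hNW) ((Subgroup.centralizer_le_normalizer _).trans hNW)
  refine ⟨?_, h2⟩
  rw [eq_bot_iff]
  apply sSup_le
  intro K hK
  exfalso
  have hKP : ⁅P, K.map (Subgroup.normalizer (P : Set G)).subtype⁆ = ⊥ := by
    have h1 := pComponent_comm_normal_pGroup p hK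
      (Subgroup.normal_in_normalizer : (P.subgroupOf (Subgroup.normalizer (P : Set G))).Normal)
      hP.comap_subtype
    have h3 := congrArg (Subgroup.map (Subgroup.normalizer (P : Set G)).subtype) h1
    rw [Subgroup.map_commutator, Subgroup.map_subgroupOf_eq_of_le Subgroup.le_normalizer,
      Subgroup.map_bot] at h3
    rw [Subgroup.commutator_comm]; exact h3
  have hDN : pPrimePCore p G ⊓ Subgroup.centralizer (P : Set G) ≤
      Subgroup.normalizer (P : Set G) :=
    inf_le_right.trans (Subgroup.centralizer_le_normalizer _)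
  have hMn : (pPrimePCore p G).Normal := pPrimePCore_normal p G
  have hNM : Subgroup.normalizer (P : Set G) ≤
      Subgroup.normalizer ((pPrimePCore p G : Subgroup G) : Set G) := by
    rw [Subgroup.normalizer_eq_top (pPrimePCore p G)]; exact le_top
  have hNO : Subgroup.normalizer (P : Set G) ≤
      Subgroup.normalizer ((pPrimeCore p G : Subgroup G) : Set G) := by
    rw [Subgroup.normalizer_eq_top (pPrimeCore p G)]; exact le_top
  have hND : Subgroup.normalizer (P : Set G) ≤ Subgroup.normalizer
      ((pPrimePCore p G ⊓ Subgroup.centralizer (P : Set G) : Subgroup G) : Set G) :=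
    le_normalizer_inf hNM (normalizer_le_normalizer_centralizer P)
  have hD'n : ((pPrimePCore p G ⊓ Subgroup.centralizer (P : Set G)).subgroupOf
      (Subgroup.normalizer (P : Set G))).Normal :=
    Subgroup.normal_subgroupOf_of_le_normalizer hND
  have hE : (pPrimeCore p G ⊓ (pPrimePCore p G ⊓ Subgroup.centralizer (P : Set G))).subgroupOf
      (Subgroup.normalizer (P : Set G)) ≤ pPrimeCore p (Subgroup.normalizer (P : Set G)) := by
    apply le_pPrimeCore p
    · exact Subgroup.normal_subgroupOf_of_le_normalizer (le_normalizer_inf hNO hND)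
    · have e : Nat.card ((pPrimeCore p G ⊓ (pPrimePCore p G ⊓
          Subgroup.centralizer (P : Set G))).subgroupOf (Subgroup.normalizer (P : Set G))) =
          Nat.card (pPrimeCore p G ⊓ (pPrimePCore p G ⊓ Subgroup.centralizer (P : Set G)) ⊓
            Subgroup.normalizer (P : Set G) : Subgroup G) := by
        rw [← Subgroup.subgroupOf_map_subtype (pPrimeCore p G ⊓ (pPrimePCore p G ⊓
            Subgroup.centralizer (P : Set G))) (Subgroup.normalizer (P : Set G)),
          Subgroup.card_map_of_injective (Subgroup.subtype_injective _)]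
      rw [e]
      exact Nat.Coprime.coprime_dvd_left
        (Subgroup.card_dvd_of_le (inf_le_left.trans inf_le_left)) (pPrimeCore_coprime p G)
  have hD'p : IsPGroup p (((pPrimePCore p G ⊓ Subgroup.centralizer (P : Set G)).subgroupOf
      (Subgroup.normalizer (P : Set G))).map
      (QuotientGroup.mk' (pPrimeCore p (Subgroup.normalizer (P : Set G))))) := by
    rintro ⟨_, d, hd, rfl⟩
    have hdM : (d : G) ∈ pPrimePCore p G := (Subgroup.mem_inf.mp hd).1
    obtain ⟨k, hk⟩ := (Cfsg.Agent.S0010.pCore_isPGroup p (G := G ⧸ pPrimeCore p G))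
      ⟨QuotientGroup.mk' _ (d : G), hdM⟩
    have e1 : (QuotientGroup.mk' (pPrimeCore p G) (d : G)) ^ p ^ k = 1 := by
      have := congrArg Subtype.val hk
      simpa using this
    have hk' : (d : G) ^ p ^ k ∈ pPrimeCore p G := by
      apply (QuotientGroup.eq_one_iff _).mp
      show QuotientGroup.mk' (pPrimeCore p G) ((d : G) ^ p ^ k) = 1
      rw [map_pow]; exact e1
    refine ⟨k, Subtype.ext ?_⟩
    show (QuotientGroup.mk' (pPrimeCore p (Subgroup.normalizer (P : Set G))) d) ^ p ^ k = 1
    rw [← map_pow]
    apply (QuotientGroup.eq_one_iff _).mpr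
    apply hE
    rw [Subgroup.mem_subgroupOf]
    refine Subgroup.mem_inf.mpr ⟨by simpa using hk', ?_⟩
    exact Subgroup.pow_mem _ hd (p ^ k)
  have h3 := pComponent_comm_le_pPrimeCore p hK hD'n hD'p
  have hC : ⁅pPrimePCore p G ⊓ Subgroup.centralizer (P : Set G),
      K.map (Subgroup.normalizer (P : Set G)).subtype⁆ ≤ pPrimeCore p G := by
    have h4 := Subgroup.map_mono (f := (Subgroup.normalizer (P : Set G)).subtype) h3
    rw [Subgroup.map_commutator, Subgroup.map_subgroupOf_eq_of_le hDN] at h4
    rw [Subgroup.commutator_comm]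
    exact h4.trans h2
  have hK' := perfect_le_pPrimeCore_of_pLayer_bot p hL P
    (K.map (Subgroup.normalizer (P : Set G)).subtype) hP
    (by rw [← Subgroup.map_commutator, pComponent_perfect p hK]) hKP hC
  have hdvd := pComponent_dvd_card p hK
  have hcop : (Nat.card (K.map (Subgroup.normalizer (P : Set G)).subtype)).Coprime p :=
    Nat.Coprime.coprime_dvd_left (Subgroup.card_dvd_of_le hK') (pPrimeCore_coprime p G)
  rw [Subgroup.card_map_of_injective (Subgroup.subtype_injective _)] at hcop
  exact (Nat.Prime.coprime_iff_not_dvd Fact.out).mp hcop.symm hdvd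

end Cfsg.Agent.S1293
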