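import Cfsg.Statements.S1323
-- import your own Cfsg.Agent.* helpers here
import Mathlib
import Cfsg.Agent.S1754

set_option autoImplicit false
open Cfsg

namespace Cfsg.Agent.S1323

open Equiv Equiv.Perm
open scoped commutatorElement

variable {n : ℕ}

def FixLow (σ : Perm (Fin n)) : Prop := ∀ x : Fin n, x.val < 4 → σ x = x
def FixHigh (σ : Perm (Fin n)) : Prop := ∀ x : Fin n, 4 ≤ x.val → σ x = x
def Pres (σ : Perm (Fin n)) : Prop := ∀ x : Fin n, x.val < 4 → (σ x).val < 4

def low (n : ℕ) : Finset (Fin n) := Finset.univ.filter (fun x => x.val < 4)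

theorem mem_low {x : Fin n} : x ∈ low n ↔ x.val < 4 := by simp [low]

theorem card_low_le : (low n).card ≤ 4 := by
  have h := Finset.card_le_card_of_injOn (s := low n) (t := (Finset.univ : Finset (Fin 4)))
    (fun x => if h : x.val < 4 then (⟨x.val, h⟩ : Fin 4) else 0) (fun _ _ => by simp)
    (by
      intro a ha b hb hab
      have ha' : a.val < 4 := mem_low.mp ha
      have hb' : b.val < 4 := mem_low.mp hb
      simp only [dif_pos ha', dif_pos hb', Fin.mk.injEq] at hab
      exact Fin.ext hab)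
  simpa using h

theorem inv_app (σ : Perm (Fin n)) (x : Fin n) : σ⁻¹ (σ x) = x := by
  rw [Perm.inv_eq_iff_eq]

theorem app_inv (σ : Perm (Fin n)) (x : Fin n) : σ (σ⁻¹ x) = x := by
  rw [← Perm.eq_inv_iff_eq]

theorem Pres.inv {σ : Perm (Fin n)} (h : Pres σ) : Pres σ⁻¹ := by
  have h1 : (low n).image σ ⊆ low n := by
    intro y hy
    obtain ⟨x, hx, rfl⟩ := Finset.mem_image.mp hy
    exact mem_low.mpr (h x (mem_low.mp hx))
  have h2 : (low n).image σ = low n :=
    Finset.eq_of_subset_of_card_le h1 (by rw [Finset.card_image_of_injective _ σ.injective])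
  intro y hy
  have hy' : y ∈ (low n).image σ := by rw [h2]; exact mem_low.mpr hy
  obtain ⟨x, hx, rfl⟩ := Finset.mem_image.mp hy'
  rw [inv_app]
  exact mem_low.mp hx

theorem Pres.high {σ : Perm (Fin n)} (h : Pres σ) (x : Fin n) (hx : 4 ≤ x.val) :
    4 ≤ (σ x).val := by
  by_contra hlt
  have := h.inv (σ x) (by omega)
  rw [inv_app] at this
  omega

theorem FixHigh.pres {σ : Perm (Fin n)} (h : FixHigh σ) : Pres σ := by
  intro x hx
  by_contra hlt
  have h1 : σ (σ x) = σ x := h (σ x) (by omega)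
  have h2 : σ x = x := σ.injective h1
  rw [h2] at hlt
  exact hlt hx

theorem FixLow.high {σ : Perm (Fin n)} (h : FixLow σ) (x : Fin n) (hx : 4 ≤ x.val) :
    4 ≤ (σ x).val := by
  by_contra hlt
  have h1 : σ (σ x) = σ x := h (σ x) (by omega)
  have h2 : σ x = x := σ.injective h1
  rw [h2] at hlt
  exact hlt hx

theorem FixLow.pres {σ : Perm (Fin n)} (h : FixLow σ) : Pres σ := fun x hx => by
  rw [h x hx]; exact hx

/-- the 3-cycle `a → c → b → a` -/
def three (a b c : Fin n) : Perm (Fin n) := swap a b * swap a c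

theorem three_mem {a b c : Fin n} (hab : a ≠ b) (hac : a ≠ c) :
    three a b c ∈ alternatingGroup (Fin n) := by
  rw [Equiv.Perm.mem_alternatingGroup, three, map_mul, sign_swap hab, sign_swap hac]
  rfl

theorem three_a {a b c : Fin n} (hac : a ≠ c) (hbc : b ≠ c) : three a b c a = c := by
  show swap a b (swap a c a) = c
  rw [swap_apply_left, swap_apply_of_ne_of_ne hac.symm hbc.symm]

theorem three_b {a b c : Fin n} (hab : a ≠ b) (hbc : b ≠ c) : three a b c b = a := by
  show swap a b (swap a c b) = a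
  rw [swap_apply_of_ne_of_ne hab.symm hbc, swap_apply_right]

theorem three_fix {a b c x : Fin n} (hxa : x ≠ a) (hxb : x ≠ b) (hxc : x ≠ c) :
    three a b c x = x := by
  show swap a b (swap a c x) = x
  rw [swap_apply_of_ne_of_ne hxa hxc, swap_apply_of_ne_of_ne hxa hxb]

theorem three_fixLow {a b c : Fin n} (ha : 4 ≤ a.val) (hb : 4 ≤ b.val) (hc : 4 ≤ c.val) :
    FixLow (three a b c) := by
  intro x hx
  apply three_fix
  · intro h; rw [h] at hx; omega
  · intro h; rw [h] at hx; omega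
  · intro h; rw [h] at hx; omega

theorem three_fixHigh {a b c : Fin n} (ha : a.val < 4) (hb : b.val < 4) (hc : c.val < 4) :
    FixHigh (three a b c) := by
  intro x hx
  apply three_fix
  · intro h; rw [h] at hx; omega
  · intro h; rw [h] at hx; omega
  · intro h; rw [h] at hx; omega

theorem fresh (hn : 9 ≤ n) (s : Finset (Fin n)) (hs : s.card ≤ 4) :
    ∃ a : Fin n, 4 ≤ a.val ∧ a ∉ s := by
  have hf : Function.Injective (fun i : Fin 5 => (⟨i.val + 4, by omega⟩ : Fin n)) := by
    intro i j hij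
    simp only [Fin.mk.injEq] at hij
    exact Fin.ext (by omega)
  have hc : s.card < (Finset.univ.image (fun i : Fin 5 => (⟨i.val + 4, by omega⟩ : Fin n))).card := by
    rw [Finset.card_image_of_injective _ hf, Finset.card_univ, Fintype.card_fin]; omega
  obtain ⟨a, ha, has⟩ := Finset.exists_mem_notMem_of_card_lt_card hc
  obtain ⟨i, -, rfl⟩ := Finset.mem_image.mp ha
  exact ⟨_, by simp, has⟩

theorem fresh_low (h4 : 4 ≤ n) (s : Finset (Fin n)) (hs : s.card ≤ 3) :
    ∃ a : Fin n, a.val < 4 ∧ a ∉ s := by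
  have hf : Function.Injective (Fin.castLE h4) := Fin.castLE_injective h4
  have hc : s.card < (Finset.univ.image (Fin.castLE h4)).card := by
    rw [Finset.card_image_of_injective _ hf, Finset.card_univ, Fintype.card_fin]; omega
  obtain ⟨a, ha, has⟩ := Finset.exists_mem_notMem_of_card_lt_card hc
  obtain ⟨i, -, rfl⟩ := Finset.mem_image.mp ha
  exact ⟨_, by simp, has⟩

theorem pres_conj_low {g l : Perm (Fin n)} (hg : Pres g) (hl : FixLow l) :
    FixLow (g * l * g⁻¹) := by
  intro x hx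
  have := hg.inv x hx
  simp only [Perm.mul_apply]
  rw [hl _ this, app_inv]

theorem pres_conj_high {g c : Perm (Fin n)} (hg : Pres g) (hc : FixHigh c) :
    FixHigh (g * c * g⁻¹) := by
  intro x hx
  have := hg.inv.high x hx
  simp only [Perm.mul_apply]
  rw [hc _ this, app_inv]

/-- The subgroup of the statement. -/
def Lsub (n : ℕ) (h4 : 4 ≤ n) : Subgroup ↥(alternatingGroup (Fin n)) :=
  ⨅ i : Fin 4, MulAction.stabilizer ↥(alternatingGroup (Fin n)) (Fin.castLE h4 i : Fin n)

theorem mem_Lsub (h4 : 4 ≤ n) (g : ↥(alternatingGroup (Fin n))) :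
    g ∈ Lsub n h4 ↔ FixLow (g : Perm (Fin n)) := by
  unfold Lsub FixLow
  rw [Subgroup.mem_iInf]
  constructor
  · intro h x hx
    have h1 := h ⟨x.val, hx⟩
    rw [MulAction.mem_stabilizer_iff] at h1
    have e : Fin.castLE h4 ⟨x.val, hx⟩ = x := Fin.ext rfl
    rw [e] at h1
    exact h1
  · intro h i
    rw [MulAction.mem_stabilizer_iff]
    exact h _ (by simp)

theorem mem_centralizer_Lsub (h4 : 4 ≤ n) (hn : 9 ≤ n) (g : ↥(alternatingGroup (Fin n))) :
    g ∈ Subgroup.centralizer (Lsub n h4 : Set ↥(alternatingGroup (Fin n))) ↔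
      FixHigh (g : Perm (Fin n)) := by
  constructor
  · intro hg x hx
    by_contra hne
    obtain ⟨a, ha4, ha⟩ := fresh hn {x, (g : Perm (Fin n)) x}
      (le_trans (Finset.card_insert_le _ _) (by simp))
    obtain ⟨b, hb4, hb⟩ := fresh hn {x, (g : Perm (Fin n)) x, a}
      (le_trans (Finset.card_insert_le _ _)
        (by have := Finset.card_insert_le ((g : Perm (Fin n)) x) ({a} : Finset (Fin n)); simp at this ⊢; omega))
    simp only [Finset.mem_insert, Finset.mem_singleton, not_or] at ha hb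
    have hxa : x ≠ a := fun h => ha.1 h.symm
    have hxb : x ≠ b := fun h => hb.1 h.symm
    have hab : a ≠ b := fun h => hb.2.2 h.symm
    have hya : (g : Perm (Fin n)) x ≠ a := fun h => ha.2 h.symm
    have hyb : (g : Perm (Fin n)) x ≠ b := fun h => hb.2.1 h.symm
    have hcL : (⟨three x a b, three_mem hxa hxb⟩ : ↥(alternatingGroup (Fin n))) ∈ Lsub n h4 :=
      (mem_Lsub h4 _).mpr (three_fixLow hx ha4 hb4)
    have hcomm := Subgroup.mem_centralizer_iff.mp hg _ hcL
    have h1 := congrArg (fun k : ↥(alternatingGroup (Fin n)) => (k : Perm (Fin n)) x) hcomm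
    simp only [Subgroup.coe_mul, Perm.mul_apply] at h1
    rw [three_fix hne hya hyb, three_a hxb hab] at h1
    exact hxb ((g : Perm (Fin n)).injective h1)
  · intro hg
    rw [Subgroup.mem_centralizer_iff]
    intro l hl
    rw [SetLike.mem_coe, mem_Lsub] at hl
    apply Subtype.ext
    apply Equiv.ext
    intro x
    simp only [Subgroup.coe_mul, Perm.mul_apply]
    by_cases hx : x.val < 4
    · have h2 : ((g : Perm (Fin n)) x).val < 4 := hg.pres x hx
      rw [hl x hx, hl _ h2]
    · have hx' : 4 ≤ x.val := by omega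
      have h2 : 4 ≤ ((l : Perm (Fin n)) x).val := hl.high x hx'
      rw [hg x hx', hg _ h2]

theorem mem_normalizer_Lsub (h4 : 4 ≤ n) (hn : 9 ≤ n) (g : ↥(alternatingGroup (Fin n))) :
    g ∈ Subgroup.normalizer (Lsub n h4 : Set ↥(alternatingGroup (Fin n))) ↔
      Pres (g : Perm (Fin n)) := by
  constructor
  · intro hg x hx
    by_contra hlt
    have hy4 : 4 ≤ ((g : Perm (Fin n)) x).val := by omega
    obtain ⟨a, ha4, ha⟩ := fresh hn {(g : Perm (Fin n)) x} (by simp)
    obtain ⟨b, hb4, hb⟩ := fresh hn {(g : Perm (Fin n)) x, a}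
      (le_trans (Finset.card_insert_le _ _) (by simp))
    simp only [Finset.mem_insert, Finset.mem_singleton, not_or] at ha hb
    have hya : (g : Perm (Fin n)) x ≠ a := fun h => ha h.symm
    have hyb : (g : Perm (Fin n)) x ≠ b := fun h => hb.1 h.symm
    have hab : a ≠ b := fun h => hb.2 h.symm
    have hlL : (⟨three ((g : Perm (Fin n)) x) a b, three_mem hya hyb⟩ :
        ↥(alternatingGroup (Fin n))) ∈ Lsub n h4 :=
      (mem_Lsub h4 _).mpr (three_fixLow hy4 ha4 hb4)
    have hginv := Subgroup.inv_mem _ hg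
    have h1 := (Subgroup.mem_normalizer_iff.mp hginv _).mp hlL
    have h2 := (mem_Lsub h4 _).mp h1 x hx
    simp only [Subgroup.coe_mul, Subgroup.coe_inv, inv_inv, Perm.mul_apply] at h2
    rw [three_a hyb hab, Perm.inv_eq_iff_eq] at h2
    exact hyb h2.symm
  · intro hg
    rw [Subgroup.mem_normalizer_iff]
    intro h
    constructor
    · intro hh
      rw [mem_Lsub] at hh ⊢
      simpa only [Subgroup.coe_mul, Subgroup.coe_inv] using pres_conj_low hg hh
    · intro hh
      rw [mem_Lsub] at hh ⊢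
      have := pres_conj_low hg.inv hh
      simp only [Subgroup.coe_mul, Subgroup.coe_inv, inv_inv] at this
      have e : (g : Perm (Fin n))⁻¹ * ((g : Perm (Fin n)) * (h : Perm (Fin n)) * (g : Perm (Fin n))⁻¹) *
          (g : Perm (Fin n)) = (h : Perm (Fin n)) := by group
      rwa [e] at this

theorem mem_normalizer_centralizer_Lsub (h4 : 4 ≤ n) (hn : 9 ≤ n)
    (g : ↥(alternatingGroup (Fin n))) :
    g ∈ Subgroup.normalizer ((Subgroup.centralizer
      (Lsub n h4 : Set ↥(alternatingGroup (Fin n))) : Subgroup _) : Set ↥(alternatingGroup (Fin n))) ↔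
      Pres (g : Perm (Fin n)) := by
  constructor
  · intro hg x hx
    by_contra hlt
    have hy4 : 4 ≤ ((g : Perm (Fin n)) x).val := by omega
    obtain ⟨a, ha4, ha⟩ := fresh_low h4 {x} (by simp)
    obtain ⟨b, hb4, hb⟩ := fresh_low h4 {x, a} (le_trans (Finset.card_insert_le _ _) (by simp))
    simp only [Finset.mem_insert, Finset.mem_singleton, not_or] at ha hb
    have hxa : x ≠ a := fun h => ha h.symm
    have hxb : x ≠ b := fun h => hb.1 h.symm
    have hab : a ≠ b := fun h => hb.2 h.symm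
    have hcC : (⟨three x a b, three_mem hxa hxb⟩ : ↥(alternatingGroup (Fin n))) ∈
        Subgroup.centralizer (Lsub n h4 : Set ↥(alternatingGroup (Fin n))) :=
      (mem_centralizer_Lsub h4 hn _).mpr (three_fixHigh hx ha4 hb4)
    have h1 := (Subgroup.mem_normalizer_iff.mp hg _).mp hcC
    have h2 := (mem_centralizer_Lsub h4 hn _).mp h1 _ hy4
    simp only [Subgroup.coe_mul, Subgroup.coe_inv, Perm.mul_apply, inv_app] at h2
    rw [three_a hxb hab] at h2
    exact hxb ((g : Perm (Fin n)).injective h2).symm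
  · intro hg
    rw [Subgroup.mem_normalizer_iff]
    intro h
    constructor
    · intro hh
      rw [mem_centralizer_Lsub h4 hn] at hh ⊢
      simpa only [Subgroup.coe_mul, Subgroup.coe_inv] using pres_conj_high hg hh
    · intro hh
      rw [mem_centralizer_Lsub h4 hn] at hh ⊢
      have := pres_conj_high hg.inv hh
      simp only [Subgroup.coe_mul, Subgroup.coe_inv, inv_inv] at this
      have e : (g : Perm (Fin n))⁻¹ * ((g : Perm (Fin n)) * (h : Perm (Fin n)) * (g : Perm (Fin n))⁻¹) *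
          (g : Perm (Fin n)) = (h : Perm (Fin n)) := by group
      rwa [e] at this

theorem qs_alt {β : Type*} [Fintype β] [DecidableEq β] (h : 5 ≤ Nat.card β) :
    Cfsg.IsQuasisimple ↥(alternatingGroup β) := by
  haveI := alternatingGroup.isSimpleGroup h
  have hc : Subgroup.center ↥(alternatingGroup β) = ⊥ := alternatingGroup.center_eq_bot (by omega)
  refine ⟨Group.isPerfect_def.mpr (commutator_alternatingGroup_eq_top h), ?_⟩
  exact ((QuotientGroup.quotientMulEquivOfEq hc).trans QuotientGroup.quotientBot).isSimpleGroup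

theorem card_high (hn : 9 ≤ n) : 5 ≤ Nat.card {x : Fin n // 4 ≤ x.val} := by
  rw [Nat.card_eq_fintype_card]
  have hf : Function.Injective
      (fun i : Fin 5 => (⟨⟨i.val + 4, by omega⟩, by simp⟩ : {x : Fin n // 4 ≤ x.val})) := by
    intro i j hij
    simp only [Subtype.mk.injEq, Fin.mk.injEq] at hij
    exact Fin.ext (by omega)
  simpa using Fintype.card_le_of_injective _ hf

def psiHom (h4 : 4 ≤ n) : ↥(alternatingGroup {x : Fin n // 4 ≤ x.val}) →* ↥(Lsub n h4) :=
  MonoidHom.codRestrict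
    (MonoidHom.codRestrict
      ((Equiv.Perm.ofSubtype : Perm {x : Fin n // 4 ≤ x.val} →* Perm (Fin n)).comp
        (alternatingGroup {x : Fin n // 4 ≤ x.val}).subtype)
      (alternatingGroup (Fin n)) (fun f => by
        rw [Equiv.Perm.mem_alternatingGroup]
        show Equiv.Perm.sign (Equiv.Perm.ofSubtype (f : Perm {x : Fin n // 4 ≤ x.val})) = 1
        rw [Equiv.Perm.sign_ofSubtype]
        exact Equiv.Perm.mem_alternatingGroup.mp f.2))
    (Lsub n h4) (fun f => by
      rw [mem_Lsub]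
      intro x hx
      show Equiv.Perm.ofSubtype (f : Perm {x : Fin n // 4 ≤ x.val}) x = x
      exact Equiv.Perm.ofSubtype_apply_of_not_mem _ (by omega))

theorem psiHom_coe (h4 : 4 ≤ n) (f : ↥(alternatingGroup {x : Fin n // 4 ≤ x.val})) :
    (((psiHom h4 f : ↥(Lsub n h4)) : ↥(alternatingGroup (Fin n))) : Perm (Fin n)) =
      Equiv.Perm.ofSubtype (f : Perm {x : Fin n // 4 ≤ x.val}) := rfl

theorem psiHom_bijective (h4 : 4 ≤ n) : Function.Bijective (psiHom (n := n) h4) := by
  constructor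
  · intro f f' h
    have h1 := congrArg
      (fun l : ↥(Lsub n h4) => ((l : ↥(alternatingGroup (Fin n))) : Perm (Fin n))) h
    simp only [psiHom_coe] at h1
    exact Subtype.ext (Equiv.Perm.ofSubtype_injective h1)
  · intro l
    have hl : FixLow ((l : ↥(alternatingGroup (Fin n))) : Perm (Fin n)) := (mem_Lsub h4 _).mp l.2
    have h₁ : ∀ x : Fin n,
        4 ≤ ((((l : ↥(alternatingGroup (Fin n))) : Perm (Fin n))) x).val ↔ 4 ≤ x.val := by
      intro x
      constructor
      · intro h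
        by_contra hx
        rw [hl x (by omega)] at h
        exact hx h
      · exact hl.high x
    have h₂ : ∀ x : Fin n,
        (((l : ↥(alternatingGroup (Fin n))) : Perm (Fin n))) x ≠ x → 4 ≤ x.val := by
      intro x hx
      by_contra h
      exact hx (hl x (by omega))
    have hs : Equiv.Perm.subtypePerm _ h₁ ∈ alternatingGroup {x : Fin n // 4 ≤ x.val} := by
      rw [Equiv.Perm.mem_alternatingGroup, Equiv.Perm.sign_subtypePerm _ h₁ h₂]
      exact Equiv.Perm.mem_alternatingGroup.mp (l : ↥(alternatingGroup (Fin n))).2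
    refine ⟨⟨_, hs⟩, ?_⟩
    apply Subtype.ext
    apply Subtype.ext
    rw [psiHom_coe]
    exact Equiv.Perm.ofSubtype_subtypePerm h₁ h₂

theorem qs_Lsub (h4 : 4 ≤ n) (hn : 9 ≤ n) : Cfsg.IsQuasisimple ↥(Lsub n h4) :=
  Cfsg.Agent.S1754.isQuasisimple_of_mulEquiv
    (MulEquiv.ofBijective (psiHom h4) (psiHom_bijective h4)) (qs_alt (card_high hn))

theorem even_card_C (h4 : 4 ≤ n) (hn : 9 ≤ n) :
    Even (Nat.card ↥(Subgroup.centralizer (Lsub n h4 : Set ↥(alternatingGroup (Fin n))))) := by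
  haveI : Fact (Nat.Prime 2) := ⟨Nat.prime_two⟩
  have h01 : (⟨0, by omega⟩ : Fin n) ≠ ⟨1, by omega⟩ := by simp
  have h23 : (⟨2, by omega⟩ : Fin n) ≠ ⟨3, by omega⟩ := by simp
  obtain ⟨t, ht⟩ : ∃ t : Perm (Fin n), t = swap (⟨0, by omega⟩ : Fin n) ⟨1, by omega⟩ *
      swap (⟨2, by omega⟩ : Fin n) ⟨3, by omega⟩ := ⟨_, rfl⟩
  have htA : t ∈ alternatingGroup (Fin n) := by
    rw [Equiv.Perm.mem_alternatingGroup, ht, map_mul, sign_swap h01, sign_swap h23]; rfl
  have hfix : FixHigh t := by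
    intro x hx
    have e0 : x ≠ (⟨0, by omega⟩ : Fin n) := by intro h; rw [h] at hx; simp at hx
    have e1 : x ≠ (⟨1, by omega⟩ : Fin n) := by intro h; rw [h] at hx; simp at hx
    have e2 : x ≠ (⟨2, by omega⟩ : Fin n) := by intro h; rw [h] at hx; simp at hx
    have e3 : x ≠ (⟨3, by omega⟩ : Fin n) := by intro h; rw [h] at hx; simp at hx
    rw [ht, Perm.mul_apply, swap_apply_of_ne_of_ne e2 e3, swap_apply_of_ne_of_ne e0 e1]
  have ht0 : t ⟨0, by omega⟩ = ⟨1, by omega⟩ := by
    have e2 : (⟨0, by omega⟩ : Fin n) ≠ ⟨2, by omega⟩ := by simp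
    have e3 : (⟨0, by omega⟩ : Fin n) ≠ ⟨3, by omega⟩ := by simp
    rw [ht, Perm.mul_apply, swap_apply_of_ne_of_ne e2 e3, swap_apply_left]
  have hsq : t * t = 1 := by
    have hd : Equiv.Perm.Disjoint (swap (⟨0, by omega⟩ : Fin n) ⟨1, by omega⟩)
        (swap (⟨2, by omega⟩ : Fin n) ⟨3, by omega⟩) := by
      intro x
      by_cases hx : x.val < 2
      · right
        have e2 : x ≠ (⟨2, by omega⟩ : Fin n) := by intro h; rw [h] at hx; simp at hx
        have e3 : x ≠ (⟨3, by omega⟩ : Fin n) := by intro h; rw [h] at hx; simp at hx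
        exact swap_apply_of_ne_of_ne e2 e3
      · left
        have e0 : x ≠ (⟨0, by omega⟩ : Fin n) := by intro h; rw [h] at hx; simp at hx
        have e1 : x ≠ (⟨1, by omega⟩ : Fin n) := by intro h; rw [h] at hx; simp at hx
        exact swap_apply_of_ne_of_ne e0 e1
    have hc := hd.commute.eq
    rw [ht]
    calc swap (⟨0, by omega⟩ : Fin n) ⟨1, by omega⟩ * swap (⟨2, by omega⟩ : Fin n) ⟨3, by omega⟩ *
          (swap (⟨0, by omega⟩ : Fin n) ⟨1, by omega⟩ * swap (⟨2, by omega⟩ : Fin n) ⟨3, by omega⟩)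
        = swap (⟨0, by omega⟩ : Fin n) ⟨1, by omega⟩ * swap (⟨2, by omega⟩ : Fin n) ⟨3, by omega⟩ *
          (swap (⟨2, by omega⟩ : Fin n) ⟨3, by omega⟩ * swap (⟨0, by omega⟩ : Fin n) ⟨1, by omega⟩) := by
          rw [hc]
      _ = swap (⟨0, by omega⟩ : Fin n) ⟨1, by omega⟩ *
          (swap (⟨2, by omega⟩ : Fin n) ⟨3, by omega⟩ * swap (⟨2, by omega⟩ : Fin n) ⟨3, by omega⟩) *
          swap (⟨0, by omega⟩ : Fin n) ⟨1, by omega⟩ := by simp only [mul_assoc]
      _ = 1 := by rw [swap_mul_self, mul_one, swap_mul_self]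
  have hmem : (⟨t, htA⟩ : ↥(alternatingGroup (Fin n))) ∈
      Subgroup.centralizer (Lsub n h4 : Set ↥(alternatingGroup (Fin n))) :=
    (mem_centralizer_Lsub h4 hn _).mpr hfix
  have hord : orderOf (⟨⟨t, htA⟩, hmem⟩ :
      ↥(Subgroup.centralizer (Lsub n h4 : Set ↥(alternatingGroup (Fin n))))) = 2 := by
    apply orderOf_eq_prime
    · apply Subtype.ext
      apply Subtype.ext
      rw [pow_two]
      exact hsq
    · intro h
      have h1 : t = 1 := congrArg (fun z :
        ↥(Subgroup.centralizer (Lsub n h4 : Set ↥(alternatingGroup (Fin n)))) =>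
          ((z : ↥(alternatingGroup (Fin n))) : Perm (Fin n))) h
      rw [h1] at ht0
      simp at ht0
  have := orderOf_dvd_natCard (⟨⟨t, htA⟩, hmem⟩ :
      ↥(Subgroup.centralizer (Lsub n h4 : Set ↥(alternatingGroup (Fin n)))))
  rw [hord] at this
  exact even_iff_two_dvd.mpr this

theorem tight_C (h4 : 4 ≤ n) (hn : 9 ≤ n) (g : ↥(alternatingGroup (Fin n)))
    (hg : g ∉ Subgroup.normalizer ((Subgroup.centralizer
      (Lsub n h4 : Set ↥(alternatingGroup (Fin n))) : Subgroup _) : Set ↥(alternatingGroup (Fin n)))) :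
    Odd (Nat.card ↥(Subgroup.centralizer (Lsub n h4 : Set ↥(alternatingGroup (Fin n))) ⊓
      (Subgroup.centralizer (Lsub n h4 : Set ↥(alternatingGroup (Fin n)))).map
        (MulAut.conj g).toMonoidHom)) := by
  haveI : Fact (Nat.Prime 2) := ⟨Nat.prime_two⟩
  by_contra hodd
  rw [Nat.not_odd_iff_even, even_iff_two_dvd] at hodd
  obtain ⟨σ, hσ⟩ := exists_prime_orderOf_dvd_card' 2 hodd
  apply hg
  rw [mem_normalizer_centralizer_Lsub h4 hn]
  obtain ⟨s, hs⟩ : ∃ s : Perm (Fin n), s = ((σ : ↥(alternatingGroup (Fin n))) : Perm (Fin n)) :=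
    ⟨_, rfl⟩
  have hs2 : orderOf s = 2 := by
    rw [hs, Subgroup.orderOf_coe, Subgroup.orderOf_coe]; exact hσ
  have hmem := Subgroup.mem_inf.mp σ.2
  have hsC : FixHigh s := by rw [hs]; exact (mem_centralizer_Lsub h4 hn _).mp hmem.1
  obtain ⟨c, hcC, hcσ⟩ := Subgroup.mem_map.mp hmem.2
  have hcC' : FixHigh (c : Perm (Fin n)) := (mem_centralizer_Lsub h4 hn _).mp hcC
  have hsc : s = (g : Perm (Fin n)) * (c : Perm (Fin n)) * (g : Perm (Fin n))⁻¹ := by
    rw [hs, ← hcσ]; rfl
  have hsign : Equiv.Perm.sign s = 1 := by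
    rw [hs]; exact Equiv.Perm.mem_alternatingGroup.mp (σ : ↥(alternatingGroup (Fin n))).2
  obtain ⟨k, hk⟩ := Equiv.Perm.cycleType_prime_order (σ := s) (by rw [hs2]; exact Nat.prime_two)
  rw [hs2] at hk
  have hsum : s.cycleType.sum = 2 * (k + 1) := by
    rw [hk, Multiset.sum_replicate, smul_eq_mul]; ring
  have hcard : Multiset.card s.cycleType = k + 1 := by rw [hk]; simp
  have hev : Even (s.cycleType.sum + Multiset.card s.cycleType) := by
    have := Equiv.Perm.sign_of_cycleType s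
    rw [hsign] at this
    exact (neg_one_pow_eq_one_iff_even (by decide)).mp this.symm
  have hk1 : 1 ≤ k := by
    rw [hsum, hcard] at hev
    rcases hev with ⟨m, hm⟩
    omega
  have hsupp : s.support = low n := by
    apply Finset.eq_of_subset_of_card_le
    · intro x hx
      rw [Equiv.Perm.mem_support] at hx
      rw [mem_low]
      by_contra h
      exact hx (hsC x (by omega))
    · rw [← Equiv.Perm.sum_cycleType, hsum]
      have := card_low_le (n := n)
      omega
  have hpinv : Pres (g : Perm (Fin n))⁻¹ := by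
    intro x hx
    have hx' : x ∈ s.support := by rw [hsupp]; exact mem_low.mpr hx
    rw [Equiv.Perm.mem_support, hsc] at hx'
    by_contra h
    apply hx'
    simp only [Perm.mul_apply]
    rw [hcC' _ (by omega), app_inv]
  have := hpinv.inv
  rwa [inv_inv] at this

theorem comm_ne_bot (h4 : 4 ≤ n) (hn : 9 ≤ n) (g : ↥(alternatingGroup (Fin n)))
    (hg : (Lsub n h4).map (MulAut.conj g).toMonoidHom ≠ Lsub n h4) :
    ⁅Lsub n h4, (Lsub n h4).map (MulAut.conj g).toMonoidHom⁆ ≠ ⊥ := by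
  have hnp : ¬ Pres (g : Perm (Fin n)) := by
    intro hp
    apply hg
    have hgN := (mem_normalizer_Lsub h4 hn g).mpr hp
    ext h
    rw [Subgroup.mem_map]
    constructor
    · rintro ⟨l, hl, rfl⟩
      exact (Subgroup.mem_normalizer_iff.mp hgN l).mp hl
    · intro hh
      have hginv := Subgroup.inv_mem _ hgN
      refine ⟨g⁻¹ * h * g⁻¹⁻¹, (Subgroup.mem_normalizer_iff.mp hginv h).mp hh, ?_⟩
      show g * (g⁻¹ * h * g⁻¹⁻¹) * g⁻¹ = h
      group
  have hnpi : ¬ Pres (g : Perm (Fin n))⁻¹ := fun h => hnp (by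
    have := h.inv
    rwa [inv_inv] at this)
  obtain ⟨γ, hγ⟩ : ∃ γ : Perm (Fin n), γ = (g : Perm (Fin n)) := ⟨_, rfl⟩
  rw [← hγ] at hnp hnpi
  obtain ⟨x₀, hx₀, hy⟩ : ∃ x₀ : Fin n, x₀.val < 4 ∧ 4 ≤ (γ x₀).val := by
    unfold Pres at hnp
    push Not at hnp
    obtain ⟨x, hx, h⟩ := hnp
    exact ⟨x, hx, h⟩
  obtain ⟨z, hz, hz'⟩ : ∃ z : Fin n, z.val < 4 ∧ 4 ≤ (γ⁻¹ z).val := by
    unfold Pres at hnpi
    push Not at hnpi
    obtain ⟨x, hx, h⟩ := hnpi
    exact ⟨x, hx, h⟩
  obtain ⟨y, hydef⟩ : ∃ y, y = γ x₀ := ⟨_, rfl⟩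
  obtain ⟨z', hz'def⟩ : ∃ z', z' = γ⁻¹ z := ⟨_, rfl⟩
  rw [← hydef] at hy
  rw [← hz'def] at hz'
  obtain ⟨u', hu'4, hu'⟩ := fresh hn ((low n).image (fun v => γ⁻¹ v))
    (le_trans Finset.card_image_le card_low_le)
  have hx4 : 4 ≤ (γ u').val := by
    by_contra h
    apply hu'
    rw [Finset.mem_image]
    exact ⟨γ u', mem_low.mpr (by omega), inv_app γ u'⟩
  have hu'z' : u' ≠ z' := by
    intro h
    apply hu'
    rw [Finset.mem_image]
    exact ⟨z, mem_low.mpr hz, by rw [h, hz'def]⟩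
  obtain ⟨w', hw'4, hw'⟩ := fresh hn {z', u'} (le_trans (Finset.card_insert_le _ _) (by simp))
  obtain ⟨w, hw4, hw⟩ := fresh hn {y, γ u'} (le_trans (Finset.card_insert_le _ _) (by simp))
  simp only [Finset.mem_insert, Finset.mem_singleton, not_or] at hw' hw
  have hyx : y ≠ γ u' := by
    intro h
    rw [hydef] at h
    have : x₀ = u' := γ.injective h
    rw [this] at hx₀; omega
  have hyw : y ≠ w := fun h => hw.1 h.symm
  have hxw : γ u' ≠ w := fun h => hw.2 h.symm
  have hz'u' : z' ≠ u' := fun h => hu'z' h.symm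
  have hz'w' : z' ≠ w' := fun h => hw'.1 h.symm
  have hu'w' : u' ≠ w' := fun h => hw'.2 h.symm
  have haL : (⟨three y (γ u') w, three_mem hyx hyw⟩ : ↥(alternatingGroup (Fin n))) ∈ Lsub n h4 :=
    (mem_Lsub h4 _).mpr (three_fixLow hy hx4 hw4)
  have hbL : (⟨three z' u' w', three_mem hz'u' hz'w'⟩ : ↥(alternatingGroup (Fin n))) ∈
      Lsub n h4 :=
    (mem_Lsub h4 _).mpr (three_fixLow hz' hu'4 hw'4)
  intro hbot
  have hcomm : ⁅(⟨three y (γ u') w, three_mem hyx hyw⟩ : ↥(alternatingGroup (Fin n))),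
      (MulAut.conj g).toMonoidHom ⟨three z' u' w', three_mem hz'u' hz'w'⟩⁆ ∈
      ⁅Lsub n h4, (Lsub n h4).map (MulAut.conj g).toMonoidHom⁆ :=
    Subgroup.commutator_mem_commutator haL (Subgroup.mem_map_of_mem _ hbL)
  rw [hbot, Subgroup.mem_bot, commutatorElement_eq_one_iff_mul_comm] at hcomm
  have hb : ∀ v : Fin n, (((MulAut.conj g).toMonoidHom
      ⟨three z' u' w', three_mem hz'u' hz'w'⟩ : ↥(alternatingGroup (Fin n))) : Perm (Fin n)) v =
      γ (three z' u' w' (γ⁻¹ v)) := by
    intro v; rw [hγ]; rfl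
  have h1 := congrArg (fun k : ↥(alternatingGroup (Fin n)) => (k : Perm (Fin n)) (γ u')) hcomm
  simp only [Subgroup.coe_mul, Perm.mul_apply, hb] at h1
  have e1 : three z' u' w' (γ⁻¹ (γ u')) = z' := by rw [inv_app, three_b hz'u' hu'w']
  have e2 : γ z' = z := by rw [hz'def, app_inv]
  have e3 : three y (γ u') w z = z := by
    apply three_fix
    · intro h; rw [h] at hz; omega
    · intro h; rw [h] at hz; omega
    · intro h; rw [h] at hz; omega
  have e4 : three y (γ u') w (γ u') = y := three_b hyx hxw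
  have e5 : three z' u' w' (γ⁻¹ y) = γ⁻¹ y := by
    rw [hydef, inv_app]
    apply three_fix
    · intro h; rw [h] at hx₀; omega
    · intro h; rw [h] at hx₀; omega
    · intro h; rw [h] at hx₀; omega
  have e6 : γ (γ⁻¹ y) = y := app_inv γ y
  rw [e1, e2, e3, e4, e5, e6] at h1
  rw [h1] at hz
  omega

/-- For n ≥ 9, the subgroup of the alternating group on Fin n fixing each of the points 0, 1, 2, 3 is a standard subgroup. -/
theorem result (n : ℕ) (h4 : 4 ≤ n) (hn : 9 ≤ n) : Cfsg.IsStandardSubgroup (⨅ i : Fin 4, MulAction.stabilizer ↥(alternatingGroup (Fin n)) (Fin.castLE h4 i : Fin n)) := by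
  show Cfsg.IsStandardSubgroup (Lsub n h4)
  refine ⟨qs_Lsub h4 hn, ⟨even_card_C h4 hn, fun g hg => tight_C h4 hn g hg⟩,
    fun g hg => comm_ne_bot h4 hn g hg, ?_⟩
  ext g
  rw [mem_normalizer_Lsub h4 hn, mem_normalizer_centralizer_Lsub h4 hn]

end Cfsg.Agent.S1323
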