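import Cfsg.Statements.S1339
-- import your own Cfsg.Agent.* helpers here
import Cfsg.Agent.Helper17.LocChar

set_option autoImplicit false
open Cfsg

namespace Cfsg.Agent.S1339

open scoped Matrix

variable {F : Type*} [Field F] {n : ℕ}

/-- Action of `SL` on column vectors. -/
def mv (g : Matrix.SpecialLinearGroup (Fin n) F) (y : Fin n → F) : Fin n → F :=
  (g : Matrix (Fin n) (Fin n) F) *ᵥ y

theorem mv_mul (g h : Matrix.SpecialLinearGroup (Fin n) F) (y : Fin n → F) :
    mv (g * h) y = mv g (mv h y) := by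
  unfold mv; rw [Matrix.SpecialLinearGroup.coe_mul, Matrix.mulVec_mulVec]

theorem mv_one (y : Fin n → F) : mv (1 : Matrix.SpecialLinearGroup (Fin n) F) y = y := by
  unfold mv; rw [Matrix.SpecialLinearGroup.coe_one, Matrix.one_mulVec]

theorem mv_inv_l (g : Matrix.SpecialLinearGroup (Fin n) F) (y : Fin n → F) :
    mv g⁻¹ (mv g y) = y := by rw [← mv_mul, inv_mul_cancel, mv_one]

theorem mv_inv_r (g : Matrix.SpecialLinearGroup (Fin n) F) (y : Fin n → F) :
    mv g (mv g⁻¹ y) = y := by rw [← mv_mul, mul_inv_cancel, mv_one]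

theorem mv_add (g : Matrix.SpecialLinearGroup (Fin n) F) (y z : Fin n → F) :
    mv g (y + z) = mv g y + mv g z := by unfold mv; rw [Matrix.mulVec_add]

theorem mv_smul (g : Matrix.SpecialLinearGroup (Fin n) F) (a : F) (y : Fin n → F) :
    mv g (a • y) = a • mv g y := by unfold mv; rw [Matrix.mulVec_smul]

theorem mv_ext {g h : Matrix.SpecialLinearGroup (Fin n) F} (H : ∀ y, mv g y = mv h y) :
    g = h := by
  apply Subtype.ext
  apply Matrix.toLin'.injective
  apply LinearMap.ext
  intro x
  rw [Matrix.toLin'_apply, Matrix.toLin'_apply]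
  exact H x

theorem transv_mv (i k : Fin n) (y : Fin n → F) :
    Matrix.transvection i k (1 : F) *ᵥ y = y + y k • (Pi.single i (1 : F) : Fin n → F) := by
  rw [Matrix.transvection, Matrix.add_mulVec, Matrix.one_mulVec]
  congr 1
  ext l
  simp only [Matrix.mulVec, dotProduct, Matrix.single_apply, Pi.smul_apply, smul_eq_mul,
    Pi.single_apply]
  by_cases hl : l = i
  · subst hl
    simp
  · have : ¬ (i = l) := fun h => hl h.symm
    simp [hl, this]

/-- The group of transvections with centre `e_i`. -/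
def PT (F : Type*) [Field F] {n : ℕ} (i : Fin n) : Subgroup (Matrix.SpecialLinearGroup (Fin n) F) where
  carrier := {g | mv g (Pi.single i 1) = Pi.single i 1 ∧ ∀ y k, k ≠ i → mv g y k = y k}
  one_mem' := ⟨mv_one _, fun y k _ => by rw [mv_one]⟩
  mul_mem' := by
    rintro a b ⟨ha1, ha2⟩ ⟨hb1, hb2⟩
    exact ⟨by rw [mv_mul, hb1, ha1], fun y k hk => by rw [mv_mul, ha2 _ k hk, hb2 y k hk]⟩
  inv_mem' := by
    rintro a ⟨ha1, ha2⟩
    refine ⟨?_, fun y k hk => ?_⟩
    · calc mv a⁻¹ (Pi.single i 1) = mv a⁻¹ (mv a (Pi.single i 1)) := by rw [ha1]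
        _ = Pi.single i 1 := mv_inv_l _ _
    · have := ha2 (mv a⁻¹ y) k hk
      rw [mv_inv_r] at this
      exact this.symm

theorem mem_PT {i : Fin n} {g : Matrix.SpecialLinearGroup (Fin n) F} :
    g ∈ PT F i ↔ mv g (Pi.single i 1) = Pi.single i 1 ∧ ∀ y k, k ≠ i → mv g y k = y k :=
  Iff.rfl

theorem PT_form {i : Fin n} {g : Matrix.SpecialLinearGroup (Fin n) F} (hg : g ∈ PT F i)
    (y : Fin n → F) : mv g y = y + (mv g y i - y i) • (Pi.single i (1 : F) : Fin n → F) := by
  ext k
  by_cases hk : k = i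
  · subst hk
    simp
  · rw [hg.2 y k hk]
    simp [hk]

theorem PT_sq {i : Fin n} (h2 : (2 : F) = 0) {g : Matrix.SpecialLinearGroup (Fin n) F}
    (hg : g ∈ PT F i) : g ^ 2 = 1 := by
  apply mv_ext
  intro y
  rw [pow_two, mv_mul, mv_one]
  obtain ⟨a, ha⟩ : ∃ a, a = mv g y i - y i := ⟨_, rfl⟩
  have h1 : mv g y = y + a • (Pi.single i (1 : F) : Fin n → F) := by rw [ha]; exact PT_form hg y
  rw [h1, mv_add, mv_smul, hg.1, h1, add_assoc, ← add_smul]
  have : a + a = 0 := by
    have : a + a = 2 * a := by ring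
    rw [this, h2, zero_mul]
  rw [this, zero_smul, add_zero]

/-- Let F be a field with 2 elements, n ≥ 3, and t ∈ SL(n, F) a transvection (t = 1 + E_{ij}, i ≠ j). Then the generalized Fitting subgroup of C(t) is O_2(C(t)). -/
theorem result {F : Type*} [Field F] [Fintype F] [DecidableEq F] (hF : Fintype.card F = 2) (n : ℕ) (hn : 3 ≤ n) (i j : Fin n) (hij : i ≠ j) (t : Matrix.SpecialLinearGroup (Fin n) F) (ht : (t : Matrix (Fin n) (Fin n) F) = Matrix.transvection i j 1) : Cfsg.generalizedFittingSubgroup ↥(Subgroup.centralizer ({t} : Set (Matrix.SpecialLinearGroup (Fin n) F))) = Cfsg.pCore 2 ↥(Subgroup.centralizer ({t} : Set (Matrix.SpecialLinearGroup (Fin n) F))) := by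
  classical
  haveI : Fact (Nat.Prime 2) := ⟨Nat.prime_two⟩
  have h01 : ∀ a : F, a ≠ 0 → a = 1 := by
    intro a ha
    have := FiniteField.pow_card_sub_one_eq_one a ha
    rw [hF] at this
    simpa using this
  have h2 : (2 : F) = 0 := by
    have := FiniteField.cast_card_eq_zero F
    rw [hF] at this
    exact_mod_cast this
  have he_i : (Pi.single i (1 : F) : Fin n → F) i = 1 := by simp
  have ht' : ∀ y, mv t y = y + y j • (Pi.single i (1 : F) : Fin n → F) := by
    intro y
    unfold mv
    rw [ht, transv_mv]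
  -- Fact A: the centralizer fixes e_i
  have hA : ∀ c ∈ Subgroup.centralizer ({t} : Set (Matrix.SpecialLinearGroup (Fin n) F)),
      mv c (Pi.single i 1) = Pi.single i 1 := by
    intro c hc
    have hcomm : c * t = t * c :=
      (Subgroup.mem_centralizer_iff.mp hc t (Set.mem_singleton t)).symm
    have h1 := congrArg (fun g => mv g (Pi.single j 1)) hcomm
    simp only [mv_mul, ht', mv_add, mv_smul] at h1
    have h3 : mv c (Pi.single i 1) = (mv c (Pi.single j 1) j) • (Pi.single i (1 : F) : Fin n → F) := by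
      have h4 : (Pi.single j (1 : F) : Fin n → F) j = 1 := by simp
      rw [h4, one_smul] at h1
      exact add_left_cancel h1
    have h5 : mv c (Pi.single j 1) j ≠ 0 := by
      intro h0
      rw [h0, zero_smul] at h3
      have h6 : mv c⁻¹ (mv c (Pi.single i 1)) = (Pi.single i (1 : F) : Fin n → F) := mv_inv_l _ _
      rw [h3] at h6
      have h7 : mv c⁻¹ (0 : Fin n → F) = 0 := by unfold mv; rw [Matrix.mulVec_zero]
      rw [h7] at h6
      have := congrFun h6 i
      rw [he_i] at this
      simp at this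
    rw [h3, h01 _ h5, one_smul]
  have hP : IsPGroup 2 (PT F i) := by
    intro g
    refine ⟨1, ?_⟩
    apply Subtype.ext
    rw [pow_one]
    simpa using PT_sq h2 g.2
  have hconj : ∀ c ∈ Subgroup.centralizer ({t} : Set (Matrix.SpecialLinearGroup (Fin n) F)),
      ∀ g ∈ PT F i, c * g * c⁻¹ ∈ PT F i := by
    intro c hc g hg
    have hci : mv c⁻¹ (Pi.single i 1) = (Pi.single i (1 : F) : Fin n → F) := by
      calc mv c⁻¹ (Pi.single i 1) = mv c⁻¹ (mv c (Pi.single i 1)) := by rw [hA c hc]
        _ = Pi.single i 1 := mv_inv_l _ _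
    refine ⟨?_, fun y k hk => ?_⟩
    · rw [mv_mul, mv_mul, hci, hg.1, hA c hc]
    · rw [mv_mul, mv_mul, PT_form hg (mv c⁻¹ y), mv_add, mv_smul, hA c hc, mv_inv_r]
      simp [hk]
  have hLP : Subgroup.centralizer ({t} : Set (Matrix.SpecialLinearGroup (Fin n) F)) ≤
      Subgroup.normalizer ((PT F i : Subgroup (Matrix.SpecialLinearGroup (Fin n) F)) : Set _) := by
    intro c hc
    rw [Subgroup.mem_normalizer_iff]
    intro g
    constructor
    · exact hconj c hc g
    · intro hg
      have := hconj c⁻¹ (Subgroup.inv_mem _ hc) _ hg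
      have e : c⁻¹ * (c * g * c⁻¹) * c⁻¹⁻¹ = g := by group
      rwa [e] at this
  have hPle : PT F i ≤ Subgroup.centralizer ({t} : Set (Matrix.SpecialLinearGroup (Fin n) F)) := by
    intro g hg
    rw [Subgroup.mem_centralizer_iff]
    intro u hu
    rw [Set.mem_singleton_iff] at hu
    subst hu
    apply mv_ext
    intro y
    have hji : j ≠ i := fun h => hij h.symm
    rw [mv_mul, mv_mul, ht', ht', mv_add, mv_smul, hg.1, hg.2 y j hji]
  have hPL : PT F i ≤ Subgroup.normalizer
      ((Subgroup.centralizer ({t} : Set (Matrix.SpecialLinearGroup (Fin n) F)) : Subgroup _) : Set _) :=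
    hPle.trans Subgroup.le_normalizer
  have hc : ∀ x ∈ Subgroup.centralizer ({t} : Set (Matrix.SpecialLinearGroup (Fin n) F)),
      (orderOf x).Coprime 2 → (∀ u ∈ PT F i, x * u = u * x) → x = 1 := by
    intro x hx hcop hcomm
    have hxP : x ∈ PT F i := by
      refine ⟨hA x hx, fun y k hk => ?_⟩
      obtain ⟨S, hS⟩ : ∃ S : Matrix.SpecialLinearGroup (Fin n) F,
          (S : Matrix (Fin n) (Fin n) F) = Matrix.transvection i k 1 :=
        ⟨⟨Matrix.transvection i k 1, Matrix.det_transvection_of_ne i k (fun h => hk h.symm) 1⟩, rfl⟩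
      have hS' : ∀ z, mv S z = z + z k • (Pi.single i (1 : F) : Fin n → F) := by
        intro z
        unfold mv
        rw [hS, transv_mv]
      have hSP : S ∈ PT F i := by
        refine ⟨?_, fun z l hl => ?_⟩
        · rw [hS']
          simp [hk]
        · rw [hS']
          simp [hl]
      have h1 := congrArg (fun g => mv g y) (hcomm S hSP)
      simp only [mv_mul, hS', mv_add, mv_smul, hA x hx] at h1
      have h3 := congrFun (add_left_cancel h1) i
      simp only [Pi.smul_apply, he_i, smul_eq_mul, mul_one] at h3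
      exact h3.symm
    have h4 : orderOf x ∣ 2 := orderOf_dvd_of_pow_eq_one (PT_sq h2 hxP)
    have h5 : orderOf x = 1 := Nat.Coprime.eq_one_of_dvd hcop h4
    exact orderOf_eq_one_iff.mp h5
  exact (Cfsg.Agent.Helper17.CP_iff_gfitting _).mp
    (Cfsg.Agent.Helper18.CP_core (PT F i) _ hP hLP hPL hc)

end Cfsg.Agent.S1339
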