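import Cfsg.Statements.S1348
-- import your own Cfsg.Agent.* helpers here
import Cfsg.Agent.S1339
import Cfsg.Agent.S1754
import Cfsg.Agent.S0249

set_option autoImplicit false
open Cfsg

namespace Cfsg.Agent.S1348

open scoped Matrix
open Cfsg.Agent.S1339

variable {F : Type*} [Field F] {m : ℕ}

theorem idx2 (i : Fin (m + 1)) : i = Fin.last m ∨ ∃ k : Fin m, i = k.castSucc :=
  Fin.lastCases (Or.inl rfl) (fun k => Or.inr ⟨k, rfl⟩) i

theorem cs_ne {k l : Fin m} (h : k ≠ l) : k.castSucc ≠ l.castSucc :=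
  fun e => h (Fin.castSucc_injective _ e)

theorem mv_apply (g : (Matrix.SpecialLinearGroup (Fin (m + 1)) F)) (y : (Fin (m + 1) → F)) (i : Fin (m + 1)) :
    mv g y i = ∑ l : Fin m, g.1 i l.castSucc * y l.castSucc + g.1 i (Fin.last m) * y (Fin.last m) := by
  unfold mv
  rw [Matrix.mulVec, dotProduct, Fin.sum_univ_castSucc]

theorem mv_single (g : (Matrix.SpecialLinearGroup (Fin (m + 1)) F)) (j i : Fin (m + 1)) : mv g (Pi.single j 1) i = g.1 i j := by
  unfold mv
  rw [Matrix.mulVec_single_one]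
  rfl

theorem mv_zero (g : (Matrix.SpecialLinearGroup (Fin (m + 1)) F)) : mv g 0 = 0 := by
  unfold mv; rw [Matrix.mulVec_zero]

theorem mv_neg (g : (Matrix.SpecialLinearGroup (Fin (m + 1)) F)) (y : (Fin (m + 1) → F)) : mv g (-y) = -mv g y := by
  unfold mv; rw [Matrix.mulVec_neg]

theorem two_ne [Fintype F] (hF : Odd (Fintype.card F)) : (2 : F) ≠ 0 := by
  intro h
  haveI : Fact (Nat.Prime 2) := ⟨Nat.prime_two⟩
  have h1 : addOrderOf (1 : F) = 2 := by
    apply addOrderOf_eq_prime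
    · rw [nsmul_eq_mul, mul_one]; exact_mod_cast h
    · exact one_ne_zero
  have h3 : addOrderOf (1 : F) ∣ Fintype.card F := addOrderOf_dvd_card
  rw [h1] at h3
  exact (Nat.not_even_iff_odd.mpr hF) (even_iff_two_dvd.mpr h3)

/-- the diagonal matrix `diag(lam, …, lam, mu)`. -/
def dgm (lam mu : F) : Matrix (Fin (m + 1)) (Fin (m + 1)) F :=
  Matrix.diagonal (fun i => if i = Fin.last m then mu else lam)

theorem dgm_mv {x : (Matrix.SpecialLinearGroup (Fin (m + 1)) F)} {lam mu : F} (h : x.1 = dgm lam mu) (y : (Fin (m + 1) → F)) (i : Fin (m + 1)) :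
    mv x y i = (if i = (Fin.last m) then mu else lam) * y i := by
  unfold mv
  rw [show (x : Matrix (Fin (m + 1)) (Fin (m + 1)) F) = dgm lam mu from h, dgm,
    Matrix.mulVec_diagonal]

theorem dgm_det (lam mu : F) :
    (dgm lam mu : Matrix (Fin (m + 1)) (Fin (m + 1)) F).det = lam ^ m * mu := by
  rw [dgm, Matrix.det_diagonal, Fin.prod_univ_castSucc]
  simp [Fin.castSucc_ne_last]

theorem dgm_pow {x : (Matrix.SpecialLinearGroup (Fin (m + 1)) F)} {lam mu : F} (h : x.1 = dgm lam mu) : lam ^ m * mu = 1 := by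
  rw [← dgm_det, ← h]; exact x.2

theorem t_dgm {t : (Matrix.SpecialLinearGroup (Fin (m + 1)) F)} (ht : (t : Matrix (Fin (m + 1)) (Fin (m + 1)) F) = Matrix.diagonal (fun i : Fin (m + 1) => if (i : ℕ) + 1 = m + 1 then (1 : F) else -1)) :
    t.1 = dgm (-1) 1 := by
  rw [show t.1 = _ from ht, dgm]
  congr 1
  ext i
  have : ((i : ℕ) + 1 = m + 1) ↔ i = Fin.last m := by
    rw [Fin.ext_iff, Fin.val_last]; omega
  simp only [this]

theorem t_act {t : (Matrix.SpecialLinearGroup (Fin (m + 1)) F)} (ht : t.1 = dgm (-1) 1) (y : (Fin (m + 1) → F)) :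
    mv t y = -y + (2 * y (Fin.last m)) • (Pi.single (Fin.last m) (1 : F) : Fin (m + 1) → F) := by
  ext i
  rw [dgm_mv ht]
  rcases idx2 i with rfl | ⟨k, rfl⟩
  · rw [if_pos rfl]
    simp only [Pi.add_apply, Pi.neg_apply, Pi.smul_apply, Pi.single_eq_same, smul_eq_mul]
    ring
  · rw [if_neg (Fin.castSucc_ne_last k)]
    simp only [Pi.add_apply, Pi.neg_apply, Pi.smul_apply, smul_eq_mul, Pi.single_apply,
      if_neg (Fin.castSucc_ne_last k)]
    ring

theorem cent_fix {t : (Matrix.SpecialLinearGroup (Fin (m + 1)) F)} (h2 : (2 : F) ≠ 0) (hT : ∀ y : Fin (m + 1) → F, mv t y = -y + (2 * y (Fin.last m)) • (Pi.single (Fin.last m) (1 : F) : Fin (m + 1) → F)) {c : (Matrix.SpecialLinearGroup (Fin (m + 1)) F)} (hc : c ∈ (Subgroup.centralizer ({t} : Set (Matrix.SpecialLinearGroup (Fin (m + 1)) F)))) :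
    mv c (Pi.single (Fin.last m) (1 : F) : Fin (m + 1) → F) = c.1 (Fin.last m) (Fin.last m) • (Pi.single (Fin.last m) (1 : F) : Fin (m + 1) → F) ∧ ∀ y : (Fin (m + 1) → F), mv c y (Fin.last m) = c.1 (Fin.last m) (Fin.last m) * y (Fin.last m) := by
  have hcomm : c * t = t * c :=
    (Subgroup.mem_centralizer_iff.mp hc _ (Set.mem_singleton _)).symm
  have key : ∀ y : (Fin (m + 1) → F), y (Fin.last m) • mv c (Pi.single (Fin.last m) (1 : F) : Fin (m + 1) → F) = mv c y (Fin.last m) • (Pi.single (Fin.last m) (1 : F) : Fin (m + 1) → F) := by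
    intro y
    have h1 := congrArg (fun g => mv g y) hcomm
    simp only [mv_mul, hT, mv_add, mv_smul, mv_neg] at h1
    have h3 := add_left_cancel h1
    rw [mul_smul, mul_smul] at h3
    exact smul_right_injective _ h2 h3
  have h3 := key (Pi.single (Fin.last m) (1 : F) : Fin (m + 1) → F)
  rw [Pi.single_eq_same, one_smul, mv_single] at h3
  refine ⟨h3, fun y => ?_⟩
  have h7 := congrFun (key y) (Fin.last m)
  rw [h3] at h7
  simp only [Pi.smul_apply, Pi.single_eq_same, smul_eq_mul, mul_one] at h7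
  rw [← h7, mul_comm]

theorem mem_cent {t : (Matrix.SpecialLinearGroup (Fin (m + 1)) F)} (hT : ∀ y : Fin (m + 1) → F, mv t y = -y + (2 * y (Fin.last m)) • (Pi.single (Fin.last m) (1 : F) : Fin (m + 1) → F)) {c : (Matrix.SpecialLinearGroup (Fin (m + 1)) F)} {a : F} (h1 : mv c (Pi.single (Fin.last m) (1 : F) : Fin (m + 1) → F) = a • (Pi.single (Fin.last m) (1 : F) : Fin (m + 1) → F))
    (h2' : ∀ y : (Fin (m + 1) → F), mv c y (Fin.last m) = a * y (Fin.last m)) : c ∈ (Subgroup.centralizer ({t} : Set (Matrix.SpecialLinearGroup (Fin (m + 1)) F))) := by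
  rw [Subgroup.mem_centralizer_iff]
  intro u hu
  rw [Set.mem_singleton_iff] at hu
  subst hu
  apply mv_ext
  intro y
  rw [mv_mul, mv_mul, hT, hT, mv_add, mv_smul, mv_neg, h1, h2', smul_smul]
  have : 2 * (a * y (Fin.last m)) = 2 * y (Fin.last m) * a := by ring
  rw [this]

/-- the subgroup `SL_m(F)` acting on the first `m` coordinates. -/
def K0 (F : Type*) [Field F] (m : ℕ) : Subgroup (Matrix.SpecialLinearGroup (Fin (m + 1)) F) where
  carrier := {g | mv g (Pi.single (Fin.last m) (1 : F) : Fin (m + 1) → F) = (Pi.single (Fin.last m) (1 : F) : Fin (m + 1) → F) ∧ ∀ y : (Fin (m + 1) → F), mv g y (Fin.last m) = y (Fin.last m)}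
  one_mem' := ⟨mv_one _, fun y => by rw [mv_one]⟩
  mul_mem' := by
    rintro a b ⟨ha1, ha2⟩ ⟨hb1, hb2⟩
    exact ⟨by rw [mv_mul, hb1, ha1], fun y => by rw [mv_mul, ha2, hb2]⟩
  inv_mem' := by
    rintro a ⟨ha1, ha2⟩
    refine ⟨?_, fun y => ?_⟩
    · calc mv a⁻¹ (Pi.single (Fin.last m) (1 : F) : Fin (m + 1) → F) = mv a⁻¹ (mv a (Pi.single (Fin.last m) (1 : F) : Fin (m + 1) → F)) := by rw [ha1]
        _ = (Pi.single (Fin.last m) (1 : F) : Fin (m + 1) → F) := mv_inv_l _ _
    · have := ha2 (mv a⁻¹ y)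
      rw [mv_inv_r] at this
      exact this.symm

theorem K0_le_cent {t : (Matrix.SpecialLinearGroup (Fin (m + 1)) F)} (hT : ∀ y : Fin (m + 1) → F, mv t y = -y + (2 * y (Fin.last m)) • (Pi.single (Fin.last m) (1 : F) : Fin (m + 1) → F)) : K0 F m ≤ (Subgroup.centralizer ({t} : Set (Matrix.SpecialLinearGroup (Fin (m + 1)) F))) := fun g hg =>
  mem_cent hT (a := 1) (by rw [one_smul]; exact hg.1) (fun y => by rw [one_mul]; exact hg.2 y)

theorem le_normalizer_of_conj {G : Type*} [Group G] (S H : Subgroup G)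
    (h : ∀ c ∈ S, ∀ k ∈ H, c * k * c⁻¹ ∈ H) : S ≤ Subgroup.normalizer (H : Set G) := by
  intro c hc
  rw [Subgroup.mem_normalizer_iff]
  intro k
  refine ⟨h c hc k, fun hk => ?_⟩
  have := h c⁻¹ (S.inv_mem hc) _ hk
  simpa [mul_assoc] using this

theorem norm_le_norm_cent {G : Type*} [Group G] (H : Subgroup G) :
    Subgroup.normalizer (H : Set G) ≤
      Subgroup.normalizer ((Subgroup.centralizer (H : Set G) : Subgroup G) : Set G) := by
  apply le_normalizer_of_conj
  intro c hc x hx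
  rw [Subgroup.mem_centralizer_iff] at hx ⊢
  intro k hk
  have hk' : c⁻¹ * k * c ∈ H := by
    have := (Subgroup.mem_normalizer_iff.mp (Subgroup.inv_mem _ hc) k).mp hk
    simpa using this
  have := hx _ hk'
  calc k * (c * x * c⁻¹) = c * (c⁻¹ * k * c * x) * c⁻¹ := by group
    _ = c * (x * (c⁻¹ * k * c)) * c⁻¹ := by rw [this]
    _ = c * x * c⁻¹ * k := by group

theorem cent_le_norm {t : (Matrix.SpecialLinearGroup (Fin (m + 1)) F)} (h2 : (2 : F) ≠ 0) (hT : ∀ y : Fin (m + 1) → F, mv t y = -y + (2 * y (Fin.last m)) • (Pi.single (Fin.last m) (1 : F) : Fin (m + 1) → F)) :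
    (Subgroup.centralizer ({t} : Set (Matrix.SpecialLinearGroup (Fin (m + 1)) F))) ≤ Subgroup.normalizer ((K0 F m : Subgroup (Matrix.SpecialLinearGroup (Fin (m + 1)) F)) : Set (Matrix.SpecialLinearGroup (Fin (m + 1)) F)) := by
  apply le_normalizer_of_conj
  intro c hc k hk
  obtain ⟨c1, c2⟩ := cent_fix h2 hT hc
  obtain ⟨d1, d2⟩ := cent_fix h2 hT (Subgroup.inv_mem _ hc)
  have haa : c.1 (Fin.last m) (Fin.last m) * c⁻¹.1 (Fin.last m) (Fin.last m) = 1 := by
    have := c2 (mv c⁻¹ (Pi.single (Fin.last m) (1 : F) : Fin (m + 1) → F))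
    rw [mv_inv_r, d1] at this
    simpa using this.symm
  refine ⟨?_, fun y => ?_⟩
  · rw [mv_mul, mv_mul, d1, mv_smul, hk.1, mv_smul, c1, smul_smul, mul_comm, haa, one_smul]
  · rw [mv_mul, mv_mul, c2, hk.2, d2, ← mul_assoc, haa, one_mul]

/-- the last diagonal entry, as a multiplicative map on `C(t)`. -/
def alphaHom {t : (Matrix.SpecialLinearGroup (Fin (m + 1)) F)} (h2 : (2 : F) ≠ 0) (hT : ∀ y : Fin (m + 1) → F, mv t y = -y + (2 * y (Fin.last m)) • (Pi.single (Fin.last m) (1 : F) : Fin (m + 1) → F)) : ↥(Subgroup.centralizer ({t} : Set (Matrix.SpecialLinearGroup (Fin (m + 1)) F))) →* F where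
  toFun c := c.1.1 (Fin.last m) (Fin.last m)
  map_one' := by
    show (1 : (Matrix.SpecialLinearGroup (Fin (m + 1)) F)).1 (Fin.last m) (Fin.last m) = 1
    rw [Matrix.SpecialLinearGroup.coe_one, Matrix.one_apply_eq]
  map_mul' := by
    intro c d
    show (c.1 * d.1).1 (Fin.last m) (Fin.last m) = c.1.1 (Fin.last m) (Fin.last m) * d.1.1 (Fin.last m) (Fin.last m)
    rw [← mv_single (c.1 * d.1), mv_mul, (cent_fix h2 hT c.2).2, mv_single]

theorem perfect_le {t : (Matrix.SpecialLinearGroup (Fin (m + 1)) F)} (h2 : (2 : F) ≠ 0) (hT : ∀ y : Fin (m + 1) → F, mv t y = -y + (2 * y (Fin.last m)) • (Pi.single (Fin.last m) (1 : F) : Fin (m + 1) → F)) (J : Subgroup ↥(Subgroup.centralizer ({t} : Set (Matrix.SpecialLinearGroup (Fin (m + 1)) F)))) (hJ : Group.IsPerfect ↥J) :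
    J ≤ (K0 F m).subgroupOf (Subgroup.centralizer ({t} : Set (Matrix.SpecialLinearGroup (Fin (m + 1)) F))) := by
  intro x hx
  rw [Subgroup.mem_subgroupOf]
  have hk : (((alphaHom h2 hT).comp J.subtype).toHomUnits).ker = ⊤ := by
    apply top_le_iff.mp
    rw [← hJ.commutator_eq_top]
    exact Abelianization.commutator_subset_ker _
  have h1 : ((alphaHom h2 hT).comp J.subtype).toHomUnits ⟨x, hx⟩ = 1 := by
    have : (⟨x, hx⟩ : ↥J) ∈ (((alphaHom h2 hT).comp J.subtype).toHomUnits).ker := by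
      rw [hk]; trivial
    exact this
  have h3 : x.1.1 (Fin.last m) (Fin.last m) = 1 := by
    have := congrArg Units.val h1
    rw [MonoidHom.coe_toHomUnits] at this
    exact this
  obtain ⟨c1, c2⟩ := cent_fix h2 hT x.2
  rw [h3] at c1 c2
  exact ⟨by rw [c1, one_smul], fun y => by rw [c2, one_mul]⟩

theorem layer_eq {t : (Matrix.SpecialLinearGroup (Fin (m + 1)) F)} (h2 : (2 : F) ≠ 0) (hT : ∀ y : Fin (m + 1) → F, mv t y = -y + (2 * y (Fin.last m)) • (Pi.single (Fin.last m) (1 : F) : Fin (m + 1) → F)) (hq : Cfsg.IsQuasisimple ↥(K0 F m)) :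
    (Cfsg.layer ↥(Subgroup.centralizer ({t} : Set (Matrix.SpecialLinearGroup (Fin (m + 1)) F)))).map (Subgroup.centralizer ({t} : Set (Matrix.SpecialLinearGroup (Fin (m + 1)) F))).subtype = K0 F m := by
  have hle : K0 F m ≤ (Subgroup.centralizer ({t} : Set (Matrix.SpecialLinearGroup (Fin (m + 1)) F))) := K0_le_cent hT
  have h1 : Cfsg.layer ↥(Subgroup.centralizer ({t} : Set (Matrix.SpecialLinearGroup (Fin (m + 1)) F))) = (K0 F m).subgroupOf (Subgroup.centralizer ({t} : Set (Matrix.SpecialLinearGroup (Fin (m + 1)) F))) := by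
    apply le_antisymm
    · apply sSup_le
      intro J hJ
      exact perfect_le h2 hT J hJ.2.1
    · apply le_sSup
      refine ⟨?_, ?_⟩
      · exact ((Subgroup.normal_subgroupOf_iff_le_normalizer hle).mpr
          (cent_le_norm h2 hT)).isSubnormal
      · exact Cfsg.Agent.S1754.isQuasisimple_of_mulEquiv
          (Subgroup.subgroupOfEquivOfLe hle).symm hq
  rw [h1, Subgroup.map_subgroupOf_eq_of_le hle]

/-- block embedding `A ↦ diag(A, 1)`. -/
def embM (A : Matrix (Fin m) (Fin m) F) : Matrix (Fin (m + 1)) (Fin (m + 1)) F :=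
  Matrix.of fun i j => Fin.lastCases (motive := fun _ => F)
    (Fin.lastCases (motive := fun _ => F) (1 : F) (fun _ => 0) j)
    (fun k => Fin.lastCases (motive := fun _ => F) (0 : F) (fun l => A k l) j) i

theorem embM_cc (A : Matrix (Fin m) (Fin m) F) (k l : Fin m) :
    embM A k.castSucc l.castSucc = A k l := by simp [embM]

theorem embM_cl (A : Matrix (Fin m) (Fin m) F) (k : Fin m) :
    embM A k.castSucc (Fin.last m) = 0 := by simp [embM]

theorem embM_lc (A : Matrix (Fin m) (Fin m) F) (l : Fin m) :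
    embM A (Fin.last m) l.castSucc = 0 := by simp [embM]

theorem embM_ll (A : Matrix (Fin m) (Fin m) F) :
    embM A (Fin.last m) (Fin.last m) = 1 := by simp [embM]

theorem embM_mulVec (A : Matrix (Fin m) (Fin m) F) (y : (Fin (m + 1) → F)) (i : Fin (m + 1)) :
    (embM A *ᵥ y) i = Fin.lastCases (motive := fun _ => F) (y (Fin.last m))
      (fun k => (A *ᵥ fun l => y l.castSucc) k) i := by
  rw [Matrix.mulVec, dotProduct, Fin.sum_univ_castSucc]
  rcases idx2 i with rfl | ⟨k, rfl⟩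
  · simp [embM_lc, embM_ll]
  · simp [embM_cc, embM_cl, Matrix.mulVec, dotProduct]

theorem embM_mul (A B : Matrix (Fin m) (Fin m) F) : embM (A * B) = embM A * embM B := by
  apply Matrix.toLin'.injective
  apply LinearMap.ext
  intro y
  rw [Matrix.toLin'_apply, Matrix.toLin'_apply, ← Matrix.mulVec_mulVec]
  ext i
  rw [embM_mulVec, embM_mulVec]
  rcases idx2 i with rfl | ⟨k, rfl⟩
  · simp [embM_mulVec]
  · simp [embM_mulVec, Matrix.mulVec_mulVec]

theorem embM_one : embM (1 : Matrix (Fin m) (Fin m) F) = 1 := by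
  ext i j
  rcases idx2 i with rfl | ⟨k, rfl⟩ <;> rcases idx2 j with rfl | ⟨l, rfl⟩
  · rw [embM_ll, Matrix.one_apply_eq]
  · rw [embM_lc, Matrix.one_apply_ne (Ne.symm (Fin.castSucc_ne_last l))]
  · rw [embM_cl, Matrix.one_apply_ne (Fin.castSucc_ne_last k)]
  · rw [embM_cc, Matrix.one_apply, Matrix.one_apply]
    simp [Fin.castSucc_inj]

theorem embM_det (A : Matrix (Fin m) (Fin m) F) : (embM A).det = A.det := by
  rw [Matrix.det_succ_row _ (Fin.last m), Fin.sum_univ_castSucc]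
  have h0 : ∀ l : Fin m, (-1 : F) ^ ((Fin.last m : ℕ) + (l.castSucc : ℕ))
      * embM A (Fin.last m) l.castSucc
      * ((embM A).submatrix (Fin.last m).succAbove l.castSucc.succAbove).det = 0 := by
    intro l; rw [embM_lc, mul_zero, zero_mul]
  rw [Finset.sum_eq_zero (fun l _ => h0 l), zero_add, embM_ll, mul_one]
  have hs : (embM A).submatrix (Fin.last m).succAbove (Fin.last m).succAbove = A := by
    ext k l
    rw [Matrix.submatrix_apply, Fin.succAbove_last, embM_cc]
  rw [hs]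
  have : (-1 : F) ^ ((Fin.last m : ℕ) + (Fin.last m : ℕ)) = 1 := Even.neg_one_pow ⟨_, rfl⟩
  rw [this, one_mul]

/-- the block embedding as a homomorphism `SL_m(F) → SL_{m+1}(F)`. -/
def psi (F : Type*) [Field F] (m : ℕ) : Matrix.SpecialLinearGroup (Fin m) F →* (Matrix.SpecialLinearGroup (Fin (m + 1)) F) :=
  MonoidHom.mk' (fun A => ⟨embM A.1, by rw [embM_det]; exact A.2⟩) (by
    intro A B
    apply Subtype.ext
    show embM (A * B).1 = embM A.1 * embM B.1
    rw [Matrix.SpecialLinearGroup.coe_mul, embM_mul])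

theorem psi_mv (A : Matrix.SpecialLinearGroup (Fin m) F) (y : (Fin (m + 1) → F)) (i : Fin (m + 1)) :
    mv (psi F m A) y i = Fin.lastCases (motive := fun _ => F) (y (Fin.last m))
      (fun k => (A.1 *ᵥ fun l => y l.castSucc) k) i :=
  embM_mulVec A.1 y i

theorem psi_mem (A : Matrix.SpecialLinearGroup (Fin m) F) : psi F m A ∈ K0 F m := by
  refine ⟨?_, fun y => ?_⟩
  · ext i
    rw [psi_mv]
    rcases idx2 i with rfl | ⟨k, rfl⟩
    · simp
    · have e : (fun l : Fin m => (Pi.single (Fin.last m) (1 : F) : Fin (m + 1) → F) l.castSucc) = 0 := by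
        ext l; simp [Fin.castSucc_ne_last]
      rw [Fin.lastCases_castSucc, e, Matrix.mulVec_zero]
      simp [Fin.castSucc_ne_last]
  · rw [psi_mv]; simp

theorem K0_entries {g : (Matrix.SpecialLinearGroup (Fin (m + 1)) F)} (hg : g ∈ K0 F m) :
    (∀ k : Fin m, g.1 k.castSucc (Fin.last m) = 0) ∧ (∀ l : Fin m, g.1 (Fin.last m) l.castSucc = 0) ∧
      g.1 (Fin.last m) (Fin.last m) = 1 := by
  refine ⟨fun k => ?_, fun l => ?_, ?_⟩
  · rw [← mv_single g, hg.1]; simp [Fin.castSucc_ne_last]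
  · rw [← mv_single g, hg.2]; simp [Pi.single_apply, (Fin.castSucc_ne_last l).symm]
  · rw [← mv_single g, hg.1]; simp

theorem K0_eq_embM {g : (Matrix.SpecialLinearGroup (Fin (m + 1)) F)} (hg : g ∈ K0 F m) :
    g.1 = embM (Matrix.of fun k l : Fin m => g.1 k.castSucc l.castSucc) := by
  obtain ⟨h1, h2, h3⟩ := K0_entries hg
  ext i j
  rcases idx2 i with rfl | ⟨k, rfl⟩ <;> rcases idx2 j with rfl | ⟨l, rfl⟩
  · rw [embM_ll, h3]
  · rw [embM_lc, h2]
  · rw [embM_cl, h1]
  · rw [embM_cc]; rfl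

theorem psi_range : (psi F m).range = K0 F m := by
  apply le_antisymm
  · rintro _ ⟨A, rfl⟩
    exact psi_mem A
  · intro g hg
    have e := K0_eq_embM hg
    have hd : (Matrix.of fun k l : Fin m => g.1 k.castSucc l.castSucc).det = 1 := by
      rw [← embM_det, ← e]; exact g.2
    exact ⟨⟨_, hd⟩, Subtype.ext e.symm⟩

theorem psi_inj : Function.Injective (psi F m) := by
  intro A B h
  apply Subtype.ext
  ext k l
  have h' : embM A.1 k.castSucc l.castSucc = embM B.1 k.castSucc l.castSucc :=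
    congrArg (fun z : (Matrix.SpecialLinearGroup (Fin (m + 1)) F) => z.1 k.castSucc l.castSucc) h
  rw [embM_cc, embM_cc] at h'
  exact h'

theorem K0_qs (hm : 3 ≤ m) : Cfsg.IsQuasisimple ↥(K0 F m) := by
  have h3 : 3 ≤ Fintype.card (Fin m) := by rw [Fintype.card_fin]; exact hm
  have hSL : Cfsg.IsQuasisimple (Matrix.SpecialLinearGroup (Fin m) F) :=
    ⟨⟨Cfsg.Agent.S0249.SL_commutator_eq_top h3⟩, Cfsg.Agent.S0249.PSL_simple h3⟩
  have e1 : Matrix.SpecialLinearGroup (Fin m) F ≃* ↥(psi F m).range :=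
    MonoidHom.ofInjective psi_inj
  have e2 : ↥(psi F m).range ≃* ↥(K0 F m) := MulEquiv.subgroupCongr psi_range
  exact Cfsg.Agent.S1754.isQuasisimple_of_mulEquiv (e1.trans e2) hSL

/-- the transvection `1 + E_{ij}` as an element of `SL`. -/
def tv (i j : Fin (m + 1)) : (Matrix.SpecialLinearGroup (Fin (m + 1)) F) :=
  if h : i = j then 1 else ⟨Matrix.transvection i j 1, Matrix.det_transvection_of_ne i j h 1⟩

theorem tv_mv {i j : Fin (m + 1)} (h : i ≠ j) (y : (Fin (m + 1) → F)) :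
    mv (tv i j) y = y + y j • (Pi.single i (1 : F) : (Fin (m + 1) → F)) := by
  have e : (tv i j : (Matrix.SpecialLinearGroup (Fin (m + 1)) F)) = ⟨Matrix.transvection i j 1, Matrix.det_transvection_of_ne i j h 1⟩ :=
    dif_neg h
  rw [e]
  exact transv_mv i j y

theorem tv_mem_K0 {k l : Fin m} (h : k ≠ l) : (tv k.castSucc l.castSucc : (Matrix.SpecialLinearGroup (Fin (m + 1)) F)) ∈ K0 F m := by
  refine ⟨?_, fun y => ?_⟩
  · rw [tv_mv (cs_ne h)]
    simp [Pi.single_apply, Fin.castSucc_ne_last]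
  · rw [tv_mv (cs_ne h)]
    simp [Pi.single_apply, (Fin.castSucc_ne_last k).symm]

theorem cent_K0_diag (hm : 2 ≤ m) {x : (Matrix.SpecialLinearGroup (Fin (m + 1)) F)} (hx : x ∈ (Subgroup.centralizer ((K0 F m : Subgroup (Matrix.SpecialLinearGroup (Fin (m + 1)) F)) : Set (Matrix.SpecialLinearGroup (Fin (m + 1)) F)))) : ∃ lam mu : F, x.1 = dgm lam mu := by
  have key : ∀ k l : Fin m, k ≠ l → ∀ y : (Fin (m + 1) → F), y l.castSucc • mv x (Pi.single k.castSucc 1)
      = mv x y l.castSucc • (Pi.single k.castSucc (1 : F) : (Fin (m + 1) → F)) := by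
    intro k l hkl y
    have hcomm : tv k.castSucc l.castSucc * x = x * tv k.castSucc l.castSucc :=
      Subgroup.mem_centralizer_iff.mp hx _ (tv_mem_K0 hkl)
    have h1 := congrArg (fun g => mv g y) hcomm
    simp only [mv_mul, tv_mv (cs_ne hkl), mv_add, mv_smul] at h1
    exact (add_left_cancel h1).symm
  have col : ∀ k l : Fin m, k ≠ l → mv x (Pi.single k.castSucc 1)
      = x.1 l.castSucc l.castSucc • (Pi.single k.castSucc (1 : F) : (Fin (m + 1) → F)) := by
    intro k l hkl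
    have := key k l hkl (Pi.single l.castSucc 1)
    rw [Pi.single_eq_same, one_smul, mv_single] at this
    exact this
  obtain ⟨i0, hi0⟩ : ∃ i0 : Fin m, i0 = ⟨0, by omega⟩ := ⟨_, rfl⟩
  obtain ⟨i1, hi1⟩ : ∃ i1 : Fin m, i1 = ⟨1, by omega⟩ := ⟨_, rfl⟩
  have h01 : i0 ≠ i1 := by
    intro h
    have := congrArg Fin.val h
    rw [hi0, hi1] at this
    simp at this
  have eq01 : x.1 i1.castSucc i1.castSucc = x.1 i0.castSucc i0.castSucc := by
    have := congrFun (col i0 i1 h01) i0.castSucc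
    rw [mv_single] at this
    simpa using this.symm
  have colk : ∀ k : Fin m, mv x (Pi.single k.castSucc 1)
      = x.1 i0.castSucc i0.castSucc • (Pi.single k.castSucc (1 : F) : (Fin (m + 1) → F)) := by
    intro k
    by_cases hk : k = i0
    · rw [hk, col i0 i1 h01, eq01]
    · exact col k i0 hk
  have lastcol : ∀ l : Fin m, x.1 l.castSucc (Fin.last m) = 0 := by
    intro l
    obtain ⟨k, hk⟩ : ∃ k : Fin m, k ≠ l := by
      by_cases h : l = i0
      · exact ⟨i1, by rw [h]; exact h01.symm⟩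
      · exact ⟨i0, fun e => h e.symm⟩
    have := congrFun (key k l hk (Pi.single (Fin.last m) (1 : F) : Fin (m + 1) → F)) k.castSucc
    simp only [Pi.smul_apply, Pi.single_eq_same, smul_eq_mul, mul_one, mv_single,
      Pi.single_apply, if_neg (Fin.castSucc_ne_last l), zero_mul] at this
    exact this.symm
  refine ⟨x.1 i0.castSucc i0.castSucc, x.1 (Fin.last m) (Fin.last m), ?_⟩
  ext i j
  rw [dgm, Matrix.diagonal_apply]
  rcases idx2 j with rfl | ⟨l, rfl⟩
  · rcases idx2 i with rfl | ⟨k, rfl⟩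
    · simp
    · rw [lastcol k, if_neg (Fin.castSucc_ne_last k)]
  · rw [← mv_single x l.castSucc i, colk l]
    by_cases hi : i = l.castSucc
    · subst hi
      simp [Fin.castSucc_ne_last]
    · simp [hi]

theorem diag_comm {x y : (Matrix.SpecialLinearGroup (Fin (m + 1)) F)} {a b c d : F} (hx : x.1 = dgm a b) (hy : y.1 = dgm c d) :
    x * y = y * x := by
  apply mv_ext
  intro v
  ext i
  rw [mv_mul, mv_mul, dgm_mv hx, dgm_mv hy, dgm_mv hy, dgm_mv hx]
  ring

theorem conj_diag (hm : 2 ≤ m) {g x x' : (Matrix.SpecialLinearGroup (Fin (m + 1)) F)} {lam mu lam' mu' : F} (hx : x.1 = dgm lam mu)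
    (hx' : x'.1 = dgm lam' mu') (hconj : x * g = g * x') (hne : lam ≠ mu) :
    ∃ a : F, mv g (Pi.single (Fin.last m) (1 : F) : Fin (m + 1) → F) = a • (Pi.single (Fin.last m) (1 : F) : Fin (m + 1) → F) ∧ ∀ y : (Fin (m + 1) → F), mv g y (Fin.last m) = a * y (Fin.last m) := by
  have ent : ∀ i j : Fin (m + 1), (if i = (Fin.last m) then mu else lam) * g.1 i j
      = g.1 i j * (if j = (Fin.last m) then mu' else lam') := by
    intro i j
    have h : (x * g).1 i j = (g * x').1 i j := by rw [hconj]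
    rw [Matrix.SpecialLinearGroup.coe_mul, Matrix.SpecialLinearGroup.coe_mul,
      show (x : Matrix (Fin (m + 1)) (Fin (m + 1)) F) = dgm lam mu from hx,
      show (x' : Matrix (Fin (m + 1)) (Fin (m + 1)) F) = dgm lam' mu' from hx',
      dgm, dgm, Matrix.diagonal_mul, Matrix.mul_diagonal] at h
    exact h
  have hcol0 : ∀ l : Fin m, g.1 (Fin.last m) l.castSucc = 0 := by
    by_contra hcon
    push_neg at hcon
    obtain ⟨l0, hl0⟩ := hcon
    have e1 := ent (Fin.last m) l0.castSucc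
    rw [if_pos rfl, if_neg (Fin.castSucc_ne_last l0), mul_comm] at e1
    have hml : mu = lam' := mul_left_cancel₀ hl0 e1
    have hz : ∀ k l : Fin m, g.1 k.castSucc l.castSucc = 0 := by
      intro k l
      have e2 := ent k.castSucc l.castSucc
      rw [if_neg (Fin.castSucc_ne_last k), if_neg (Fin.castSucc_ne_last l), ← hml] at e2
      have : (lam - mu) * g.1 k.castSucc l.castSucc = 0 := by linear_combination e2
      rcases mul_eq_zero.mp this with h | h
      · exact absurd (sub_eq_zero.mp h) hne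
      · exact h
    have hcolv : ∀ l : Fin m, mv g (Pi.single l.castSucc 1) = g.1 (Fin.last m) l.castSucc • (Pi.single (Fin.last m) (1 : F) : Fin (m + 1) → F) := by
      intro l
      ext i
      rw [mv_single]
      rcases idx2 i with rfl | ⟨k, rfl⟩
      · simp
      · rw [hz]; simp [Fin.castSucc_ne_last]
    obtain ⟨l1, hl1⟩ : ∃ l1 : Fin m, l1 ≠ l0 := by
      by_cases h : l0 = ⟨0, by omega⟩
      · refine ⟨⟨1, by omega⟩, ?_⟩
        rw [h]
        intro h'
        have := congrArg Fin.val h'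
        simp at this
      · exact ⟨⟨0, by omega⟩, fun h' => h h'.symm⟩
    have hv : mv g (g.1 (Fin.last m) l1.castSucc • (Pi.single l0.castSucc (1 : F) : (Fin (m + 1) → F))
        + (-g.1 (Fin.last m) l0.castSucc) • (Pi.single l1.castSucc (1 : F) : (Fin (m + 1) → F))) = 0 := by
      rw [mv_add, mv_smul, mv_smul, hcolv, hcolv, smul_smul, smul_smul, ← add_smul]
      have : g.1 (Fin.last m) l1.castSucc * g.1 (Fin.last m) l0.castSucc
          + -g.1 (Fin.last m) l0.castSucc * g.1 (Fin.last m) l1.castSucc = 0 := by ring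
      rw [this, zero_smul]
    have hv0 := congrArg (mv g⁻¹) hv
    rw [mv_inv_l, mv_zero] at hv0
    have := congrFun hv0 l1.castSucc
    simp [Pi.single_apply, cs_ne hl1] at this
    exact hl0 this
  have hrow : ∀ y : (Fin (m + 1) → F), mv g y (Fin.last m) = g.1 (Fin.last m) (Fin.last m) * y (Fin.last m) := by
    intro y
    rw [mv_apply]
    simp [hcol0]
  have ha0 : g.1 (Fin.last m) (Fin.last m) ≠ 0 := by
    intro h0
    have := hrow (mv g⁻¹ (Pi.single (Fin.last m) (1 : F) : Fin (m + 1) → F))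
    rw [mv_inv_r, h0, zero_mul] at this
    simp at this
  have hmm : mu = mu' := by
    have e1 := ent (Fin.last m) (Fin.last m)
    rw [if_pos rfl, if_pos rfl, mul_comm] at e1
    exact mul_left_cancel₀ ha0 e1
  have hcl : ∀ k : Fin m, g.1 k.castSucc (Fin.last m) = 0 := by
    intro k
    have e2 := ent k.castSucc (Fin.last m)
    rw [if_neg (Fin.castSucc_ne_last k), if_pos rfl, ← hmm] at e2
    have : (lam - mu) * g.1 k.castSucc (Fin.last m) = 0 := by linear_combination e2
    rcases mul_eq_zero.mp this with h | h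
    · exact absurd (sub_eq_zero.mp h) hne
    · exact h
  refine ⟨g.1 (Fin.last m) (Fin.last m), ?_, hrow⟩
  ext i
  rw [mv_single]
  rcases idx2 i with rfl | ⟨k, rfl⟩
  · simp
  · rw [hcl]; simp [Fin.castSucc_ne_last]

theorem scalar_of_inter {t : (Matrix.SpecialLinearGroup (Fin (m + 1)) F)} (h2 : (2 : F) ≠ 0) (hT : ∀ y : Fin (m + 1) → F, mv t y = -y + (2 * y (Fin.last m)) • (Pi.single (Fin.last m) (1 : F) : Fin (m + 1) → F)) (hm : 2 ≤ m) {g x : (Matrix.SpecialLinearGroup (Fin (m + 1)) F)}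
    (hg : g ∉ Subgroup.normalizer (((Subgroup.centralizer ((K0 F m : Subgroup (Matrix.SpecialLinearGroup (Fin (m + 1)) F)) : Set (Matrix.SpecialLinearGroup (Fin (m + 1)) F))) : Subgroup (Matrix.SpecialLinearGroup (Fin (m + 1)) F)) : Set (Matrix.SpecialLinearGroup (Fin (m + 1)) F)))
    (hx : x ∈ (Subgroup.centralizer ((K0 F m : Subgroup (Matrix.SpecialLinearGroup (Fin (m + 1)) F)) : Set (Matrix.SpecialLinearGroup (Fin (m + 1)) F))) ⊓ (Subgroup.centralizer ((K0 F m : Subgroup (Matrix.SpecialLinearGroup (Fin (m + 1)) F)) : Set (Matrix.SpecialLinearGroup (Fin (m + 1)) F))).map (MulAut.conj g).toMonoidHom) : ∃ lam : F, x.1 = dgm lam lam := by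
  obtain ⟨hx1, hx2⟩ := Subgroup.mem_inf.mp hx
  obtain ⟨lam, mu, hd⟩ := cent_K0_diag hm hx1
  obtain ⟨x', hx', hconj⟩ := Subgroup.mem_map.mp hx2
  obtain ⟨lam', mu', hd'⟩ := cent_K0_diag hm hx'
  by_cases hlm : lam = mu
  · exact ⟨lam, by rw [hd, hlm]⟩
  · exfalso
    apply hg
    have hc : x * g = g * x' := by
      rw [← hconj]
      simp [MulAut.conj_apply]
    obtain ⟨a, ha1, ha2⟩ := conj_diag hm hd hd' hc hlm
    have hgC : g ∈ (Subgroup.centralizer ({t} : Set (Matrix.SpecialLinearGroup (Fin (m + 1)) F))) := mem_cent hT ha1 ha2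
    exact norm_le_norm_cent _ (cent_le_norm h2 hT hgC)

theorem tight {t : (Matrix.SpecialLinearGroup (Fin (m + 1)) F)} [Finite (Matrix.SpecialLinearGroup (Fin (m + 1)) F)] (h2 : (2 : F) ≠ 0) (hT : ∀ y : Fin (m + 1) → F, mv t y = -y + (2 * y (Fin.last m)) • (Pi.single (Fin.last m) (1 : F) : Fin (m + 1) → F)) (hm : 2 ≤ m) (hodd : Odd (m + 1))
    (g : (Matrix.SpecialLinearGroup (Fin (m + 1)) F)) (hg : g ∉ Subgroup.normalizer (((Subgroup.centralizer ((K0 F m : Subgroup (Matrix.SpecialLinearGroup (Fin (m + 1)) F)) : Set (Matrix.SpecialLinearGroup (Fin (m + 1)) F))) : Subgroup (Matrix.SpecialLinearGroup (Fin (m + 1)) F)) : Set (Matrix.SpecialLinearGroup (Fin (m + 1)) F))) :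
    Odd (Nat.card ↥((Subgroup.centralizer ((K0 F m : Subgroup (Matrix.SpecialLinearGroup (Fin (m + 1)) F)) : Set (Matrix.SpecialLinearGroup (Fin (m + 1)) F))) ⊓ (Subgroup.centralizer ((K0 F m : Subgroup (Matrix.SpecialLinearGroup (Fin (m + 1)) F)) : Set (Matrix.SpecialLinearGroup (Fin (m + 1)) F))).map (MulAut.conj g).toMonoidHom)) := by
  haveI : Fact (Nat.Prime 2) := ⟨Nat.prime_two⟩
  by_contra hnodd
  rw [Nat.not_odd_iff_even, even_iff_two_dvd] at hnodd
  obtain ⟨σ, hσ⟩ := exists_prime_orderOf_dvd_card' 2 hnodd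
  obtain ⟨lam, hl⟩ := scalar_of_inter h2 hT hm hg σ.2
  have hp : lam ^ (m + 1) = 1 := by
    have := dgm_pow hl
    rw [pow_succ]; exact this
  have hpow : ∀ (k : ℕ) (y : (Fin (m + 1) → F)) (i : Fin (m + 1)), mv (σ.1 ^ k) y i = lam ^ k * y i := by
    intro k
    induction k with
    | zero => intro y i; rw [pow_zero, mv_one, pow_zero, one_mul]
    | succ k ih =>
      intro y i
      rw [pow_succ, mv_mul, ih, dgm_mv hl, ite_self, pow_succ, mul_assoc]
  have h1 : σ.1 ^ (m + 1) = 1 := by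
    apply mv_ext; intro y; ext i
    rw [mv_one, hpow, hp, one_mul]
  have h3 : orderOf σ.1 ∣ m + 1 := orderOf_dvd_of_pow_eq_one h1
  rw [Subgroup.orderOf_coe, hσ] at h3
  exact (Nat.not_even_iff_odd.mpr hodd) (even_iff_two_dvd.mpr h3)

theorem t_mem_D {t : (Matrix.SpecialLinearGroup (Fin (m + 1)) F)} (hT : ∀ y : Fin (m + 1) → F, mv t y = -y + (2 * y (Fin.last m)) • (Pi.single (Fin.last m) (1 : F) : Fin (m + 1) → F)) : t ∈ (Subgroup.centralizer ((K0 F m : Subgroup (Matrix.SpecialLinearGroup (Fin (m + 1)) F)) : Set (Matrix.SpecialLinearGroup (Fin (m + 1)) F))) := by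
  rw [Subgroup.mem_centralizer_iff]
  intro k hk
  exact (Subgroup.mem_centralizer_iff.mp (K0_le_cent hT hk) t (Set.mem_singleton t)).symm

theorem t_sq {t : (Matrix.SpecialLinearGroup (Fin (m + 1)) F)} (htd : t.1 = dgm (-1) 1) : t * t = 1 := by
  apply mv_ext; intro y; ext i
  rw [mv_mul, mv_one, dgm_mv htd, dgm_mv htd]
  split_ifs <;> ring

theorem t_ne_one {t : (Matrix.SpecialLinearGroup (Fin (m + 1)) F)} (h2 : (2 : F) ≠ 0) (htd : t.1 = dgm (-1) 1) (hm : 1 ≤ m) : t ≠ 1 := by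
  intro h
  have := dgm_mv htd (Pi.single (⟨0, by omega⟩ : Fin m).castSucc 1) (⟨0, by omega⟩ : Fin m).castSucc
  rw [h, mv_one, if_neg (Fin.castSucc_ne_last _), Pi.single_eq_same] at this
  apply h2
  linear_combination this

theorem even_card_D {t : (Matrix.SpecialLinearGroup (Fin (m + 1)) F)} [Finite (Matrix.SpecialLinearGroup (Fin (m + 1)) F)] (h2 : (2 : F) ≠ 0) (htd : t.1 = dgm (-1) 1) (hT : ∀ y : Fin (m + 1) → F, mv t y = -y + (2 * y (Fin.last m)) • (Pi.single (Fin.last m) (1 : F) : Fin (m + 1) → F))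
    (hm : 1 ≤ m) : Even (Nat.card ↥(Subgroup.centralizer ((K0 F m : Subgroup (Matrix.SpecialLinearGroup (Fin (m + 1)) F)) : Set (Matrix.SpecialLinearGroup (Fin (m + 1)) F)))) := by
  haveI : Fact (Nat.Prime 2) := ⟨Nat.prime_two⟩
  have hord : orderOf t = 2 :=
    orderOf_eq_prime (by rw [pow_two]; exact t_sq htd) (t_ne_one h2 htd hm)
  have := Subgroup.orderOf_dvd_natCard (Subgroup.centralizer ((K0 F m : Subgroup (Matrix.SpecialLinearGroup (Fin (m + 1)) F)) : Set (Matrix.SpecialLinearGroup (Fin (m + 1)) F))) (t_mem_D hT)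
  rw [hord] at this
  exact even_iff_two_dvd.mpr this

theorem comm_ne_bot (hm : 2 ≤ m) (g : (Matrix.SpecialLinearGroup (Fin (m + 1)) F)) :
    ⁅K0 F m, (K0 F m).map (MulAut.conj g).toMonoidHom⁆ ≠ ⊥ := by
  intro hbot
  rw [Subgroup.commutator_comm, Subgroup.commutator_eq_bot_iff_le_centralizer] at hbot
  obtain ⟨p, hp⟩ : ∃ p : Fin m, p = ⟨0, by omega⟩ := ⟨_, rfl⟩
  obtain ⟨q, hq⟩ : ∃ q : Fin m, q = ⟨1, by omega⟩ := ⟨_, rfl⟩
  have hpq : p ≠ q := by
    intro h
    have := congrArg Fin.val h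
    rw [hp, hq] at this
    simp at this
  have ha := hbot (Subgroup.mem_map_of_mem (MulAut.conj g).toMonoidHom (tv_mem_K0 (F := F) hpq))
  have hb := hbot (Subgroup.mem_map_of_mem (MulAut.conj g).toMonoidHom
    (tv_mem_K0 (F := F) hpq.symm))
  obtain ⟨a1, a2, hda⟩ := cent_K0_diag hm ha
  obtain ⟨b1, b2, hdb⟩ := cent_K0_diag hm hb
  have hc := diag_comm hda hdb
  rw [← map_mul, ← map_mul] at hc
  have hc' : (tv p.castSucc q.castSucc : (Matrix.SpecialLinearGroup (Fin (m + 1)) F)) * tv q.castSucc p.castSucc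
      = tv q.castSucc p.castSucc * tv p.castSucc q.castSucc := (MulAut.conj g).injective hc
  have h1 := congrArg (fun z => mv z (Pi.single p.castSucc 1) p.castSucc) hc'
  simp only [mv_mul, tv_mv (cs_ne hpq), tv_mv (cs_ne hpq.symm)] at h1
  simp [cs_ne hpq, (cs_ne hpq).symm] at h1

theorem norm_eq {t : (Matrix.SpecialLinearGroup (Fin (m + 1)) F)} (h2 : (2 : F) ≠ 0) (hT : ∀ y : Fin (m + 1) → F, mv t y = -y + (2 * y (Fin.last m)) • (Pi.single (Fin.last m) (1 : F) : Fin (m + 1) → F)) (htd : t.1 = dgm (-1) 1) (hm : 2 ≤ m)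
    (hme : Even m) :
    Subgroup.normalizer ((K0 F m : Subgroup (Matrix.SpecialLinearGroup (Fin (m + 1)) F)) : Set (Matrix.SpecialLinearGroup (Fin (m + 1)) F))
      = Subgroup.normalizer (((Subgroup.centralizer ((K0 F m : Subgroup (Matrix.SpecialLinearGroup (Fin (m + 1)) F)) : Set (Matrix.SpecialLinearGroup (Fin (m + 1)) F))) : Subgroup (Matrix.SpecialLinearGroup (Fin (m + 1)) F)) : Set (Matrix.SpecialLinearGroup (Fin (m + 1)) F)) := by
  apply le_antisymm (norm_le_norm_cent _)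
  intro g hg
  apply cent_le_norm h2 hT
  obtain ⟨s, hsdef⟩ : ∃ s : (Matrix.SpecialLinearGroup (Fin (m + 1)) F), s = g * t * g⁻¹ := ⟨_, rfl⟩
  have hs : s ∈ (Subgroup.centralizer ((K0 F m : Subgroup (Matrix.SpecialLinearGroup (Fin (m + 1)) F)) : Set (Matrix.SpecialLinearGroup (Fin (m + 1)) F))) := by
    rw [hsdef]; exact (Subgroup.mem_normalizer_iff.mp hg t).mp (t_mem_D hT)
  obtain ⟨lam, mu, hd⟩ := cent_K0_diag hm hs
  have hsq : s * s = 1 := by
    rw [hsdef]
    have := t_sq htd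
    calc (g * t * g⁻¹) * (g * t * g⁻¹) = g * (t * t) * g⁻¹ := by group
      _ = 1 := by rw [this]; group
  have hl : lam * lam = 1 := by
    have := congrArg (fun z => mv z (Pi.single (⟨0, by omega⟩ : Fin m).castSucc 1)
      (⟨0, by omega⟩ : Fin m).castSucc) hsq
    simp only [mv_mul, mv_one, dgm_mv hd, if_neg (Fin.castSucc_ne_last _), Pi.single_eq_same,
      mul_one] at this
    exact this
  have hmu : mu * mu = 1 := by
    have := congrArg (fun z => mv z (Pi.single (Fin.last m) (1 : F) : Fin (m + 1) → F) (Fin.last m)) hsq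
    simp only [mv_mul, mv_one, dgm_mv hd, if_true, Pi.single_eq_same, mul_one] at this
    exact this
  have hdet := dgm_pow hd
  obtain ⟨r, hr⟩ := hme
  have hlm : lam ^ m = 1 := by rw [hr, pow_add, ← mul_pow, hl, one_pow]
  rw [hlm, one_mul] at hdet
  have hne : s ≠ 1 := by
    intro h
    apply t_ne_one h2 htd (by omega)
    have : t = g⁻¹ * s * g := by rw [hsdef]; group
    rw [this, h]; group
  have hlam : lam = -1 := by
    rcases mul_self_eq_one_iff.mp hl with h | h
    · exfalso; apply hne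
      apply mv_ext; intro y; ext i
      rw [mv_one, dgm_mv hd, h, hdet, ite_self, one_mul]
    · exact h
  have hst : s = t := by
    apply Subtype.ext
    rw [hd, htd, hlam, hdet]
  rw [hsdef] at hst
  rw [Subgroup.mem_centralizer_iff]
  intro u hu
  rw [Set.mem_singleton_iff] at hu
  subst hu
  have := congrArg (fun z => z * g) hst
  simp only [inv_mul_cancel_right] at this
  exact this.symm

/-- Let F be a finite field of odd order, n ≥ 7 odd, and t ∈ SL(n, F) the diagonal matrix with entries −1, …, −1, 1. Then E(C(t)) is a standard subgroup of SL(n, F). -/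
theorem result {F : Type*} [Field F] [Fintype F] [DecidableEq F] (hF : Odd (Fintype.card F)) (n : ℕ) (hn : 7 ≤ n) (hodd : Odd n) (t : Matrix.SpecialLinearGroup (Fin n) F) (ht : (t : Matrix (Fin n) (Fin n) F) = Matrix.diagonal (fun i : Fin n => if (i : ℕ) + 1 = n then (1 : F) else -1)) : Cfsg.IsStandardSubgroup ((Cfsg.layer ↥(Subgroup.centralizer ({t} : Set (Matrix.SpecialLinearGroup (Fin n) F)))).map (Subgroup.centralizer ({t} : Set (Matrix.SpecialLinearGroup (Fin n) F))).subtype) := by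
  obtain ⟨m, rfl⟩ : ∃ m, n = m + 1 := ⟨n - 1, by omega⟩
  have hme : Even m := by
    obtain ⟨k, hk⟩ := hodd
    exact ⟨k, by omega⟩
  have h2 := two_ne hF
  have htd := t_dgm ht
  have hT := t_act htd
  haveI : Finite (Matrix.SpecialLinearGroup (Fin (m + 1)) F) := inferInstance
  rw [layer_eq h2 hT (K0_qs (by omega))]
  exact ⟨K0_qs (by omega), ⟨even_card_D h2 htd hT (by omega),
    fun g hg => tight h2 hT (by omega) hodd g hg⟩, fun g _ => comm_ne_bot (by omega) g,
    norm_eq h2 hT htd (by omega) hme⟩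

end Cfsg.Agent.S1348
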