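import Cfsg.Statements.S1340
-- import your own Cfsg.Agent.* helpers here
import Cfsg.Agent.S1348
import Cfsg.Agent.Helper10.PComp2

set_option autoImplicit false
open Cfsg

namespace Cfsg.Agent.S1340

open scoped Matrix
open Cfsg.Agent.S1348

variable {F : Type*} [Field F] {m : ℕ}

/-- diagonal entries of the involution. -/
def dd (F : Type*) [Field F] (m : ℕ) : Fin (m + 1) → F :=
  fun i => Fin.lastCases (motive := fun _ => F) (1 : F) (fun _ => -1) i

theorem dd_last : dd F m (Fin.last m) = 1 := by simp [dd]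

theorem dd_cs (k : Fin m) : dd F m k.castSucc = -1 := by simp [dd]

theorem dd_sq (i : Fin (m + 1)) : dd F m i * dd F m i = 1 := by
  rcases idx2 i with rfl | ⟨k, rfl⟩
  · rw [dd_last, mul_one]
  · rw [dd_cs]; ring

/-- the involution `diag(-1, …, -1, 1)`. -/
def tM (F : Type*) [Field F] (m : ℕ) : Matrix (Fin (m + 1)) (Fin (m + 1)) F :=
  Matrix.diagonal (dd F m)

theorem tM_sq : tM F m * tM F m = 1 := by
  rw [tM, Matrix.diagonal_mul_diagonal, ← Matrix.diagonal_one]
  congr 1
  ext i
  exact dd_sq i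

/-- the involution as an element of `GL`. -/
def tG (F : Type*) [Field F] (m : ℕ) : Matrix.GeneralLinearGroup (Fin (m + 1)) F :=
  ⟨tM F m, tM F m, tM_sq, tM_sq⟩

theorem comm_emb (A : Matrix (Fin m) (Fin m) F) : embM A * tM F m = tM F m * embM A := by
  ext i j
  rw [tM, Matrix.mul_diagonal, Matrix.diagonal_mul]
  rcases idx2 i with rfl | ⟨k, rfl⟩ <;> rcases idx2 j with rfl | ⟨l, rfl⟩
  · rw [embM_ll, dd_last]
  · rw [embM_lc, dd_last, dd_cs]; ring
  · rw [embM_cl, dd_last, dd_cs]; ring
  · rw [embM_cc, dd_cs, dd_cs]; ring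

theorem block {c : Matrix (Fin (m + 1)) (Fin (m + 1)) F} (h2 : (2 : F) ≠ 0)
    (hc : c * tM F m = tM F m * c) :
    (∀ k : Fin m, c k.castSucc (Fin.last m) = 0) ∧
      (∀ l : Fin m, c (Fin.last m) l.castSucc = 0) := by
  constructor
  · intro k
    have h := congrFun (congrFun hc k.castSucc) (Fin.last m)
    rw [tM, Matrix.mul_diagonal, Matrix.diagonal_mul, dd_last, dd_cs] at h
    have : (2 : F) * c k.castSucc (Fin.last m) = 0 := by linear_combination h
    exact (mul_eq_zero.mp this).resolve_left h2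
  · intro l
    have h := congrFun (congrFun hc (Fin.last m)) l.castSucc
    rw [tM, Matrix.mul_diagonal, Matrix.diagonal_mul, dd_last, dd_cs] at h
    have : (2 : F) * c (Fin.last m) l.castSucc = 0 := by linear_combination -h
    exact (mul_eq_zero.mp this).resolve_left h2

theorem eq_embM_of (M : Matrix (Fin (m + 1)) (Fin (m + 1)) F)
    (h1 : ∀ k : Fin m, M k.castSucc (Fin.last m) = 0)
    (h2 : ∀ l : Fin m, M (Fin.last m) l.castSucc = 0)
    (h3 : M (Fin.last m) (Fin.last m) = 1) :
    M = embM (Matrix.of fun k l : Fin m => M k.castSucc l.castSucc) := by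
  ext i j
  rcases idx2 i with rfl | ⟨k, rfl⟩ <;> rcases idx2 j with rfl | ⟨l, rfl⟩
  · rw [embM_ll, h3]
  · rw [embM_lc, h2]
  · rw [embM_cl, h1]
  · rw [embM_cc]; rfl

theorem conj_block {c d : Matrix (Fin (m + 1)) (Fin (m + 1)) F} (A : Matrix (Fin m) (Fin m) F)
    (hcd : c * d = 1)
    (hc1 : ∀ k : Fin m, c k.castSucc (Fin.last m) = 0)
    (hc2 : ∀ l : Fin m, c (Fin.last m) l.castSucc = 0)
    (hd1 : ∀ k : Fin m, d k.castSucc (Fin.last m) = 0)
    (hd2 : ∀ l : Fin m, d (Fin.last m) l.castSucc = 0) :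
    (∀ k : Fin m, (c * embM A * d) k.castSucc (Fin.last m) = 0) ∧
      (∀ l : Fin m, (c * embM A * d) (Fin.last m) l.castSucc = 0) ∧
      (c * embM A * d) (Fin.last m) (Fin.last m) = 1 := by
  have hll : c (Fin.last m) (Fin.last m) * d (Fin.last m) (Fin.last m) = 1 := by
    have h := congrFun (congrFun hcd (Fin.last m)) (Fin.last m)
    rw [Matrix.mul_apply, Fin.sum_univ_castSucc, Matrix.one_apply_eq] at h
    simpa [hc2] using h
  have hE : ∀ i : Fin (m + 1), (c * embM A) i (Fin.last m) = c i (Fin.last m) := by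
    intro i
    rw [Matrix.mul_apply, Fin.sum_univ_castSucc]
    simp [embM_cl, embM_ll]
  have hM : ∀ i : Fin (m + 1), (c * embM A * d) i (Fin.last m)
      = c i (Fin.last m) * d (Fin.last m) (Fin.last m) := by
    intro i
    rw [Matrix.mul_apply, Fin.sum_univ_castSucc, hE]
    simp [hd1]
  refine ⟨fun k => ?_, fun l => ?_, ?_⟩
  · rw [hM, hc1, zero_mul]
  · rw [Matrix.mul_assoc, Matrix.mul_apply, Fin.sum_univ_castSucc]
    have : (embM A * d) (Fin.last m) l.castSucc = 0 := by
      rw [Matrix.mul_apply, Fin.sum_univ_castSucc]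
      simp [embM_lc, embM_ll, hd2]
    simp [hc2, this]
  · rw [hM, hll]

/-- the block embedding into `GL`. -/
def phi0 (F : Type*) [Field F] (m : ℕ) :
    Matrix.SpecialLinearGroup (Fin m) F →* Matrix.GeneralLinearGroup (Fin (m + 1)) F :=
  Matrix.SpecialLinearGroup.toGL.comp (psi F m)

theorem phi0_val (A : Matrix.SpecialLinearGroup (Fin m) F) : (phi0 F m A).1 = embM A.1 := rfl

theorem mem_cent_iff (g : Matrix.GeneralLinearGroup (Fin (m + 1)) F) :
    g ∈ Subgroup.centralizer ({tG F m} : Set (Matrix.GeneralLinearGroup (Fin (m + 1)) F)) ↔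
      g.1 * tM F m = tM F m * g.1 := by
  constructor
  · intro h
    have := Subgroup.mem_centralizer_iff.mp h (tG F m) (Set.mem_singleton _)
    exact (congrArg Units.val this).symm
  · intro h
    rw [Subgroup.mem_centralizer_iff]
    intro u hu
    rw [Set.mem_singleton_iff] at hu
    subst hu
    exact Units.ext h.symm

theorem phi0_mem (A : Matrix.SpecialLinearGroup (Fin m) F) :
    phi0 F m A ∈ Subgroup.centralizer ({tG F m} : Set (Matrix.GeneralLinearGroup (Fin (m + 1)) F)) := by
  rw [mem_cent_iff, phi0_val]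
  exact comm_emb A.1

theorem conj_mem (h2 : (2 : F) ≠ 0) {c : Matrix.GeneralLinearGroup (Fin (m + 1)) F}
    (hc : c ∈ Subgroup.centralizer ({tG F m} : Set (Matrix.GeneralLinearGroup (Fin (m + 1)) F)))
    (A : Matrix.SpecialLinearGroup (Fin m) F) :
    ∃ B : Matrix.SpecialLinearGroup (Fin m) F, c * phi0 F m A * c⁻¹ = phi0 F m B := by
  have hc' := (mem_cent_iff c).mp hc
  have hd' := (mem_cent_iff c⁻¹).mp (Subgroup.inv_mem _ hc)
  obtain ⟨hc1, hc2⟩ := block h2 hc'
  obtain ⟨hd1, hd2⟩ := block h2 hd'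
  have hcd : c.1 * c⁻¹.1 = 1 := by rw [← Units.val_mul, mul_inv_cancel, Units.val_one]
  obtain ⟨e1, e2, e3⟩ := conj_block A.1 hcd hc1 hc2 hd1 hd2
  have hM := eq_embM_of _ e1 e2 e3
  have hdet : (c.1 * embM A.1 * c⁻¹.1).det = 1 := by
    rw [Matrix.det_mul, Matrix.det_mul, embM_det, A.2, mul_one, ← Matrix.det_mul, hcd,
      Matrix.det_one]
  have hdet' : (Matrix.of fun k l : Fin m =>
      (c.1 * embM A.1 * c⁻¹.1) k.castSucc l.castSucc).det = 1 := by
    rw [← embM_det, ← hM]; exact hdet
  refine ⟨⟨_, hdet'⟩, ?_⟩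
  apply Units.ext
  show c.1 * embM A.1 * c⁻¹.1 = embM _
  exact hM

theorem exists_inv (k : ℕ) (h2 : (2 : F) ≠ 0) :
    ∃ A : Matrix.SpecialLinearGroup (Fin (k + 2)) F, A * A = 1 ∧ A ≠ 1 := by
  obtain ⟨d0, hd0⟩ : ∃ d0 : Fin (k + 2) → F,
      d0 = Fin.cons (-1) (Fin.cons (-1) (fun _ => 1)) := ⟨_, rfl⟩
  have hsq : ∀ i, d0 i * d0 i = 1 := by
    intro i
    rw [hd0]
    induction i using Fin.cases with
    | zero => rw [Fin.cons_zero]; ring
    | succ j =>
      rw [Fin.cons_succ]
      induction j using Fin.cases with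
      | zero => rw [Fin.cons_zero]; ring
      | succ l => rw [Fin.cons_succ]; ring
  have hdet : (Matrix.diagonal d0).det = 1 := by
    rw [Matrix.det_diagonal, hd0, Fin.prod_cons, Fin.prod_cons]
    simp
  refine ⟨⟨Matrix.diagonal d0, hdet⟩, ?_, ?_⟩
  · apply Subtype.ext
    show Matrix.diagonal d0 * Matrix.diagonal d0 = 1
    rw [Matrix.diagonal_mul_diagonal, ← Matrix.diagonal_one]
    congr 1
    ext i
    exact hsq i
  · intro h
    have h' : Matrix.diagonal d0 = (1 : Matrix (Fin (k + 2)) (Fin (k + 2)) F) :=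
      congrArg Subtype.val h
    have h'' := congrFun (congrFun h' 0) 0
    rw [Matrix.diagonal_apply_eq, Matrix.one_apply_eq, hd0, Fin.cons_zero] at h''
    apply h2
    linear_combination -h''

theorem qsSL [Fintype F] (hF : Odd (Fintype.card F)) (hm : 2 ≤ m)
    (h33 : ¬ (m = 2 ∧ Fintype.card F = 3)) :
    Cfsg.IsQuasisimple (Matrix.SpecialLinearGroup (Fin m) F) := by
  by_cases h3 : 3 ≤ m
  · have h3' : 3 ≤ Fintype.card (Fin m) := by rw [Fintype.card_fin]; exact h3
    exact ⟨⟨Cfsg.Agent.S0249.SL_commutator_eq_top h3'⟩, Cfsg.Agent.S0249.PSL_simple h3'⟩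
  · obtain rfl : m = 2 := by omega
    have hc : 5 ≤ Fintype.card F := by
      have h1 : 1 < Fintype.card F := Fintype.one_lt_card
      obtain ⟨r, hr⟩ := hF
      have : Fintype.card F ≠ 3 := fun h => h33 ⟨rfl, h⟩
      omega
    classical
    obtain ⟨a, ha⟩ : ∃ a : F, a ∉ ({0, 1, -1} : Finset F) := by
      by_contra hcon
      push_neg at hcon
      have : Fintype.card F ≤ ({0, 1, -1} : Finset F).card := by
        rw [← Finset.card_univ]
        exact Finset.card_le_card (fun x _ => hcon x)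
      have h3c : ({0, 1, -1} : Finset F).card ≤ 3 := Finset.card_le_three
      omega
    simp only [Finset.mem_insert, Finset.mem_singleton, not_or] at ha
    obtain ⟨ha0, ha1, ha2⟩ := ha
    have hasq : a ^ 2 ≠ 1 := by
      intro h
      have : (a - 1) * (a + 1) = 0 := by linear_combination h
      rcases mul_eq_zero.mp this with h | h
      · exact ha1 (sub_eq_zero.mp h)
      · exact ha2 (eq_neg_of_add_eq_zero_left h)
    refine ⟨⟨Matrix.SL2.commutator_eq_top ha0 hasq⟩, ?_⟩
    apply Matrix.ProjectiveSpecialLinearGroup.rank_two_simple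
    rw [Nat.card_eq_fintype_card]
    omega

/-- Let F be a finite field of odd order and n ≥ 3 with (n, |F|) ≠ (3, 3). Then GL(n, F) has a non-central involution t such that C(t) / O(C(t)) has a component. -/
theorem result {F : Type*} [Field F] [Fintype F] [DecidableEq F] (hF : Odd (Fintype.card F)) (n : ℕ) (hn : 3 ≤ n) (h33 : ¬ (n = 3 ∧ Fintype.card F = 3)) : ∃ t : Matrix.GeneralLinearGroup (Fin n) F, orderOf t = 2 ∧ t ∉ Subgroup.center (Matrix.GeneralLinearGroup (Fin n) F) ∧ Cfsg.HasComponent (↥(Subgroup.centralizer ({t} : Set (Matrix.GeneralLinearGroup (Fin n) F))) ⧸ Cfsg.oddCore ↥(Subgroup.centralizer ({t} : Set (Matrix.GeneralLinearGroup (Fin n) F)))) := by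
  obtain ⟨k, rfl⟩ : ∃ k, n = k + 2 + 1 := ⟨n - 3, by omega⟩
  have h2 : (2 : F) ≠ 0 := two_ne hF
  have hSL : Cfsg.IsQuasisimple (Matrix.SpecialLinearGroup (Fin (k + 2)) F) := by
    apply qsSL hF (by omega)
    rintro ⟨h1, h3⟩
    exact h33 ⟨by omega, h3⟩
  refine ⟨tG F (k + 2), ?_, ?_, ?_⟩
  · haveI : Fact (Nat.Prime 2) := ⟨Nat.prime_two⟩
    apply orderOf_eq_prime
    · apply Units.ext
      rw [Units.val_pow_eq_pow_val, pow_two]
      exact tM_sq
    · intro h
      have h' : tM F (k + 2) = 1 := congrArg Units.val h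
      have h'' := congrFun (congrFun h' (Fin.castSucc (0 : Fin (k + 2)))) (Fin.castSucc (0 : Fin (k + 2)))
      rw [tM, Matrix.diagonal_apply_eq, dd_cs, Matrix.one_apply_eq] at h''
      apply h2
      linear_combination -h''
  · intro hcen
    have hij : Fin.castSucc (0 : Fin (k + 2)) ≠ Fin.last (k + 2) := Fin.castSucc_ne_last _
    obtain ⟨g, hg⟩ : ∃ g : Matrix.GeneralLinearGroup (Fin (k + 2 + 1)) F,
        g.1 = Matrix.transvection (Fin.castSucc (0 : Fin (k + 2))) (Fin.last (k + 2)) (1 : F) :=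
      ⟨⟨Matrix.transvection _ _ 1,
        Matrix.transvection (Fin.castSucc (0 : Fin (k + 2))) (Fin.last (k + 2)) (-1),
        (Matrix.transvection_mul_transvection_same _ _ hij 1 (-1)).trans
          (by rw [add_neg_cancel, Matrix.transvection_zero]),
        (Matrix.transvection_mul_transvection_same _ _ hij (-1) 1).trans
          (by rw [neg_add_cancel, Matrix.transvection_zero])⟩, rfl⟩
    have hgc : g.1 * tM F (k + 2) = tM F (k + 2) * g.1 :=
      congrArg Units.val (Subgroup.mem_center_iff.mp hcen g)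
    have h0 := (block h2 hgc).1 0
    rw [hg, Matrix.transvection, Matrix.add_apply, Matrix.one_apply_ne hij,
      Matrix.single_apply_same, zero_add] at h0
    exact one_ne_zero h0
  · let phi1 : Matrix.SpecialLinearGroup (Fin (k + 2)) F →*
        ↥(Subgroup.centralizer ({tG F (k + 2)} : Set (Matrix.GeneralLinearGroup (Fin (k + 2 + 1)) F))) :=
      (phi0 F (k + 2)).codRestrict _ phi0_mem
    let π := QuotientGroup.mk' (Cfsg.oddCore
      ↥(Subgroup.centralizer ({tG F (k + 2)} : Set (Matrix.GeneralLinearGroup (Fin (k + 2 + 1)) F))))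
    have hnK : (phi1.range).Normal := by
      constructor
      rintro _ ⟨A, rfl⟩ c
      obtain ⟨B, hB⟩ := conj_mem h2 c.2 A
      exact ⟨B, Subtype.ext hB.symm⟩
    refine ⟨(π.comp phi1).range, ?_, ?_⟩
    · rw [← MonoidHom.map_range]
      exact (hnK.map π (QuotientGroup.mk'_surjective _)).isSubnormal
    · rcases Cfsg.Agent.Helper10.qs_of_surjective hSL (π.comp phi1).rangeRestrict
          (π.comp phi1).rangeRestrict_surjective with hsub | hqs
      · exfalso
        obtain ⟨A0, hA0, hA0ne⟩ := exists_inv (F := F) k h2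
        have hx1 : (π.comp phi1) A0 = 1 := by
          have := hsub.elim (⟨(π.comp phi1) A0, A0, rfl⟩ : (π.comp phi1).range) 1
          exact congrArg Subtype.val this
        have hmem : phi1 A0 ∈ Cfsg.oddCore
            ↥(Subgroup.centralizer ({tG F (k + 2)} : Set (Matrix.GeneralLinearGroup (Fin (k + 2 + 1)) F))) :=
          (QuotientGroup.eq_one_iff _).mp hx1
        have hne : phi1 A0 ≠ 1 := by
          intro h
          apply hA0ne
          have h' : phi0 F (k + 2) A0 = 1 := congrArg Subtype.val h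
          have h'' : psi F (k + 2) A0 = 1 := by
            apply Subtype.ext
            exact congrArg Units.val h'
          exact psi_inj (h''.trans (map_one _).symm)
        haveI : Fact (Nat.Prime 2) := ⟨Nat.prime_two⟩
        have hord : orderOf (⟨phi1 A0, hmem⟩ : ↥(Cfsg.oddCore
            ↥(Subgroup.centralizer ({tG F (k + 2)} : Set (Matrix.GeneralLinearGroup (Fin (k + 2 + 1)) F))))) = 2 := by
          apply orderOf_eq_prime
          · apply Subtype.ext
            show phi1 A0 ^ 2 = 1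
            rw [pow_two, ← map_mul, hA0, map_one]
          · intro h; exact hne (congrArg Subtype.val h)
        have hdvd : 2 ∣ Nat.card ↥(Cfsg.oddCore
            ↥(Subgroup.centralizer ({tG F (k + 2)} : Set (Matrix.GeneralLinearGroup (Fin (k + 2 + 1)) F)))) := by
          have hh := orderOf_dvd_natCard (⟨phi1 A0, hmem⟩ : ↥(Cfsg.oddCore
            ↥(Subgroup.centralizer ({tG F (k + 2)} : Set (Matrix.GeneralLinearGroup (Fin (k + 2 + 1)) F)))))
          rw [hord] at hh
          exact hh
        have hcop := Cfsg.Agent.Helper10.pPrimeCore_coprime 2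
          ↥(Subgroup.centralizer ({tG F (k + 2)} : Set (Matrix.GeneralLinearGroup (Fin (k + 2 + 1)) F)))
        have := Nat.Coprime.eq_one_of_dvd hcop.symm hdvd
        omega
      · exact hqs

end Cfsg.Agent.S1340
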