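import Cfsg.Statements.S1447
import Cfsg.Agent.Helper1.Meta1
import Cfsg.Agent.S0026
import Cfsg.Agent.S0027
import Cfsg.Agent.S0055
import Cfsg.Agent.S0650
import Mathlib

set_option autoImplicit false
open Cfsg

namespace Cfsg.Agent.S1447

open scoped commutatorElement
open Cfsg.Agent.Helper1

/-- Let G be a finite group, p an odd prime, R a metacyclic p-subgroup and A a subgroup of order coprime to p normalizing R. Then [R, A] is abelian; R is generated by [R, A] and R ∩ C_G(A), which meet trivially; and if R is non-abelian and A does not centralize R, then [R, A] and R ∩ C_G(A) are nontrivial cyclic groups and [R, R] ≤ [R, A]. -/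
theorem result {G : Type*} [Group G] [Finite G] (p : ℕ) [Fact p.Prime] (hp : p ≠ 2) (R A : Subgroup G) (hR : IsPGroup p R) (hRm : Cfsg.IsMetacyclic R)
    (hA : (A ≤ Subgroup.normalizer (R : Set G))) (hcop : (Nat.card A).Coprime p) :
    IsMulCommutative ↥⁅R, A⁆ ∧ ⁅R, A⁆ ⊔ (R ⊓ Subgroup.centralizer (A : Set G)) = R ∧ ⁅R, A⁆ ⊓ (R ⊓ Subgroup.centralizer (A : Set G)) = ⊥ ∧
      (¬ IsMulCommutative R → ¬ A ≤ Subgroup.centralizer (R : Set G) →
        ⁅R, A⁆ ≠ ⊥ ∧ IsCyclic ↥⁅R, A⁆ ∧ (R ⊓ Subgroup.centralizer (A : Set G)) ≠ ⊥ ∧ IsCyclic ↥(R ⊓ Subgroup.centralizer (A : Set G)) ∧ ⁅R, R⁆ ≤ ⁅R, A⁆) := by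
  classical
  have hp' : p.Prime := Fact.out
  have hcopR : (Nat.card A).Coprime (Nat.card R) := by
    obtain ⟨k, hk⟩ := (IsPGroup.iff_card).mp hR
    rw [hk]
    exact Nat.Coprime.pow_right k hcop
  have hsolvR : Group.IsSolvable ↥R := by
    have : Group.IsNilpotent ↥R := hR.isNilpotent
    infer_instance
  have hKR : ⁅R, A⁆ ≤ R := by
    rw [Subgroup.commutator_le]
    intro r hr a ha
    rw [commutatorElement_def]
    have h1 : a * r⁻¹ * a⁻¹ ∈ R :=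
      ((Subgroup.mem_normalizer_iff.mp (hA ha)) r⁻¹).mp (R.inv_mem hr)
    have e : r * a * r⁻¹ * a⁻¹ = r * (a * r⁻¹ * a⁻¹) := by group
    rw [e]
    exact R.mul_mem hr h1
  have hAK : A ≤ Subgroup.normalizer ((⁅R, A⁆ : Subgroup G) : Set G) :=
    Cfsg.Agent.Helper1.le_normalizer_commutator A R A hA Subgroup.le_normalizer
  have h27 : ⁅⁅R, A⁆, A⁆ = ⁅R, A⁆ := Cfsg.Agent.S0027.result A R hA hcopR (Or.inr hsolvR)
  have h26 : ⁅R, A⁆ ⊔ (R ⊓ Subgroup.centralizer (A : Set G)) = R :=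
    Cfsg.Agent.S0026.result A R hA hcopR (Or.inr hsolvR)
  have hKp : IsPGroup p ↥⁅R, A⁆ := hR.to_le hKR
  have hKm : Cfsg.IsMetacyclic ↥⁅R, A⁆ :=
    Cfsg.Agent.Helper27.metacyclic_of_injective hRm (Subgroup.inclusion hKR)
      (Subgroup.inclusion_injective hKR)
  have hKcomm : ∀ x ∈ ⁅R, A⁆, ∀ y ∈ ⁅R, A⁆, x * y = y * x :=
    Meta.star p hp _ G ⁅R, A⁆ A rfl hKp hKm hAK hcop h27
  have hKab : IsMulCommutative ↥⁅R, A⁆ := ⟨⟨fun a b => Subtype.ext (hKcomm a a.2 b b.2)⟩⟩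
  have hcopK : (Nat.card A).Coprime (Nat.card ↥⁅R, A⁆) :=
    Nat.Coprime.coprime_dvd_right (Subgroup.card_dvd_of_le hKR) hcopR
  have h55 := (Cfsg.Agent.S0055.result A ⁅R, A⁆ hAK hcopK).1
  rw [h27] at h55
  have hKC : ⁅R, A⁆ ⊓ (R ⊓ Subgroup.centralizer (A : Set G)) = ⊥ := by
    rw [eq_bot_iff, ← h55]
    intro g hg
    exact ⟨⟨hg.1, hg.2.2⟩, hg.1⟩
  refine ⟨hKab, h26, hKC, ?_⟩
  intro hRna hAc
  have hKne : ⁅R, A⁆ ≠ ⊥ := by
    intro h
    apply hAc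
    rw [Subgroup.commutator_eq_bot_iff_le_centralizer] at h
    exact Subgroup.le_centralizer_iff.mp h
  have hCne : R ⊓ Subgroup.centralizer (A : Set G) ≠ ⊥ := by
    intro h
    rw [h, sup_bot_eq] at h26
    apply hRna
    exact ⟨⟨fun a b => Subtype.ext (hKcomm a (h26.symm ▸ a.2) b (h26.symm ▸ b.2))⟩⟩
  have hRnc : ¬ IsCyclic ↥R := fun h => hRna (IsCyclic.isMulCommutative)
  obtain ⟨E, hEcard, hEmem, -⟩ := Meta.omega_exists hp R hR hRm hRnc
  have hgen : ∀ H : Subgroup G, H ≤ R → ¬ IsCyclic ↥H → E ≤ H := by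
    intro H hHR hHnc
    obtain ⟨E', hE'card, hE'mem, -⟩ := Meta.omega_exists hp H (hR.to_le hHR)
      (Cfsg.Agent.Helper27.metacyclic_of_injective hRm (Subgroup.inclusion hHR)
        (Subgroup.inclusion_injective hHR)) hHnc
    have hle : E' ≤ E := fun g hg =>
      (hEmem g).mpr ⟨hHR ((hE'mem g).mp hg).1, ((hE'mem g).mp hg).2⟩
    have h' : E' = E := Subgroup.eq_of_le_of_card_ge hle (by rw [hEcard, hE'card])
    exact fun g hg => ((hE'mem g).mp (h'.symm ▸ hg)).1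
  have hCR : R ⊓ Subgroup.centralizer (A : Set G) ≤ R := inf_le_left
  have hKcyc : IsCyclic ↥⁅R, A⁆ := by
    by_contra hnc
    have hEK := hgen _ hKR hnc
    obtain ⟨g, hg, hg1, hgp⟩ := Meta.exists_order_p (p := p) _ (hR.to_le hCR) hCne
    have hgE : g ∈ E := (hEmem g).mpr ⟨hCR hg, hgp⟩
    have h1 : g ∈ ⁅R, A⁆ ⊓ (R ⊓ Subgroup.centralizer (A : Set G)) := ⟨hEK hgE, hg⟩
    rw [hKC, Subgroup.mem_bot] at h1
    exact hg1 h1
  have hCcyc : IsCyclic ↥(R ⊓ Subgroup.centralizer (A : Set G)) := by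
    by_contra hnc
    have hEC := hgen _ hCR hnc
    obtain ⟨g, hg, hg1, hgp⟩ := Meta.exists_order_p (p := p) _ hKp hKne
    have hgE : g ∈ E := (hEmem g).mpr ⟨hKR hg, hgp⟩
    have h1 : g ∈ ⁅R, A⁆ ⊓ (R ⊓ Subgroup.centralizer (A : Set G)) := ⟨hg, hEC hgE⟩
    rw [hKC, Subgroup.mem_bot] at h1
    exact hg1 h1
  refine ⟨hKne, hKcyc, hCne, hCcyc, ?_⟩
  have hRK : R ≤ Subgroup.normalizer ((⁅R, A⁆ : Subgroup G) : Set G) := by
    intro s hs
    apply Cfsg.Agent.S0650.mem_normalizer_of_conj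
    have hle : ⁅R, A⁆ ≤ (⁅R, A⁆).comap (MulAut.conj s).toMonoidHom := by
      rw [Subgroup.commutator_le]
      intro r hr a ha
      rw [Subgroup.mem_comap]
      show s * ⁅r, a⁆ * s⁻¹ ∈ ⁅R, A⁆
      have e : s * ⁅r, a⁆ * s⁻¹ = ⁅s * r, a⁆ * ⁅s, a⁆⁻¹ := by
        simp only [commutatorElement_def]; group
      rw [e]
      exact Subgroup.mul_mem _ (Subgroup.commutator_mem_commutator (R.mul_mem hs hr) ha)
        (Subgroup.inv_mem _ (Subgroup.commutator_mem_commutator hs ha))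
    intro x hx
    exact hle hx
  have hCn : R ⊓ Subgroup.centralizer (A : Set G) ≤
      Subgroup.normalizer ((⁅R, A⁆ : Subgroup G) : Set G) := hCR.trans hRK
  have h1 : QS.im ⁅R, A⁆ (⁅R, A⁆ ⊔ (R ⊓ Subgroup.centralizer (A : Set G))) =
      QS.im ⁅R, A⁆ (R ⊓ Subgroup.centralizer (A : Set G)) := by
    rw [QS.im_sup Subgroup.le_normalizer hCn, (QS.im_eq_bot_iff Subgroup.le_normalizer).mpr le_rfl,
      bot_sup_eq]
  rw [h26] at h1
  have hCC : ⁅R ⊓ Subgroup.centralizer (A : Set G), R ⊓ Subgroup.centralizer (A : Set G)⁆ = ⊥ := by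
    rw [Subgroup.commutator_eq_bot_iff_le_centralizer]
    intro x hx
    rw [Subgroup.mem_centralizer_iff]
    intro y hy
    have h := (IsCyclic.isMulCommutative
      (α := ↥(R ⊓ Subgroup.centralizer (A : Set G)))).is_comm.comm ⟨y, hy⟩ ⟨x, hx⟩
    exact congrArg Subtype.val h
  have h2 : QS.im ⁅R, A⁆ ⁅R, R⁆ = ⊥ := by
    rw [← QS.im_commutator hRK hRK, h1, QS.im_commutator hCn hCn, hCC]
    exact (QS.im_eq_bot_iff bot_le).mpr bot_le
  have hRRn : ⁅R, R⁆ ≤ Subgroup.normalizer ((⁅R, A⁆ : Subgroup G) : Set G) := by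
    refine le_trans ?_ hRK
    rw [Subgroup.commutator_le]
    intro x hx y hy
    rw [commutatorElement_def]
    exact R.mul_mem (R.mul_mem (R.mul_mem hx hy) (R.inv_mem hx)) (R.inv_mem hy)
  exact (QS.im_eq_bot_iff hRRn).mp h2

end Cfsg.Agent.S1447
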