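import Cfsg.Statements.S1457
import Cfsg.Agent.S1465

set_option autoImplicit false
open Cfsg

namespace Cfsg.Agent.S1457


open scoped commutatorElement
open Cfsg.Agent.Helper5 Cfsg.Agent.S0653
/-- Let G be a solvable group of odd order, p a prime, S a Sylow p-subgroup of G and A an abelian subgroup of S normal in S. Then A ≤ O_{p',p}(G). -/
theorem result {G : Type*} [Group G] [Finite G] [Group.IsSolvable G] (hodd : Odd (Nat.card G)) (p : ℕ) [Fact p.Prime] (S : Sylow p G) (A : Subgroup G) (hA : A ≤ (S : Subgroup G)) (hAc : IsMulCommutative A)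
    (hAn : (S : Subgroup G) ≤ Subgroup.normalizer (A : Set G)) :
    A ≤ Cfsg.pPrimePCore p G := by
  by_cases hp : p = 2
  · subst hp
    have h1 : Nat.card (S : Subgroup G) = 1 := by
      obtain ⟨k, hk⟩ := (IsPGroup.iff_card).mp S.isPGroup'
      have hdvd : Nat.card (S : Subgroup G) ∣ Nat.card G := Subgroup.card_subgroup_dvd_card _
      rw [hk] at hdvd ⊢
      rcases Nat.eq_zero_or_pos k with hk0 | hk0
      · rw [hk0, pow_zero]
      · exfalso
        have h2 : 2 ∣ Nat.card G := (dvd_pow_self 2 hk0.ne').trans hdvd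
        rw [← Nat.not_even_iff_odd] at hodd
        exact hodd (even_iff_two_dvd.mpr h2)
    have h2 : (S : Subgroup G) = ⊥ := Subgroup.eq_bot_of_card_eq _ h1
    rw [h2] at hA
    exact hA.trans bot_le
  · set K := Cfsg.pPrimeCore p G with hK
    set π := QuotientGroup.mk' K with hπ
    have hπs : Function.Surjective π := QuotientGroup.mk'_surjective K
    have hodd' : Odd (Nat.card (G ⧸ K)) :=
      Odd.of_dvd_nat hodd (Subgroup.card_quotient_dvd_card K)
    have hPp : IsPGroup p (Cfsg.pCore p (G ⧸ K)) := Cfsg.Agent.S0010.pCore_isPGroup p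
    have hPS : Cfsg.pCore p (G ⧸ K) ≤ (S : Subgroup G).map π := by
      have := hPp.le_sylow_of_normal (S.mapSurjective hπs)
      rwa [Sylow.coe_mapSurjective] at this
    have hS : ∀ B ∈ ({A.map π} : Set (Subgroup (G ⧸ K))), IsMulCommutative B ∧ IsPGroup p B ∧
        Cfsg.pCore p (G ⧸ K) ≤ Subgroup.normalizer (B : Set (G ⧸ K)) := by
      intro B hB
      rw [Set.mem_singleton_iff] at hB
      subst hB
      refine ⟨inferInstance, ((S.isPGroup').to_le hA).map π, ?_⟩
      exact hPS.trans ((Subgroup.map_mono hAn).trans (Subgroup.le_normalizer_map π))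
    have h1 := (Cfsg.Agent.S1465.result hodd' p hp (Cfsg.pCore p (G ⧸ K)) hPp _ hS).2
      (Cfsg.Agent.Helper10.pPrimeCore_quotient p G) inf_le_left
    rw [sSup_singleton] at h1
    intro a ha
    show π a ∈ Cfsg.pCore p (G ⧸ K)
    exact h1 (Subgroup.mem_map_of_mem π ha)


end Cfsg.Agent.S1457
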