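import Cfsg.Statements.S1476
import Mathlib
import Cfsg.Agent.Helper11.CNSolv2

set_option autoImplicit false
open Cfsg

namespace Cfsg.Agent.S1476

/-- Let G be a finite solvable group in which every non-identity element has nilpotent centralizer. Then either G is nilpotent; or G has a normal subgroup K with a Frobenius complement E (K E = G, K ∩ E = 1, E meets its conjugates by outside elements trivially) such that E is cyclic or E is generated by two elementwise-commuting subgroups, one cyclic of odd order and one isomorphic to a generalized quaternion group; or G is a three-step group with respect to some prime p. -/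
theorem result {G : Type*} [Group G] [Finite G] [Group.IsSolvable G] (hCN : Cfsg.IsCNGroup G) :
    Group.IsNilpotent G ∨
      (∃ K E : Subgroup G, K.Normal ∧ Subgroup.IsComplement' K E ∧ Cfsg.IsFrobeniusComplement E ∧
        (IsCyclic E ∨ ∃ C Q : Subgroup G, C ⊔ Q = E ∧ (∀ a ∈ C, ∀ b ∈ Q, a * b = b * a) ∧ IsCyclic C ∧ Odd (Nat.card C) ∧
          ∃ n : ℕ, Nonempty (↥Q ≃* QuaternionGroup (2 ^ n)))) ∨
      ∃ p : ℕ, p.Prime ∧ Cfsg.IsThreeStepGroup p G := by
  classical
  by_cases hnil : Group.IsNilpotent G
  · exact Or.inl hnil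
  right
  by_cases hS : ∃ (p : ℕ) (_ : Fact p.Prime) (P : Sylow p G),
      (P : Subgroup G) ≠ ⊥ ∧ (P : Subgroup G).Normal
  · left
    obtain ⟨p, hp, P, hP1, hPn⟩ := hS
    exact Cfsg.Agent.Helper11.cn_frobenius_of_normal_sylow hCN hnil p P hP1 hPn
  · right
    have hns : ∀ (q : ℕ) [Fact q.Prime] (S : Sylow q G), (S : Subgroup G).Normal →
        (S : Subgroup G) = ⊥ := by
      intro q hq S hSn
      by_contra h
      exact hS ⟨q, hq, S, h, hSn⟩
    have hnt : Nontrivial G := by
      by_contra hnt
      rw [not_nontrivial_iff_subsingleton] at hnt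
      exact hnil inferInstance
    obtain ⟨p, hp, hpG⟩ := Cfsg.Agent.Helper11.exists_pCore_ne_bot (G := G)
    have hpf : Fact p.Prime := ⟨hp⟩
    have hother : ∀ q : ℕ, q.Prime → q ≠ p → pCore q G = ⊥ := by
      intro q hq hqp
      by_contra h
      have hqf : Fact q.Prime := ⟨hq⟩
      obtain ⟨S⟩ := (inferInstance : Nonempty (Sylow p G))
      have hSn := Cfsg.Agent.Helper11.cn_normal_sylow_of_two_cores hCN p q (Ne.symm hqp) hpG h S
      have h1 := hns p S hSn
      have h2 := Cfsg.Agent.Helper17.pCore_le_sylow S
      rw [h1, le_bot_iff] at h2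
      exact hpG h2
    exact ⟨p, hp, Cfsg.Agent.Helper11.cn_three_step hCN hns p hpG hother⟩

end Cfsg.Agent.S1476
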