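import Cfsg.Statements.S1532
import Mathlib
import Cfsg.Agent.Helper11.TIInd

set_option autoImplicit false
open Cfsg

namespace Cfsg.Agent.S1532

open Cfsg.Agent.Helper11

/-- Let G be a finite group, p an odd prime and P a Sylow p-subgroup that is non-abelian, whose underlying set is a TI-subset of G, with P properly contained in its set normaliser N and C_G(x) ≤ P for every non-identity x ∈ P. Let Z be a nontrivial subgroup of the centre of P normalised by N. Then the set of irreducible characters χ of N with χ z ≠ χ 1 for some z ∈ Z is coherent for the map induced by induction from N to G. -/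
theorem result {G : Type*} [Group G] [Fintype G] (p : ℕ) [Fact p.Prime] (hp : p ≠ 2) (P : Sylow p G) (hna : ¬ IsMulCommutative (P : Subgroup G)) (hTI : Cfsg.IsTISubset ((P : Subgroup G) : Set G)) (hlt : (P : Subgroup G) < Subgroup.normalizer ((P : Subgroup G) : Set G)) (hC : ∀ k ∈ (P : Subgroup G), k ≠ 1 → Subgroup.centralizer ({k} : Set G) ≤ (P : Subgroup G)) [Fintype ↥(Subgroup.normalizer ((P : Subgroup G) : Set G))] (Z : Subgroup G) (hZ1 : Z ≠ ⊥) (hZP : ∀ z ∈ Z, z ∈ (P : Subgroup G) ∧ ∀ y ∈ (P : Subgroup G), z * y = y * z) (hZn : ∀ x ∈ Subgroup.normalizer ((P : Subgroup G) : Set G), ∀ z ∈ Z, x * z * x⁻¹ ∈ Z) : Cfsg.IsCoherent {χ : ↥(Subgroup.normalizer ((P : Subgroup G) : Set G)) → ℂ | Cfsg.IsIrrCharacter ↥(Subgroup.normalizer ((P : Subgroup G) : Set G)) χ ∧ ∃ z : ↥(Subgroup.normalizer ((P : Subgroup G) : Set G)), (z : G) ∈ Z ∧ χ z ≠ χ 1} {1}ᶜ (fun α => Cfsg.indFun (Subgroup.normalizer ((P : Subgroup G) : Set G)) α) := by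
  classical
  have hPN : (P : Subgroup G) ≤ Subgroup.normalizer ((P : Subgroup G) : Set G) :=
    Subgroup.le_normalizer
  have hP1 : (P : Subgroup G) ≠ ⊥ := by
    intro h
    apply hna
    refine ⟨⟨fun a b => ?_⟩⟩
    have hall : ∀ x ∈ (P : Subgroup G), x = 1 := fun x hx => by
      rw [h, Subgroup.mem_bot] at hx
      exact hx
    have ha : a = 1 := Subtype.ext (hall _ a.2)
    have hb : b = 1 := Subtype.ext (hall _ b.2)
    rw [ha, hb]
  have hodd : Odd (Nat.card (Subgroup.normalizer ((P : Subgroup G) : Set G))) := by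
    by_contra hcon
    rw [Nat.not_odd_iff_even] at hcon
    have _h2 : Fact (Nat.Prime 2) := ⟨Nat.prime_two⟩
    obtain ⟨t, ht⟩ := exists_prime_orderOf_dvd_card' 2 hcon.two_dvd
    have ht2 : (t : G) * (t : G) = 1 := by
      have h1 := pow_orderOf_eq_one t
      rw [ht, pow_two] at h1
      exact congrArg Subtype.val h1
    apply hna
    have hcomm := comm_of_fpf_involution (P : Subgroup G) (t : G) ht2 t.2 (by
      intro w hw hcomm
      by_contra hw1
      have htP : (t : G) ∈ (P : Subgroup G) := by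
        apply hC w hw hw1
        rw [Subgroup.mem_centralizer_iff]
        intro y hy
        rw [Set.mem_singleton_iff] at hy
        rw [hy]
        exact hcomm.symm
      have h1 : orderOf (t : G) = 2 := by rw [Subgroup.orderOf_coe, ht]
      have h2 : orderOf (t : G) ∣ Nat.card (P : Subgroup G) := Subgroup.orderOf_dvd_natCard _ htP
      obtain ⟨n, hn⟩ := (P.isPGroup').exists_card_eq
      rw [h1, hn] at h2
      have h3 := Nat.Prime.dvd_of_dvd_pow Nat.prime_two h2
      exact hp ((Nat.prime_dvd_prime_iff_eq Nat.prime_two (Fact.out : p.Prime)).mp h3).symm)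
    exact ⟨⟨fun a b => Subtype.ext (hcomm a a.2 b b.2)⟩⟩
  exact ti_frob_coherent_central _ (P : Subgroup G) hPN hTI
    (fun n hn x hx => (Subgroup.mem_normalizer_iff.mp hn x).mp hx) hC hP1 hlt.ne hodd Z hZ1 hZP hZn

end Cfsg.Agent.S1532
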