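import Cfsg.Statements.S1533
import Mathlib
import Cfsg.Agent.Helper11.Sibley4

set_option autoImplicit false
open Cfsg

namespace Cfsg.Agent.S1533

open Cfsg.Agent.Helper11

/-- Let G be a finite group, p an odd prime, and P a nontrivial Sylow p-subgroup whose underlying set is a TI-subset of G, with P properly contained in its set normaliser N and C_G(x) ≤ P for every non-identity x ∈ P. Let S be the set of irreducible characters χ of N with χ x ≠ χ 1 for some x ∈ P. Then either S has exactly one member, P is elementary abelian and Nat.card P = [N:P] + 1; or (S, N minus 1, induction to G) is coherent. -/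
theorem result {G : Type*} [Group G] [Fintype G] (p : ℕ) [Fact p.Prime] (hp : p ≠ 2) (P : Sylow p G) (hP1 : (P : Subgroup G) ≠ ⊥) (hTI : Cfsg.IsTISubset ((P : Subgroup G) : Set G)) (hlt : (P : Subgroup G) < Subgroup.normalizer ((P : Subgroup G) : Set G)) (hC : ∀ k ∈ (P : Subgroup G), k ≠ 1 → Subgroup.centralizer ({k} : Set G) ≤ (P : Subgroup G)) [Fintype ↥(Subgroup.normalizer ((P : Subgroup G) : Set G))] : (Nat.card {χ : ↥(Subgroup.normalizer ((P : Subgroup G) : Set G)) → ℂ // Cfsg.IsIrrCharacter ↥(Subgroup.normalizer ((P : Subgroup G) : Set G)) χ ∧ ∃ x : ↥(Subgroup.normalizer ((P : Subgroup G) : Set G)), (x : G) ∈ (P : Subgroup G) ∧ χ x ≠ χ 1} = 1 ∧ Cfsg.IsElementaryAbelian p (P : Subgroup G) ∧ Nat.card (P : Subgroup G) = ((P : Subgroup G).subgroupOf (Subgroup.normalizer ((P : Subgroup G) : Set G))).index + 1) ∨ Cfsg.IsCoherent {χ : ↥(Subgroup.normalizer ((P : Subgroup G) : Set G)) → ℂ | Cfsg.IsIrrCharacter ↥(Subgroup.normalizer ((P : Subgroup G) : Set G)) χ ∧ ∃ x : ↥(Subgroup.normalizer ((P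 : Subgroup G) : Set G)), (x : G) ∈ (P : Subgroup G) ∧ χ x ≠ χ 1} {1}ᶜ (fun α => Cfsg.indFun (Subgroup.normalizer ((P : Subgroup G) : Set G)) α) := by
  classical
  obtain ⟨hKn, hCL, hK1', hK2'⟩ := ti_frob_basic (P : Subgroup G) hP1 hlt hC
  have hSeq := frob_irr_set_eq
    ((P : Subgroup G).subgroupOf (Subgroup.normalizer ((P : Subgroup G) : Set G))) hCL
  have hcardK : Nat.card ((P : Subgroup G).subgroupOf
      (Subgroup.normalizer ((P : Subgroup G) : Set G))) = Nat.card (P : Subgroup G) :=
    Nat.card_congr (Subgroup.subgroupOfEquivOfLe hlt.le).toEquiv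
  have hset : {χ : ↥(Subgroup.normalizer ((P : Subgroup G) : Set G)) → ℂ |
      Cfsg.IsIrrCharacter ↥(Subgroup.normalizer ((P : Subgroup G) : Set G)) χ ∧
        ∃ x : ↥(Subgroup.normalizer ((P : Subgroup G) : Set G)),
          (x : G) ∈ (P : Subgroup G) ∧ χ x ≠ χ 1} =
      inducedIrrAbove ((P : Subgroup G).subgroupOf
        (Subgroup.normalizer ((P : Subgroup G) : Set G))) ⊥ := by
    rw [← hSeq]
    rfl
  -- `P` has odd order
  obtain ⟨n, hn⟩ := (IsPGroup.iff_card.mp P.isPGroup')
  have hpodd : Odd p := (Fact.out : p.Prime).odd_of_ne_two hp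
  have hoddP : Odd (Nat.card (P : Subgroup G)) := by
    rw [hn]
    exact hpodd.pow
  by_cases hne : Nat.card (P : Subgroup G) =
      ((P : Subgroup G).subgroupOf (Subgroup.normalizer ((P : Subgroup G) : Set G))).index + 1
  · left
    refine ⟨?_, ?_, hne⟩
    · exact frob_minimal_card ((P : Subgroup G).subgroupOf
        (Subgroup.normalizer ((P : Subgroup G) : Set G))) hCL (by rw [hcardK]; exact hne)
    · obtain ⟨q, hq, hcomm, hexp⟩ := frob_minimal_elementary ((P : Subgroup G).subgroupOf
        (Subgroup.normalizer ((P : Subgroup G) : Set G))) hCL hK1' (by rw [hcardK]; exact hne)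
      -- transfer to `P`
      have hcommP : ∀ a ∈ (P : Subgroup G), ∀ b ∈ (P : Subgroup G), a * b = b * a := by
        intro a ha b hb
        have h1 := hcomm ⟨a, hlt.le ha⟩ (Subgroup.mem_subgroupOf.mpr ha) ⟨b, hlt.le hb⟩
          (Subgroup.mem_subgroupOf.mpr hb)
        exact congrArg Subtype.val h1
      have hexpP : ∀ a ∈ (P : Subgroup G), a ^ q = 1 := by
        intro a ha
        have h1 := hexp ⟨a, hlt.le ha⟩ (Subgroup.mem_subgroupOf.mpr ha)
        have h2 := congrArg Subtype.val h1
        simpa using h2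
      -- `q = p`
      obtain ⟨a, ha1⟩ := (Subgroup.ne_bot_iff_exists_ne_one (H := (P : Subgroup G))).mp hP1
      have ha1' : (a : G) ≠ 1 := fun h => ha1 (Subtype.ext h)
      have hqa : orderOf (a : G) ∣ q := orderOf_dvd_of_pow_eq_one (hexpP a a.2)
      have hoa : orderOf (a : G) = q := by
        rcases (Nat.dvd_prime hq).mp hqa with h | h
        · exact absurd (orderOf_eq_one_iff.mp h) ha1'
        · exact h
      obtain ⟨k, hk⟩ := P.isPGroup' a
      have hk' : (a : G) ^ p ^ k = 1 := by
        have := congrArg Subtype.val hk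
        simpa using this
      have hqp : q ∣ p ^ k := by
        rw [← hoa]
        exact orderOf_dvd_of_pow_eq_one hk'
      have hqp' : q = p := (Nat.prime_dvd_prime_iff_eq hq Fact.out).mp (hq.dvd_of_dvd_pow hqp)
      subst hqp'
      refine ⟨⟨⟨fun a b => ?_⟩⟩, hexpP⟩
      exact Subtype.ext (hcommP a a.2 b b.2)
  · right
    rw [hset]
    exact sibley_ti_frob (P : Subgroup G) hP1 hTI hlt hC hoddP hne

end Cfsg.Agent.S1533
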