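import Cfsg.Statements.S1534
import Mathlib
import Cfsg.Agent.Helper11.Sibley4

set_option autoImplicit false
open Cfsg

namespace Cfsg.Agent.S1534

open Cfsg.Agent.Helper11

/-- Let G be a finite group and K a nontrivial nilpotent subgroup whose underlying set is a TI-subset of G, properly contained in its set normaliser N, with C_G(k) ≤ K for every non-identity k ∈ K; let e be the index of K in N and S the set of irreducible characters χ of N with χ k ≠ χ 1 for some k ∈ K. Then one of: S has exactly one member, Nat.card K = e + 1 and K is an elementary abelian p-group for some prime p; or K is a Sylow 2-subgroup of G (Nat.card K is the largest power of 2 dividing Nat.card G) and [K : [K,K]] < 4e²; or (S, N minus 1, induction to G) is coherent. -/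
theorem result {G : Type*} [Group G] [Fintype G] (K : Subgroup G) (hK1 : K ≠ ⊥) (hnil : Group.IsNilpotent K) (hTI : Cfsg.IsTISubset (K : Set G)) (hlt : K < Subgroup.normalizer (K : Set G)) (hC : ∀ k ∈ K, k ≠ 1 → Subgroup.centralizer ({k} : Set G) ≤ K) [Fintype ↥(Subgroup.normalizer (K : Set G))] : (Nat.card {χ : ↥(Subgroup.normalizer (K : Set G)) → ℂ // Cfsg.IsIrrCharacter ↥(Subgroup.normalizer (K : Set G)) χ ∧ ∃ k : ↥(Subgroup.normalizer (K : Set G)), (k : G) ∈ K ∧ χ k ≠ χ 1} = 1 ∧ Nat.card K = (K.subgroupOf (Subgroup.normalizer (K : Set G))).index + 1 ∧ ∃ p : ℕ, p.Prime ∧ Cfsg.IsElementaryAbelian p K) ∨ (Nat.card K = 2 ^ (Nat.card G).factorization 2 ∧ (⁅K, K⁆.subgroupOf K).index < 4 * (K.subgroupOf (Subgroup.normalizer (K : Set G))).index ^ 2) ∨ Cfsg.IsCoherent {χ : ↥(Subgroup.normalizer (K : Set G)) → ℂ | Cfsg.IsIrrCharacter ↥(Subgroup.normalizer (K : Set G)) χ ∧ ∃ k : ↥(Subgroup.normalizer (K : Set G)), (k : G) ∈ K ∧ χ k ≠ χ 1} {1}ᶜ (fun α => Cfsg.indFun (Subgroup.normalizer (K : Set G)) α) := by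
  classical
  obtain ⟨hKn, hCL, hK1', hK2'⟩ := ti_frob_basic K hK1 hlt hC
  have hSeq := frob_irr_set_eq (K.subgroupOf (Subgroup.normalizer (K : Set G))) hCL
  have hcardK : Nat.card (K.subgroupOf (Subgroup.normalizer (K : Set G))) = Nat.card K :=
    Nat.card_congr (Subgroup.subgroupOfEquivOfLe hlt.le).toEquiv
  have hset : {χ : ↥(Subgroup.normalizer (K : Set G)) → ℂ |
      Cfsg.IsIrrCharacter ↥(Subgroup.normalizer (K : Set G)) χ ∧
        ∃ k : ↥(Subgroup.normalizer (K : Set G)), (k : G) ∈ K ∧ χ k ≠ χ 1} =
      inducedIrrAbove (K.subgroupOf (Subgroup.normalizer (K : Set G))) ⊥ := by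
    rw [← hSeq]
    rfl
  by_cases hne : Nat.card K = (K.subgroupOf (Subgroup.normalizer (K : Set G))).index + 1
  · left
    refine ⟨?_, hne, ?_⟩
    · exact frob_minimal_card (K.subgroupOf (Subgroup.normalizer (K : Set G))) hCL
        (by rw [hcardK]; exact hne)
    · obtain ⟨q, hq, hcomm, hexp⟩ := frob_minimal_elementary
        (K.subgroupOf (Subgroup.normalizer (K : Set G))) hCL hK1' (by rw [hcardK]; exact hne)
      refine ⟨q, hq, ⟨⟨fun a b => ?_⟩⟩, ?_⟩
      · have h1 := hcomm ⟨(a : G), hlt.le a.2⟩ (Subgroup.mem_subgroupOf.mpr a.2)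
          ⟨(b : G), hlt.le b.2⟩ (Subgroup.mem_subgroupOf.mpr b.2)
        have h2 : (a : G) * (b : G) = (b : G) * (a : G) := congrArg Subtype.val h1
        exact Subtype.ext h2
      · intro a ha
        have h1 := hexp ⟨a, hlt.le ha⟩ (Subgroup.mem_subgroupOf.mpr ha)
        have h2 := congrArg Subtype.val h1
        simpa using h2
  · right
    obtain ⟨hα, hα1⟩ := ti_isLinearIsometryOn (Subgroup.normalizer (K : Set G)) K hTI
    have h1535 := Cfsg.Agent.S1535.result (K.subgroupOf (Subgroup.normalizer (K : Set G)))
      hK1' hK2' hCL (by rw [hcardK]; exact hne)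
      (fun α => indFun (Subgroup.normalizer (K : Set G)) α)
      (by rw [hSeq]; exact hα) (by rw [hSeq]; exact hα1)
    rcases h1535 with hcoh | ⟨p, hp, ⟨m, hm⟩, hnab, hidx⟩
    · right
      rw [hset, ← hSeq]
      exact hcoh
    · have _hp : Fact p.Prime := ⟨hp⟩
      rw [hcardK] at hm
      by_cases hp2 : p = 2
      · left
        subst hp2
        have hpg : IsPGroup 2 K := IsPGroup.of_card hm
        obtain ⟨P, hP⟩ := sylow_of_ti_frob K 2 hpg hK1 hlt hC
        refine ⟨?_, ?_⟩
        · rw [← hP]
          exact P.card_eq_multiplicity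
        · -- the index of the derived group
          have hrel : (⁅K.subgroupOf (Subgroup.normalizer (K : Set G)),
              K.subgroupOf (Subgroup.normalizer (K : Set G))⁆.subgroupOf
                (K.subgroupOf (Subgroup.normalizer (K : Set G)))).index =
              (⁅K, K⁆.subgroupOf K).index := by
            have h1 := Subgroup.relIndex_map_map_of_injective
              (f := (Subgroup.normalizer (K : Set G)).subtype)
              ⁅K.subgroupOf (Subgroup.normalizer (K : Set G)),
                K.subgroupOf (Subgroup.normalizer (K : Set G))⁆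
              (K.subgroupOf (Subgroup.normalizer (K : Set G)))
              (Subgroup.subtype_injective _)
            rw [Subgroup.map_commutator, Subgroup.map_subgroupOf_eq_of_le hlt.le] at h1
            exact h1.symm
          rw [hrel] at hidx
          have hdvd : (⁅K, K⁆.subgroupOf K).index ∣ 2 ^ m := by
            rw [← hm]
            exact Subgroup.index_dvd_card _
          obtain ⟨j, hj, hj2⟩ := (Nat.dvd_prime_pow Nat.prime_two).mp hdvd
          have he := frob_dvd_relIndex_pred (K.subgroupOf (Subgroup.normalizer (K : Set G))) hCL ⊥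
          rw [Subgroup.relIndex_bot_left, hcardK, hm] at he
          have hm1 : m ≠ 0 := by
            intro h0
            rw [h0, pow_zero] at hm
            exact hK1 ((Subgroup.card_eq_one (H := K)).mp hm)
          have he1 : (K.subgroupOf (Subgroup.normalizer (K : Set G))).index ≠ 1 := by
            intro h1
            exact hK2' (Subgroup.index_eq_one.mp h1)
          obtain ⟨e, he'⟩ : ∃ e, e = (K.subgroupOf (Subgroup.normalizer (K : Set G))).index :=
            ⟨_, rfl⟩
          rw [← he'] at he he1 hidx ⊢
          rw [hj2] at hidx ⊢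
          -- pure arithmetic
          have hodd : Odd e := by
            have h2m : Even (2 ^ m) := (Nat.even_pow' hm1).mpr even_two
            have hpos : 0 < 2 ^ m := by positivity
            have : Odd (2 ^ m - 1) := Nat.Even.sub_odd hpos h2m odd_one
            exact Odd.of_dvd_nat this he
          have h4e : Odd (4 * e ^ 2 + 1) := by
            refine Even.add_odd ?_ odd_one
            exact (even_two.mul_right 2).mul_right _
          rcases Nat.eq_zero_or_pos j with hj0 | hjpos
          · rw [hj0, pow_zero]
            have : 0 < e := hodd.pos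
            nlinarith
          · have hjeven : Even (2 ^ j) := (Nat.even_pow' hjpos.ne').mpr even_two
            have hne1 : 2 ^ j ≠ 4 * e ^ 2 + 1 := by
              intro h
              rw [h] at hjeven
              exact (Nat.not_even_iff_odd.mpr h4e) hjeven
            have hne2 : 2 ^ j ≠ 4 * e ^ 2 := by
              intro h
              have h1 : e ^ 2 ∣ 2 ^ j := ⟨4, by rw [h]; ring⟩
              obtain ⟨i, -, hi⟩ := (Nat.dvd_prime_pow Nat.prime_two).mp h1
              have hodd2 : Odd (e ^ 2) := hodd.pow
              rw [hi] at hodd2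
              have hi0 : i = 0 := by
                by_contra hi0
                exact (Nat.not_even_iff_odd.mpr hodd2) ((Nat.even_pow' hi0).mpr even_two)
              rw [hi0, pow_zero] at hi
              apply he1
              nlinarith [hodd.pos]
            omega
      · right
        have hpodd : Odd p := hp.odd_of_ne_two hp2
        have hoddK : Odd (Nat.card K) := by
          rw [hm]
          exact hpodd.pow
        rw [hset]
        exact sibley_ti_frob K hK1 hTI hlt hC hoddK hne

end Cfsg.Agent.S1534
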