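import Mathlib
import Cfsg.Statements.S1601
import Cfsg.Agent.Helper3.M12Stmts
import Cfsg.Agent.Helper12.GolayTrio2
import Cfsg.Agent.Helper8.SL2P
import Cfsg.Agent.S0242

set_option autoImplicit false
open scoped Pointwise
open Cfsg

namespace Cfsg.Agent.S1601

open Cfsg.Agent.Helper12 Cfsg.Agent.Helper8

/-- Packed tables of 22 permutations: `a^0, …, a^10, b^0, …, b^10` for two elements `a`, `b` of order 11
fixing the standard dodecad, the point 0 on it and the point 5 off it. -/
def LG : ℕ := 0xb00000700001600000a00000f00000c00001500000400000e00001700001200001000001100001300000200000300001400000800000500000600000900000100000d00000000001100001400000700001300000e00001000001600000600001700000b00000c00000400001500000f00000100000900000a00000300000500000800000200000d00001200000000001500000a00001400000f00001700000400000700000800000b00001100001000000600001600000e00000d00000200001300000900000500000300000100001200000c00000000001600001300000a00000e00000b00000600001400000300001100001500000400000800000700001700001200000100000f00000200000500000900000d00000c0000100000000000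0700000f00001300001700001100000800000a00000900001500001600000600000300001400000b00000c00000d00000e00000100000500000200001200001000000400000000001400000e00000f00000b00001500000300001300000200001600000700000800000900000a00001100001000001200001700000d00000500000100000c00000400000600000000000a00001700000e00001100001600000900000f00000100000700001400000300000200001300001500000400000c00000b00001200000500000d00001000000600000800000000001300000b00001700001500000700000200000e00000d00001400000a00000900000100000f00001600000600001000001100000c00000500001200000400000800000300000000000f00001100000b00001600001400000100001700001200000a00001300000200000d00000e00000700000800000400001500001000000500000c00000600000300000900000000000e00001500001100000700000a00000d00000b00000c00001300000f00000100001200001700001400000300000600001600000400000500001000000800000900000200000000001700001600001500001400001300001200001100001000000f00000e00000d00000c00000b00000a00000900000800000700000600000500000400000300000200000100000000001100000a00000700001600000f00000c00001300001200001500000b000010000004000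01700000e00000d00000900001400000300000500000200000800000100000600000000001300000e00001400000a00001500000400000f00000c00000700001700001200000200001100000b00001000000d00001600000800000500000100000900000600000300000000000f00000b00001600000e00000700000200001500000400001400001100000c00000100001300001700001200001000000a00000900000500000600000d00000300000800000000001500001700000a00000b00001400000100000700000200001600001300000400000600000f00001100000c00001200000e00000d00000500000300001000000800000900000000000700001100000e00001700001600000600001400000100000a00000f00000200000300001500001300000400000c00000b00001000000500000800001200000900000d00000000001400001300000b00001100000a00000300001600000600000e00001500000100000800000700000f00000200000400001700001200000500000900000c00000d00001000000000001600000f00001700001300000e00000800000a00000300000b00000700000600000900001400001500000100000200001100000c00000500000d00000400001000001200000000000a00001500001100000f00000b00000900000e00000800001700001400000300000d00001600000700000600000100001300000400000500001000000200001200000c00000000000e00000700001300001500001700000d00000b00000900001100001600000800001000000a00001400000300000600000f00000200000500001200000100000c00000400000000000b00001400000f00000700001100001000001700000d00001300000a00000900001200000e00001600000800000300001500000100000500000c00000600000400000200000000001700001600001500001400001300001200001100001000000f00000e00000d00000c00000b00000a000009000008000007000006000005000004000003000002000001000000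

/-- The inverse tables. -/
def LQ : ℕ := 0xe00001500001100000700000a00000d00000b00000c00001300000f00000100001200001700001400000300000600001600000400000500001000000800000900000200000000000f00001100000b00001600001400000100001700001200000a00001300000200000d00000e00000700000800000400001500001000000500000c00000600000300000900000000001300000b00001700001500000700000200000e00000d00001400000a00000900000100000f00001600000600001000001100000c00000500001200000400000800000300000000000a00001700000e00001100001600000900000f00000100000700001400000300000200001300001500000400000c00000b00001200000500000d00001000000600000800000000001400000e00000f00000b00001500000300001300000200001600000700000800000900000a00001100001000001200001700000d00000500000100000c00000400000600000000000700000f00001300001700001100000800000a00000900001500001600000600000300001400000b00000c00000d00000e00000100000500000200001200001000000400000000001600001300000a00000e00000b00000600001400000300001100001500000400000800000700001700001200000100000f00000200000500000900000d00000c00001000000000001500000a00001400000f0000170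0000400000700000800000b00001100001000000600001600000e00000d00000200001300000900000500000300000100001200000c00000000001100001400000700001300000e00001000001600000600001700000b00000c00000400001500000f00000100000900000a00000300000500000800000200000d00001200000000000b00000700001600000a00000f00000c00001500000400000e00001700001200001000001100001300000200000300001400000800000500000600000900000100000d00000000001700001600001500001400001300001200001100001000000f00000e00000d00000c00000b00000a00000900000800000700000600000500000400000300000200000100000000000b00001400000f00000700001100001000001700000d00001300000a00000900001200000e00001600000800000300001500000100000500000c00000600000400000200000000000e00000700001300001500001700000d00000b00000900001100001600000800001000000a00001400000300000600000f00000200000500001200000100000c00000400000000000a00001500001100000f00000b00000900000e00000800001700001400000300000d00001600000700000600000100001300000400000500001000000200001200000c00000000001600000f00001700001300000e00000800000a00000300000b000007000006000009000014000015000001000002000011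00000c00000500000d00000400001000001200000000001400001300000b00001100000a00000300001600000600000e00001500000100000800000700000f00000200000400001700001200000500000900000c00000d00001000000000000700001100000e00001700001600000600001400000100000a00000f00000200000300001500001300000400000c00000b00001000000500000800001200000900000d00000000001500001700000a00000b00001400000100000700000200001600001300000400000600000f00001100000c00001200000e00000d00000500000300001000000800000900000000000f00000b00001600000e00000700000200001500000400001400001100000c00000100001300001700001200001000000a00000900000500000600000d00000300000800000000001300000e00001400000a00001500000400000f00000c00000700001700001200000200001100000b00001000000d00001600000800000500000100000900000600000300000000001100000a00000700001600000f00000c00001300001200001500000b00001000000400001700000e00000d00000900001400000300000500000200000800000100000600000000001700001600001500001400001300001200001100001000000f00000e00000d00000c00000b00000a000009000008000007000006000005000004000003000002000001000000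

theorem LG_ok : sysOK LG LQ 22 = true := by decide +kernel
theorem LG_m24 : sysM24 LG 22 = true := by decide +kernel
theorem LG_fixd : fixOK LG 22 340831 = true := by decide +kernel
theorem LG_fix0 : fixPtOK LG 22 0 = true := by decide +kernel
theorem LG_fix5 : fixPtOK LG 22 5 = true := by decide +kernel

/-- The `j`-th permutation of the system. -/
def lg (j : ℕ) : Equiv.Perm GolayPt := genOf LG LQ 22 LG_ok j

/-- Evaluate a word in the generators at a point index (rightmost letter acts first). -/
def ev (w : List ℕ) (i : ℕ) : ℕ :=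
  List.foldr (fun j acc => bif Nat.blt j 22 then get24 (sub LG j) acc else acc) i w

/-- The product of the generators of a word. -/
def wprod (w : List ℕ) : Equiv.Perm GolayPt := (w.map lg).prod

/-- Two words give the same permutation. -/
def weq (w1 w2 : List ℕ) : Bool := allB 24 (fun i => Nat.beq (ev w1 i) (ev w2 i))

theorem wprod_nil : wprod [] = 1 := rfl

theorem wprod_cons (j : ℕ) (w : List ℕ) : wprod (j :: w) = lg j * wprod w := by
  simp [wprod]

theorem wprod_append (w1 w2 : List ℕ) : wprod (w1 ++ w2) = wprod w1 * wprod w2 := by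
  simp [wprod]

theorem wprod_pt (w : List ℕ) {i : ℕ} (hi : i < 24) :
    wprod w (pt i) = pt (ev w i) ∧ ev w i < 24 := by
  induction w with
  | nil => exact ⟨rfl, hi⟩
  | cons j w ih =>
    obtain ⟨h1, h2⟩ := ih
    rw [wprod_cons, Equiv.Perm.mul_apply, h1]
    have hev : ev (j :: w) i = (bif Nat.blt j 22 then get24 (sub LG j) (ev w i) else ev w i) := rfl
    rw [hev]
    by_cases hj : j < 22
    · have hb : Nat.blt j 22 = true := by rw [Nat.blt_eq]; exact hj
      rw [hb, cond_true]
      have hp := permOK_spec (allB_spec LG_ok j hj) h2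
      refine ⟨?_, hp.1⟩
      show genOf LG LQ 22 LG_ok j (pt (ev w i)) = _
      rw [genOf, dif_pos hj, mkPerm_pt _ _ _ h2]
    · have hb : Nat.blt j 22 = false := by
        cases h : Nat.blt j 22 with
        | false => rfl
        | true => rw [Nat.blt_eq] at h; exact absurd h hj
      rw [hb, cond_false]
      refine ⟨?_, h2⟩
      show genOf LG LQ 22 LG_ok j (pt (ev w i)) = _
      rw [genOf, dif_neg hj]
      rfl

theorem allB_of {n : ℕ} {f : ℕ → Bool} (h : ∀ k, k < n → f k = true) : allB n f = true := by
  induction n with
  | zero => rfl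
  | succ n ih =>
    rw [allB_succ, h n (Nat.lt_succ_self n), cond_true]
    exact ih (fun k hk => h k (Nat.lt_succ_of_lt hk))

theorem wprod_eq_iff (w1 w2 : List ℕ) : wprod w1 = wprod w2 ↔ weq w1 w2 = true := by
  constructor
  · intro h
    apply allB_of
    intro k hk
    rw [Nat.beq_eq]
    have h3 : wprod w1 (pt k) = wprod w2 (pt k) := by rw [h]
    rw [(wprod_pt w1 hk).1, (wprod_pt w2 hk).1] at h3
    exact pt_inj (wprod_pt w1 hk).2 (wprod_pt w2 hk).2 h3
  · intro h
    ext p
    rw [← pt_idx p, (wprod_pt w1 (idx_lt p)).1, (wprod_pt w2 (idx_lt p)).1]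
    have h3 := allB_spec h (idx p) (idx_lt p)
    rw [Nat.beq_eq] at h3
    rw [h3]

/-- Index arithmetic modulo 11 with raw operations. -/
def ng (u : ℕ) : ℕ := Nat.mod (Nat.sub 11 u) 11

/-- Product modulo 11. -/
def mm (a b : ℕ) : ℕ := Nat.mod (Nat.mul a b) 11

theorem k_xadd : allB 11 (fun s => allB 11 (fun t => weq [Nat.mod (Nat.add s t) 11] [s, t])) = true := by
  decide +kernel

theorem k_yadd : allB 11 (fun s => allB 11 (fun t =>
    weq [Nat.add 11 (Nat.mod (Nat.add s t) 11)] [Nat.add 11 s, Nat.add 11 t])) = true := by
  decide +kernel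

theorem k_conj : allB 11 (fun t => allB 11 (fun u => bif Nat.beq (mm t u) 1 then
    allB 11 (fun s => weq [t, Nat.add 11 (ng u), t, s]
      [Nat.add 11 (ng (mm (mm u u) s)), t, Nat.add 11 (ng u), t]) else true)) = true := by
  decide +kernel

theorem k_w1 : weq [1, 21, 1, 10, 12, 10] [] = true := by decide +kernel

theorem k_hmul : allB 11 (fun t => allB 11 (fun t' => bif Nat.beq (mm t t') 1 then
    allB 11 (fun u => allB 11 (fun u' => bif Nat.beq (mm u u') 1 then
      weq [mm t u, Nat.add 11 (ng (mm t' u')), mm t u, 10, 12, 10]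
        [t, Nat.add 11 (ng t'), t, 10, 12, 10, u, Nat.add 11 (ng u'), u, 10, 12, 10]
      else true)) else true)) = true := by
  decide +kernel

theorem k_ker0 : allB 11 (fun s => allB 11 (fun a => allB 11 (fun a' =>
    bif Nat.beq (mm a a') 1 then
      (bif weq [s, a, Nat.add 11 (ng a'), a, 10, 12, 10] [] then
        (Nat.beq s 0 && (Nat.beq a 1 || Nat.beq a 10)) else true)
    else true))) = true := by
  decide +kernel

theorem k_ker1 : allB 11 (fun s => allB 11 (fun e => allB 11 (fun e' =>
    bif Nat.beq (mm e e') 1 then
      allB 11 (fun s' => !(weq [s, e, Nat.add 11 (ng e'), e, s'] []))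
    else true))) = true := by
  decide +kernel

theorem k_neg : weq [10, 12, 10] [1, 21, 1] = true := by decide +kernel

instance fact11 : Fact (Nat.Prime 11) := ⟨by norm_num⟩

/-- The root elements `x(t) = a^t`. -/
def xx (t : ZMod 11) : Equiv.Perm GolayPt := lg (ZMod.val t)

/-- The root elements `y(t) = b^t`. -/
def yy (t : ZMod 11) : Equiv.Perm GolayPt := lg (Nat.add 11 (ZMod.val t))

theorem xx_eq (t : ZMod 11) : xx t = wprod [ZMod.val t] := by
  rw [wprod_cons, wprod_nil, mul_one]; rfl

theorem yy_eq (t : ZMod 11) : yy t = wprod [Nat.add 11 (ZMod.val t)] := by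
  rw [wprod_cons, wprod_nil, mul_one]; rfl

theorem val_neg (u : ZMod 11) : ZMod.val (-u) = ng (ZMod.val u) := ZMod.neg_val' u

theorem val_mul (a b : ZMod 11) : ZMod.val (a * b) = mm (ZMod.val a) (ZMod.val b) := ZMod.val_mul a b

theorem val_add (a b : ZMod 11) :
    ZMod.val (a + b) = Nat.mod (Nat.add (ZMod.val a) (ZMod.val b)) 11 := ZMod.val_add a b

theorem val_lt (a : ZMod 11) : ZMod.val a < 11 := ZMod.val_lt a

theorem mm_one {a b : ZMod 11} (h : a * b = 1) : mm (ZMod.val a) (ZMod.val b) = 1 := by
  rw [← val_mul, h]; rfl

theorem beq11 : Nat.beq 1 1 = true := rfl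

theorem conj_spec (t u s : ℕ) (ht : t < 11) (hu : u < 11) (hs : s < 11) (h1 : mm t u = 1) :
    wprod [t, Nat.add 11 (ng u), t, s] =
      wprod [Nat.add 11 (ng (mm (mm u u) s)), t, Nat.add 11 (ng u), t] := by
  have h := allB_spec (allB_spec k_conj t ht) u hu
  beta_reduce at h
  rw [h1, beq11, cond_true] at h
  exact (wprod_eq_iff _ _).mpr (allB_spec h s hs)

theorem hmul_spec (t t' u u' : ℕ) (ht : t < 11) (ht' : t' < 11) (hu : u < 11) (hu' : u' < 11)
    (h1 : mm t t' = 1) (h2 : mm u u' = 1) :
    wprod [mm t u, Nat.add 11 (ng (mm t' u')), mm t u, 10, 12, 10] =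
      wprod [t, Nat.add 11 (ng t'), t, 10, 12, 10, u, Nat.add 11 (ng u'), u, 10, 12, 10] := by
  have h := allB_spec (allB_spec k_hmul t ht) t' ht'
  beta_reduce at h
  rw [h1, beq11, cond_true] at h
  have h' := allB_spec (allB_spec h u hu) u' hu'
  beta_reduce at h'
  rw [h2, beq11, cond_true] at h'
  exact (wprod_eq_iff _ _).mpr h'

theorem ker0_spec (s a a' : ℕ) (hs : s < 11) (ha : a < 11) (ha' : a' < 11) (h1 : mm a a' = 1)
    (hw : wprod [s, a, Nat.add 11 (ng a'), a, 10, 12, 10] = wprod []) :
    s = 0 ∧ (a = 1 ∨ a = 10) := by
  have h := allB_spec (allB_spec (allB_spec k_ker0 s hs) a ha) a' ha'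
  beta_reduce at h
  rw [h1, beq11, cond_true, (wprod_eq_iff _ _).mp hw, cond_true] at h
  simp only [Bool.and_eq_true, Bool.or_eq_true, Nat.beq_eq] at h
  exact h

theorem ker1_spec (s e e' s' : ℕ) (hs : s < 11) (he : e < 11) (he' : e' < 11) (hs' : s' < 11)
    (h1 : mm e e' = 1) (hw : wprod [s, e, Nat.add 11 (ng e'), e, s'] = wprod []) : False := by
  have h := allB_spec (allB_spec (allB_spec k_ker1 s hs) e he) e' he'
  beta_reduce at h
  rw [h1, beq11, cond_true] at h
  have h' := allB_spec h s' hs'
  beta_reduce at h'
  rw [(wprod_eq_iff _ _).mp hw] at h'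
  exact absurd h' (by decide)

theorem rel_xadd (s t : ZMod 11) : xx (s + t) = xx s * xx t := by
  rw [xx_eq, xx_eq, xx_eq, ← wprod_append, val_add]
  exact (wprod_eq_iff _ _).mpr (allB_spec (allB_spec k_xadd _ (val_lt s)) _ (val_lt t))

theorem rel_yadd (s t : ZMod 11) : yy (s + t) = yy s * yy t := by
  rw [yy_eq, yy_eq, yy_eq, ← wprod_append, val_add]
  exact (wprod_eq_iff _ _).mpr (allB_spec (allB_spec k_yadd _ (val_lt s)) _ (val_lt t))

theorem rel_conj (t s : ZMod 11) (ht : t ≠ 0) :
    wOf xx yy t * xx s = yy (-(t⁻¹ * t⁻¹) * s) * wOf xx yy t := by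
  obtain ⟨u, hu⟩ : ∃ u, u = t⁻¹ := ⟨_, rfl⟩
  have htu : t * u = 1 := by rw [hu]; exact mul_inv_cancel₀ ht
  unfold wOf
  rw [← hu]
  simp only [xx_eq, yy_eq, ← wprod_append, List.cons_append, List.nil_append, neg_mul, val_neg,
    val_mul]
  exact conj_spec _ _ _ (val_lt t) (val_lt u) (val_lt s) (mm_one htu)

theorem w1_eq : wOf xx yy 1 = wprod [1, 21, 1] := by
  unfold wOf
  rw [inv_one]
  have e1 : ZMod.val (1 : ZMod 11) = 1 := rfl
  have e2 : ZMod.val (-1 : ZMod 11) = 10 := rfl
  rw [xx_eq, yy_eq, e1, e2, ← wprod_append, ← wprod_append]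
  rfl

theorem w1_inv : (wOf xx yy 1)⁻¹ = wprod [10, 12, 10] := by
  apply inv_eq_of_mul_eq_one_right
  rw [w1_eq, ← wprod_append]
  exact (wprod_eq_iff _ _).mpr k_w1

theorem rel_hmul (t u : ZMod 11) (ht : t ≠ 0) (hu : u ≠ 0) :
    hOf xx yy (t * u) = hOf xx yy t * hOf xx yy u := by
  obtain ⟨t', ht'⟩ : ∃ t', t' = t⁻¹ := ⟨_, rfl⟩
  have htt : t * t' = 1 := by rw [ht']; exact mul_inv_cancel₀ ht
  obtain ⟨u', hu'⟩ : ∃ u', u' = u⁻¹ := ⟨_, rfl⟩
  have huu : u * u' = 1 := by rw [hu']; exact mul_inv_cancel₀ hu
  unfold hOf
  rw [w1_inv]
  unfold wOf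
  rw [mul_inv, ← ht', ← hu']
  simp only [xx_eq, yy_eq, ← wprod_append, List.cons_append, List.nil_append, val_neg, val_mul]
  exact hmul_spec _ _ _ _ (val_lt t) (val_lt t') (val_lt u) (val_lt u') (mm_one htt) (mm_one huu)

theorem rel : SL2Rel xx yy := ⟨rel_xadd, rel_yadd, rel_conj, rel_hmul⟩

theorem k_neg2 : weq [10, 12, 10, 10, 12, 10] [] = true := by decide +kernel

theorem hom_apply (g : Matrix.SpecialLinearGroup (Fin 2) (ZMod 11)) :
    rel.hom g = sl2Fun xx yy (g.1 0 0) (g.1 0 1) (g.1 1 0) (g.1 1 1) := rfl

/-- Elements of the kernel are the scalar matrices `±1`. -/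
theorem ker_form (g : Matrix.SpecialLinearGroup (Fin 2) (ZMod 11)) (h : rel.hom g = 1) :
    g.1 0 1 = 0 ∧ g.1 1 0 = 0 ∧ g.1 1 1 = g.1 0 0 ∧ (g.1 0 0 = 1 ∨ g.1 0 0 = -1) := by
  rw [hom_apply] at h
  have hdet := sl2_det g
  generalize g.1 0 0 = a at h hdet ⊢
  generalize g.1 0 1 = b at h hdet ⊢
  generalize g.1 1 0 = c at h hdet ⊢
  generalize g.1 1 1 = d at h hdet ⊢
  unfold sl2Fun at h
  by_cases hc0 : c = 0
  · rw [if_pos hc0] at h
    rw [hc0, mul_zero, sub_zero] at hdet
    have ha0 : a ≠ 0 := left_ne_zero_of_mul_eq_one hdet
    obtain ⟨a', ha'⟩ : ∃ a', a' = a⁻¹ := ⟨_, rfl⟩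
    have haa : a * a' = 1 := by rw [ha']; exact mul_inv_cancel₀ ha0
    unfold hOf at h
    rw [w1_inv] at h
    unfold wOf at h
    rw [← ha'] at h
    simp only [xx_eq, yy_eq, ← wprod_append, List.cons_append, List.nil_append, val_neg] at h
    rw [← wprod_nil] at h
    obtain ⟨h1, h2⟩ := ker0_spec _ _ _ (val_lt (a * b)) (val_lt a) (val_lt a') (mm_one haa) h
    have hab : a * b = 0 := (ZMod.val_eq_zero _).mp h1
    have hb0 : b = 0 := by
      rcases mul_eq_zero.mp hab with h | h
      · exact absurd h ha0
      · exact h
    have ha1 : a = 1 ∨ a = -1 := by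
      rcases h2 with h | h
      · left
        apply ZMod.val_injective 11
        rw [h]; rfl
      · right
        apply ZMod.val_injective 11
        rw [h]; rfl
    refine ⟨hb0, hc0, ?_, ha1⟩
    rcases ha1 with h | h
    · rw [h, one_mul] at hdet; rw [hdet, h]
    · rw [h] at hdet ⊢
      rw [neg_one_mul] at hdet
      exact neg_eq_iff_eq_neg.mp hdet
  · exfalso
    rw [if_neg hc0] at h
    obtain ⟨e, he⟩ : ∃ e, e = -c⁻¹ := ⟨_, rfl⟩
    have he0 : e ≠ 0 := by rw [he]; exact neg_ne_zero.mpr (inv_ne_zero hc0)
    rw [← he] at h
    obtain ⟨e', he'⟩ : ∃ e', e' = e⁻¹ := ⟨_, rfl⟩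
    have hee : e * e' = 1 := by rw [he']; exact mul_inv_cancel₀ he0
    unfold wOf at h
    rw [← he'] at h
    simp only [xx_eq, yy_eq, ← wprod_append, List.cons_append, List.nil_append, val_neg] at h
    rw [← wprod_nil] at h
    exact ker1_spec _ _ _ _ (val_lt (a / c)) (val_lt e) (val_lt e') (val_lt (d / c)) (mm_one hee) h

theorem sq_one_cases : ∀ r : ZMod 11, r ^ 2 = 1 → r = 1 ∨ r = -1 := by decide

theorem ker_eq : rel.hom.ker = Subgroup.center (Matrix.SpecialLinearGroup (Fin 2) (ZMod 11)) := by
  ext g
  rw [MonoidHom.mem_ker, Matrix.SpecialLinearGroup.mem_center_iff]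
  constructor
  · intro h
    obtain ⟨h01, h10, h11, h00⟩ := ker_form g h
    refine ⟨g.1 0 0, ?_, ?_⟩
    · rw [Fintype.card_fin]
      rcases h00 with h | h <;> rw [h] <;> norm_num
    · ext i j
      fin_cases i <;> fin_cases j <;> simp [h01, h10, h11]
  · rintro ⟨r, hr, hg⟩
    rw [Fintype.card_fin] at hr
    have hr2 := sq_one_cases r hr
    have e00 : g.1 0 0 = r := by rw [← hg]; simp
    have e01 : g.1 0 1 = 0 := by rw [← hg]; simp
    have e10 : g.1 1 0 = 0 := by rw [← hg]; simp
    have e11 : g.1 1 1 = r := by rw [← hg]; simp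
    rw [hom_apply, e00, e01, e10, e11]
    unfold sl2Fun
    rw [if_pos rfl, mul_zero, rel.x_zero, one_mul]
    rcases hr2 with h | h
    · rw [h]; exact rel.h_one
    · rw [h]
      unfold hOf
      rw [w1_inv]
      unfold wOf
      have e1 : (-(-1 : ZMod 11)⁻¹) = 1 := by rw [inv_neg, inv_one, neg_neg]
      rw [e1]
      have e2 : ZMod.val (1 : ZMod 11) = 1 := rfl
      have e3 : ZMod.val (-1 : ZMod 11) = 10 := rfl
      rw [xx_eq, yy_eq, e2, e3, ← wprod_append, ← wprod_append, ← wprod_append, ← wprod_nil]
      exact (wprod_eq_iff _ _).mpr k_neg2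

theorem card_SL : Nat.card (Matrix.SpecialLinearGroup (Fin 2) (ZMod 11)) = 1320 := by
  have h := Cfsg.Agent.S0242.result (F := ZMod 11) (q := 11) (ZMod.card 11) 2 (by norm_num)
  rw [Fin.prod_univ_two] at h
  simp only [Fin.val_zero, Fin.val_one] at h
  generalize Nat.card (Matrix.SpecialLinearGroup (Fin 2) (ZMod 11)) = N at h ⊢
  norm_num at h
  omega

theorem card_ker_le : Nat.card rel.hom.ker ≤ 2 := by
  have hinj : Function.Injective
      (fun g : rel.hom.ker => decide ((g : Matrix.SpecialLinearGroup (Fin 2) (ZMod 11)).1 0 0 = 1)) := by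
    intro g g' h
    have h1 := ker_form g.1 (MonoidHom.mem_ker.mp g.2)
    have h2 := ker_form g'.1 (MonoidHom.mem_ker.mp g'.2)
    have h00 : (g : Matrix.SpecialLinearGroup (Fin 2) (ZMod 11)).1 0 0 =
        (g' : Matrix.SpecialLinearGroup (Fin 2) (ZMod 11)).1 0 0 := by
      simp only [decide_eq_decide] at h
      rcases h1.2.2.2 with a | a <;> rcases h2.2.2.2 with b | b
      · rw [a, b]
      · exfalso
        have h3 := h.mp a
        rw [b] at h3
        exact absurd h3 (by decide)
      · exfalso
        have h3 := h.mpr b
        rw [a] at h3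
        exact absurd h3 (by decide)
      · rw [a, b]
    apply Subtype.ext
    apply sl2_ext
    · exact h00
    · rw [h1.1, h2.1]
    · rw [h1.2.1, h2.2.1]
    · rw [h1.2.2.1, h2.2.2.1, h00]
  have h := Nat.card_le_card_of_injective _ hinj
  rw [Nat.card_eq_fintype_card (α := Bool), Fintype.card_bool] at h
  exact h

theorem gIdx_eq : ∀ p : GolayPt, Cfsg.Agent.Helper3.gIdx p = idx p := by decide +kernel

theorem dStd_eq_ofMask : Cfsg.Agent.Helper3.dStd = ofMask 340831 := by
  ext p
  simp only [Cfsg.Agent.Helper3.dStd, Cfsg.Agent.Helper3.gSup, Cfsg.Agent.Helper3.dMask,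
    Finset.mem_filter, Finset.mem_univ, true_and, mem_ofMask, gIdx_eq]

theorem pt_eq0 : Cfsg.Agent.Helper3.pt 0 = pt 0 := by decide +kernel
theorem pt_eq5 : Cfsg.Agent.Helper3.pt 5 = pt 5 := by decide +kernel

theorem exists_third (d : Finset GolayPt) (hd : d ∈ dodecads) (a b : GolayPt) :
    ∃ r, r ∉ d ∧ r ≠ a ∧ r ≠ b := by
  have hc : ({a, b} : Finset GolayPt).card < dᶜ.card := by
    rw [Finset.card_compl, card_golayPt, hd.2]
    exact lt_of_le_of_lt (Finset.card_insert_le _ _) (by simp)
  obtain ⟨r, hr, hr'⟩ := Finset.exists_mem_notMem_of_card_lt_card hc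
  rw [Finset.mem_compl] at hr
  rw [Finset.mem_insert, Finset.mem_singleton, not_or] at hr'
  exact ⟨r, hr, hr'.1, hr'.2⟩

theorem lg_mem (j : ℕ) : lg j ∈ (MulAction.stabilizer M24 (ofMask 340831) ⊓
    MulAction.stabilizer M24 (pt 0) ⊓ MulAction.stabilizer M24 (pt 5)).map M24.subtype := by
  refine ⟨⟨lg j, genOf_mem_M24 LG LQ 22 LG_ok LG_m24 j⟩, ⟨⟨?_, ?_⟩, ?_⟩, rfl⟩
  · exact genOf_fix LG LQ 22 LG_ok LG_fixd j
  · exact genOf_fix_pt LG LQ 22 LG_ok (by norm_num) LG_fix0 j
  · exact genOf_fix_pt LG LQ 22 LG_ok (by norm_num) LG_fix5 j

theorem card_stab3 (d : Finset GolayPt) (hd : d ∈ dodecads) (p q : GolayPt) (hp : p ∈ d)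
    (hq : q ∉ d) :
    Nat.card ↥(MulAction.stabilizer M24 d ⊓ MulAction.stabilizer M24 p ⊓
      MulAction.stabilizer M24 q) = 660 := by
  classical
  have horb : MulAction.orbit ↥(MulAction.stabilizer ↥M24 d ⊓ MulAction.stabilizer ↥M24 p) q =
      ↑(dᶜ : Finset GolayPt) := by
    ext r
    rw [Finset.mem_coe, Finset.mem_compl]
    constructor
    · rintro ⟨g, rfl⟩
      have h1 : ((g : ↥M24) : Equiv.Perm GolayPt) • d = d := g.2.1
      intro hmem
      have h2 : ((g : ↥M24) : Equiv.Perm GolayPt) • q ∈ ((g : ↥M24) : Equiv.Perm GolayPt) • d := by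
        rw [h1]; exact hmem
      exact hq ((Finset.smul_mem_smul_finset_iff _).mp h2)
    · intro hr
      obtain ⟨q', hq', hq'q, -⟩ := exists_third d hd q q
      obtain ⟨q'', hq'', hq''q, hq''q'⟩ := exists_third d hd q q'
      obtain ⟨r', hr', hr'r, -⟩ := exists_third d hd r r
      obtain ⟨r'', hr'', hr''r, hr''r'⟩ := exists_third d hd r r'
      have hinj : Function.Injective (![q, q', q''] : Fin 3 → GolayPt) := by
        intro i j hij
        fin_cases i <;> fin_cases j <;> simp_all
      have hinj' : Function.Injective (![r, r', r''] : Fin 3 → GolayPt) := by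
        intro i j hij
        fin_cases i <;> fin_cases j <;> simp_all
      obtain ⟨g, hg, hmap⟩ := Cfsg.Agent.Helper3.m11_three_trans d hd p hp ⟨![q, q', q''], hinj⟩
        ⟨![r, r', r''], hinj'⟩
        (by intro i; fin_cases i; exacts [hq, hq', hq''])
        (by intro i; fin_cases i; exacts [hr, hr', hr''])
      refine ⟨⟨g, hg⟩, ?_⟩
      have h0 := hmap 0
      simp only [Function.Embedding.coeFn_mk, Matrix.cons_val_zero] at h0
      exact h0
  have h := Cfsg.Agent.Helper3.card_eq_orbit_mul' (G := ↥M24) (β := GolayPt)
    (MulAction.stabilizer ↥M24 d ⊓ MulAction.stabilizer ↥M24 p) q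
  rw [Cfsg.Agent.Helper3.card_stab_dodecad_point d hd p hp, horb, Set.ncard_coe_finset,
    Finset.card_compl, card_golayPt, hd.2] at h
  omega

theorem base_dod : ofMask 340831 ∈ dodecads := by
  rw [ofMask_mem_dodecads_iff (by norm_num)]
  decide +kernel

theorem base_iso : Nonempty (↥(MulAction.stabilizer M24 (ofMask 340831) ⊓
    MulAction.stabilizer M24 (pt 0) ⊓ MulAction.stabilizer M24 (pt 5)) ≃*
      Matrix.ProjectiveSpecialLinearGroup (Fin 2) (ZMod 11)) := by
  have hle : rel.hom.range ≤ (MulAction.stabilizer M24 (ofMask 340831) ⊓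
      MulAction.stabilizer M24 (pt 0) ⊓ MulAction.stabilizer M24 (pt 5)).map M24.subtype := by
    rw [rel.hom_range, sup_le_iff, Subgroup.closure_le, Subgroup.closure_le]
    constructor
    · rintro _ ⟨t, rfl⟩
      exact lg_mem _
    · rintro _ ⟨t, rfl⟩
      exact lg_mem _
  have hH0 := card_stab3 _ base_dod (pt 0) (pt 5)
    ((pt_mem_ofMask (by norm_num)).mpr (by decide))
    (fun h => absurd ((pt_mem_ofMask (by norm_num)).mp h) (by decide))
  have hcard : 660 ≤ Nat.card rel.hom.range := by
    have h1 := Subgroup.card_mul_index rel.hom.ker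
    rw [Subgroup.index_ker, card_SL] at h1
    have h2 := card_ker_le
    nlinarith
  have heq : rel.hom.range = (MulAction.stabilizer M24 (ofMask 340831) ⊓
      MulAction.stabilizer M24 (pt 0) ⊓ MulAction.stabilizer M24 (pt 5)).map M24.subtype := by
    apply Subgroup.eq_of_le_of_card_ge hle
    rw [Subgroup.card_map_of_injective (Subgroup.subtype_injective _), hH0]
    exact hcard
  exact ⟨((Subgroup.equivMapOfInjective _ _ (Subgroup.subtype_injective _)).trans
    (MulEquiv.subgroupCongr heq.symm)).trans
    ((QuotientGroup.quotientKerEquivRange rel.hom).symm.trans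
      (QuotientGroup.quotientMulEquivOfEq ker_eq))⟩

theorem conj_iso (κ : ↥M24) (d0 : Finset GolayPt) (p0 q0 : GolayPt) :
    Nonempty (↥(MulAction.stabilizer M24 d0 ⊓ MulAction.stabilizer M24 p0 ⊓
      MulAction.stabilizer M24 q0) ≃*
      ↥(MulAction.stabilizer M24 (κ • d0) ⊓ MulAction.stabilizer M24 (κ • p0) ⊓
        MulAction.stabilizer M24 (κ • q0))) := by
  have hinj : Function.Injective (MulAut.conj κ).toMonoidHom := (MulAut.conj κ).injective
  have e : MulAction.stabilizer M24 (κ • d0) ⊓ MulAction.stabilizer M24 (κ • p0) ⊓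
      MulAction.stabilizer M24 (κ • q0) =
      (MulAction.stabilizer M24 d0 ⊓ MulAction.stabilizer M24 p0 ⊓
        MulAction.stabilizer M24 q0).map (MulAut.conj κ).toMonoidHom := by
    rw [Subgroup.map_inf _ _ _ hinj, Subgroup.map_inf _ _ _ hinj,
      MulAction.stabilizer_smul_eq_stabilizer_map_conj,
      MulAction.stabilizer_smul_eq_stabilizer_map_conj,
      MulAction.stabilizer_smul_eq_stabilizer_map_conj]
  exact ⟨(Subgroup.equivMapOfInjective _ _ hinj).trans (MulEquiv.subgroupCongr e.symm)⟩

/-- In the 3-transitive action of the smallest Mathieu group on the complementary dodecad, a point stabiliser is isomorphic to PSL(2, 11). -/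
theorem result (d : Finset Cfsg.GolayPt) (hd : d ∈ Cfsg.dodecads) (p q : Cfsg.GolayPt) (hp : p ∈ d) (hq : q ∉ d) : Nonempty (↥(MulAction.stabilizer Cfsg.M24 d ⊓ MulAction.stabilizer Cfsg.M24 p ⊓ MulAction.stabilizer Cfsg.M24 q) ≃* Matrix.ProjectiveSpecialLinearGroup (Fin 2) (ZMod 11)) := by
  obtain ⟨q', hq', hq'q, -⟩ := exists_third d hd q q
  obtain ⟨q'', hq'', hq''q, hq''q'⟩ := exists_third d hd q q'
  have hinj : Function.Injective (![q, q', q''] : Fin 3 → GolayPt) := by
    intro i j hij
    fin_cases i <;> fin_cases j <;> simp_all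
  obtain ⟨k, hk, hkd, hkp, hkx⟩ := Cfsg.Agent.Helper3.flag_three hd hp ⟨![q, q', q''], hinj⟩
    (by intro i; fin_cases i; exacts [hq, hq', hq''])
  have e5 : k (pt 5) = q := by rw [← pt_eq5]; exact hkx 0
  rw [pt_eq0] at hkp
  rw [dStd_eq_ofMask] at hkd
  have key := conj_iso ⟨k, hk⟩ (ofMask 340831) (pt 0) (pt 5)
  have h1 : (⟨k, hk⟩ : ↥M24) • ofMask 340831 = d := hkd
  have h2 : (⟨k, hk⟩ : ↥M24) • (pt 0 : GolayPt) = p := hkp
  have h3 : (⟨k, hk⟩ : ↥M24) • (pt 5 : GolayPt) = q := e5
  rw [h1, h2, h3] at key
  obtain ⟨e⟩ := key
  obtain ⟨f⟩ := base_iso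
  exact ⟨e.symm.trans f⟩

end Cfsg.Agent.S1601
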