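import Mathlib
import Cfsg.Statements.S1638
import Cfsg.Agent.Helper12.GolayMore

set_option autoImplicit false
open scoped Pointwise
open Cfsg

namespace Cfsg.Agent.S1638

open Cfsg.Agent.Helper12

/-- Tables of generators of the stabilizer of the points of index 23 and 0 and of the set of the
points of index 1 and 2. -/
def hS : ℕ := 0x1700001100000d00000a00001000000b00000600000300000f00001500000e00001200000c00000900001400000800000400001600000700000500001300000200000100000000001700000a00000300000800000500001000001500000900001200000600000f00001600000d00000c00000b00000400001100000e000007000014000013000001000002000000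
/-- Inverse tables. -/
def hQ : ℕ := 0x1700000600000e00000900000300000c00001600001300000f00000d00001500000b00001200001400000a00000800000500001100000400000700001000000200000100000000001700000c00001100000400000300000f00000700001200000d00000600000b00000a00000900001600001000001400000500000e000013000008000015000001000002000000
/-- Orbit certificate of the stabilizer: parents. -/
def hPA : ℕ := 0x10300010e00010600010000010900010400011000010a00010300010800010800010600011100010d00011100010200010e0001100001040000000000fe00000000000000009400002a0000450000750000ed0000b100005a0000540000d800004c00004b0000c400003300002200001400006700001300001b00007e00001100001000000f00008c00008b00006700008f0000b900007700008e0000e00000920000910000cc0000650000cf00008d00009600005f0000900000e300008900008a00008800000900004b00001900009d0000520000130000db0000310000280000c700007c0000c200000e0000910000280000200000d60000260000250000240000450000ea00009c0000510000510000d50000300000270000c100003000001f00000d00008b00000900001f0000d50000040000040000030000700000a800007500005a0000de0000730000720000f600004c0000cd00006e0000940000b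a0000490000840000440000430000420000a00000f600001b0000fc0000f200002b0000ee00007f0000c500001a0000620000b20000230000d90000160000170000150000ba00009f0000e50000b60000a20000d10000a90000d00000b00000a70000af0000b20000e40000ad0000ac0000ab0000540000e10000580000a80000cd0000850000cb0000530000970000b800005600008700004f00005000004e00003d00003300002a0000ed0000580000c40000140000950000520000220000d800001000001100000f0000dd0000e40000f20000dc0000da0000d70000e30000b60000d90000dd0000380000390000370000360000f100008200003f0000320000650000b50000350000dc0000390000380000370000d00000a30000c700002900006400009d00002c0000a90000250000260000240000c80000c60000ec0000cf0000c20000c50000fc0000c00000bf0000be00003500003200009200003100008000008200007900007a0000780000210000cc0000d10000230000e60000bf0000c00000be00008d0000b000002100007d00000b00000b00000a00008c00008f0000e000008a0000890000880000190000000000ac0000ad0000ab00000000001700001600001500007a000000000000000000000000000000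
/-- Orbit certificate of the stabilizer: generator numbers. -/
def hTA : ℕ := 0x1000000000001000000000001000000000001000000000000000000000001000000000001000000000000000000000001000000000001000000000000000000000000000000000001000000000000000001000001000000000001000001000000000000000001000001000001000001000000000001000001000001000001000001000001000000000000000001000000000001000001000000000001000000000000000001000001000000000000000000000001000000000000000000000000000000000000000001000000000000000000000000000001000000000000000001000000000000000000000001000001000000000000000001000001000001000001000001000000000000000001000001000000000000000001000001000001000000000001000001000000000000000000000001000000000000000000000001000001000001000000000000000000000001000000000000000001000000000001000001000001000001000001000000000001000000000001000001000000000000000000000000000000000000000000000000000000000000000000000000000001000000000001000001000000000001000000000000000001000000000001000001000000000001000001000001000000000001000000000001000001000000000000000000000001000000000000000001000000000000000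000000000000000000000000000000001000000000000000001000001000000000000000000000000000000000001000001000000000001000001000001000001000000000001000000000000000000000000000000000000000000000001000000000000000000000000000000000001000001000001000001000001000000000000000000000001000000000001000000000000000000000001000001000000000001000001000001000000000001000001000001000001000001000001000001000000000001000000000000000000000001000000000000000001000000000000000000000000000001000000000000000001000000000001000000000001000001000000000001000001000001000001000000000000000000000000000000000001000001000001000001000000000000000000000000000000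
/-- Orbit certificate of the stabilizer: roots. -/
def hRT : ℕ := 0x1000001000001000001000001000001000001000001000001000001000001000001000001000001000001000001000001000001000001000001000000fe0000fe0000fd00000900000900000900000900000900000d00000900000900000d00000900000900000900000900000900000900000900000900000d00000900000400000400000300000900000d00000900000900000900000900000900000900000900000900000900000900000900000d00000d00000900000900000900000400000400000300000900000900000900000900000d00000900000900000900000900000d00000d00000900000900000900000900000900000900000400000400000300000900000900000900000900000900000900000900000900000900000900000900000d00000d00000900000900000900000400000400000300000900000900000900000900000900000d00000d00000900000900000d00000900000900000900000900000900000400000400000300000900000900000d00000900000900000900000900000900000900000900000900000d00000900000d00000400000400000300000900000900000d00000900000900000900000900000900000900000900000900000d00000900000400000400000300000900000900000900000900000d00000d0000090000090000090000090000090000090000040000040000030000090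0000900000900000900000900000900000900000900000d00000900000d00000400000400000300000900000900000900000900000900000900000900000900000d00000900000400000400000300000d00000900000900000d00000900000900000900000900000900000400000400000300000900000900000d00000900000900000900000900000900000400000400000300000d00000900000900000900000900000900000900000400000400000300000900000900000900000900000900000900000400000400000300000900000900000900000900000900000400000400000300000d00000900000900000900000400000400000300000900000900000900000400000400000300000900000d000004000004000003000009000004000004000003000004000004000003000002000000000000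
/-- Orbit certificate of the stabilizer: ranks. -/
def hRK : ℕ := 0x11100010a00010900010100011300010600010300011200011000010c00010d00010800010f00010500010e00010400010b0001020001070001000000ff0000fe0000fd0000770000d30000c40000950000ae0000f400008500007f0000f80000ab00005000006a00006d0000a20000720000890000660000e90000c900003a00003800001400005a0000ec00008a0000530000a70000a00000b40000d00000b50000550000810000cc0000570000e30000f00000c300008b00006300002b00002d00000d00004000005100004c0000d50000ee0000650000dc00008c00009b0000eb0000e500007300005900005600009c00005c0000b100002a00002800000c0000c50000db00009e00008300008400007d0000be0000520000cd0000bf00008f0000e00000ed00004100008e00007c00001800001900000400009d0000bb0000960000860000d10000fb0000fc0000a80000ac0000f50000c10000780000a50000b900007b00003c00003e0000160000d90000a90000e800009900005e0000ba00009100004b00006e00004a0000900000e100004e0000e60000250000230000090000a600009a0000f30000620000ca0000430000d700005f0000450000aa0000b30000e20000af00001b00001d00000600007e0000c20000750000bc0000f60000fa0000de00007a0000c800009f0000880000c600003b00003d0000150000bd0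0006c0000d20000ad0000760000690000710000c00000ef0000a10000f70000370000390000130000680000b000005d0000a400006b0000da0000640000610000e700006700003300002f00000f0000f90000870000480000f10000930000cb0000dd0000b70000a30000300000340000100000600000c70000ea0000b20000970000d60000d40000d800002700002900000b0000f200009200008200005800007400006f0000980000360000320000120000b80000940000b600008d00007900004900002200002000000800004700008000004200004f0000700000310000350000110000e40000440000460000ce00001e00001f00000700005b0000540000cf00002e00002c00000e00004d0000df00001c00001a00000500003f00002400002600000a000021000017000003000002000001000000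
/-- The 5 octads containing the points of index 23, 0, 1, 2. -/
def OQ : ℕ := 0xc12017a800c790860784190782402f

/-- The `k`-th set of two points avoids the points of index 23 and 0. -/
def rel (k : ℕ) : Bool := !tb (get24 T2 k) 23 && !tb (get24 T2 k) 0

/-- The union of the base pair and the `k`-th pair lies in an octad through the two base points. -/
def oct (k : ℕ) : Bool := anyB 5 (fun j =>
  Nat.beq (Nat.land (Nat.lor 6 (get24 T2 k)) (get24 OQ j)) (Nat.lor 6 (get24 T2 k)))

theorem k_hsys : sysOK hS hQ 2 = true := by decide +kernel
theorem k_hm24 : sysM24 hS 2 = true := by decide +kernel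
theorem k_hfix : fixOK hS 2 6 = true := by decide +kernel
theorem k_hfix23 : fixPtOK hS 2 23 = true := by decide +kernel
theorem k_hfix0 : fixPtOK hS 2 0 = true := by decide +kernel
theorem k_hcert : certOK (sysAct hS) 2 T2 hPA hTA hRT hRK 276 = true := by decide +kernel
theorem k_OQ1 : allB 5 (fun j => isCode (get24 OQ j) && Nat.beq (popc (get24 OQ j)) 8
    && tb (get24 OQ j) 23 && tb (get24 OQ j) 0) = true := by decide +kernel
theorem k_OQ2 : allB 759 (fun i => bif Nat.beq (Nat.land 8388615 (get24 OA i)) 8388615 then
    anyB 5 (fun j => Nat.beq (get24 OQ j) (get24 OA i)) else true) = true := by decide +kernel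
theorem k_root : allB 276 (fun k => bif rel k && !(Nat.beq (get24 T2 k) 6) then Nat.beq (get24 hRT k)
    (bif Nat.beq (popc (Nat.land 6 (get24 T2 k))) 1 then 4 else bif oct k then 13 else 9)
    else true) = true := by decide +kernel
theorem k_c1 : cntB 276 (fun k => rel k && (Nat.beq (Nat.land 6 (get24 T2 k)) 0 && oct k)) = 30 := by
  decide +kernel
theorem k_c2 : cntB 276 (fun k => rel k && (Nat.beq (Nat.land 6 (get24 T2 k)) 0 && !oct k)) = 160 := by
  decide +kernel

theorem rel_iff (k : ℕ) :
    rel k = true ↔ pt 23 ∉ ofMask (get24 T2 k) ∧ pt 0 ∉ ofMask (get24 T2 k) := by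
  rw [pt_mem_ofMask (by norm_num), pt_mem_ofMask (by norm_num)]
  unfold rel
  cases tb (get24 T2 k) 23 <;> cases tb (get24 T2 k) 0 <;> simp

theorem lor_lt (k : ℕ) : Nat.lor 6 (get24 T2 k) < 2 ^ 24 :=
  Nat.or_lt_two_pow (by norm_num) (get24_lt _ _)

theorem ofMask_base : ofMask 8388615 = {pt 23} ∪ {pt 0} ∪ ofMask 6 := by
  have : (8388615 : ℕ) = (1 <<< 23) ||| (1 <<< 0) ||| 6 := by decide
  rw [this, ofMask_or, ofMask_or, ofMask_one_shiftLeft (by norm_num), ofMask_one_shiftLeft (by norm_num)]

theorem ofMask_six : ofMask 6 = {pt 1, pt 2} := by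
  have : (6 : ℕ) = (1 <<< 1) ||| (1 <<< 2) := by decide
  rw [this, ofMask_or, ofMask_one_shiftLeft (by norm_num), ofMask_one_shiftLeft (by norm_num)]
  rfl

theorem oct_iff (k : ℕ) : oct k = true ↔
    ∃ o ∈ octads, pt 23 ∈ o ∧ pt 0 ∈ o ∧ ofMask 6 ∪ ofMask (get24 T2 k) ⊆ o := by
  unfold oct
  rw [anyB_iff, ← ofMask_lor]
  constructor
  · rintro ⟨j, hj, h⟩
    have h1 := allB_spec k_OQ1 j hj
    simp only [Bool.and_eq_true, Nat.beq_eq] at h1
    obtain ⟨⟨⟨h1a, h1b⟩, h1c⟩, h1d⟩ := h1
    exact ⟨ofMask (get24 OQ j), (ofMask_mem_octads_iff (get24_lt _ _)).mpr ⟨h1a, h1b⟩,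
      (pt_mem_ofMask (by norm_num)).mpr h1c, (pt_mem_ofMask (by norm_num)).mpr h1d,
      (ofMask_subset_iff' (lor_lt k)).mpr h⟩
  · rintro ⟨o, ho, hp, hq, h⟩
    obtain ⟨i, hi, rfl⟩ := (mem_octads_iff o).mp ho
    have h7 : ofMask 8388615 ⊆ ofMask (get24 OA i) := by
      rw [ofMask_base]
      refine Finset.union_subset (Finset.union_subset ?_ ?_) ?_
      · exact Finset.singleton_subset_iff.mpr hp
      · exact Finset.singleton_subset_iff.mpr hq
      · refine subset_trans ?_ h
        rw [ofMask_lor]; exact Finset.subset_union_left
    rw [ofMask_subset_iff' (by norm_num)] at h7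
    have h2 := allB_spec k_OQ2 i hi
    rw [h7, cond_true, anyB_iff] at h2
    obtain ⟨j, hj, e⟩ := h2
    rw [Nat.beq_eq] at e
    exact ⟨j, hj, by rw [e]; exact (ofMask_subset_iff' (lor_lt k)).mp h⟩

theorem base_count1 : {t : Finset GolayPt | (t.card = 2 ∧ pt 23 ∉ t ∧ pt 0 ∉ t) ∧
    Disjoint (ofMask 6) t ∧ (∃ o ∈ octads, pt 23 ∈ o ∧ pt 0 ∈ o ∧ ofMask 6 ∪ t ⊆ o)}.ncard = 30 := by
  rw [← k_c1]
  apply ncard_eq_cntB T2_strictMono
  intro s
  simp only [Set.mem_setOf_eq, card_two_iff, Bool.and_eq_true]
  constructor
  · rintro ⟨⟨⟨k, hk, rfl⟩, h0⟩, h1, h2⟩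
    exact ⟨k, hk, ⟨(rel_iff k).mpr h0, (ofMask_disjoint_iff' (by norm_num)).mp h1,
      (oct_iff k).mpr h2⟩, rfl⟩
  · rintro ⟨k, hk, ⟨h0, h1, h2⟩, rfl⟩
    exact ⟨⟨⟨k, hk, rfl⟩, (rel_iff k).mp h0⟩, (ofMask_disjoint_iff' (by norm_num)).mpr h1,
      (oct_iff k).mp h2⟩

theorem base_count2 : {t : Finset GolayPt | (t.card = 2 ∧ pt 23 ∉ t ∧ pt 0 ∉ t) ∧
    Disjoint (ofMask 6) t ∧ ¬ (∃ o ∈ octads, pt 23 ∈ o ∧ pt 0 ∈ o ∧ ofMask 6 ∪ t ⊆ o)}.ncard
      = 160 := by
  rw [← k_c2]
  apply ncard_eq_cntB T2_strictMono
  intro s
  simp only [Set.mem_setOf_eq, card_two_iff, Bool.and_eq_true, Bool.not_eq_true']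
  constructor
  · rintro ⟨⟨⟨k, hk, rfl⟩, h0⟩, h1, h2⟩
    refine ⟨k, hk, ⟨(rel_iff k).mpr h0, (ofMask_disjoint_iff' (by norm_num)).mp h1, ?_⟩, rfl⟩
    rw [← Bool.not_eq_true, oct_iff]; exact h2
  · rintro ⟨k, hk, ⟨h0, h1, h2⟩, rfl⟩
    refine ⟨⟨⟨k, hk, rfl⟩, (rel_iff k).mp h0⟩, (ofMask_disjoint_iff' (by norm_num)).mpr h1, ?_⟩
    rw [← oct_iff, Bool.not_eq_true]; exact h2

/-- The stabilizer of the two base points and the base pair in `M24`. -/
def H0 : Subgroup (Equiv.Perm GolayPt) :=
  M24 ⊓ (MulAction.stabilizer (Equiv.Perm GolayPt) (ofMask 6)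
    ⊓ (MulAction.stabilizer (Equiv.Perm GolayPt) (pt 23)
    ⊓ MulAction.stabilizer (Equiv.Perm GolayPt) (pt 0)))

theorem gen_mem (j : ℕ) : genOf hS hQ 2 k_hsys j ∈ H0 :=
  ⟨genOf_mem_M24 _ _ _ k_hsys k_hm24 j,
    MulAction.mem_stabilizer_iff.mpr (genOf_fix _ _ _ k_hsys k_hfix j),
    MulAction.mem_stabilizer_iff.mpr (genOf_fix_pt _ _ _ k_hsys (by norm_num) k_hfix23 j),
    MulAction.mem_stabilizer_iff.mpr (genOf_fix_pt _ _ _ k_hsys (by norm_num) k_hfix0 j)⟩

theorem base_trans (k l : ℕ) (hk : k < 276) (hl : l < 276) (hrk : rel k = true)
    (hrl : rel l = true) (hnk : get24 T2 k ≠ 6) (hnl : get24 T2 l ≠ 6)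
    (hc : popc (Nat.land 6 (get24 T2 k)) = popc (Nat.land 6 (get24 T2 l))) (ho : oct k = oct l) :
    ∃ g, g ∈ M24 ∧ g (pt 23) = pt 23 ∧ g (pt 0) = pt 0 ∧ g • ofMask 6 = ofMask 6
      ∧ g • ofMask (get24 T2 k) = ofMask (get24 T2 l) := by
  have hr : get24 hRT k = get24 hRT l := by
    have hk' := allB_spec k_root k hk
    have hl' := allB_spec k_root l hl
    have e1 : Nat.beq (get24 T2 k) 6 = false := by
      cases hb : Nat.beq (get24 T2 k) 6 with
      | false => rfl
      | true => exact absurd (Nat.eq_of_beq_eq_true hb) hnk
    have e2 : Nat.beq (get24 T2 l) 6 = false := by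
      cases hb : Nat.beq (get24 T2 l) 6 with
      | false => rfl
      | true => exact absurd (Nat.eq_of_beq_eq_true hb) hnl
    rw [hrk, e1] at hk'
    rw [hrl, e2] at hl'
    simp only [Bool.not_false, Bool.and_self, cond_true, Nat.beq_eq] at hk' hl'
    rw [hk', hl', hc, ho]
  obtain ⟨g, ⟨hg1, hg2, hg3, hg4⟩, e⟩ := golay_orbit hS hQ 2 k_hsys H0 (fun j _ => gen_mem j)
    T2 hPA hTA hRT hRK 276 k_hcert k l hk hl hr
  exact ⟨g, hg1, MulAction.mem_stabilizer_iff.mp hg3, MulAction.mem_stabilizer_iff.mp hg4,
    MulAction.mem_stabilizer_iff.mp hg2, e⟩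

/-- Fix two points p ≠ q and a pair s of two further points. Among the pairs avoiding p, q and disjoint from s, exactly 30 lie in an octad together with p, q and s and exactly 160 do not; and any two pairs other than s that meet s in equally many points and agree on that octad property are carried to one another by an element of the group of the length-24 code fixing p, q and s. -/
theorem result (p q : Cfsg.GolayPt) (hpq : p ≠ q) (s : Finset Cfsg.GolayPt) (hs : (s.card = 2 ∧ p ∉ s ∧ q ∉ s)) : {t : Finset Cfsg.GolayPt | (t.card = 2 ∧ p ∉ t ∧ q ∉ t) ∧ Disjoint s t ∧ (∃ o ∈ Cfsg.octads, p ∈ o ∧ q ∈ o ∧ s ∪ t ⊆ o)}.ncard = 30 ∧ {t : Finset Cfsg.GolayPt | (t.card = 2 ∧ p ∉ t ∧ q ∉ t) ∧ Disjoint s t ∧ ¬ (∃ o ∈ Cfsg.octads, p ∈ o ∧ q ∈ o ∧ s ∪ t ⊆ o)}.ncard = 160 ∧ ∀ t t' : Finset Cfsg.GolayPt, (t.card = 2 ∧ p ∉ t ∧ q ∉ t) → (t'.card = 2 ∧ p ∉ t' ∧ q ∉ t') → t ≠ s → t' ≠ s → (s ∩ t).card = (s ∩ t').card → ((∃ o ∈ Cfsg.octads, p ∈ o ∧ q ∈ o ∧ s ∪ t ⊆ o) ↔ (∃ o ∈ Cfsg.octads, p ∈ o ∧ q ∈ o ∧ s ∪ t' ⊆ o)) → ∃ g : Equiv.Perm Cfsg.GolayPt, g ∈ Cfsg.M24 ∧ g p = p ∧ g q = q ∧ g • s = s ∧ g • t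 = t' := by
  obtain ⟨hs2, hps, hqs⟩ := hs
  obtain ⟨r, r', hrr, rfl⟩ := Finset.card_eq_two.mp hs2
  have hpr : p ≠ r := fun e => hps (by rw [e]; simp)
  have hpr' : p ≠ r' := fun e => hps (by rw [e]; simp)
  have hqr : q ≠ r := fun e => hqs (by rw [e]; simp)
  have hqr' : q ≠ r' := fun e => hqs (by rw [e]; simp)
  obtain ⟨a, ha, rfl, rfl, rfl, rfl⟩ := M24_trans4 hpq hpr hpr' hqr hqr' hrr
  have hs0 : ({a (pt 1), a (pt 2)} : Finset GolayPt) = a • ofMask 6 := by
    rw [ofMask_six, Finset.smul_finset_insert, Finset.smul_finset_singleton]; rfl
  rw [hs0]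
  have key : ∀ U : Finset GolayPt,
      ((∃ o ∈ octads, a (pt 23) ∈ o ∧ a (pt 0) ∈ o ∧ a • ofMask 6 ∪ U ⊆ o) ↔
      (∃ o ∈ octads, pt 23 ∈ o ∧ pt 0 ∈ o ∧ ofMask 6 ∪ a⁻¹ • U ⊆ o)) := by
    intro U
    constructor
    · rintro ⟨o, ho, h1, h2, h3⟩
      refine ⟨a⁻¹ • o, (smul_mem_octads (inv_mem ha)).mpr ho, ?_, ?_, ?_⟩
      · rw [Finset.mem_inv_smul_finset_iff]; exact h1
      · rw [Finset.mem_inv_smul_finset_iff]; exact h2
      · rw [← Finset.smul_finset_subset_smul_finset_iff (a := a), smul_inv_smul,
          Finset.smul_finset_union, smul_inv_smul]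
        exact h3
    · rintro ⟨o, ho, h1, h2, h3⟩
      refine ⟨a • o, (smul_mem_octads ha).mpr ho, ?_, ?_, ?_⟩
      · exact Finset.smul_mem_smul_finset h1
      · exact Finset.smul_mem_smul_finset h2
      · have := Finset.smul_finset_subset_smul_finset_iff (a := a).mpr h3
        rwa [Finset.smul_finset_union, smul_inv_smul] at this
  have memkey : ∀ (i : ℕ) (U : Finset GolayPt), a (pt i) ∉ U ↔ pt i ∉ a⁻¹ • U := by
    intro i U
    rw [Finset.mem_inv_smul_finset_iff]; rfl
  refine ⟨?_, ?_, ?_⟩
  · rw [← base_count1]
    apply ncard_transport a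
    intro U
    simp only [Set.mem_setOf_eq]
    rw [Finset.card_smul_finset, disjoint_smul_left_iff, key, memkey, memkey]
  · rw [← base_count2]
    apply ncard_transport a
    intro U
    simp only [Set.mem_setOf_eq]
    rw [Finset.card_smul_finset, disjoint_smul_left_iff, key, memkey, memkey]
  · rintro t t' ⟨ht2, htp, htq⟩ ⟨ht2', htp', htq'⟩ hts hts' hc hiff
    have hU1 : (a⁻¹ • t).card = 2 := by rw [Finset.card_smul_finset]; exact ht2
    have hU1' : (a⁻¹ • t').card = 2 := by rw [Finset.card_smul_finset]; exact ht2'
    obtain ⟨k, hk, ek⟩ := (card_two_iff _).mp hU1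
    obtain ⟨l, hl, el⟩ := (card_two_iff _).mp hU1'
    have hrk : rel k = true := by
      rw [rel_iff, ← ek, ← memkey, ← memkey]; exact ⟨htp, htq⟩
    have hrl : rel l = true := by
      rw [rel_iff, ← el, ← memkey, ← memkey]; exact ⟨htp', htq'⟩
    have hnk : get24 T2 k ≠ 6 := by
      intro e; apply hts; rw [← smul_inv_smul a t, ek, e]
    have hnl : get24 T2 l ≠ 6 := by
      intro e; apply hts'; rw [← smul_inv_smul a t', el, e]
    rw [card_smul_inter_left, card_smul_inter_left, ek, el, card_inter_ofMask, card_inter_ofMask] at hc
    have hok : oct k = oct l := by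
      apply Bool.eq_iff_iff.mpr
      rw [oct_iff, oct_iff, ← ek, ← el, ← key, ← key]; exact hiff
    obtain ⟨g, hg1, hg2, hg3, hg4, hg5⟩ := base_trans k l hk hl hrk hrl hnk hnl hc hok
    refine ⟨a * g * a⁻¹, mul_mem (mul_mem ha hg1) (inv_mem ha), ?_, ?_, ?_, ?_⟩
    · simp [Equiv.Perm.mul_apply, hg2]
    · simp [Equiv.Perm.mul_apply, hg3]
    · rw [mul_smul, mul_smul, inv_smul_smul, hg4]
    · rw [mul_smul, mul_smul, ek, hg5, ← el, smul_inv_smul]

end Cfsg.Agent.S1638
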