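import Cfsg.Statements.S1910
import Mathlib
import Cfsg.Agent.Helper13.Tight
import Cfsg.Agent.Helper13.WellPlaced
import Cfsg.Agent.Helper13.Fusion5
import Cfsg.Agent.Helper13.Alperin
import Cfsg.Agent.Helper13.AlpP
import Cfsg.Agent.Helper13.PPrime
import Cfsg.Agent.Helper10.NormP
import Cfsg.Agent.Helper10.CopGen

set_option autoImplicit false
open Cfsg

open Cfsg.Agent.Helper13 Cfsg.Agent.Helper17 Cfsg.Agent.Helper10
namespace Cfsg.Agent.S1910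

/-- Let Q be a tightly embedded subgroup of a finite group G, g an element outside N_G(Q), T a nontrivial Sylow 2-subgroup of Q^g ∩ N_G(Q), and S a Sylow 2-subgroup of QT containing T. Then T ∩ Q = 1, and N_S(T) is the direct product of T and N_S(T) ∩ Q, with N_S(T) ∩ Q isomorphic to T. -/
theorem result {G : Type*} [Group G] [Finite G] (Q : Subgroup G) (hQ : Cfsg.IsTightlyEmbedded Q)
    (g : G) (hg : g ∉ Subgroup.normalizer (Q : Set G))
    (T : Subgroup G) (hT1 : T ≠ ⊥) (hT : T ≤ Q.map (MulAut.conj g).toMonoidHom ⊓ Subgroup.normalizer (Q : Set G))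
    (hTsyl : IsPGroup 2 T ∧ ¬ 2 ∣ T.relIndex (Q.map (MulAut.conj g).toMonoidHom ⊓ Subgroup.normalizer (Q : Set G)))
    (S : Subgroup G) (hTS : T ≤ S) (hS : S ≤ Q ⊔ T) (hSsyl : IsPGroup 2 S ∧ ¬ 2 ∣ S.relIndex (Q ⊔ T)) :
    T ⊓ Q = ⊥ ∧
      T ⊓ (S ⊓ Subgroup.normalizer (T : Set G) ⊓ Q) = ⊥ ∧
      ⁅T, S ⊓ Subgroup.normalizer (T : Set G) ⊓ Q⁆ = ⊥ ∧
      T ⊔ (S ⊓ Subgroup.normalizer (T : Set G) ⊓ Q) = S ⊓ Subgroup.normalizer (T : Set G) ∧
      Nonempty (↥(S ⊓ Subgroup.normalizer (T : Set G) ⊓ Q) ≃* T) := by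
  classical
  obtain ⟨hT2, hTi⟩ := hTsyl
  obtain ⟨hS2, hSi⟩ := hSsyl
  have hTQ1 : T ≤ cj g Q := hT.trans inf_le_left
  have hTN : T ≤ Subgroup.normalizer (Q : Set G) := hT.trans inf_le_right
  have hodd : Odd (Nat.card ↥(Q ⊓ cj g Q)) := hQ.2 g hg
  have hD : ∀ z : G, z ∈ Q → z ∈ cj g Q → ∀ k : ℕ, z ^ 2 ^ k = 1 → z = 1 :=
    fun z h1 h2 k hk => eq_one_of_mem_odd hodd (Subgroup.mem_inf.mpr ⟨h1, h2⟩) hk
  have hpowS : ∀ s ∈ S, ∃ k : ℕ, s ^ 2 ^ k = 1 := fun s hs => exists_pow_two_of_isPGroup hS2 hs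
  have h1 : T ⊓ Q = ⊥ := by
    rw [eq_bot_iff]
    intro z hz
    obtain ⟨hzT, hzQ⟩ := Subgroup.mem_inf.mp hz
    obtain ⟨k, hk⟩ := exists_pow_two_of_isPGroup hT2 hzT
    exact Subgroup.mem_bot.mpr (hD z hzQ (hTQ1 hzT) k hk)
  obtain ⟨R, hR⟩ : ∃ R : Subgroup G, R = S ⊓ Subgroup.normalizer (T : Set G) ⊓ Q := ⟨_, rfl⟩
  rw [← hR]
  have hRS : R ≤ S := by rw [hR]; exact inf_le_left.trans inf_le_left
  have hRN : R ≤ Subgroup.normalizer (T : Set G) := by rw [hR]; exact inf_le_left.trans inf_le_right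
  have hRQ : R ≤ Q := by rw [hR]; exact inf_le_right
  have hRmem : ∀ x : G, x ∈ S → x ∈ Subgroup.normalizer (T : Set G) → x ∈ Q → x ∈ R := by
    intro x h1 h2 h3
    rw [hR]; exact Subgroup.mem_inf.mpr ⟨Subgroup.mem_inf.mpr ⟨h1, h2⟩, h3⟩
  have h2 : T ⊓ R = ⊥ := by
    rw [eq_bot_iff, ← h1]
    exact inf_le_inf_left T hRQ
  have hcomm : ∀ t ∈ T, ∀ r ∈ R, t * r = r * t := by
    intro t ht r hr
    have hc : t * r * t⁻¹ * r⁻¹ ∈ T ⊓ Q := by
      refine Subgroup.mem_inf.mpr ⟨?_, ?_⟩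
      · have h5 := (Subgroup.mem_normalizer_iff.mp (hRN hr) t⁻¹).mp (T.inv_mem ht)
        have e : t * r * t⁻¹ * r⁻¹ = t * (r * t⁻¹ * r⁻¹) := by group
        rw [e]; exact T.mul_mem ht h5
      · have h5 := (Subgroup.mem_normalizer_iff.mp (hTN ht) r).mp (hRQ hr)
        exact Q.mul_mem h5 (Q.inv_mem (hRQ hr))
    rw [h1, Subgroup.mem_bot] at hc
    calc t * r = (t * r * t⁻¹ * r⁻¹) * r * t := by group
      _ = r * t := by rw [hc, one_mul]
  have h3 : ⁅T, R⁆ = ⊥ := by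
    rw [eq_bot_iff, Subgroup.commutator_le]
    intro t ht r hr
    rw [Subgroup.mem_bot, commutatorElement_eq_one_iff_mul_comm]
    exact hcomm t ht r hr
  have hSdec : ∀ s ∈ S, ∃ q ∈ S ⊓ Q, ∃ t ∈ T, s = q * t := by
    intro s hs
    obtain ⟨q, hq, t, ht, rfl⟩ := Cfsg.Agent.Helper13.mem_sup_of_le_normalizer hTN (hS hs)
    refine ⟨q, Subgroup.mem_inf.mpr ⟨?_, hq⟩, t, ht, rfl⟩
    have e : q = (q * t) * t⁻¹ := by group
    rw [e]; exact S.mul_mem hs (S.inv_mem (hTS ht))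
  have h4 : T ⊔ R = S ⊓ Subgroup.normalizer (T : Set G) := by
    apply le_antisymm
    · exact sup_le (le_inf hTS Subgroup.le_normalizer) (le_inf hRS hRN)
    · intro x hx
      obtain ⟨hxS, hxN⟩ := Subgroup.mem_inf.mp hx
      obtain ⟨q, hq, t, ht, rfl⟩ := hSdec x hxS
      have hqN : q ∈ Subgroup.normalizer (T : Set G) := by
        have e : q = (q * t) * t⁻¹ := by group
        rw [e]
        exact Subgroup.mul_mem _ hxN (Subgroup.inv_mem _ (Subgroup.le_normalizer ht))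
      have hqR : q ∈ R := hRmem q (Subgroup.mem_inf.mp hq).1 hqN (Subgroup.mem_inf.mp hq).2
      exact Subgroup.mul_mem _ (Subgroup.mem_sup_right hqR) (Subgroup.mem_sup_left ht)
  refine ⟨h1, h2, h3, h4, ?_⟩
  -- the isomorphism
  have hPsyl : ¬ 2 ∣ (S ⊓ Q).relIndex Q :=
    inf_normal_sylow_in (Q ⊔ T) Q S hS hS2 hSi le_sup_left (sup_le Subgroup.le_normalizer hTN)
  obtain ⟨t₀, ht₀, ht₀1⟩ : ∃ t ∈ T, t ≠ 1 := by
    by_contra h
    push Not at h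
    exact hT1 ((Subgroup.eq_bot_iff_forall _).mpr h)
  have hRN1 : R ≤ Subgroup.normalizer ((cj g Q : Subgroup G) : Set G) := by
    intro r hr
    obtain ⟨k, hk⟩ := exists_pow_two_of_isPGroup hT2 ht₀
    refine te_mem_normalizer_cj hQ g (hTQ1 ht₀) ?_ ht₀1 hk
    have e : r⁻¹ * t₀ * r = t₀ := by
      have h5 := hcomm t₀ ht₀ r hr
      calc r⁻¹ * t₀ * r = r⁻¹ * (t₀ * r) := by group
        _ = r⁻¹ * (r * t₀) := by rw [h5]
        _ = t₀ := by group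
    rw [e]; exact hTQ1 ht₀
  have hc1 : ∀ x ∈ S ⊓ Q, x ∈ Subgroup.normalizer ((cj g Q : Subgroup G) : Set G) →
      ∀ t ∈ T, t * x = x * t := by
    intro x hx hxN t ht
    obtain ⟨hxS, hxQ⟩ := Subgroup.mem_inf.mp hx
    have hcS : t * x * t⁻¹ * x⁻¹ ∈ S :=
      S.mul_mem (S.mul_mem (S.mul_mem (hTS ht) hxS) (S.inv_mem (hTS ht))) (S.inv_mem hxS)
    obtain ⟨k, hk⟩ := hpowS _ hcS
    have hcQ : t * x * t⁻¹ * x⁻¹ ∈ Q :=
      Q.mul_mem ((Subgroup.mem_normalizer_iff.mp (hTN ht) x).mp hxQ) (Q.inv_mem hxQ)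
    have hcQ1 : t * x * t⁻¹ * x⁻¹ ∈ cj g Q := by
      have h5 := (Subgroup.mem_normalizer_iff.mp hxN t⁻¹).mp (Subgroup.inv_mem _ (hTQ1 ht))
      have e : t * x * t⁻¹ * x⁻¹ = t * (x * t⁻¹ * x⁻¹) := by group
      rw [e]; exact Subgroup.mul_mem _ (hTQ1 ht) h5
    have h := hD _ hcQ hcQ1 k hk
    calc t * x = (t * x * t⁻¹ * x⁻¹) * x * t := by group
      _ = x * t := by rw [h, one_mul]
  have hc2 : ∀ x ∈ S ⊓ Q, x ∈ Subgroup.normalizer ((cj g Q : Subgroup G) : Set G) → x ∈ R := by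
    intro x hx hxN
    refine hRmem x (Subgroup.mem_inf.mp hx).1 ?_ (Subgroup.mem_inf.mp hx).2
    apply Subgroup.centralizer_le_normalizer
    rw [Subgroup.mem_centralizer_iff]
    intro t ht
    exact hc1 x hx hxN t ht
  have hc3 : ∀ t ∈ T, t ≠ 1 → ∀ y ∈ S ⊓ Q, y * t = t * y → y ∈ R := by
    intro t ht ht1 y hy hyt
    apply hc2 y hy
    obtain ⟨k, hk⟩ := exists_pow_two_of_isPGroup hT2 ht
    refine te_mem_normalizer_cj hQ g (hTQ1 ht) ?_ ht1 hk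
    have e : y⁻¹ * t * y = t := by
      calc y⁻¹ * t * y = y⁻¹ * (t * y) := by group
        _ = y⁻¹ * (y * t) := by rw [hyt]
        _ = t := by group
    rw [e]; exact hTQ1 ht
  -- M and R₁
  obtain ⟨M, hM⟩ : ∃ M : Subgroup G,
      M = Q ⊓ Subgroup.normalizer ((cj g Q : Subgroup G) : Set G) := ⟨_, rfl⟩
  have hMQ : M ≤ Q := by rw [hM]; exact inf_le_left
  have hMN1 : M ≤ Subgroup.normalizer ((cj g Q : Subgroup G) : Set G) := by
    rw [hM]; exact inf_le_right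
  have hTM : T ≤ Subgroup.normalizer (M : Set G) := by
    rw [hM]
    exact le_normalizer_inf hTN (hTQ1.trans (Subgroup.le_normalizer.trans Subgroup.le_normalizer))
  obtain ⟨S₂, hTS₂, hS₂Y, hS₂p, hS₂i⟩ := exists_sylow_ge_in (p := 2) (M ⊔ T) T le_sup_right hT2
  obtain ⟨R₁, hR₁⟩ : ∃ R₁ : Subgroup G, R₁ = S₂ ⊓ M := ⟨_, rfl⟩
  have hR₁syl : ¬ 2 ∣ R₁.relIndex M := by
    rw [hR₁]
    exact inf_normal_sylow_in (M ⊔ T) M S₂ hS₂Y hS₂p hS₂i le_sup_left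
      (sup_le Subgroup.le_normalizer hTM)
  have hR₁S₂ : R₁ ≤ S₂ := by rw [hR₁]; exact inf_le_left
  have hR₁M : R₁ ≤ M := by rw [hR₁]; exact inf_le_right
  have hR₁2 : IsPGroup 2 R₁ := hS₂p.to_le hR₁S₂
  have hR₁Q : R₁ ≤ Q := hR₁M.trans hMQ
  have hR₁N1 : R₁ ≤ Subgroup.normalizer ((cj g Q : Subgroup G) : Set G) := hR₁M.trans hMN1
  have hTR₁ : ∀ t ∈ T, ∀ r ∈ R₁, t * r * t⁻¹ ∈ R₁ := by
    intro t ht r hr
    rw [hR₁]
    refine Subgroup.mem_inf.mpr ⟨S₂.mul_mem (S₂.mul_mem (hTS₂ ht) (hR₁S₂ hr))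
      (S₂.inv_mem (hTS₂ ht)), ?_⟩
    exact (Subgroup.mem_normalizer_iff.mp (hTM ht) r).mp (hR₁M hr)
  have hcomm₁ : ∀ t ∈ T, ∀ r ∈ R₁, t * r = r * t := by
    intro t ht r hr
    have hc : t * r * t⁻¹ * r⁻¹ ∈ R₁ := R₁.mul_mem (hTR₁ t ht r hr) (R₁.inv_mem hr)
    obtain ⟨k, hk⟩ := exists_pow_two_of_isPGroup hR₁2 hc
    have hcQ1 : t * r * t⁻¹ * r⁻¹ ∈ cj g Q := by
      have h5 := (Subgroup.mem_normalizer_iff.mp (hR₁N1 hr) t⁻¹).mp (Subgroup.inv_mem _ (hTQ1 ht))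
      have e : t * r * t⁻¹ * r⁻¹ = t * (r * t⁻¹ * r⁻¹) := by group
      rw [e]; exact Subgroup.mul_mem _ (hTQ1 ht) h5
    have h := hD _ (hR₁Q hc) hcQ1 k hk
    calc t * r = (t * r * t⁻¹ * r⁻¹) * r * t := by group
      _ = r * t := by rw [h, one_mul]
  have hRM : R ≤ M := by rw [hM]; exact le_inf hRQ hRN1
  have hRle : Nat.card R ≤ Nat.card R₁ :=
    card_le_of_odd_relIndex (hS2.to_le hRS) hRM hR₁M hR₁syl
  have hR₁cT : R₁ ≤ Subgroup.normalizer (T : Set G) := by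
    intro r hr
    apply Subgroup.centralizer_le_normalizer
    rw [Subgroup.mem_centralizer_iff]
    intro t ht
    exact hcomm₁ t ht r hr
  -- P₁
  have hTR₁2 : IsPGroup 2 (T ⊔ R₁ : Subgroup G) := IsPGroup.to_sup_of_normal_left' hT2 hR₁2 hR₁cT
  have hTR₁Y : T ⊔ R₁ ≤ cj g Q ⊔ R₁ := sup_le_sup_right hTQ1 R₁
  obtain ⟨S₃, hle₃, hS₃Y, hS₃p, hS₃i⟩ :=
    exists_sylow_ge_in (p := 2) (cj g Q ⊔ R₁) (T ⊔ R₁) hTR₁Y hTR₁2
  obtain ⟨P₁, hP₁⟩ : ∃ P₁ : Subgroup G, P₁ = S₃ ⊓ cj g Q := ⟨_, rfl⟩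
  have hP₁syl : ¬ 2 ∣ P₁.relIndex (cj g Q) := by
    rw [hP₁]
    exact inf_normal_sylow_in (cj g Q ⊔ R₁) (cj g Q) S₃ hS₃Y hS₃p hS₃i le_sup_left
      (sup_le Subgroup.le_normalizer hR₁N1)
  have hP₁S₃ : P₁ ≤ S₃ := by rw [hP₁]; exact inf_le_left
  have hP₁Q1 : P₁ ≤ cj g Q := by rw [hP₁]; exact inf_le_right
  have hP₁2 : IsPGroup 2 P₁ := hS₃p.to_le hP₁S₃
  have hTP₁ : T ≤ P₁ := by rw [hP₁]; exact le_inf (le_sup_left.trans hle₃) hTQ1
  have hR₁S₃ : R₁ ≤ S₃ := le_sup_right.trans hle₃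
  have hP₁N : ∀ x ∈ P₁, x ∈ Subgroup.normalizer (Q : Set G) → x ∈ T := by
    intro x hx hxN
    have hle : T ≤ P₁ ⊓ Subgroup.normalizer (Q : Set G) := le_inf hTP₁ hTN
    have hle2 : P₁ ⊓ Subgroup.normalizer (Q : Set G) ≤
        cj g Q ⊓ Subgroup.normalizer (Q : Set G) := inf_le_inf_right _ hP₁Q1
    have heq := eq_of_le_pgroup_of_relIndex hle hle2 (hP₁2.to_le inf_le_left) hTi
    rw [heq]; exact Subgroup.mem_inf.mpr ⟨hx, hxN⟩
  have hh : ∀ r ∈ R₁, r ≠ 1 → ∀ x ∈ P₁, x * r = r * x → x ∈ T := by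
    intro r hr hr1 x hx hxr
    apply hP₁N x hx
    obtain ⟨k, hk⟩ := exists_pow_two_of_isPGroup hR₁2 hr
    refine te_mem_normalizer hQ (hR₁Q hr) ?_ hr1 hk
    have e : x⁻¹ * r * x = r := by
      calc x⁻¹ * r * x = x⁻¹ * (r * x) := by group
        _ = x⁻¹ * (x * r) := by rw [hxr]
        _ = r := by group
    rw [e]; exact hR₁Q hr
  -- Claim A
  have hA : P₁ ≠ T → Nat.card R₁ ≤ Nat.card T := by
    intro hne
    have hint : ∀ y ∈ T ⊔ R₁, y ∈ cj g Q → y ∈ T := by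
      intro y hy hyQ1
      obtain ⟨t, ht, r, hr, rfl⟩ := Cfsg.Agent.Helper13.mem_sup_of_le_normalizer hR₁cT hy
      have hrQ1 : r ∈ cj g Q := by
        have e : r = t⁻¹ * (t * r) := by group
        rw [e]; exact Subgroup.mul_mem _ (Subgroup.inv_mem _ (hTQ1 ht)) hyQ1
      obtain ⟨k, hk⟩ := exists_pow_two_of_isPGroup hR₁2 hr
      have h5 := hD r (hR₁Q hr) hrQ1 k hk
      rw [h5, mul_one]; exact ht
    have hneS₃ : T ⊔ R₁ ≠ S₃ := by
      intro heq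
      apply hne
      apply le_antisymm _ hTP₁
      intro y hy
      exact hint y (by rw [heq]; exact hP₁S₃ hy) (hP₁Q1 hy)
    obtain ⟨h, hh', hhn⟩ := exists_mem_normalizer_inf_not_mem 2 S₃ (T ⊔ R₁) hS₃p hle₃ hneS₃
    obtain ⟨hhN, hhS⟩ := Subgroup.mem_inf.mp hh'
    obtain ⟨x, hx, r₀, hr₀, rfl⟩ := Cfsg.Agent.Helper13.mem_sup_of_le_normalizer hR₁N1 (hS₃Y hhS)
    have hxS₃ : x ∈ S₃ := by
      have e : x = (x * r₀) * r₀⁻¹ := by group
      rw [e]; exact S₃.mul_mem hhS (S₃.inv_mem (hR₁S₃ hr₀))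
    have hxP₁ : x ∈ P₁ := by rw [hP₁]; exact Subgroup.mem_inf.mpr ⟨hxS₃, hx⟩
    have hxN : x ∈ Subgroup.normalizer ((T ⊔ R₁ : Subgroup G) : Set G) := by
      have e : x = (x * r₀) * r₀⁻¹ := by group
      rw [e]
      exact Subgroup.mul_mem _ hhN
        (Subgroup.inv_mem _ (Subgroup.le_normalizer (Subgroup.mem_sup_right hr₀)))
    have hxnot : x ∉ T ⊔ R₁ := fun hxTR =>
      hhn (Subgroup.mul_mem _ hxTR (Subgroup.mem_sup_right hr₀))
    have hxT : x ∉ T := fun h => hxnot (Subgroup.mem_sup_left h)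
    have hψmem : ∀ r ∈ R₁, x * r * x⁻¹ * r⁻¹ ∈ T := by
      intro r hr
      apply hint
      · exact Subgroup.mul_mem _ ((Subgroup.mem_normalizer_iff.mp hxN r).mp
          (Subgroup.mem_sup_right hr)) (Subgroup.inv_mem _ (Subgroup.mem_sup_right hr))
      · have h5 := (Subgroup.mem_normalizer_iff.mp (hR₁N1 hr) x⁻¹).mp (Subgroup.inv_mem _ hx)
        have e : x * r * x⁻¹ * r⁻¹ = x * (r * x⁻¹ * r⁻¹) := by group
        rw [e]; exact Subgroup.mul_mem _ hx h5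
    have hinj : Function.Injective (fun r : ↥R₁ =>
        (⟨x * r * x⁻¹ * (r : G)⁻¹, hψmem r r.2⟩ : ↥T)) := by
      intro r s hrs
      have h5 : x * (r : G) * x⁻¹ * (r : G)⁻¹ = x * (s : G) * x⁻¹ * (s : G)⁻¹ :=
        congrArg Subtype.val hrs
      by_contra hne2
      have hu1 : (s : G)⁻¹ * (r : G) ≠ 1 := by
        intro h6
        apply hne2
        apply Subtype.ext
        calc (r : G) = (s : G) * ((s : G)⁻¹ * (r : G)) := by group
          _ = s := by rw [h6, mul_one]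
      have hux : x * ((s : G)⁻¹ * (r : G)) = ((s : G)⁻¹ * (r : G)) * x := by
        have h6 : (r : G) * x⁻¹ * (r : G)⁻¹ = (s : G) * x⁻¹ * (s : G)⁻¹ := by
          calc (r : G) * x⁻¹ * (r : G)⁻¹ = x⁻¹ * (x * (r : G) * x⁻¹ * (r : G)⁻¹) := by group
            _ = x⁻¹ * (x * (s : G) * x⁻¹ * (s : G)⁻¹) := by rw [h5]
            _ = (s : G) * x⁻¹ * (s : G)⁻¹ := by group
        calc x * ((s : G)⁻¹ * (r : G)) = x * (s : G)⁻¹ * ((r : G) * x⁻¹ * (r : G)⁻¹) * r * x := by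
              group
          _ = x * (s : G)⁻¹ * ((s : G) * x⁻¹ * (s : G)⁻¹) * r * x := by rw [h6]
          _ = ((s : G)⁻¹ * (r : G)) * x := by group
      exact hxT (hh _ (R₁.mul_mem (R₁.inv_mem s.2) r.2) hu1 x hxP₁ hux)
    exact Nat.card_le_card_of_injective _ hinj
  -- card P₁ = card P
  have hP2 : IsPGroup 2 (S ⊓ Q : Subgroup G) := hS2.to_le inf_le_left
  have hcardP : Nat.card P₁ = Nat.card (S ⊓ Q : Subgroup G) := by
    have hcjsyl : ¬ 2 ∣ (cj g (S ⊓ Q)).relIndex (cj g Q) := by rw [relIndex_cj']; exact hPsyl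
    have h5 := card_le_of_odd_relIndex hP₁2 hP₁Q1 (cj_mono inf_le_right) hcjsyl
    have h6 := card_le_of_odd_relIndex (isPGroup_cj (g := g) hP2) (cj_mono inf_le_right) hP₁Q1 hP₁syl
    rw [card_cj] at h5 h6
    exact le_antisymm h5 h6
  have hRP : R ≤ S ⊓ Q := le_inf hRS hRQ
  by_cases hcase : R = S ⊓ Q
  · have hP₁T : P₁ = T := by
      by_contra hne
      have h5 := hA hne
      have h6 : Nat.card T < Nat.card P₁ := card_lt_of_lt' (lt_of_le_of_ne hTP₁ (Ne.symm hne))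
      rw [hcardP, ← hcase] at h6
      omega
    have hTsylQ1 : ¬ 2 ∣ T.relIndex (cj g Q) := by rw [← hP₁T]; exact hP₁syl
    obtain ⟨c, hc, hcq⟩ := exists_conj_le_of_relIndex (cj g Q) T (cj g (S ⊓ Q)) hT2 hTsylQ1
      (cj_mono inf_le_right) (isPGroup_cj hP2)
    have hle : cj (c * g) (S ⊓ Q) ≤ T := by
      rw [cj_mul]
      rintro _ ⟨q, hq, rfl⟩
      exact hcq q hq
    have heq : cj (c * g) (S ⊓ Q) = T := by
      apply Subgroup.eq_of_le_of_card_ge hle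
      rw [card_cj, ← hP₁T, hcardP]
    have e1 : ↥R ≃* ↥(S ⊓ Q : Subgroup G) := MulEquiv.subgroupCongr hcase
    have e2 : ↥(S ⊓ Q : Subgroup G) ≃* ↥(cj (c * g) (S ⊓ Q)) :=
      Subgroup.equivMapOfInjective _ _ (MulAut.conj (c * g)).injective
    have e3 : ↥(cj (c * g) (S ⊓ Q)) ≃* ↥T := MulEquiv.subgroupCongr heq
    exact ⟨e1.trans (e2.trans e3)⟩
  · have hint2 : ∀ y ∈ T ⊔ R, y ∈ Q → y ∈ R := by
      intro y hy hyQ
      obtain ⟨t, ht, r, hr, rfl⟩ := Cfsg.Agent.Helper13.mem_sup_of_le_normalizer hRN hy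
      have htQ : t ∈ Q := by
        have e : t = (t * r) * r⁻¹ := by group
        rw [e]; exact Q.mul_mem hyQ (Q.inv_mem (hRQ hr))
      have h5 : t ∈ T ⊓ Q := Subgroup.mem_inf.mpr ⟨ht, htQ⟩
      rw [h1, Subgroup.mem_bot] at h5
      rw [h5, one_mul]; exact hr
    have hTRS : T ⊔ R ≤ S := sup_le hTS hRS
    have hneS : T ⊔ R ≠ S := by
      intro heq
      apply hcase
      apply le_antisymm hRP
      intro y hy
      exact hint2 y (by rw [heq]; exact (Subgroup.mem_inf.mp hy).1) (Subgroup.mem_inf.mp hy).2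
    obtain ⟨h, hh', hhn⟩ := exists_mem_normalizer_inf_not_mem 2 S (T ⊔ R) hS2 hTRS hneS
    obtain ⟨hhN, hhS⟩ := Subgroup.mem_inf.mp hh'
    obtain ⟨y, hy, t, ht, rfl⟩ := hSdec h hhS
    have hyN : y ∈ Subgroup.normalizer ((T ⊔ R : Subgroup G) : Set G) := by
      have e : y = (y * t) * t⁻¹ := by group
      rw [e]
      exact Subgroup.mul_mem _ hhN
        (Subgroup.inv_mem _ (Subgroup.le_normalizer (Subgroup.mem_sup_left ht)))
    have hynot : y ∉ T ⊔ R := fun hyTR =>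
      hhn (Subgroup.mul_mem _ hyTR (Subgroup.mem_sup_left ht))
    have hyR : y ∉ R := fun h => hynot (Subgroup.mem_sup_right h)
    have hyQ : y ∈ Q := (Subgroup.mem_inf.mp hy).2
    have hφmem : ∀ t ∈ T, y * t * y⁻¹ * t⁻¹ ∈ R := by
      intro t ht
      apply hint2
      · exact Subgroup.mul_mem _ ((Subgroup.mem_normalizer_iff.mp hyN t).mp
          (Subgroup.mem_sup_left ht)) (Subgroup.inv_mem _ (Subgroup.mem_sup_left ht))
      · have h5 := (Subgroup.mem_normalizer_iff.mp (hTN ht) y⁻¹).mp (Q.inv_mem hyQ)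
        have e : y * t * y⁻¹ * t⁻¹ = y * (t * y⁻¹ * t⁻¹) := by group
        rw [e]; exact Q.mul_mem hyQ h5
    let φ : ↥T →* ↥R :=
      { toFun := fun t => ⟨y * t * y⁻¹ * (t : G)⁻¹, hφmem t t.2⟩
        map_one' := by apply Subtype.ext; simp
        map_mul' := by
          intro a b
          apply Subtype.ext
          show y * ((a : G) * b) * y⁻¹ * ((a : G) * b)⁻¹ =
            (y * a * y⁻¹ * (a : G)⁻¹) * (y * b * y⁻¹ * (b : G)⁻¹)
          have hc := hcomm a a.2 _ (hφmem b b.2)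
          calc y * ((a : G) * b) * y⁻¹ * ((a : G) * b)⁻¹ =
                (y * a * y⁻¹ * (a : G)⁻¹) * ((a : G) * (y * b * y⁻¹ * (b : G)⁻¹)) * (a : G)⁻¹ := by
                group
            _ = (y * a * y⁻¹ * (a : G)⁻¹) * ((y * b * y⁻¹ * (b : G)⁻¹) * (a : G)) * (a : G)⁻¹ := by
                rw [hc]
            _ = (y * a * y⁻¹ * (a : G)⁻¹) * (y * b * y⁻¹ * (b : G)⁻¹) := by group }
    have hφinj : Function.Injective φ := by
      rw [injective_iff_map_eq_one]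
      intro t ht
      by_contra ht1
      have h5 : y * (t : G) * y⁻¹ * (t : G)⁻¹ = 1 := congrArg Subtype.val ht
      have h6 : y * (t : G) = t * y := by
        calc y * (t : G) = (y * t * y⁻¹ * (t : G)⁻¹) * t * y := by group
          _ = t * y := by rw [h5, one_mul]
      exact hyR (hc3 t t.2 (fun h => ht1 (Subtype.ext h)) y hy h6)
    have hcard1 : Nat.card T ≤ Nat.card R := Nat.card_le_card_of_injective φ hφinj
    have hP₁T : P₁ ≠ T := by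
      intro heq
      have h7 : Nat.card R < Nat.card (S ⊓ Q : Subgroup G) :=
        card_lt_of_lt' (lt_of_le_of_ne hRP hcase)
      rw [← hcardP, heq] at h7
      omega
    have hcard2 : Nat.card R ≤ Nat.card T := hRle.trans (hA hP₁T)
    have hbij : Function.Bijective φ :=
      (Nat.bijective_iff_injective_and_card φ).mpr ⟨hφinj, le_antisymm hcard1 hcard2⟩
    exact ⟨(MulEquiv.ofBijective φ hbij).symm⟩

end Cfsg.Agent.S1910
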