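import Cfsg.Statements.S1921
import Mathlib
import Cfsg.Agent.Helper10.FStar
import Cfsg.Agent.Helper10.Layer

set_option autoImplicit false
open Cfsg

open scoped commutatorElement
namespace Cfsg.Agent.S1921

/-- Let a be an involution of a finite group H and L a component of H with a L a⁻¹ ≠ L; put M = ⟨L, aLa⁻¹⟩ and let J be the subgroup generated by the elements x · a x a⁻¹ with x ∈ L (the diagonal). Then every element of M outside J·Z(M) generates M together with J. -/
theorem result {H : Type*} [Group H] [Finite H] (a : H) (ha : orderOf a = 2) (L : Subgroup H) (hL : Cfsg.IsComponent L)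
    (hLa : L.map (MulAut.conj a).toMonoidHom ≠ L) (x : H) (hxM : x ∈ L ⊔ L.map (MulAut.conj a).toMonoidHom)
    (hxJ : x ∉ Subgroup.closure {y : H | ∃ l ∈ L, y = l * (a * l * a⁻¹)} ⊔
      ((L ⊔ L.map (MulAut.conj a).toMonoidHom) ⊓ Subgroup.centralizer ((L ⊔ L.map (MulAut.conj a).toMonoidHom : Subgroup H) : Set H))) :
    Subgroup.closure {y : H | ∃ l ∈ L, y = l * (a * l * a⁻¹)} ⊔ Subgroup.zpowers x = L ⊔ L.map (MulAut.conj a).toMonoidHom := by
  have hL₂c : Cfsg.IsComponent (L.map (MulAut.conj a).toMonoidHom) := Cfsg.Agent.Helper10.comp_conj hL a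
  have hcomm0 : ⁅L, L.map (MulAut.conj a).toMonoidHom⁆ = ⊥ := by
    rcases Cfsg.Agent.Helper10.comp_eq_or_comm hL hL₂c with h | h
    · exact absurd h.symm hLa
    · exact h
  have hconj : ∀ l ∈ L, a * l * a⁻¹ ∈ L.map (MulAut.conj a).toMonoidHom := fun l hl => ⟨l, hl, rfl⟩
  generalize hL₂ : L.map (MulAut.conj a).toMonoidHom = L₂ at *
  have hcomm : ∀ l ∈ L, ∀ l' ∈ L₂, l * l' = l' * l := by
    intro l hl l' hl'
    have := Subgroup.commutator_mem_commutator hl hl'
    rw [hcomm0, Subgroup.mem_bot, commutatorElement_eq_one_iff_mul_comm] at this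
    exact this
  have hJmem : ∀ l ∈ L, l * (a * l * a⁻¹) ∈ Subgroup.closure {y : H | ∃ l ∈ L, y = l * (a * l * a⁻¹)} :=
    fun l hl => Subgroup.subset_closure ⟨l, hl, rfl⟩
  have hJle : Subgroup.closure {y : H | ∃ l ∈ L, y = l * (a * l * a⁻¹)} ≤ L ⊔ L₂ := by
    rw [Subgroup.closure_le]
    rintro _ ⟨l, hl, rfl⟩
    exact Subgroup.mul_mem_sup hl (hconj l hl)
  generalize hJ : Subgroup.closure {y : H | ∃ l ∈ L, y = l * (a * l * a⁻¹)} = J at *
  obtain ⟨u, hu, v', hv', hxuv⟩ := Cfsg.Agent.Helper10.mem_sup_of_comm hcomm hxM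
  rw [← hL₂] at hv'
  obtain ⟨v, hv, hvv'⟩ := hv'
  have hvv : v' = a * v * a⁻¹ := hvv'.symm
  apply le_antisymm
  · exact sup_le hJle (by rw [Subgroup.zpowers_le]; exact hxM)
  have hxD : x ∈ J ⊔ Subgroup.zpowers x :=
    (le_sup_right : Subgroup.zpowers x ≤ J ⊔ Subgroup.zpowers x) (Subgroup.mem_zpowers x)
  have hJD : J ≤ J ⊔ Subgroup.zpowers x := le_sup_left
  generalize hD : J ⊔ Subgroup.zpowers x = D at *
  have hwD : u * v⁻¹ ∈ D := by
    have e : u * v⁻¹ = x * (v * (a * v * a⁻¹))⁻¹ := by rw [hxuv, hvv]; group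
    rw [e]; exact D.mul_mem hxD (D.inv_mem (hJD (hJmem v hv)))
  have hwL : u * v⁻¹ ∈ L := L.mul_mem hu (L.inv_mem hv)
  rcases Cfsg.Agent.Helper10.qs_normal hL.2 (Subgroup.normalClosure {(⟨u * v⁻¹, hwL⟩ : L)})
    Subgroup.normalClosure_normal with h1 | h1
  · have hLD : L ≤ D := by
      have hE : Subgroup.normalClosure {(⟨u * v⁻¹, hwL⟩ : L)} ≤ D.subgroupOf L := by
        unfold Subgroup.normalClosure
        rw [Subgroup.closure_le]
        intro y hy
        rw [Group.mem_conjugatesOfSet_iff] at hy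
        obtain ⟨b, hb, hby⟩ := hy
        rw [Set.mem_singleton_iff] at hb
        rw [hb] at hby
        obtain ⟨c, hc⟩ := isConj_iff.mp hby
        rw [SetLike.mem_coe, Subgroup.mem_subgroupOf, ← hc]
        have e : ((c * ⟨u * v⁻¹, hwL⟩ * c⁻¹ : L) : H) =
            ((c : H) * (a * c * a⁻¹)) * (u * v⁻¹) * ((c : H) * (a * c * a⁻¹))⁻¹ := by
          have h2 := hcomm (u * v⁻¹) hwL (a * c * a⁻¹) (hconj c c.2)
          show (c : H) * (u * v⁻¹) * (c : H)⁻¹ = _
          calc (c : H) * (u * v⁻¹) * (c : H)⁻¹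
              = (c : H) * ((u * v⁻¹) * (a * c * a⁻¹)) * (a * c * a⁻¹)⁻¹ * (c : H)⁻¹ := by group
            _ = (c : H) * ((a * c * a⁻¹) * (u * v⁻¹)) * (a * c * a⁻¹)⁻¹ * (c : H)⁻¹ := by rw [h2]
            _ = _ := by group
        rw [e]
        exact D.mul_mem (D.mul_mem (hJD (hJmem c c.2)) hwD) (D.inv_mem (hJD (hJmem c c.2)))
      rw [h1] at hE
      intro l hl
      exact Subgroup.mem_subgroupOf.mp (hE (Subgroup.mem_top (⟨l, hl⟩ : L)))
    apply sup_le hLD
    rw [← hL₂]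
    rintro _ ⟨l, hl, rfl⟩
    have e : (MulAut.conj a).toMonoidHom l = l⁻¹ * (l * (a * l * a⁻¹)) := by
      show a * l * a⁻¹ = _
      group
    rw [e]; exact D.mul_mem (D.inv_mem (hLD hl)) (hJD (hJmem l hl))
  · exfalso
    apply hxJ
    have hwc : (⟨u * v⁻¹, hwL⟩ : L) ∈ Subgroup.center L :=
      h1 (Subgroup.subset_normalClosure (Set.mem_singleton _))
    have hwZ : u * v⁻¹ ∈ (L ⊔ L₂) ⊓ Subgroup.centralizer ((L ⊔ L₂ : Subgroup H) : Set H) := by
      refine Subgroup.mem_inf.mpr ⟨(le_sup_left : L ≤ L ⊔ L₂) hwL, ?_⟩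
      have hle : L ⊔ L₂ ≤ Subgroup.centralizer ({u * v⁻¹} : Set H) := by
        apply sup_le
        · intro l hl
          rw [Subgroup.mem_centralizer_iff]
          intro h0 hh0
          rw [Set.mem_singleton_iff.mp hh0]
          have := (Subgroup.mem_center_iff.mp hwc) ⟨l, hl⟩
          exact (congrArg Subtype.val this).symm
        · intro l' hl'
          rw [Subgroup.mem_centralizer_iff]
          intro h0 hh0
          rw [Set.mem_singleton_iff.mp hh0]
          exact hcomm _ hwL l' hl'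
      rw [Subgroup.mem_centralizer_iff]
      intro m hm
      have := hle hm
      rw [Subgroup.mem_centralizer_iff] at this
      exact (this _ rfl).symm
    have e : x = (u * v⁻¹) * (v * (a * v * a⁻¹)) := by rw [hxuv, hvv]; group
    rw [e]
    exact Subgroup.mul_mem _ ((le_sup_right : _ ≤ J ⊔ _) hwZ) ((le_sup_left : J ≤ J ⊔ _) (hJmem v hv))

end Cfsg.Agent.S1921
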