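import Cfsg.Statements.S1947
import Mathlib
import Cfsg.Agent.S0071
import Cfsg.Agent.Helper21.OmegaCoprime

set_option autoImplicit false
open Cfsg

namespace Cfsg.Agent.S1947

/-- Let G be a finite group and p a prime. If every element of G of order dividing p (dividing 4 when p = 2) lies in some fixed term Z_n(G) of the upper central series, then G has a normal p-complement. -/
theorem result {G : Type*} [Group G] [Finite G] {p : ℕ} [Fact p.Prime] (n : ℕ)
    (h : ∀ a : G, (a ^ p = 1 ∨ (p = 2 ∧ a ^ 4 = 1)) → a ∈ Subgroup.upperCentralSeries G n) : Cfsg.HasNormalPComplement p G := by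
  obtain ⟨P⟩ : Nonempty (Sylow p G) := inferInstance
  refine ⟨P, ?_⟩
  apply (Cfsg.Agent.S0071.result P).mpr
  intro Q hQP g hg hgp
  have hQ : IsPGroup p Q := P.2.to_le hQP
  have hR : ∀ i : ℕ, ∀ u ∈ Q, u ∈ Subgroup.upperCentralSeries G i → g * u = u * g := by
    intro i
    induction i with
    | zero =>
      intro u _ hu
      rw [Subgroup.upperCentralSeries_zero, Subgroup.mem_bot] at hu
      rw [hu]; simp
    | succ i ih =>
      intro u huQ hu
      have hc1 : u⁻¹ * g * u⁻¹⁻¹ * g⁻¹ ∈ Subgroup.upperCentralSeries G i := by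
        have h0 := Subgroup.mem_upperCentralSeries_succ_iff.mp
          ((Subgroup.upperCentralSeries G (i + 1)).inv_mem hu) g
        rwa [commutatorElement_def] at h0
      rw [inv_inv] at hc1
      have hcQ : u⁻¹ * g * u * g⁻¹ ∈ Q := by
        have h1 : g * u * g⁻¹ ∈ Q := (Subgroup.mem_normalizer_iff.mp hg u).mp huQ
        have e : u⁻¹ * g * u * g⁻¹ = u⁻¹ * (g * u * g⁻¹) := by group
        rw [e]; exact Q.mul_mem (Q.inv_mem huQ) h1
      have hcomm := ih _ hcQ hc1
      have hord : ∃ j : ℕ, orderOf (u⁻¹ * g * u * g⁻¹) = p ^ j := by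
        obtain ⟨j, hj⟩ := (IsPGroup.iff_orderOf.mp hQ) ⟨_, hcQ⟩
        exact ⟨j, by rw [← hj, Subgroup.orderOf_mk]⟩
      have h1 : g * u * g⁻¹ = u * (u⁻¹ * g * u * g⁻¹) := by group
      have hc := Cfsg.Agent.Helper21.oc_eq_one_of_fixed g u _ hgp hord h1 hcomm
      calc g * u = u * (u⁻¹ * g * u * g⁻¹) * g := by group
        _ = u * g := by rw [hc, mul_one]
  by_cases hp2 : p = 2
  · subst hp2
    apply Cfsg.Agent.Helper21.oc_centralizes_two g hgp Q hQ hg
    intro u hu hu4
    exact hR n u hu (h u (Or.inr ⟨rfl, hu4⟩))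
  · apply Cfsg.Agent.Helper21.oc_centralizes_odd hp2 g hgp Q hQ hg
    intro u hu hup
    exact hR n u hu (h u (Or.inl hup))

end Cfsg.Agent.S1947
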