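import Cfsg.Statements.S1970
import Cfsg.Agent.Helper13.GlaubT

set_option autoImplicit false
universe u
open Cfsg

open Cfsg.Agent.Helper13 Cfsg.Agent.Helper17
open scoped commutatorElement
namespace Cfsg.Agent.S1970

/-- the focal hypothesis of the statement on a group `Y`. -/
def LocQ (p : ℕ) [Fact p.Prime] (W : ∀ (Q : Type u) [Group Q], Subgroup Q) (Y : Type u)
    [Group Y] : Prop :=
  Subgroup.centralizer ((pCore p Y : Subgroup Y) : Set Y) ≤ pCore p Y →
    ∀ T : Sylow p Y, pCore p Y ⊓ ⁅(⊤ : Subgroup Y), (⊤ : Subgroup Y)⁆ ≤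
      ⁅Subgroup.normalizer ((inducedFunctor (G := Y) W (T : Subgroup Y) : Subgroup Y) : Set Y),
        Subgroup.normalizer ((inducedFunctor (G := Y) W (T : Subgroup Y) : Subgroup Y) : Set Y)⁆

theorem locQ_of_equiv {p : ℕ} [Fact p.Prime] (W : ∀ (Q : Type u) [Group Q], Subgroup Q)
    (hW : IsCharPFunctor.{u} p W) {X Y : Type u} [Group X] [Group Y] [Finite X] (e : X ≃* Y)
    (h : LocQ p W X) : LocQ p W Y := by
  intro hC T
  have hCX : Subgroup.centralizer ((pCore p X : Subgroup X) : Set X) ≤ pCore p X :=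
    charP_of_equiv e.symm hC
  obtain ⟨T', hmap⟩ := exists_sylow_map_equiv e T
  intro x hx
  obtain ⟨hxQ, hxc⟩ := Subgroup.mem_inf.mp hx
  rw [← pCore_map_equiv p e] at hxQ
  obtain ⟨q, hq, rfl⟩ := hxQ
  have hqc : q ∈ ⁅(⊤ : Subgroup X), (⊤ : Subgroup X)⁆ := by
    have h1 : e.symm.toMonoidHom (e.toMonoidHom q) ∈
        Subgroup.map e.symm.toMonoidHom ⁅(⊤ : Subgroup Y), (⊤ : Subgroup Y)⁆ :=
      Subgroup.mem_map_of_mem _ hxc
    rw [Subgroup.map_commutator] at h1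
    have h2 : e.symm.toMonoidHom (e.toMonoidHom q) = q := by simp
    rw [h2] at h1
    exact Subgroup.commutator_mono le_top le_top h1
  have h1 := h hCX T' (Subgroup.mem_inf.mpr ⟨hq, hqc⟩)
  have h2 : e.toMonoidHom q ∈ Subgroup.map e.toMonoidHom
      ⁅Subgroup.normalizer ((inducedFunctor (G := X) W (T' : Subgroup X) : Subgroup X) : Set X),
        Subgroup.normalizer ((inducedFunctor (G := X) W (T' : Subgroup X) : Subgroup X) : Set X)⁆ :=
    Subgroup.mem_map_of_mem _ h1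
  rw [Subgroup.map_commutator] at h2
  have h5 : (Subgroup.normalizer ((inducedFunctor (G := X) W (T' : Subgroup X) : Subgroup X) :
      Set X)).map e.toMonoidHom ≤
      Subgroup.normalizer ((inducedFunctor (G := Y) W (T : Subgroup Y) : Subgroup Y) : Set Y) := by
    rw [hmap, inducedFunctor_map W hW e.toMonoidHom e.injective _ T'.2]
    exact Subgroup.le_normalizer_map _
  exact Subgroup.commutator_mono h5 h5 h2

theorem locHypTr_of_locQ {p : ℕ} [Fact p.Prime] (W : ∀ (Q : Type u) [Group Q], Subgroup Q)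
    (hW : IsCharPFunctor.{u} p W) {Y : Type u} [Group Y] [Finite Y] (hQ : LocQ p W Y) :
    LocHypTr p ({W} : Set (∀ (Q : Type u) [Group Q], Subgroup Q)) Y := by
  intro hC ihsec T
  have h𝓦 : ∀ W' ∈ ({W} : Set (∀ (Q : Type u) [Group Q], Subgroup Q)),
      IsCharPFunctor.{u} p W' := by
    intro W' hW'
    rw [Set.mem_singleton_iff.mp hW']; exact hW
  have hQ' := hQ hC T
  have hF : famD (indFam ({W} : Set (∀ (Q : Type u) [Group Q], Subgroup Q)) Y) (T : Subgroup Y) =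
      (T : Subgroup Y) ⊓
      ⁅Subgroup.normalizer ((inducedFunctor (G := Y) W (T : Subgroup Y) : Subgroup Y) : Set Y),
        Subgroup.normalizer ((inducedFunctor (G := Y) W (T : Subgroup Y) : Subgroup Y) : Set Y)⁆ := by
    rw [famD_indFam_eq]
    simp
  show (T : Subgroup Y) ⊓ ⁅(⊤ : Subgroup Y), (⊤ : Subgroup Y)⁆ ≤
    famD (indFam ({W} : Set (∀ (Q : Type u) [Group Q], Subgroup Q)) Y) (T : Subgroup Y)
  intro x hx
  obtain ⟨hxT, hxc⟩ := Subgroup.mem_inf.mp hx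
  by_cases hTQ : (T : Subgroup Y) ≤ pCore p Y
  · rw [hF]
    exact Subgroup.mem_inf.mpr ⟨hxT, hQ' (Subgroup.mem_inf.mpr ⟨hTQ hxT, hxc⟩)⟩
  have hQbot : pCore p Y ≠ ⊥ := by
    intro h0
    apply hTQ
    have h1 : (⊤ : Subgroup Y) ≤ pCore p Y := by
      refine le_trans ?_ hC
      intro y _
      rw [Subgroup.mem_centralizer_iff]
      intro z hz
      rw [h0] at hz
      have hz1 : z = 1 := Subgroup.mem_bot.mp hz
      rw [hz1, one_mul, mul_one]
    exact le_top.trans h1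
  obtain ⟨f, hf, hfx⟩ := trctl_quot_step ({W} : Set (∀ (Q : Type u) [Group Q], Subgroup Q)) h𝓦 T
    ihsec hTQ hQbot x hx
  have hf' := hf
  rw [hF] at hf'
  have h1 := hQ' (Subgroup.mem_inf.mpr ⟨hfx, Subgroup.mul_mem _ (Subgroup.inv_mem _
    (Subgroup.commutator_mono le_top le_top (Subgroup.mem_inf.mp hf').2)) hxc⟩)
  have h2 : f⁻¹ * x ∈ famD (indFam ({W} : Set (∀ (Q : Type u) [Group Q], Subgroup Q)) Y)
      (T : Subgroup Y) := by
    rw [hF]
    refine Subgroup.mem_inf.mpr ⟨Subgroup.mul_mem _ (Subgroup.inv_mem _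
      (Subgroup.mem_inf.mp hf').1) hxT, h1⟩
  have h3 := Subgroup.mul_mem _ hf h2
  rwa [mul_inv_cancel_left] at h3


/-- Let p be a prime, G a finite group and W an isomorphism-invariant p-group functor (W assigns to every group Q a subgroup W(Q), nontrivial whenever Q is a nontrivial finite p-group, and every isomorphism from a finite p-group Q onto a group R carries W(Q) onto W(R)). Suppose that for every section G* = K/R of G with C_{G*}(O_p(G*)) ≤ O_p(G*) and every Sylow p-subgroup S* of G*, one has O_p(G*) ∩ (G*)' = O_p(G*) ∩ (N_{G*}(W(S*)))'. Then W controls transfer in every section G* of G: S* ∩ (G*)' = S* ∩ (N_{G*}(W(S*)))' for a Sylow p-subgroup S* of G*. -/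
theorem result {G : Type u} [Group G] [Finite G] {p : ℕ} [Fact p.Prime] (W : ∀ (Q : Type u) [Group Q], Subgroup Q) (hW : Cfsg.IsCharPFunctor.{u} p W) (hloc : ∀ (K R : Subgroup G) [hR : (R.subgroupOf K).Normal], Subgroup.centralizer ((Cfsg.pCore p (↥K ⧸ R.subgroupOf K) : Subgroup (↥K ⧸ R.subgroupOf K)) : Set (↥K ⧸ R.subgroupOf K)) ≤ Cfsg.pCore p (↥K ⧸ R.subgroupOf K) → ∀ T : Sylow p (↥K ⧸ R.subgroupOf K), Cfsg.pCore p (↥K ⧸ R.subgroupOf K) ⊓ commutator (↥K ⧸ R.subgroupOf K) = Cfsg.pCore p (↥K ⧸ R.subgroupOf K) ⊓ ⁅Subgroup.normalizer ((Cfsg.inducedFunctor (G := (↥K ⧸ R.subgroupOf K)) W ((T : Subgroup (↥K ⧸ R.subgroupOf K))) : Subgroup (↥K ⧸ R.subgroupOf K)) : Set (↥K ⧸ R.subgroupOf K)), Subgroup.normalizer ((Cfsg.inducedFunctor (G := (↥K ⧸ R.subgroupOf K)) W ((T : Subgroup (↥K ⧸ R.subgroupOf K))) : Subgroup (↥K ⧸ R.subgroupOf K)) : Set (↥K ⧸ R.subgroupOf K))⁆) : ∀ (K R : Subgroup G) [hR : (R.subgroupOf K).Normal], Cfsg.ControlsTransferIn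 p (Cfsg.inducedFunctor (G := (↥K ⧸ R.subgroupOf K)) W) ⊤ := by
  have hsecG : ∀ (Y : Type u) [Group Y], Sec Y G → LocQ p W Y :=
    sec_forall (fun Y _ => LocQ p W Y)
      (fun X Y _ _ _ e h => locQ_of_equiv W hW e h)
      (fun K R hR hC T => by
        have h1 := hloc K R hC T
        rw [commutator_def] at h1
        rw [h1]
        exact inf_le_right)
  have h𝓦 : ∀ W' ∈ ({W} : Set (∀ (Q : Type u) [Group Q], Subgroup Q)),
      IsCharPFunctor.{u} p W' := by
    intro W' hW'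
    rw [Set.mem_singleton_iff.mp hW']; exact hW
  intro K R hR
  obtain ⟨T⟩ : Nonempty (Sylow p (↥K ⧸ R.subgroupOf K)) := inferInstance
  have hsecKR : Sec (↥K ⧸ R.subgroupOf K) G := (Sec.of_quotient _).trans (Sec.of_subgroup K)
  have hctl := glaub_tr ({W} : Set (∀ (Q : Type u) [Group Q], Subgroup Q)) h𝓦
    (Nat.card (↥K ⧸ R.subgroupOf K)) (↥K ⧸ R.subgroupOf K) le_rfl (fun Y _ hY => by
      obtain ⟨H, f, hf⟩ := hY
      haveI : Finite Y := Finite.of_surjective f hf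
      exact locHypTr_of_locQ W hW (hsecG Y (Sec.trans ⟨H, f, hf⟩ hsecKR))) T
  have hF : famD (indFam ({W} : Set (∀ (Q : Type u) [Group Q], Subgroup Q))
      (↥K ⧸ R.subgroupOf K)) (T : Subgroup (↥K ⧸ R.subgroupOf K)) =
      (T : Subgroup (↥K ⧸ R.subgroupOf K)) ⊓
      ⁅Subgroup.normalizer ((inducedFunctor (G := (↥K ⧸ R.subgroupOf K)) W
          (T : Subgroup (↥K ⧸ R.subgroupOf K)) : Subgroup (↥K ⧸ R.subgroupOf K)) :
          Set (↥K ⧸ R.subgroupOf K)),
        Subgroup.normalizer ((inducedFunctor (G := (↥K ⧸ R.subgroupOf K)) W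
          (T : Subgroup (↥K ⧸ R.subgroupOf K)) : Subgroup (↥K ⧸ R.subgroupOf K)) :
          Set (↥K ⧸ R.subgroupOf K))⁆ := by
    rw [famD_indFam_eq]
    simp
  have hctl' : (T : Subgroup (↥K ⧸ R.subgroupOf K)) ⊓
      ⁅(⊤ : Subgroup (↥K ⧸ R.subgroupOf K)), (⊤ : Subgroup (↥K ⧸ R.subgroupOf K))⁆ ≤
      famD (indFam ({W} : Set (∀ (Q : Type u) [Group Q], Subgroup Q))
      (↥K ⧸ R.subgroupOf K)) (T : Subgroup (↥K ⧸ R.subgroupOf K)) := hctl
  rw [hF] at hctl'
  refine ⟨T, le_top, T.2, by rw [Subgroup.relIndex_top_right]; exact T.not_dvd_index, ?_⟩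
  rw [top_inf_eq]
  exact le_antisymm hctl' (inf_le_inf_left _ (Subgroup.commutator_mono le_top le_top))

end Cfsg.Agent.S1970
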