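import Cfsg.Statements.S1972
import Cfsg.Agent.Helper13.GlaubT2

set_option autoImplicit false
universe u
open Cfsg

open Cfsg.Agent.Helper13 Cfsg.Agent.Helper17
open scoped commutatorElement
namespace Cfsg.Agent.S1972

/-- Let p be a prime, G a finite group and W an isomorphism-invariant p-group functor (W assigns to every group Q a subgroup W(Q), nontrivial whenever Q is a nontrivial finite p-group, and every isomorphism from a finite p-group Q onto a group R carries W(Q) onto W(R)). Suppose that whenever G* = K/R is a section of G with C_{G*}(O_p(G*)) ≤ O_p(G*) and S* is a Sylow p-subgroup of G* with W(S*) not normal in G*, there is an element g of S* outside O_p(G*) such that [X, g, …, g] ≤ Y with p − 1 entries g, for every chief factor X/Y of G* with X ≤ O_p(G*). Then W controls transfer in every section of G. -/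
theorem result {G : Type u} [Group G] [Finite G] {p : ℕ} [Fact p.Prime] (W : ∀ (Q : Type u) [Group Q], Subgroup Q) (hW : Cfsg.IsCharPFunctor.{u} p W) (hloc : ∀ (K R : Subgroup G) [hR : (R.subgroupOf K).Normal], Subgroup.centralizer ((Cfsg.pCore p (↥K ⧸ R.subgroupOf K) : Subgroup (↥K ⧸ R.subgroupOf K)) : Set (↥K ⧸ R.subgroupOf K)) ≤ Cfsg.pCore p (↥K ⧸ R.subgroupOf K) → ∀ T : Sylow p (↥K ⧸ R.subgroupOf K), ¬ (Cfsg.inducedFunctor (G := (↥K ⧸ R.subgroupOf K)) W ((T : Subgroup (↥K ⧸ R.subgroupOf K)))).Normal → ∃ g : (↥K ⧸ R.subgroupOf K), g ∈ (T : Subgroup (↥K ⧸ R.subgroupOf K)) ∧ g ∉ Cfsg.pCore p (↥K ⧸ R.subgroupOf K) ∧ ∀ U V : Subgroup (↥K ⧸ R.subgroupOf K), Cfsg.IsChiefFactor U V → U ≤ Cfsg.pCore p (↥K ⧸ R.subgroupOf K) → Cfsg.iterCommutator U (Subgroup.zpowers g) (p - 1) ≤ V) : ∀ (K R : Subgroup G) [hR : (R.subgroupOf K).Normal], Cfsg.ControlsTransferIn p (Cfsg.inducedFunctor (G := (↥K ⧸ R.subgroupOf K)) W) ⊤ := by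
  have hsecG : ∀ (Y : Type u) [Group Y], Sec Y G → LocU p W Y :=
    sec_forall (fun Y _ => LocU p W Y)
      (fun X Y _ _ _ e h => locU_of_equiv W hW e h)
      (fun K R hR => hloc K R)
  have h𝓦 : ∀ W' ∈ ({W} : Set (∀ (Q : Type u) [Group Q], Subgroup Q)),
      IsCharPFunctor.{u} p W' := by
    intro W' hW'
    rw [Set.mem_singleton_iff.mp hW']; exact hW
  intro K R hR
  obtain ⟨T⟩ : Nonempty (Sylow p (↥K ⧸ R.subgroupOf K)) := inferInstance
  have hsecKR : Sec (↥K ⧸ R.subgroupOf K) G := (Sec.of_quotient _).trans (Sec.of_subgroup K)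
  have hctl := glaub_tr ({W} : Set (∀ (Q : Type u) [Group Q], Subgroup Q)) h𝓦
    (Nat.card (↥K ⧸ R.subgroupOf K)) (↥K ⧸ R.subgroupOf K) le_rfl (fun Y _ hY => by
      obtain ⟨H, f, hf⟩ := hY
      haveI : Finite Y := Finite.of_surjective f hf
      exact locHypTr_of_locU W hW (hsecG Y (Sec.trans ⟨H, f, hf⟩ hsecKR))) T
  have hctl' : (T : Subgroup (↥K ⧸ R.subgroupOf K)) ⊓
      ⁅(⊤ : Subgroup (↥K ⧸ R.subgroupOf K)), (⊤ : Subgroup (↥K ⧸ R.subgroupOf K))⁆ ≤
      famD (indFam ({W} : Set (∀ (Q : Type u) [Group Q], Subgroup Q))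
      (↥K ⧸ R.subgroupOf K)) (T : Subgroup (↥K ⧸ R.subgroupOf K)) := hctl
  rw [famD_singleton] at hctl'
  refine ⟨T, le_top, T.2, by rw [Subgroup.relIndex_top_right]; exact T.not_dvd_index, ?_⟩
  rw [top_inf_eq]
  exact le_antisymm hctl' (inf_le_inf_left _ (Subgroup.commutator_mono le_top le_top))

end Cfsg.Agent.S1972
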