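import Cfsg.Statements.S1985
import Cfsg.Agent.Helper13.KInf3

set_option autoImplicit false
universe u
open Cfsg

open Cfsg.Agent.Helper13 Cfsg.Agent.Helper17
open scoped commutatorElement
namespace Cfsg.Agent.S1985

/-- Let p be an odd prime and G a finite group. Then the lower K-infinity subgroup controls weak closure of elements in G: the lower K-infinity subgroup of every p-subgroup P of G contains Z(P), and for some (equivalently, every) Sylow p-subgroup S of G, with K the lower K-infinity subgroup of S, every element of S commuting with all of N_G(K) is weakly closed in S with respect to G (every G-conjugate of it lying in S equals it). -/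
theorem result {G : Type u} [Group G] [Finite G] {p : ℕ} [Fact p.Prime] (hp : p ≠ 2) : Cfsg.ControlsWeakClosureOfElementsIn p (Cfsg.inducedFunctor (G := G) Cfsg.kInfLower) ⊤ := by
  have hW := inducedFunctor_isConjugacyFunctor (p := p) kInfLower (isCharPFunctor_kInfLower p)
    (X := G)
  have hWZ : ∀ P : Subgroup G, IsPGroup p ↥P →
      P ⊓ Subgroup.centralizer ((P : Subgroup G) : Set G) ≤ inducedFunctor kInfLower P :=
    fun P _ => inf_centralizer_le_inducedFunctor_kInfLower P
  refine ⟨hWZ, ?_⟩
  obtain ⟨R, -, hRH, hRp, hRidx⟩ := exists_sylow_ge_in (p := p) (⊤ : Subgroup G) ⊥ bot_le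
    IsPGroup.of_bot
  exact ⟨R, hRH, hRp, hRidx, wc_of_loc _ hW hWZ
    (fun H T hTH hTp hidx hn => kinf_hloc_chief hp H T hTH hTp hidx hn) _ ⊤ R le_rfl hRH hRp
    hRidx⟩

end Cfsg.Agent.S1985
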