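import Cfsg.Statements.S2005
import Cfsg.Agent.Helper13.NPC
import Cfsg.Agent.Helper13.PSolv
import Cfsg.Agent.Helper13.PSolv2
import Cfsg.Agent.Helper13.AlpP
import Cfsg.Agent.Helper17.LocChar
import Cfsg.Agent.Helper21.Frobenius

set_option autoImplicit false
universe u
open Cfsg

open Cfsg.Agent.Helper13 Cfsg.Agent.Helper17
namespace Cfsg.Agent.S2005

/-- the local hypothesis on a group `Y`. -/
def LocHyp (p : ℕ) (W : ∀ (Q : Type u) [Group Q], Subgroup Q) (Y : Type u) [Group Y] : Prop :=
  Subgroup.centralizer ((pCore p Y : Subgroup Y) : Set Y) ≤ pCore p Y →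
    HasNormalPComplement p (Y ⧸ pCore p Y) →
    ∀ T : Sylow p Y, IsCoatom (T : Subgroup Y) →
      (inducedFunctor (G := Y) W (T : Subgroup Y)).Normal

theorem locHyp_of_equiv {p : ℕ} [Fact p.Prime] (W : ∀ (Q : Type u) [Group Q], Subgroup Q)
    (hW : IsCharPFunctor.{u} p W) {X Y : Type u} [Group X] [Group Y] [Finite X] (e : X ≃* Y)
    (h : LocHyp p W X) : LocHyp p W Y := by
  intro hC hNPC T hT
  haveI : Finite Y := Finite.of_equiv X e.toEquiv
  have hCX : Subgroup.centralizer ((pCore p X : Subgroup X) : Set X) ≤ pCore p X :=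
    charP_of_equiv e.symm hC
  have hNPCX : HasNormalPComplement p (X ⧸ pCore p X) := by
    have e2 : (Y ⧸ pCore p Y) ≃* (X ⧸ pCore p X) :=
      QuotientGroup.congr (pCore p Y) (pCore p X) e.symm (pCore_map_equiv p e.symm)
    apply npc_of_npcin_top
    have h1 := (npcin_top_of_npc hNPC).map e2.toMonoidHom
    rwa [Subgroup.map_top_of_surjective _ e2.surjective] at h1
  have hidx : ¬ p ∣ ((T : Subgroup Y).map e.symm.toMonoidHom).index := by
    rw [show (T : Subgroup Y).map e.symm.toMonoidHom = (T : Subgroup Y).map (e.symm : Y →* X) from rfl,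
      Subgroup.index_map_equiv]
    exact T.not_dvd_index
  obtain ⟨T', hT'⟩ : ∃ T' : Sylow p X, (T' : Subgroup X) = (T : Subgroup Y).map e.symm.toMonoidHom :=
    ⟨(T.2.map _).toSylow hidx, rfl⟩
  have hco : IsCoatom (T' : Subgroup X) := by
    rw [hT']
    exact (OrderIso.isCoatom_iff (MulEquiv.mapSubgroup e.symm) _).mpr hT
  have hn := h hCX hNPCX T' hco
  have hmap : (T : Subgroup Y) = (T' : Subgroup X).map e.toMonoidHom := by
    rw [hT', Subgroup.map_map]
    have h1 : e.toMonoidHom.comp e.symm.toMonoidHom = MonoidHom.id Y := by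
      ext y; simp
    rw [h1, Subgroup.map_id]
  rw [hmap, inducedFunctor_map W hW e.toMonoidHom e.injective _ T'.2]
  exact hn.map _ e.surjective

theorem main_ind {p : ℕ} [hp : Fact p.Prime] (W : ∀ (Q : Type u) [Group Q], Subgroup Q)
    (hW : IsCharPFunctor.{u} p W) :
    ∀ (n : ℕ) (X : Type u) [Group X] [Finite X], Nat.card X ≤ n →
      (∀ (Y : Type u) [Group Y], Sec Y X → LocHyp p W Y) →
      ∀ S : Sylow p X,
        NPCin p (Subgroup.normalizer ((inducedFunctor W (S : Subgroup X) : Subgroup X) : Set X)) →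
        NPCin p (⊤ : Subgroup X) := by
  intro n
  induction n with
  | zero =>
    intro X _ _ hc
    exact absurd hc (by have := Nat.card_pos (α := X); omega)
  | succ n ih =>
    intro X _ _ hcard hsec S hN
    by_contra hno
    -- all Sylow subgroups
    have hN' : ∀ S' : Sylow p X,
        NPCin p (Subgroup.normalizer ((inducedFunctor W (S' : Subgroup X) : Subgroup X) : Set X)) := by
      intro S'
      obtain ⟨g, hg⟩ := sylow_conj S S'
      rw [hg, inducedFunctor_cj W hW _ S.2, normalizer_cj]
      exact hN.cj g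
    -- Frobenius
    have hfrob : ¬ Cfsg.Agent.Helper21.FrobHyp p X := fun hf =>
      hno (npcin_top_of_npc (Cfsg.Agent.Helper21.frob_hasNormalPComplement hf))
    unfold Cfsg.Agent.Helper21.FrobHyp at hfrob
    push Not at hfrob
    obtain ⟨Q₀, hQ₀, g₀, hg₀N, hg₀o, hg₀C⟩ := hfrob
    obtain ⟨𝒜, h𝒜⟩ : ∃ 𝒜 : Set (Subgroup X), 𝒜 = {H : Subgroup X | IsPGroup p H ∧ H ≠ ⊥ ∧
        ¬ NPCin p (Subgroup.normalizer (H : Set X))} := ⟨_, rfl⟩
    have hmemA : ∀ H : Subgroup X, H ∈ 𝒜 ↔ (IsPGroup p H ∧ H ≠ ⊥ ∧
        ¬ NPCin p (Subgroup.normalizer (H : Set X))) := by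
      intro H; rw [h𝒜]; rfl
    have hQ₀A : Q₀ ∈ 𝒜 := by
      rw [hmemA]
      refine ⟨hQ₀, ?_, ?_⟩
      · rintro rfl
        apply hg₀C
        rw [Subgroup.mem_centralizer_iff]
        intro h hh
        rw [SetLike.mem_coe, Subgroup.mem_bot] at hh
        rw [hh, one_mul, mul_one]
      · intro hnpc
        exact hg₀C (hnpc.centralizes hQ₀ Subgroup.le_normalizer le_rfl hg₀N hg₀o)
    obtain ⟨ν, hν⟩ : ∃ ν : Subgroup X → ℕ, ν = fun H : Subgroup X =>
        (Nat.card ↥(Subgroup.normalizer (H : Set X))).factorization p := ⟨_, rfl⟩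
    have hνdef : ∀ H : Subgroup X, ν H =
        (Nat.card ↥(Subgroup.normalizer (H : Set X))).factorization p := by
      intro H; rw [hν]
    obtain ⟨H₁, hH₁A, hH₁max⟩ := Set.exists_max_image 𝒜 ν (Set.toFinite _) ⟨Q₀, hQ₀A⟩
    obtain ⟨H, hHA', hHmax⟩ := Set.exists_max_image {H | H ∈ 𝒜 ∧ ν H₁ ≤ ν H}
      (fun H => Nat.card ↥H) (Set.toFinite _) ⟨H₁, hH₁A, le_rfl⟩
    obtain ⟨hHA, hHν⟩ := hHA'
    have hmax1 : ∀ H' ∈ 𝒜, ν H' ≤ ν H := fun H' hH' => (hH₁max H' hH').trans hHν
    have hmax2 : ∀ H' ∈ 𝒜, ν H ≤ ν H' → Nat.card ↥H' ≤ Nat.card ↥H :=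
      fun H' hH' hν' => hHmax H' ⟨hH', hHν.trans hν'⟩
    obtain ⟨hHp, hHne, hHnpc⟩ := (hmemA H).mp hHA
    -- a `p`-subgroup of `N(L)` has order at most `p ^ ν L`
    have hνle : ∀ (L P : Subgroup X) (j : ℕ), P ≤ Subgroup.normalizer (L : Set X) →
        Nat.card ↥P = p ^ j → j ≤ ν L := by
      intro L P j hPL hj
      rw [hνdef]
      apply (Nat.Prime.pow_dvd_iff_le_factorization hp.out Nat.card_pos.ne').mp
      rw [← hj]; exact Subgroup.card_dvd_of_le hPL
    -- `H` is normal
    have hHtop : Subgroup.normalizer (H : Set X) = ⊤ := by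
      by_contra hB
      obtain ⟨B, hBdef⟩ : ∃ B : Subgroup X, B = Subgroup.normalizer (H : Set X) := ⟨_, rfl⟩
      rw [← hBdef] at hB
      have hHB : H ≤ B := hBdef ▸ Subgroup.le_normalizer
      have hcardB : Nat.card ↥B ≤ n := by
        have h1 : Nat.card ↥B < Nat.card X := by
          have h2 := B.card_mul_index
          have h3 : B.index ≠ 1 := fun h => hB (Subgroup.index_eq_one.mp h)
          have h4 : B.index ≠ 0 := Subgroup.index_ne_zero_of_finite
          have h5 : 0 < Nat.card ↥B := Nat.card_pos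
          have h6 : 2 ≤ B.index := by omega
          nlinarith
        omega
      obtain ⟨R₀⟩ : Nonempty (Sylow p ↥B) := inferInstance
      obtain ⟨R, hR⟩ : ∃ R : Subgroup X, R = (R₀ : Subgroup ↥B).map B.subtype := ⟨_, rfl⟩
      have hRp : IsPGroup p R := hR ▸ R₀.2.map _
      have hRB : R ≤ B := by rw [hR]; exact Subgroup.map_subtype_le _
      have hRcard : Nat.card ↥R = p ^ ν H := by
        rw [hR, Subgroup.card_subtype, Sylow.card_eq_multiplicity, hνdef, hBdef]
      have hRne : R ≠ ⊥ := by
        intro h0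
        rw [h0, Subgroup.card_bot] at hRcard
        have h1 : ν H = 0 := by
          by_contra h2
          have := Nat.one_lt_pow h2 hp.out.one_lt
          omega
        obtain ⟨k, hk⟩ := IsPGroup.iff_card.mp hHp
        have h2 := hνle H H k Subgroup.le_normalizer hk
        have h3 : k = 0 := by omega
        rw [h3, pow_zero] at hk
        exact hHne (Subgroup.card_eq_one.mp hk)
      have hsecB : ∀ (Y : Type u) [Group Y], Sec Y ↥B → LocHyp p W Y :=
        fun Y _ hY => hsec Y (hY.trans (Sec.of_subgroup B))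
      obtain ⟨V, hV⟩ : ∃ V : Subgroup X, V = inducedFunctor W R := ⟨_, rfl⟩
      have hVeq : V = (inducedFunctor W (R₀ : Subgroup ↥B)).map B.subtype := by
        rw [hV, hR, inducedFunctor_map W hW B.subtype B.subtype_injective _ R₀.2]
      have hVA : V ∈ 𝒜 := by
        rw [hmemA]
        refine ⟨hRp.to_le (hV ▸ inducedFunctor_le W R),
          hV ▸ inducedFunctor_ne_bot W hW R hRp hRne, ?_⟩
        intro hnpc
        have h1 : NPCin p (Subgroup.normalizer
            ((inducedFunctor W (R₀ : Subgroup ↥B) : Subgroup ↥B) : Set ↥B)) := by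
          refine (hnpc.subgroupOf B).mono ?_
          intro y hy
          rw [Subgroup.mem_subgroupOf, hVeq]
          exact Subgroup.le_normalizer_map B.subtype ⟨y, hy, rfl⟩
        have h2 := ih ↥B hcardB hsecB R₀ h1
        apply hHnpc
        rw [← hBdef]
        exact npcin_of_npc_subgroup B (npc_of_npcin_top h2)
      have hνV := hmax1 V hVA
      obtain ⟨P, hRP⟩ := hRp.exists_le_sylow
      by_cases hRPeq : R = (P : Subgroup X)
      · exact ((hmemA V).mp hVA).2.2 (by rw [hV, hRPeq]; exact hN' P)
      · have hlt : R < (P : Subgroup X) := lt_of_le_of_ne hRP hRPeq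
        have h1 := lt_normalizer_inf_of_lt P.2 hlt
        obtain ⟨R₂, hR₂⟩ : ∃ R₂ : Subgroup X, R₂ = Subgroup.normalizer (R : Set X) ⊓ (P : Subgroup X) :=
          ⟨_, rfl⟩
        rw [← hR₂] at h1
        have hR₂p : IsPGroup p R₂ := P.2.to_le (hR₂ ▸ inf_le_right)
        have hR₂N : R₂ ≤ Subgroup.normalizer (V : Set X) := by
          rw [hV, hR₂]
          exact inf_le_left.trans (normalizer_le_normalizer_inducedFunctor W hW R hRp)
        obtain ⟨j, hj⟩ := IsPGroup.iff_card.mp hR₂p
        have hj1 : j ≤ ν V := hνle V R₂ j hR₂N hj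
        have hj2 : p ^ ν H < p ^ j := by rw [← hRcard, ← hj]; exact card_lt_of_lt' h1
        have hj3 : ν H < j := (Nat.pow_lt_pow_iff_right hp.out.one_lt).mp hj2
        omega
    haveI hHn : H.Normal := Subgroup.normalizer_eq_top_iff.mp hHtop
    have hνH : ν H = (Nat.card X).factorization p := by
      rw [hνdef, hHtop, Subgroup.card_top]
    -- `H = O_p(X)`
    have hHcore : H = pCore p X := by
      have h1 : H ≤ pCore p X := le_pCore hHn hHp
      have hcn : Subgroup.normalizer ((pCore p X : Subgroup X) : Set X) = ⊤ :=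
        Subgroup.normalizer_eq_top_iff.mpr inferInstance
      have h2 : pCore p X ∈ 𝒜 := by
        rw [hmemA]
        exact ⟨pCore_isPGroup p X, fun h0 => hHne (le_bot_iff.mp (h0 ▸ h1)), by
          rw [hcn, ← hHtop]; exact hHnpc⟩
      have h3 := hmax2 _ h2 (by rw [hνdef, hνdef, hcn, hHtop])
      exact Subgroup.eq_of_le_of_card_ge h1 h3
    have hHS : H ≤ (S : Subgroup X) := hHcore ▸ pCore_le_sylow S
    have hHneS : H ≠ (S : Subgroup X) := by
      intro heq
      apply hno
      have h1 : Subgroup.normalizer ((inducedFunctor W (S : Subgroup X) : Subgroup X) : Set X) = ⊤ := by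
        apply top_le_iff.mp
        rw [← hHtop, heq]
        exact normalizer_le_normalizer_inducedFunctor W hW _ S.2
      rwa [h1] at hN
    -- `X / H` has a normal `p`-complement
    have hquot : NPCin p (⊤ : Subgroup (X ⧸ H)) := by
      have hcardQ : Nat.card (X ⧸ H) ≤ n := by
        have := card_quotient_lt H hHne
        omega
      have hsecQ : ∀ (Y : Type u) [Group Y], Sec Y (X ⧸ H) → LocHyp p W Y :=
        fun Y _ hY => hsec Y (hY.trans (Sec.of_quotient H))
      obtain ⟨Sb, hSb⟩ : ∃ Sb : Sylow p (X ⧸ H),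
          (Sb : Subgroup (X ⧸ H)) = (S : Subgroup X).map (QuotientGroup.mk' H) :=
        ⟨S.mapSurjective (QuotientGroup.mk'_surjective H), Sylow.coe_mapSurjective _ _⟩
      apply ih (X ⧸ H) hcardQ hsecQ Sb
      obtain ⟨Vb, hVb⟩ : ∃ Vb : Subgroup (X ⧸ H), Vb = inducedFunctor W (Sb : Subgroup (X ⧸ H)) :=
        ⟨_, rfl⟩
      rw [← hVb]
      obtain ⟨L, hL⟩ : ∃ L : Subgroup X, L = Vb.comap (QuotientGroup.mk' H) := ⟨_, rfl⟩
      have hVbS : Vb ≤ (Sb : Subgroup (X ⧸ H)) := hVb ▸ inducedFunctor_le W _
      have hSbne : (Sb : Subgroup (X ⧸ H)) ≠ ⊥ := by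
        rw [hSb]; intro h0
        apply hHneS
        apply le_antisymm hHS
        have h1 := (Subgroup.map_eq_bot_iff _).mp h0
        rwa [QuotientGroup.ker_mk'] at h1
      have hVbne : Vb ≠ ⊥ := hVb ▸ inducedFunctor_ne_bot W hW _ Sb.2 hSbne
      have hHL : H ≤ L := by
        rw [hL]; intro x hx
        rw [Subgroup.mem_comap]
        have h1 : (QuotientGroup.mk' H) x = 1 := (QuotientGroup.eq_one_iff x).mpr hx
        rw [h1]; exact Vb.one_mem
      have hLS : L ≤ (S : Subgroup X) := by
        intro x hx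
        rw [hL, Subgroup.mem_comap] at hx
        have h1 := hVbS hx
        rw [hSb] at h1
        obtain ⟨s, hs, hse⟩ := h1
        have h2 : s⁻¹ * x ∈ H := by
          rw [← QuotientGroup.eq_one_iff (N := H), QuotientGroup.mk_mul, QuotientGroup.mk_inv]
          rw [show (QuotientGroup.mk s : X ⧸ H) = QuotientGroup.mk x from hse]
          exact inv_mul_cancel _
        have h3 := (S : Subgroup X).mul_mem hs (hHS h2)
        rwa [mul_inv_cancel_left] at h3
      have hLp : IsPGroup p L := S.2.to_le hLS
      have hLneH : L ≠ H := by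
        intro heq
        apply hVbne
        have h1 : Vb = L.map (QuotientGroup.mk' H) := by
          rw [hL, Subgroup.map_comap_eq_self_of_surjective (QuotientGroup.mk'_surjective H)]
        rw [h1, heq, Subgroup.map_eq_bot_iff, QuotientGroup.ker_mk']
      have hLcard : Nat.card ↥H < Nat.card ↥L := card_lt_of_lt' (lt_of_le_of_ne hHL (Ne.symm hLneH))
      have hNL : Subgroup.normalizer (L : Set X) =
          (Subgroup.normalizer (Vb : Set (X ⧸ H))).comap (QuotientGroup.mk' H) := by
        rw [hL]
        exact (Subgroup.comap_normalizer_eq_of_surjective _ (QuotientGroup.mk'_surjective H)).symm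
      have hSNL : (S : Subgroup X) ≤ Subgroup.normalizer (L : Set X) := by
        rw [hNL]
        intro s hs
        rw [Subgroup.mem_comap]
        have h1 : (Sb : Subgroup (X ⧸ H)) ≤ Subgroup.normalizer (Vb : Set (X ⧸ H)) :=
          hVb ▸ le_normalizer_inducedFunctor W hW _ Sb.2
        apply h1
        rw [hSb]; exact Subgroup.mem_map_of_mem _ hs
      have hνL : ν H ≤ ν L := by
        rw [hνH]
        exact hνle L S _ hSNL (Sylow.card_eq_multiplicity S)
      have hLnpc : NPCin p (Subgroup.normalizer (L : Set X)) := by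
        by_contra hc
        have hLA : L ∈ 𝒜 := by
          rw [hmemA]
          exact ⟨hLp, fun h0 => hHne (le_bot_iff.mp (h0 ▸ hHL)), hc⟩
        have := hmax2 L hLA hνL
        omega
      refine (hLnpc.map (QuotientGroup.mk' H)).mono ?_
      rw [hNL, Subgroup.map_comap_eq_self_of_surjective (QuotientGroup.mk'_surjective H)]
    -- no normal `p'`-subgroups
    have hOp' : ∀ O : Subgroup X, O.Normal → (Nat.card O).Coprime p → O = ⊥ := by
      intro O hOn hOc
      by_contra hOne
      haveI := hOn
      apply hno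
      apply npcin_top_of_quotient O hOc
      have hcardQ : Nat.card (X ⧸ O) ≤ n := by
        have := card_quotient_lt O hOne
        omega
      have hsecQ : ∀ (Y : Type u) [Group Y], Sec Y (X ⧸ O) → LocHyp p W Y :=
        fun Y _ hY => hsec Y (hY.trans (Sec.of_quotient O))
      obtain ⟨Sb, hSb⟩ : ∃ Sb : Sylow p (X ⧸ O),
          (Sb : Subgroup (X ⧸ O)) = (S : Subgroup X).map (QuotientGroup.mk' O) :=
        ⟨S.mapSurjective (QuotientGroup.mk'_surjective O), Sylow.coe_mapSurjective _ _⟩
      apply ih (X ⧸ O) hcardQ hsecQ Sb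
      rw [hSb, inducedFunctor_map_of_inf_ker W hW (QuotientGroup.mk' O) _ S.2 (by
        rw [QuotientGroup.ker_mk']; exact pgroup_inf_coprime_eq_bot _ _ S.2 hOc)]
      exact (hN.map (QuotientGroup.mk' O)).mono
        (normalizer_map_mk_le O hOc _ (S.2.to_le (inducedFunctor_le W _)))
    -- `C(O_p) ≤ O_p`
    have hcent : Subgroup.centralizer ((pCore p X : Subgroup X) : Set X) ≤ pCore p X := by
      apply centralizer_pCore_le_of_isPSolvable
      · obtain ⟨Nb, hNbn, hNbc, k, hNbi⟩ := npc_data (npc_of_npcin_top hquot)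
        obtain ⟨m, hm⟩ := IsPGroup.iff_card.mp hHp
        obtain ⟨K, hK⟩ : ∃ K : Subgroup X, K = Nb.comap (QuotientGroup.mk' H) := ⟨_, rfl⟩
        have hHK : H ≤ K := by
          rw [hK]; intro x hx
          rw [Subgroup.mem_comap]
          have h1 : (QuotientGroup.mk' H) x = 1 := (QuotientGroup.eq_one_iff x).mpr hx
          rw [h1]; exact Nb.one_mem
        have hKn : K.Normal := hK ▸ hNbn.comap _
        have hHKrel : H.relIndex K = Nat.card ↥Nb := by
          have h1 : (⊥ : Subgroup (X ⧸ H)).comap (QuotientGroup.mk' H) = H := by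
            rw [MonoidHom.comap_bot, QuotientGroup.ker_mk']
          have h2 : ((⊥ : Subgroup (X ⧸ H)).comap (QuotientGroup.mk' H)).relIndex K = Nat.card ↥Nb := by
            rw [Subgroup.relIndex_comap, Subgroup.relIndex_bot_left, hK,
              Subgroup.map_comap_eq_self_of_surjective (QuotientGroup.mk'_surjective H)]
          rwa [h1] at h2
        have hKidx : K.index = p ^ k := by
          rw [hK, Subgroup.index_comap_of_surjective _ (QuotientGroup.mk'_surjective H)]
          exact hNbi
        refine ⟨3, ![⊥, H, K, ⊤], rfl, rfl, ?_, ?_, ?_⟩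
        · rw [Fin.monotone_iff_le_succ]
          intro i
          fin_cases i
          · exact bot_le
          · exact hHK
          · exact le_top
        · intro i
          fin_cases i
          · exact Subgroup.normal_bot
          · exact hHn
          · exact hKn
          · exact Subgroup.normal_top
        · intro i
          fin_cases i
          · left
            exact ⟨m, by
              show (⊥ : Subgroup X).relIndex H = p ^ m
              rw [Subgroup.relIndex_bot_left]; exact hm⟩
          · right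
            show (H.relIndex K).Coprime p
            rw [hHKrel]; exact hNbc
          · left
            exact ⟨k, by
              show K.relIndex ⊤ = p ^ k
              rw [Subgroup.relIndex_top_right]; exact hKidx⟩
      · have hnorm : (pPrimeCore p X).Normal := pPrimeCore_normal p X
        exact hOp' _ hnorm (Cfsg.Agent.Helper10.pPrimeCore_coprime p X)
    -- `S` is a maximal subgroup
    have hScoatom : IsCoatom (S : Subgroup X) := by
      have key : ∀ M : Subgroup X, (S : Subgroup X) ≤ M → M ≠ ⊤ → M = (S : Subgroup X) := by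
        intro M hSM hMtop
        have hcardM : Nat.card ↥M ≤ n := by
          have h1 : Nat.card ↥M < Nat.card X := by
            have h2 := M.card_mul_index
            have h3 : M.index ≠ 1 := fun h => hMtop (Subgroup.index_eq_one.mp h)
            have h4 : M.index ≠ 0 := Subgroup.index_ne_zero_of_finite
            have h5 : 0 < Nat.card ↥M := Nat.card_pos
            have h6 : 2 ≤ M.index := by omega
            nlinarith
          omega
        have hsecM : ∀ (Y : Type u) [Group Y], Sec Y ↥M → LocHyp p W Y :=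
          fun Y _ hY => hsec Y (hY.trans (Sec.of_subgroup M))
        have hidxM : ¬ p ∣ ((S : Subgroup X).subgroupOf M).index := by
          intro h
          apply S.not_dvd_index
          rw [← Subgroup.relIndex_mul_index hSM]
          exact Dvd.dvd.mul_right h _
        obtain ⟨S₁, hS₁⟩ : ∃ S₁ : Sylow p ↥M, (S₁ : Subgroup ↥M) = (S : Subgroup X).subgroupOf M :=
          ⟨(S.2.comap_subtype (K := M)).toSylow hidxM, rfl⟩
        have hmapS₁ : (S₁ : Subgroup ↥M).map M.subtype = (S : Subgroup X) := by
          rw [hS₁, Subgroup.subgroupOf_map_subtype]; exact inf_eq_left.mpr hSM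
        have hIW : (inducedFunctor W (S₁ : Subgroup ↥M)).map M.subtype =
            inducedFunctor W (S : Subgroup X) := by
          rw [← inducedFunctor_map W hW M.subtype M.subtype_injective _ S₁.2, hmapS₁]
        have h1 : NPCin p (Subgroup.normalizer
            ((inducedFunctor W (S₁ : Subgroup ↥M) : Subgroup ↥M) : Set ↥M)) := by
          refine (hN.subgroupOf M).mono ?_
          intro y hy
          rw [Subgroup.mem_subgroupOf, ← hIW]
          exact Subgroup.le_normalizer_map M.subtype ⟨y, hy, rfl⟩
        have h2 := ih ↥M hcardM hsecM S₁ h1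
        have h3 : NPCin p M := npcin_of_npc_subgroup M (npc_of_npcin_top h2)
        have hMp : IsPGroup p M := by
          apply isPGroup_of_coprime_trivial
          intro y hy hyo
          have h4 := h3.centralizes hHp (hHS.trans hSM) (by rw [hHtop]; exact le_top) hy hyo
          have h5 : y ∈ H := by
            rw [hHcore]; apply hcent
            rw [← hHcore]; exact h4
          obtain ⟨k, hk⟩ := hHp ⟨y, h5⟩
          have hk' : y ^ p ^ k = 1 := by
            have h6 := congrArg Subtype.val hk
            rwa [Subgroup.coe_pow, Subgroup.coe_one] at h6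
          exact eq_one_of_pow_eq_one_of_coprime ⟨k, hk'⟩ (pow_orderOf_eq_one _) hyo
        exact S.is_maximal' hMp hSM
      constructor
      · intro htop
        apply hno
        rw [← htop]
        exact npcin_of_isPGroup S.2
      · intro M hSM
        by_contra hMtop
        exact hSM.ne' (key M hSM.le hMtop)
    -- conclusion
    have hloc := hsec X (Sec.refl X)
    subst hHcore
    have hn : (inducedFunctor W (S : Subgroup X)).Normal :=
      hloc hcent (npc_of_npcin_top hquot) S hScoatom
    apply hno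
    rwa [Subgroup.normalizer_eq_top_iff.mpr hn] at hN

/-- Thompson's normal p-complement criterion in functor form. Let p be a prime, G a finite group with Sylow p-subgroup S, and W an isomorphism-invariant p-group functor (W assigns to every group Q a subgroup W(Q), nontrivial whenever Q is a nontrivial finite p-group, and every isomorphism from a finite p-group Q onto a group R carries W(Q) onto W(R)). Suppose N_G(W(S)) has a normal p-complement, and that W(S*) is normal in G* whenever G* = K/R is a section of G with C_{G*}(O_p(G*)) ≤ O_p(G*) such that G*/O_p(G*) has a normal p-complement, and S* is a Sylow p-subgroup of G* that is a maximal subgroup of G*. Then G has a normal p-complement. -/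
theorem result {G : Type u} [Group G] [Finite G] {p : ℕ} [Fact p.Prime] (W : ∀ (Q : Type u) [Group Q], Subgroup Q) (hW : Cfsg.IsCharPFunctor.{u} p W) (S : Sylow p G) (hN : Cfsg.HasNormalPComplement p ↥(Subgroup.normalizer ((Cfsg.inducedFunctor (G := G) W (S : Subgroup G) : Subgroup G) : Set G))) (hloc : ∀ (K R : Subgroup G) [hR : (R.subgroupOf K).Normal], Subgroup.centralizer ((Cfsg.pCore p (↥K ⧸ R.subgroupOf K) : Subgroup (↥K ⧸ R.subgroupOf K)) : Set (↥K ⧸ R.subgroupOf K)) ≤ Cfsg.pCore p (↥K ⧸ R.subgroupOf K) → Cfsg.HasNormalPComplement p ((↥K ⧸ R.subgroupOf K) ⧸ Cfsg.pCore p (↥K ⧸ R.subgroupOf K)) → ∀ T : Sylow p (↥K ⧸ R.subgroupOf K), IsCoatom (T : Subgroup (↥K ⧸ R.subgroupOf K)) → (Cfsg.inducedFunctor (G := (↥K ⧸ R.subgroupOf K)) W ((T : Subgroup (↥K ⧸ R.subgroupOf K)))).Normal) : Cfsg.HasNormalPComplement p G := by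
  apply npc_of_npcin_top
  exact main_ind W hW (Nat.card G) G le_rfl
    (sec_forall (fun Y _ => LocHyp p W Y)
      (fun X Y _ _ _ e h => locHyp_of_equiv W hW e h)
      (fun K R hR => hloc K R)) S (npcin_of_npc_subgroup _ hN)

end Cfsg.Agent.S2005
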