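import Cfsg.Statements.S1990
import Cfsg.Agent.Helper13.HH3
import Cfsg.Agent.Helper13.Sect
import Cfsg.Agent.S2005

set_option autoImplicit false
universe u
open Cfsg

open Cfsg.Agent.Helper13 Cfsg.Agent.Helper17
namespace Cfsg.Agent.S1990

/-- Let p be an odd prime, G a finite group with Sylow p-subgroup S, and W an isomorphism-invariant p-group functor (W assigns to every group Q a subgroup W(Q), nontrivial whenever Q is a nontrivial finite p-group, and every isomorphism from a finite p-group Q onto a group R carries W(Q) onto W(R)). Suppose N_G(W(S)) has a normal p-complement, and W(T) controls strong fusion in every section G* = K/R of G all of whose sections are p-stable in the normalizer form, for every Sylow p-subgroup T of G*. Then G has a normal p-complement. -/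
theorem result {G : Type u} [Group G] [Finite G] {p : ℕ} [Fact p.Prime] (hp : p ≠ 2) (W : ∀ (Q : Type u) [Group Q], Subgroup Q) (hW : Cfsg.IsCharPFunctor.{u} p W) (S : Sylow p G) (hN : Cfsg.HasNormalPComplement p ↥(Subgroup.normalizer ((Cfsg.inducedFunctor (G := G) W (S : Subgroup G) : Subgroup G) : Set G))) (hctl : ∀ (K R : Subgroup G) [hR : (R.subgroupOf K).Normal], (∀ (K' R' : Subgroup (↥K ⧸ R.subgroupOf K)) [hR' : (R'.subgroupOf K').Normal], Cfsg.IsNormalizerPStable p (↥K' ⧸ R'.subgroupOf K')) → ∀ T : Sylow p (↥K ⧸ R.subgroupOf K), Cfsg.ControlsStrongFusion p (Cfsg.inducedFunctor (G := (↥K ⧸ R.subgroupOf K)) W (T : Subgroup (↥K ⧸ R.subgroupOf K)))) : Cfsg.HasNormalPComplement p G := by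
  refine Cfsg.Agent.S2005.result W hW S hN ?_
  intro K R hR hC hNPC T hT
  obtain ⟨K', hK'n, hHK', hS1, ⟨m, hm, hS2⟩, hS3, hS4, hS5, ⟨k, hK'i⟩⟩ :=
    coatom_struct_lift (pCore p (↥K ⧸ R.subgroupOf K)) (pCore_isPGroup p _) hNPC T hT
  have hPAP : PAP p (↥K ⧸ R.subgroupOf K) := by
    refine ⟨pCore p _, K', m, inferInstance, hK'n, pCore_isPGroup p _, hS1, hm, hS2, ?_⟩
    intro z
    refine ⟨k, ?_⟩
    rw [← hK'i]
    haveI := hK'n
    exact Subgroup.pow_index_mem K' z
  have hsec : ∀ (K'' R'' : Subgroup (↥K ⧸ R.subgroupOf K)) [hR'' : (R''.subgroupOf K'').Normal],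
      IsNormalizerPStable p (↥K'' ⧸ R''.subgroupOf K'') := by
    intro K'' R'' hR''
    exact pap_normalizerPStable hp (hPAP.section K'' R'')
  have hctlT := hctl K R hsec T
  have hTN : (T : Subgroup (↥K ⧸ R.subgroupOf K)) ≤ Subgroup.normalizer
      ((inducedFunctor W (T : Subgroup (↥K ⧸ R.subgroupOf K)) : Subgroup (↥K ⧸ R.subgroupOf K)) :
        Set (↥K ⧸ R.subgroupOf K)) := le_normalizer_inducedFunctor W hW _ T.2
  rcases eq_or_lt_of_le hTN with h | h
  · exfalso
    have hfrob := frobHyp_of_controls hctlT (by rw [← h]; exact T.2)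
    have hnpc := Cfsg.Agent.Helper21.frob_hasNormalPComplement hfrob
    obtain ⟨N₀, hN₀n, hN₀c, j, hN₀i⟩ := npc_data hnpc
    have hinf : pCore p (↥K ⧸ R.subgroupOf K) ⊓ N₀ = ⊥ :=
      pgroup_inf_coprime_eq_bot _ _ (pCore_isPGroup p _) hN₀c
    have hHn : (pCore p (↥K ⧸ R.subgroupOf K)).Normal := inferInstance
    have hN₀C : N₀ ≤ Subgroup.centralizer
        ((pCore p (↥K ⧸ R.subgroupOf K) : Subgroup (↥K ⧸ R.subgroupOf K)) :
          Set (↥K ⧸ R.subgroupOf K)) := by
      intro n hn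
      rw [Subgroup.mem_centralizer_iff]
      intro h' hh'
      have h1 : n * h' * n⁻¹ * h'⁻¹ ∈ pCore p (↥K ⧸ R.subgroupOf K) ⊓ N₀ := by
        refine Subgroup.mem_inf.mpr ⟨?_, ?_⟩
        · exact Subgroup.mul_mem _ (hHn.conj_mem h' hh' n) (Subgroup.inv_mem _ hh')
        · have h2 := hN₀n.conj_mem n⁻¹ (N₀.inv_mem hn) h'
          have h3 := N₀.mul_mem hn h2
          have h4 : n * (h' * n⁻¹ * h'⁻¹) = n * h' * n⁻¹ * h'⁻¹ := by group
          rwa [h4] at h3
      rw [hinf, Subgroup.mem_bot] at h1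
      calc h' * n = (n * h' * n⁻¹ * h'⁻¹)⁻¹ * (n * h') := by group
        _ = n * h' := by rw [h1, inv_one, one_mul]
    have hN₀bot : N₀ = ⊥ := by
      rw [eq_bot_iff, ← hinf]
      exact le_inf (hN₀C.trans hC) le_rfl
    rw [hN₀bot, Subgroup.index_bot] at hN₀i
    have h1 : IsPGroup p (⊤ : Subgroup (↥K ⧸ R.subgroupOf K)) := by
      apply IsPGroup.of_card (n := j)
      rw [Subgroup.card_top]; exact hN₀i
    exact hT.1 (T.is_maximal' h1 le_top).symm
  · exact Subgroup.normalizer_eq_top_iff.mp (hT.2 _ h)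

end Cfsg.Agent.S1990
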