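import Cfsg.Statements.S1988
import Cfsg.Agent.Helper13.KStab2
import Cfsg.Agent.S1990
import Cfsg.Agent.S1978
import Cfsg.Agent.Helper13.WC3

set_option autoImplicit false
universe u
open Cfsg

open Cfsg.Agent.Helper13 Cfsg.Agent.Helper17
open scoped commutatorElement
namespace Cfsg.Agent.S1988

/-- if every element of order prime to `p` of `N_G(W)` centralizes `W`, where `W` is the lower
K-infinity subgroup of the Sylow subgroup `S`, then `N_G(W)` has a normal `p`-complement. -/
theorem npc_normalizer_of_centralizes {G : Type u} [Group G] [Finite G] {p : ℕ} [Fact p.Prime]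
    (S : Sylow p G)
    (h : ∀ g ∈ Subgroup.normalizer ((Cfsg.inducedFunctor Cfsg.kInfLower (S : Subgroup G) : Subgroup G) : Set G),
      (orderOf g).Coprime p →
      g ∈ Subgroup.centralizer ((Cfsg.inducedFunctor Cfsg.kInfLower (S : Subgroup G) : Subgroup G) : Set G)) :
    Cfsg.HasNormalPComplement p ↥(Subgroup.normalizer
      ((Cfsg.inducedFunctor Cfsg.kInfLower (S : Subgroup G) : Subgroup G) : Set G)) := by
  obtain ⟨W, hWdef⟩ : ∃ W : Subgroup G, W = inducedFunctor kInfLower (S : Subgroup G) := ⟨_, rfl⟩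
  rw [← hWdef] at h ⊢
  have hWS : W ≤ (S : Subgroup G) := hWdef ▸ inducedFunctor_le kInfLower _
  have hSN : (S : Subgroup G) ≤ Subgroup.normalizer (W : Set G) :=
    hWdef ▸ le_normalizer_inducedFunctor kInfLower (isCharPFunctor_kInfLower p) _ S.2
  have hCS : (S : Subgroup G) ⊓ Subgroup.centralizer (W : Set G) ≤ W := by
    rintro x ⟨hxS, hxC⟩
    rw [hWdef] at hxC ⊢
    have h1 : (⟨x, hxS⟩ : ↥(S : Subgroup G)) ∈
        Subgroup.centralizer ((kInfLower ↥(S : Subgroup G) : Subgroup ↥(S : Subgroup G)) :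
          Set ↥(S : Subgroup G)) :=
      (mem_centralizer_map_subtype_iff (S : Subgroup G) ⟨x, hxS⟩ _).mp hxC
    exact ⟨⟨x, hxS⟩, (Cfsg.Agent.S1978.result S.2).1 h1, rfl⟩
  have hCN : Subgroup.centralizer (W : Set G) ≤ Subgroup.normalizer (W : Set G) :=
    Subgroup.centralizer_le_normalizer _
  have hC : ∀ R : Subgroup G, R ≤ Subgroup.centralizer (W : Set G) → IsPGroup p R →
      R ≤ Subgroup.centralizer ((Subgroup.centralizer (W : Set G) : Subgroup G) : Set G) := by
    intro R hRC hRp
    obtain ⟨n, hnN, hRn⟩ := exists_mem_le_cj_of_sylow_le S hSN hRp (hRC.trans hCN)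
    have hninv : n⁻¹ ∈ Subgroup.normalizer (W : Set G) := Subgroup.inv_mem _ hnN
    have h1 : cj n⁻¹ R ≤ (S : Subgroup G) := by
      have := cj_mono (g := n⁻¹) hRn
      rwa [cj_inv_cj] at this
    have h2 : cj n⁻¹ R ≤ Subgroup.centralizer (W : Set G) := by
      have := cj_mono (g := n⁻¹) hRC
      rwa [← centralizer_cj, cj_eq_self_of_mem_normalizer hninv] at this
    have h3 : cj n⁻¹ R ≤ W := (le_inf h1 h2).trans hCS
    have h4 : R ≤ W := by
      have := cj_mono (g := n) h3
      rwa [cj_cj_inv, cj_eq_self_of_mem_normalizer hnN] at this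
    intro r hr
    rw [Subgroup.mem_centralizer_iff]
    intro c hc
    exact ((Subgroup.mem_centralizer_iff.mp hc) r (h4 hr)).symm
  obtain ⟨X, R₀, hXC, -, -, hXc, -, hXmax, -⟩ :=
    central_sylow_compl (Subgroup.centralizer (W : Set G)) hC
  apply npc_subgroup_of_npcin
  refine ⟨X, fun y => ⟨fun hy => ⟨hCN (hXC hy), ?_⟩, fun hy => ?_⟩⟩
  · exact Nat.Coprime.coprime_dvd_left (Subgroup.orderOf_dvd_natCard X hy) hXc
  · have h1 : Subgroup.zpowers y ≤ Subgroup.centralizer (W : Set G) :=
      (Subgroup.zpowers_le).mpr (h y hy.1 hy.2)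
    have h2 : (Nat.card (Subgroup.zpowers y)).Coprime p := by
      rw [Nat.card_zpowers]; exact hy.2
    exact hXmax _ h1 h2 (Subgroup.mem_zpowers y)


/-- Let p be an odd prime, G a finite group with Sylow p-subgroup S and K the lower K-infinity subgroup of S. If N_G(K) has a normal p-complement, or if N_G(K)/C_G(K) is a p-group (every element of N_G(K) of order prime to p centralizes K), then G has a normal p-complement. -/
theorem result {G : Type u} [Group G] [Finite G] {p : ℕ} [Fact p.Prime] (hp : p ≠ 2) (S : Sylow p G) (h : Cfsg.HasNormalPComplement p ↥(Subgroup.normalizer ((Cfsg.inducedFunctor Cfsg.kInfLower (S : Subgroup G) : Subgroup G) : Set G)) ∨ ∀ g ∈ Subgroup.normalizer ((Cfsg.inducedFunctor Cfsg.kInfLower (S : Subgroup G) : Subgroup G) : Set G), (orderOf g).Coprime p → g ∈ Subgroup.centralizer ((Cfsg.inducedFunctor Cfsg.kInfLower (S : Subgroup G) : Subgroup G) : Set G)) : Cfsg.HasNormalPComplement p G := by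
  have hN : Cfsg.HasNormalPComplement p ↥(Subgroup.normalizer
      ((Cfsg.inducedFunctor Cfsg.kInfLower (S : Subgroup G) : Subgroup G) : Set G)) := by
    rcases h with h | h
    · exact h
    · exact npc_normalizer_of_centralizes S h
  exact Cfsg.Agent.S1990.result hp kInfLower (isCharPFunctor_kInfLower p) S hN
    (fun K R hR hsec T => ctl_of_pstable_loc kInfLower (isCharPFunctor_kInfLower p)
      (fun Y _ _ hstY hCY T' => (kinf_normal_of_pstable T' hstY hCY).1) hsec T)

end Cfsg.Agent.S1988
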