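import Cfsg.Statements.S2795
import Cfsg.Agent.Helper5.QdE
import Cfsg.Agent.S2004
import Cfsg.Agent.S0010

set_option autoImplicit false
open Cfsg

namespace Cfsg.Agent.S2795


open Cfsg Cfsg.Agent.Helper5 Cfsg.Agent.Helper5.Qd Cfsg.Agent.Helper27.SL2E Cfsg.Agent.Helper1.Qd
open scoped commutatorElement

universe u

/-- a normal `p`-subgroup of `SL₂(p)` (`p` odd) does not contain a transvection -/
theorem no_normal_p_Um {p : ℕ} [Fact p.Prime] (hp2 : p ≠ 2) (N : Subgroup (SL2p p))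
    [hN : N.Normal] (hNp : IsPGroup p N) : Um (1 : ZMod p) ∉ N := by
  intro hU
  have hpp := (Fact.out : p.Prime)
  obtain ⟨w₀, hw₀⟩ : ∃ w₀ : SL2p p, w₀ * Um 1 * w₀⁻¹ = Lm (-1) := by
    refine ⟨Cfsg.Agent.Helper5.SL2.mk2 0 (-1) 1 0 (by ring), mul_inv_eq_iff_eq_mul.mpr ?_⟩
    apply Cfsg.Agent.Helper5.SL2.ext2 <;>
      simp [Cfsg.Agent.Helper5.SL2.mul00, Cfsg.Agent.Helper5.SL2.mul01,
        Cfsg.Agent.Helper5.SL2.mul10, Cfsg.Agent.Helper5.SL2.mul11, Um_coe, Lm_coe]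
  have hL : Lm (-1 : ZMod p) ∈ N := hw₀ ▸ hN.conj_mem _ hU w₀
  obtain ⟨M, hM⟩ : ∃ M : SL2p p, M = Um 1 * Lm (-1) := ⟨_, rfl⟩
  have hMN : M ∈ N := hM ▸ N.mul_mem hU hL
  have hM00 : M.1 0 0 = 0 := by
    rw [hM]; simp [Matrix.mul_apply, Fin.sum_univ_two, Um_coe, Lm_coe]
  have hM3 : M ^ 3 = -1 := by
    rw [hM]
    apply Matrix.SpecialLinearGroup.ext
    intro i j
    fin_cases i <;> fin_cases j <;>
      simp [pow_succ, Matrix.mul_apply, Fin.sum_univ_two, Um_coe, Lm_coe]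
  have hM6 : M ^ 6 = 1 := by
    have : M ^ 6 = (M ^ 3) ^ 2 := by rw [← pow_mul]
    rw [this, hM3, neg_one_sq]
  have hne1 : (1 : SL2p p) ≠ -1 := by
    intro h
    have h1 := congrArg (fun z : SL2p p => z.1 0 0) h
    simp only [Matrix.SpecialLinearGroup.coe_one, Matrix.one_apply_eq,
      Matrix.SpecialLinearGroup.coe_neg, Matrix.neg_apply] at h1
    have h2 : ((2 : ℕ) : ZMod p) = 0 := by push_cast; linear_combination h1
    rw [ZMod.natCast_eq_zero_iff] at h2
    exact hp2 ((Nat.prime_dvd_prime_iff_eq hpp Nat.prime_two).mp h2)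
  have hMne : M ≠ 1 := by
    intro h
    have h1 := congrArg (fun z : SL2p p => z.1 0 0) h
    simp only [hM00, Matrix.SpecialLinearGroup.coe_one, Matrix.one_apply_eq] at h1
    exact zero_ne_one h1
  obtain ⟨k, hk⟩ := hNp ⟨M, hMN⟩
  have hk' : M ^ p ^ k = 1 := congrArg Subtype.val hk
  have hodd : p ^ k % 2 = 1 := Nat.odd_iff.mp ((hpp.odd_of_ne_two hp2).pow)
  rw [pow_eq_pow_mod _ hM6] at hk'
  have hr : p ^ k % 6 % 2 = 1 := by
    rw [Nat.mod_mod_of_dvd _ (by norm_num : 2 ∣ 6)]; exact hodd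
  have hlt : p ^ k % 6 < 6 := Nat.mod_lt _ (by norm_num)
  generalize p ^ k % 6 = r at hk' hr hlt
  interval_cases r
  · omega
  · rw [pow_one] at hk'; exact hMne hk'
  · omega
  · rw [hM3] at hk'; exact hne1 hk'.symm
  · omega
  · have h5 : M ^ 6 = M ^ 5 * M := pow_succ M 5
    rw [hM6, hk', one_mul] at h5
    exact hMne h5.symm

/-- the block of an element of `Qd(p)` -/
def beta (p : ℕ) [Fact p.Prime] : ↥(Cfsg.qd p) →* SL2p p where
  toFun y := ((qdEquiv p) y).1
  map_one' := by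
    rw [← Qm_one]
    show ((qdEquiv p) ((qdEquiv p).symm (1, 0))).1 = 1
    rw [Equiv.apply_symm_apply]
  map_mul' := by
    intro y y'
    obtain ⟨M, v, rfl⟩ := Qm_surj y
    obtain ⟨N, w, rfl⟩ := Qm_surj y'
    rw [Qm_mul]
    show ((qdEquiv p) ((qdEquiv p).symm (M * N, _))).1 =
      ((qdEquiv p) ((qdEquiv p).symm (M, v))).1 * ((qdEquiv p) ((qdEquiv p).symm (N, w))).1
    rw [Equiv.apply_symm_apply, Equiv.apply_symm_apply, Equiv.apply_symm_apply]

theorem beta_Qm {p : ℕ} [Fact p.Prime] (M : SL2p p) (v : ZMod p × ZMod p) :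
    beta p (Qm M v) = M := by
  show ((qdEquiv p) ((qdEquiv p).symm (M, v))).1 = M
  rw [Equiv.apply_symm_apply]

theorem Qm_inj {p : ℕ} [Fact p.Prime] {M N : SL2p p} {v w : ZMod p × ZMod p}
    (h : Qm M v = Qm N w) : M = N ∧ v = w := by
  have h1 := (qdEquiv p).symm.injective h
  exact ⟨(Prod.ext_iff.mp h1).1, (Prod.ext_iff.mp h1).2⟩

theorem eq_Qm_of_beta {p : ℕ} [Fact p.Prime] (y : ↥(Cfsg.qd p)) : ∃ v, y = Qm (beta p y) v := by
  obtain ⟨M, v, rfl⟩ := Qm_surj y
  exact ⟨v, by rw [beta_Qm]⟩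

theorem Qm_one_pow {p : ℕ} [Fact p.Prime] (v : ZMod p × ZMod p) (n : ℕ) :
    (Qm (1 : SL2p p) v) ^ n = Qm 1 (n • v) := by
  induction n with
  | zero => rw [pow_zero, zero_smul, Qm_one]
  | succ n ih => rw [pow_succ, ih, Qm_mul, one_mul, act_one, succ_nsmul]

theorem Qm_one_pow_p {p : ℕ} [Fact p.Prime] (v : ZMod p × ZMod p) :
    (Qm (1 : SL2p p) v) ^ p = 1 := by
  rw [Qm_one_pow, ← Qm_one]
  congr 1
  refine Prod.ext ?_ ?_ <;> simp

theorem Qm_one_inv {p : ℕ} [Fact p.Prime] (v : ZMod p × ZMod p) :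
    (Qm (1 : SL2p p) v)⁻¹ = Qm 1 (-v) := by
  apply inv_eq_of_mul_eq_one_right
  rw [Qm_mul, one_mul, act_one, add_neg_cancel, Qm_one]

theorem conj_Qm {p : ℕ} [Fact p.Prime] (M : SL2p p) (w u : ZMod p × ZMod p) :
    Qm M w * Qm 1 u * (Qm M w)⁻¹ = Qm 1 (act M u) := by
  rw [mul_inv_eq_iff_eq_mul, Qm_mul, Qm_mul, mul_one, one_mul, act_one, add_comm]

/-- the upper unitriangular subgroup of `SL₂(p)` -/
def UMs (p : ℕ) [Fact p.Prime] : Subgroup (SL2p p) where
  carrier := {M | ∃ t, M = Um t}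
  mul_mem' := by
    rintro a b ⟨s, rfl⟩ ⟨t, rfl⟩
    exact ⟨s + t, (Um_add s t).symm⟩
  one_mem' := ⟨0, Um_zero.symm⟩
  inv_mem' := by
    rintro a ⟨s, rfl⟩
    refine ⟨-s, ?_⟩
    apply inv_eq_of_mul_eq_one_right
    rw [← Um_add, add_neg_cancel, Um_zero]

theorem comm_Qm_q1 {p : ℕ} [Fact p.Prime] (v w : ZMod p × ZMod p) (t : ZMod p) :
    ⁅Qm (1 : SL2p p) v, Qm (Um t) w⁆ = Qm 1 (-(t * v.2), 0) := by
  rw [commutatorElement_def, mul_assoc, mul_assoc, ← mul_assoc (Qm (Um t) w), Qm_one_inv,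
    conj_Qm, Qm_mul, one_mul, act_one]
  congr 1
  refine Prod.ext ?_ ?_ <;> simp [act, Um_coe]

theorem comm_Qm_q2 {p : ℕ} [Fact p.Prime] (s t : ZMod p) (w : ZMod p × ZMod p) :
    Qm (Um t) w * Qm 1 (s, 0) = Qm 1 (s, 0) * Qm (Um t) w := by
  rw [Qm_mul, Qm_mul, mul_one, one_mul, act_one, add_comm]
  congr 2
  refine Prod.ext ?_ ?_ <;> simp [act, Um_coe]

/-- abstract criterion for failure of `p`-stability -/
theorem not_nps_of_hom {X : Type*} [Group X] [Finite X] {p : ℕ} [Fact p.Prime] (hp2 : p ≠ 2)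
    (β : X →* SL2p p) (hβ : Function.Surjective β) (hP : IsPGroup p β.ker)
    (hC : Subgroup.centralizer (β.ker : Set X) ≤ β.ker) (g : X) (hg : β g = Um 1)
    (hq : ⁅⁅β.ker, Subgroup.zpowers g⁆, Subgroup.zpowers g⁆ = ⊥) :
    ¬ Cfsg.IsNormalizerPStable p X := by
  intro hst
  have htop : ∀ y : X, y ∈ Subgroup.normalizer (β.ker : Set X) := by
    intro y; rw [Subgroup.normalizer_eq_top]; exact Subgroup.mem_top y
  have h1 := hst β.ker hP g (htop g) hq
  obtain ⟨f, hf⟩ : ∃ f : ↥(Subgroup.normalizer (β.ker : Set X)) →* SL2p p,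
      f = β.comp (Subgroup.subtype _) := ⟨_, rfl⟩
  have hfs : Function.Surjective f := by
    intro M
    obtain ⟨y, hy⟩ := hβ M
    exact ⟨⟨y, htop y⟩, by rw [hf]; exact hy⟩
  have hker : (Subgroup.centralizer (β.ker : Set X)).subgroupOf
      (Subgroup.normalizer (β.ker : Set X)) ≤ f.ker := by
    intro y hy
    rw [MonoidHom.mem_ker, hf]
    exact MonoidHom.mem_ker.mp (hC (Subgroup.mem_subgroupOf.mp hy))
  have hfb : Function.Surjective (QuotientGroup.lift _ f hker) :=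
    QuotientGroup.lift_surjective_of_surjective _ f hfs hker
  haveI hNn : ((Cfsg.pCore p (↥(Subgroup.normalizer (β.ker : Set X)) ⧸
      (Subgroup.centralizer (β.ker : Set X)).subgroupOf
        (Subgroup.normalizer (β.ker : Set X)))).map (QuotientGroup.lift _ f hker)).Normal :=
    Subgroup.Normal.map (Cfsg.Agent.S0010.pCore_normal p) _ hfb
  have hNp : IsPGroup p ((Cfsg.pCore p (↥(Subgroup.normalizer (β.ker : Set X)) ⧸
      (Subgroup.centralizer (β.ker : Set X)).subgroupOf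
        (Subgroup.normalizer (β.ker : Set X)))).map (QuotientGroup.lift _ f hker)) :=
    (Cfsg.Agent.S0010.pCore_isPGroup p).map _
  have hmem : Um (1 : ZMod p) ∈ (Cfsg.pCore p (↥(Subgroup.normalizer (β.ker : Set X)) ⧸
      (Subgroup.centralizer (β.ker : Set X)).subgroupOf
        (Subgroup.normalizer (β.ker : Set X)))).map (QuotientGroup.lift _ f hker) := by
    refine ⟨_, h1, ?_⟩
    rw [QuotientGroup.lift_mk, hf]
    exact hg
  exact no_normal_p_Um hp2 _ hNp hmem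

/-- a group isomorphic to `Qd(p)` is not `p`-stable in the normalizer form (`p` odd) -/
theorem not_nps_of_equiv_qd {X : Type*} [Group X] [Finite X] {p : ℕ} [Fact p.Prime] (hp2 : p ≠ 2)
    (e : X ≃* ↥(Cfsg.qd p)) : ¬ Cfsg.IsNormalizerPStable p X := by
  obtain ⟨β, hβ⟩ : ∃ β : X →* SL2p p, β = (beta p).comp e.toMonoidHom := ⟨_, rfl⟩
  have hβa : ∀ y, β y = beta p (e y) := fun y => by rw [hβ]; rfl
  have hβs : Function.Surjective β := by
    intro M
    refine ⟨e.symm (Qm M 0), ?_⟩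
    rw [hβa, MulEquiv.apply_symm_apply, beta_Qm]
  have hkerQ : ∀ y ∈ β.ker, ∃ v, e y = Qm 1 v := by
    intro y hy
    obtain ⟨v, hv⟩ := eq_Qm_of_beta (e y)
    rw [← hβa, MonoidHom.mem_ker.mp hy] at hv
    exact ⟨v, hv⟩
  have hP : IsPGroup p β.ker := by
    rintro ⟨y, hy⟩
    obtain ⟨v, hv⟩ := hkerQ y hy
    refine ⟨1, Subtype.ext ?_⟩
    show y ^ p ^ 1 = 1
    rw [pow_one]
    apply e.injective
    rw [map_pow, hv, Qm_one_pow_p, map_one]
  have hC : Subgroup.centralizer (β.ker : Set X) ≤ β.ker := by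
    intro y hy
    rw [MonoidHom.mem_ker, hβa]
    obtain ⟨w, hw⟩ := eq_Qm_of_beta (e y)
    apply act_inj
    intro v
    have hx : e.symm (Qm 1 v) ∈ β.ker := by
      rw [MonoidHom.mem_ker, hβa, MulEquiv.apply_symm_apply, beta_Qm]
    have h1 := Subgroup.mem_centralizer_iff.mp hy _ hx
    have h2 := congrArg e h1
    rw [map_mul, map_mul, MulEquiv.apply_symm_apply, hw, Qm_mul, Qm_mul, one_mul, mul_one,
      act_one] at h2
    have h3 := (Qm_inj h2).2
    rw [act_one]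
    exact (add_left_cancel ((add_comm w v).trans h3)).symm
  obtain ⟨g, hg⟩ : ∃ g : X, g = e.symm (Qm (Um 1) 0) := ⟨_, rfl⟩
  have hgβ : β g = Um 1 := by rw [hβa, hg, MulEquiv.apply_symm_apply, beta_Qm]
  have hzp : ∀ b ∈ Subgroup.zpowers g, ∃ t w, e b = Qm (Um t) w := by
    intro b hb
    have h1 : Subgroup.zpowers g ≤ (UMs p).comap β := by
      rw [Subgroup.zpowers_le, Subgroup.mem_comap, hgβ]
      exact ⟨1, rfl⟩
    obtain ⟨t, ht⟩ := h1 hb
    obtain ⟨w, hw⟩ := eq_Qm_of_beta (e b)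
    rw [← hβa, ht] at hw
    exact ⟨t, w, hw⟩
  have hq : ⁅⁅β.ker, Subgroup.zpowers g⁆, Subgroup.zpowers g⁆ = ⊥ := by
    rw [Subgroup.commutator_eq_bot_iff_le_centralizer, Subgroup.commutator_le]
    intro a ha b hb
    rw [Subgroup.mem_centralizer_iff]
    intro h hh
    obtain ⟨v, hv⟩ := hkerQ a ha
    obtain ⟨t, w, hb'⟩ := hzp b hb
    obtain ⟨t', w', hh'⟩ := hzp h hh
    apply e.injective
    rw [map_mul, map_mul, map_commutatorElement, hv, hb', hh', comm_Qm_q1, comm_Qm_q2]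
  exact not_nps_of_hom hp2 β hβs hP hC g hgβ hq

/-- quadratic elements of `N_X(Q)` lie in `O_p` modulo `C_X(Q)`, or `Qd(p)` is a section of
`N_X(Q)` -/
theorem nps_or_qd {X : Type u} [Group X] [Finite X] {p : ℕ} [Fact p.Prime] (hp2 : p ≠ 2)
    (Q : Subgroup X) (hQ : IsPGroup p Q) (g : X) (hg : g ∈ Subgroup.normalizer (Q : Set X))
    (hq : ⁅⁅Q, Subgroup.zpowers g⁆, Subgroup.zpowers g⁆ = ⊥) :
    (QuotientGroup.mk (s := (Subgroup.centralizer (Q : Set X)).subgroupOf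
        (Subgroup.normalizer (Q : Set X))) (⟨g, hg⟩ : ↥(Subgroup.normalizer (Q : Set X)))) ∈
      Cfsg.pCore p (↥(Subgroup.normalizer (Q : Set X)) ⧸
        (Subgroup.centralizer (Q : Set X)).subgroupOf (Subgroup.normalizer (Q : Set X))) ∨
    HasQdSec p ↥(Subgroup.normalizer (Q : Set X)) := by
  haveI hVn : (Q.subgroupOf (Subgroup.normalizer (Q : Set X))).Normal :=
    Subgroup.normal_in_normalizer
  have hVp : IsPGroup p (Q.subgroupOf (Subgroup.normalizer (Q : Set X))) :=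
    hQ.comap_subtype
  have hq' : ⁅⁅Q.subgroupOf (Subgroup.normalizer (Q : Set X)),
      Subgroup.zpowers (⟨g, hg⟩ : ↥(Subgroup.normalizer (Q : Set X)))⁆,
      Subgroup.zpowers (⟨g, hg⟩ : ↥(Subgroup.normalizer (Q : Set X)))⁆ = ⊥ := by
    apply Subgroup.map_injective (Subgroup.normalizer (Q : Set X)).subtype_injective
    rw [Subgroup.map_commutator, Subgroup.map_commutator, MonoidHom.map_zpowers, Subgroup.map_bot,
      Subgroup.map_subgroupOf_eq_of_le Subgroup.le_normalizer]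
    exact hq
  rcases quad_mem_LL_or_qd hp2 (Q.subgroupOf (Subgroup.normalizer (Q : Set X))) hVp
    (⟨g, hg⟩ : ↥(Subgroup.normalizer (Q : Set X))) hq' with h | h
  · left
    have hC : Subgroup.centralizer
        ((Q.subgroupOf (Subgroup.normalizer (Q : Set X)) :
          Subgroup ↥(Subgroup.normalizer (Q : Set X))) : Set ↥(Subgroup.normalizer (Q : Set X))) =
        (Subgroup.centralizer (Q : Set X)).subgroupOf (Subgroup.normalizer (Q : Set X)) := by
      ext x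
      rw [Subgroup.mem_centralizer_iff, Subgroup.mem_subgroupOf, Subgroup.mem_centralizer_iff]
      constructor
      · intro hx q hq
        have := hx ⟨q, Subgroup.le_normalizer hq⟩ (Subgroup.mem_subgroupOf.mpr hq)
        exact congrArg Subtype.val this
      · intro hx v hv
        exact Subtype.ext (hx v.1 (Subgroup.mem_subgroupOf.mp hv))
    exact Cfsg.Agent.S2004.pcore_quot_transfer p _ _ hC _ h
  · exact Or.inr h

/-- For an odd prime p and a finite group G, the group Qd(p) is not involved in G if and only if every section of G is p-stable in the normalizer form (for every p-subgroup P of the section and every g in its normalizer acting quadratically on P, the image of g in N(P)/C(P) lies in O_p(N(P)/C(P))). -/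
theorem result {G : Type*} [Group G] [Finite G] {p : ℕ} [Fact p.Prime] (hp : p ≠ 2) : ¬ Cfsg.Involves ↥(Cfsg.qd p) G ↔ ∀ (K R : Subgroup G) [hR : (R.subgroupOf K).Normal], Cfsg.IsNormalizerPStable p (K ⧸ R.subgroupOf K) := by
  constructor
  · intro hfree K R hR Q hQ g hg hq
    rcases nps_or_qd hp Q hQ g hg hq with h1 | h1
    · exact h1
    · exfalso
      apply hfree
      have h2 : HasQdSec p (↥K ⧸ R.subgroupOf K) :=
        hasQdSec_of_injective p (Subgroup.normalizer (Q : Set (↥K ⧸ R.subgroupOf K))).subtype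
          (Subgroup.subtype_injective _) h1
      have h3 : HasQdSec p ↥K :=
        hasQdSec_lift p (QuotientGroup.mk' (R.subgroupOf K)) (QuotientGroup.mk'_surjective _) h2
      obtain ⟨L, ψ, hψ⟩ := hasQdSec_of_injective p K.subtype K.subtype_injective h3
      obtain ⟨L', hL', ⟨e⟩⟩ := Cfsg.Agent.Helper5.sec_of_surj L ψ hψ
      exact ⟨L, L', hL', ⟨e⟩⟩
  · intro hst hinv
    obtain ⟨K, R, hR, ⟨e⟩⟩ := hinv
    exact not_nps_of_equiv_qd hp e (hst K R)

end Cfsg.Agent.S2795
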