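import Cfsg.Statements.S1989
import Cfsg.Agent.Helper13.KStab2
import Cfsg.Agent.Helper13.QdCtl
import Cfsg.Agent.S1987
import Cfsg.Agent.S2795

set_option autoImplicit false
universe u
open Cfsg

open Cfsg.Agent.Helper13 Cfsg.Agent.Helper17
open scoped commutatorElement
namespace Cfsg.Agent.S1989

/-- Let p be an odd prime and G a finite group. Then Qd(p) (the natural semidirect product of an elementary abelian group of order p² by SL₂(p)) is not involved in G if and only if, in every section K/R of G and for every Sylow p-subgroup T of K/R, the lower K-infinity subgroup of T controls strong fusion in K/R. -/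
theorem result {G : Type u} [Group G] [Finite G] {p : ℕ} [Fact p.Prime] (hp : p ≠ 2) : ¬ Cfsg.Involves ↥(Cfsg.qd p) G ↔ ∀ (K R : Subgroup G) [hR : (R.subgroupOf K).Normal], ∀ T : Sylow p (↥K ⧸ R.subgroupOf K), Cfsg.ControlsStrongFusion p (Cfsg.inducedFunctor (G := (↥K ⧸ R.subgroupOf K)) Cfsg.kInfLower (T : Subgroup (↥K ⧸ R.subgroupOf K))) := by
  constructor
  · intro hfree K R hR T
    have hst := (Cfsg.Agent.S2795.result (G := G) hp).mp hfree
    have hPS : ∀ (Y : Type u) [Group Y], Sec Y G → IsNormalizerPStable p Y :=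
      sec_forall (fun Y _ => IsNormalizerPStable p Y) (fun X Y _ _ _ e h => nps_of_equiv e h)
        (fun K R hR => hst K R)
    exact Cfsg.Agent.S1987.result hp (fun K' R' hR' =>
      hPS _ (((Sec.of_quotient _).trans (Sec.of_subgroup K')).trans
        ((Sec.of_quotient _).trans (Sec.of_subgroup K)))) T
  · intro h hinv
    obtain ⟨K, R, hR, ⟨e⟩⟩ := hinv
    haveI := hR
    obtain ⟨T⟩ : Nonempty (Sylow p (↥K ⧸ R.subgroupOf K)) := inferInstance
    exact not_ctl_of_equiv_qd kInfLower (isCharPFunctor_kInfLower p) e T (h K R T)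

end Cfsg.Agent.S1989
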