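import Cfsg.Statements.S1994
import Cfsg.Agent.Helper13.Glaub2

set_option autoImplicit false
universe u
open Cfsg

open Cfsg.Agent.Helper13 Cfsg.Agent.Helper17
namespace Cfsg.Agent.S1994

/-- family control of strong fusion in the whole group is invariant under isomorphism. -/
theorem famCtl_top_of_equiv {p : ℕ} [Fact p.Prime]
    (𝓦 : Set (∀ (Q : Type u) [Group Q], Subgroup Q)) (h𝓦 : ∀ W ∈ 𝓦, IsCharPFunctor.{u} p W)
    {X Y : Type u} [Group X] [Group Y] [Finite X] (e : X ≃* Y) (T : Sylow p X)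
    (h : FamCtl (indFam 𝓦 X) ⊤ (T : Subgroup X)) :
    FamCtl (indFam 𝓦 Y) ⊤ ((T : Subgroup X).map e.toMonoidHom) := by
  intro P' x' hP' _ hxP'
  have hcomp : e.symm.toMonoidHom.comp e.toMonoidHom = MonoidHom.id X := by
    ext y; simp
  have hcomp' : e.toMonoidHom.comp e.symm.toMonoidHom = MonoidHom.id Y := by
    ext y; simp
  have hTback : ((T : Subgroup X).map e.toMonoidHom).map e.symm.toMonoidHom = (T : Subgroup X) := by
    rw [Subgroup.map_map, hcomp, Subgroup.map_id]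
  have hP : P'.map e.symm.toMonoidHom ≤ (T : Subgroup X) := by
    rw [← hTback]; exact Subgroup.map_mono hP'
  have hxP : cj (e.symm x') (P'.map e.symm.toMonoidHom) ≤ (T : Subgroup X) := by
    have h1 := Cfsg.Agent.Helper13.map_cj e.symm.toMonoidHom x' P'
    have h2 : cj (e.symm x') (P'.map e.symm.toMonoidHom) = (cj x' P').map e.symm.toMonoidHom :=
      h1.symm
    rw [h2, ← hTback]; exact Subgroup.map_mono hxP'
  obtain ⟨g, hch, hag⟩ := h _ _ hP (Subgroup.mem_top _) hxP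
  have hch2 := hch.map e.toMonoidHom
    (st' := fst (indFam 𝓦 Y) ⊤ ((T : Subgroup X).map e.toMonoidHom)) (by
      intro y hy
      obtain ⟨W, hW, -, hy2⟩ := (fst_indFam_iff 𝓦 _ _ y).mp hy
      refine (fst_indFam_iff 𝓦 _ _ _).mpr ⟨W, hW, Subgroup.mem_top _, ?_⟩
      rw [inducedFunctor_map W (h𝓦 W hW) e.toMonoidHom e.injective _ T.2]
      exact Subgroup.le_normalizer_map e.toMonoidHom ⟨y, hy2, rfl⟩)
  have hPP : (P'.map e.symm.toMonoidHom).map e.toMonoidHom = P' := by
    rw [Subgroup.map_map, hcomp', Subgroup.map_id]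
  rw [hPP] at hch2
  refine ⟨e.toMonoidHom g, hch2, fun b hb => ?_⟩
  have h3 := hag (e.symm b) ⟨b, hb, rfl⟩
  have h4 := congrArg e h3
  simpa using h4

/-- the local hypothesis of the statement on a group `Y`. -/
def LocFam (p : ℕ) (𝓦 : Set (∀ (Q : Type u) [Group Q], Subgroup Q)) (Y : Type u) [Group Y] : Prop :=
  Subgroup.centralizer ((pCore p Y : Subgroup Y) : Set Y) ≤ pCore p Y →
    FamilyControlsStrongFusionIn p (indFam 𝓦 Y) ⊤

theorem locFam_of_equiv {p : ℕ} [Fact p.Prime]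
    (𝓦 : Set (∀ (Q : Type u) [Group Q], Subgroup Q)) (h𝓦 : ∀ W ∈ 𝓦, IsCharPFunctor.{u} p W)
    {X Y : Type u} [Group X] [Group Y] [Finite X] (e : X ≃* Y)
    (h : LocFam p 𝓦 X) : LocFam p 𝓦 Y := by
  intro hC
  haveI : Finite Y := Finite.of_equiv X e.toEquiv
  have hCX : Subgroup.centralizer ((pCore p X : Subgroup X) : Set X) ≤ pCore p X :=
    charP_of_equiv e.symm hC
  have hc := h hCX
  obtain ⟨T⟩ : Nonempty (Sylow p X) := inferInstance
  have h1 := famCtl_of_fcsf (indFam_conj 𝓦 h𝓦) le_top T.2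
    (by rw [Subgroup.relIndex_top_right]; exact T.not_dvd_index) hc
  have h2 := famCtl_top_of_equiv 𝓦 h𝓦 e T h1
  refine fcsf_of_famCtl le_top (T.2.map _) ?_ h2
  rw [Subgroup.relIndex_top_right,
    show (T : Subgroup X).map e.toMonoidHom = (T : Subgroup X).map (e : X →* Y) from rfl,
    Subgroup.index_map_equiv]
  exact T.not_dvd_index

/-- Let p be a prime, G a finite group and 𝓦 a set of isomorphism-invariant p-group functors (each assigns to every group Q a subgroup W(Q), nontrivial whenever Q is a nontrivial finite p-group, with every isomorphism from a finite p-group Q onto a group R carrying W(Q) onto W(R)). If the conjugacy functors induced by 𝓦 control strong fusion in every section G* = K/R of G with C_{G*}(O_p(G*)) ≤ O_p(G*), then they control strong fusion in G. -/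
theorem result {G : Type u} [Group G] [Finite G] {p : ℕ} [Fact p.Prime] (𝓦 : Set (∀ (Q : Type u) [Group Q], Subgroup Q)) (h𝓦 : ∀ W ∈ 𝓦, Cfsg.IsCharPFunctor.{u} p W) (hloc : ∀ (K R : Subgroup G) [hR : (R.subgroupOf K).Normal], Subgroup.centralizer ((Cfsg.pCore p (↥K ⧸ R.subgroupOf K) : Subgroup (↥K ⧸ R.subgroupOf K)) : Set (↥K ⧸ R.subgroupOf K)) ≤ Cfsg.pCore p (↥K ⧸ R.subgroupOf K) → Cfsg.FamilyControlsStrongFusionIn p ((fun W => Cfsg.inducedFunctor (G := (↥K ⧸ R.subgroupOf K)) W) '' 𝓦) ⊤) : Cfsg.FamilyControlsStrongFusionIn p ((fun W => Cfsg.inducedFunctor (G := G) W) '' 𝓦) ⊤ := by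
  have hsecG : ∀ (Y : Type u) [Group Y], Sec Y G → LocFam p 𝓦 Y :=
    sec_forall (fun Y _ => LocFam p 𝓦 Y) (fun X Y _ _ _ e h => locFam_of_equiv 𝓦 h𝓦 e h)
      (fun K R hR => hloc K R)
  have hsecF : ∀ (Y : Type u) [Group Y] [Finite Y], Sec Y G → LocHypF p 𝓦 Y := by
    intro Y _ _ hY hC T'
    exact famCtl_of_fcsf (indFam_conj 𝓦 h𝓦) le_top T'.2
      (by rw [Subgroup.relIndex_top_right]; exact T'.not_dvd_index) (hsecG Y hY hC)
  obtain ⟨T⟩ : Nonempty (Sylow p G) := inferInstance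
  have hctl := glaub_main 𝓦 h𝓦 (Nat.card G) G le_rfl (fun Y _ hY => by
    obtain ⟨H, f, hf⟩ := hY
    haveI : Finite Y := Finite.of_surjective f hf
    exact hsecF Y ⟨H, f, hf⟩) T
  exact fcsf_of_famCtl le_top T.2
    (by rw [Subgroup.relIndex_top_right]; exact T.not_dvd_index) hctl

end Cfsg.Agent.S1994
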