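import Cfsg.Statements.S1996
import Cfsg.Agent.Helper13.Glaub2

set_option autoImplicit false
universe u
open Cfsg

open Cfsg.Agent.Helper13 Cfsg.Agent.Helper17
namespace Cfsg.Agent.S1996

/-- the factorization hypothesis of the statement on a group `Y`. -/
def LocFac (p : ℕ) (W₁ W₂ : ∀ (Q : Type u) [Group Q], Subgroup Q) (Y : Type u) [Group Y] : Prop :=
  Subgroup.centralizer ((pCore p Y : Subgroup Y) : Set Y) ≤ pCore p Y →
    ∀ T : Sylow p Y, ∀ x : Y,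
      ∃ a ∈ Subgroup.normalizer ((inducedFunctor (G := Y) W₁ (T : Subgroup Y) : Subgroup Y) : Set Y),
      ∃ b ∈ Subgroup.normalizer ((inducedFunctor (G := Y) W₂ (T : Subgroup Y) : Subgroup Y) : Set Y),
        x = a * b

theorem locFac_of_equiv {p : ℕ} [Fact p.Prime] (W₁ W₂ : ∀ (Q : Type u) [Group Q], Subgroup Q)
    (hW₁ : IsCharPFunctor.{u} p W₁) (hW₂ : IsCharPFunctor.{u} p W₂)
    {X Y : Type u} [Group X] [Group Y] [Finite X] (e : X ≃* Y)
    (h : LocFac p W₁ W₂ X) : LocFac p W₁ W₂ Y := by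
  intro hC T x'
  haveI : Finite Y := Finite.of_equiv X e.toEquiv
  have hCX : Subgroup.centralizer ((pCore p X : Subgroup X) : Set X) ≤ pCore p X :=
    charP_of_equiv e.symm hC
  have hidx : ¬ p ∣ ((T : Subgroup Y).map e.symm.toMonoidHom).index := by
    rw [show (T : Subgroup Y).map e.symm.toMonoidHom = (T : Subgroup Y).map (e.symm : Y →* X) from rfl,
      Subgroup.index_map_equiv]
    exact T.not_dvd_index
  obtain ⟨T', hT'⟩ : ∃ T' : Sylow p X, (T' : Subgroup X) = (T : Subgroup Y).map e.symm.toMonoidHom :=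
    ⟨(T.2.map _).toSylow hidx, rfl⟩
  have hmap : (T : Subgroup Y) = (T' : Subgroup X).map e.toMonoidHom := by
    rw [hT', Subgroup.map_map]
    have h1 : e.toMonoidHom.comp e.symm.toMonoidHom = MonoidHom.id Y := by
      ext y; simp
    rw [h1, Subgroup.map_id]
  obtain ⟨a, ha, b, hb, hab⟩ := h hCX T' (e.symm x')
  refine ⟨e a, ?_, e b, ?_, ?_⟩
  · rw [hmap, inducedFunctor_map W₁ hW₁ e.toMonoidHom e.injective _ T'.2]
    exact Subgroup.le_normalizer_map e.toMonoidHom ⟨a, ha, rfl⟩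
  · rw [hmap, inducedFunctor_map W₂ hW₂ e.toMonoidHom e.injective _ T'.2]
    exact Subgroup.le_normalizer_map e.toMonoidHom ⟨b, hb, rfl⟩
  · rw [← map_mul, ← hab]; simp

/-- a factorization `Y = N(W₁ T) N(W₂ T)` gives control of strong fusion by the pair. -/
theorem famCtl_of_fac {p : ℕ} [Fact p.Prime] (W₁ W₂ : ∀ (Q : Type u) [Group Q], Subgroup Q)
    (hW₁ : IsCharPFunctor.{u} p W₁) (hW₂ : IsCharPFunctor.{u} p W₂)
    {Y : Type u} [Group Y] [Finite Y] (T : Sylow p Y)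
    (hfac : ∀ x : Y,
      ∃ a ∈ Subgroup.normalizer ((inducedFunctor (G := Y) W₁ (T : Subgroup Y) : Subgroup Y) : Set Y),
      ∃ b ∈ Subgroup.normalizer ((inducedFunctor (G := Y) W₂ (T : Subgroup Y) : Subgroup Y) : Set Y),
        x = a * b) :
    FamCtl (indFam ({W₁, W₂} : Set (∀ (Q : Type u) [Group Q], Subgroup Q)) Y) ⊤ (T : Subgroup Y) := by
  intro P x hP _ hxP
  obtain ⟨a, ha, b, hb, rfl⟩ := hfac x
  obtain ⟨N₁, hN₁⟩ : ∃ N₁ : Subgroup Y, N₁ = Subgroup.normalizer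
      ((inducedFunctor (G := Y) W₁ (T : Subgroup Y) : Subgroup Y) : Set Y) := ⟨_, rfl⟩
  obtain ⟨N₂, hN₂⟩ : ∃ N₂ : Subgroup Y, N₂ = Subgroup.normalizer
      ((inducedFunctor (G := Y) W₂ (T : Subgroup Y) : Subgroup Y) : Set Y) := ⟨_, rfl⟩
  rw [← hN₁] at ha
  rw [← hN₂] at hb
  have hT1 : (T : Subgroup Y) ≤ N₁ := hN₁ ▸ le_normalizer_inducedFunctor W₁ hW₁ _ T.2
  have hT2 : (T : Subgroup Y) ≤ N₂ := hN₂ ▸ le_normalizer_inducedFunctor W₂ hW₂ _ T.2
  have hbP2 : cj b P ≤ N₂ := by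
    have h1 := cj_mono (g := b) (hP.trans hT2)
    rwa [cj_eq_self_of_mem hb] at h1
  have hbP1 : cj b P ≤ N₁ := by
    have h1 : cj b P ≤ cj a⁻¹ (T : Subgroup Y) := by
      rw [← cj_le_iff, ← cj_mul]; exact hxP
    have h2 := cj_mono (g := a⁻¹) hT1
    rw [cj_eq_self_of_mem (N₁.inv_mem ha)] at h2
    exact h1.trans h2
  have hidx : ¬ p ∣ (T : Subgroup Y).relIndex (N₁ ⊓ N₂) := by
    intro h
    apply T.not_dvd_index
    rw [← Subgroup.relIndex_mul_index (le_inf hT1 hT2)]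
    exact Dvd.dvd.mul_right h _
  obtain ⟨n, hn, hconj⟩ := exists_conj_le_of_relIndex (N₁ ⊓ N₂) (T : Subgroup Y) (cj b P) T.2 hidx
    (le_inf hbP1 hbP2) (isPGroup_cj (T.2.to_le hP))
  obtain ⟨hn1, hn2⟩ := Subgroup.mem_inf.mp hn
  have hnbP : cj (n * b) P ≤ (T : Subgroup Y) := by
    rw [cj_mul]
    rintro _ ⟨q, hq, rfl⟩
    exact hconj q hq
  have hst1 : fst (indFam ({W₁, W₂} : Set (∀ (Q : Type u) [Group Q], Subgroup Q)) Y) ⊤
      (T : Subgroup Y) (n * b) :=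
    (fst_indFam_iff _ _ _ _).mpr ⟨W₂, Set.mem_insert_of_mem _ rfl, Subgroup.mem_top _,
      hN₂ ▸ N₂.mul_mem hn2 hb⟩
  have hst2 : fst (indFam ({W₁, W₂} : Set (∀ (Q : Type u) [Group Q], Subgroup Q)) Y) ⊤
      (T : Subgroup Y) (a * n⁻¹) :=
    (fst_indFam_iff _ _ _ _).mpr ⟨W₁, Set.mem_insert _ _, Subgroup.mem_top _,
      hN₁ ▸ N₁.mul_mem ha (N₁.inv_mem hn1)⟩
  have e : a * n⁻¹ * (n * b) = a * b := by group
  have h1 := (FGood.single hst1 hP hnbP).trans (FGood.single hst2 hnbP (by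
    rw [← cj_mul, e]; exact hxP))
  rwa [e] at h1

/-- Let p be a prime, G a finite group and W₁, W₂ two isomorphism-invariant p-group functors (W assigns to every group Q a subgroup W(Q), nontrivial whenever Q is a nontrivial finite p-group, and every isomorphism from a finite p-group Q onto a group R carries W(Q) onto W(R)). Suppose that G* = N_{G*}(W₁(S*)) N_{G*}(W₂(S*)) whenever G* = K/R is a section of G with C_{G*}(O_p(G*)) ≤ O_p(G*) and S* is a Sylow p-subgroup of G*. Then the pair {W₁, W₂} controls strong fusion in G. -/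
theorem result {G : Type u} [Group G] [Finite G] {p : ℕ} [Fact p.Prime] (W₁ W₂ : ∀ (Q : Type u) [Group Q], Subgroup Q) (hW₁ : Cfsg.IsCharPFunctor.{u} p W₁) (hW₂ : Cfsg.IsCharPFunctor.{u} p W₂) (hfac : ∀ (K R : Subgroup G) [hR : (R.subgroupOf K).Normal], Subgroup.centralizer ((Cfsg.pCore p (↥K ⧸ R.subgroupOf K) : Subgroup (↥K ⧸ R.subgroupOf K)) : Set (↥K ⧸ R.subgroupOf K)) ≤ Cfsg.pCore p (↥K ⧸ R.subgroupOf K) → ∀ T : Sylow p (↥K ⧸ R.subgroupOf K), ∀ x : (↥K ⧸ R.subgroupOf K), ∃ a ∈ Subgroup.normalizer ((Cfsg.inducedFunctor (G := (↥K ⧸ R.subgroupOf K)) W₁ (T : Subgroup (↥K ⧸ R.subgroupOf K)) : Subgroup (↥K ⧸ R.subgroupOf K)) : Set (↥K ⧸ R.subgroupOf K)), ∃ b ∈ Subgroup.normalizer ((Cfsg.inducedFunctor (G := (↥K ⧸ R.subgroupOf K)) W₂ (T : Subgroup (↥K ⧸ R.subgroupOf K)) : Subgroup (↥K ⧸ R.subgroupOf K)) : Set (↥K ⧸ R.subgroupOf K)), x = a * b) : Cfsg.FamilyControlsStrongFusionIn p {Cfsg.inducedFunctor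 (G := G) W₁, Cfsg.inducedFunctor (G := G) W₂} ⊤ := by
  have hsecG : ∀ (Y : Type u) [Group Y], Sec Y G → LocFac p W₁ W₂ Y :=
    sec_forall (fun Y _ => LocFac p W₁ W₂ Y)
      (fun X Y _ _ _ e h => locFac_of_equiv W₁ W₂ hW₁ hW₂ e h) (fun K R hR => hfac K R)
  have h𝓦 : ∀ W ∈ ({W₁, W₂} : Set (∀ (Q : Type u) [Group Q], Subgroup Q)),
      IsCharPFunctor.{u} p W := by
    intro W hW
    rcases hW with h | h
    · rw [h]; exact hW₁
    · rw [Set.mem_singleton_iff.mp h]; exact hW₂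
  obtain ⟨T⟩ : Nonempty (Sylow p G) := inferInstance
  have hctl := glaub_main ({W₁, W₂} : Set (∀ (Q : Type u) [Group Q], Subgroup Q)) h𝓦
    (Nat.card G) G le_rfl (fun Y _ hY => by
      obtain ⟨H, f, hf⟩ := hY
      haveI : Finite Y := Finite.of_surjective f hf
      intro hC T'
      exact famCtl_of_fac W₁ W₂ hW₁ hW₂ T' (hsecG Y ⟨H, f, hf⟩ hC T')) T
  have h1 := fcsf_of_famCtl le_top T.2
    (by rw [Subgroup.relIndex_top_right]; exact T.not_dvd_index) hctl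
  have e : indFam ({W₁, W₂} : Set (∀ (Q : Type u) [Group Q], Subgroup Q)) G =
      {Cfsg.inducedFunctor (G := G) W₁, Cfsg.inducedFunctor (G := G) W₂} := by
    unfold indFam
    rw [Set.image_pair]
  rw [e] at h1
  exact h1

end Cfsg.Agent.S1996
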