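import Cfsg.Statements.S1998
import Cfsg.Agent.Helper13.GlaubT2

set_option autoImplicit false
universe u
open Cfsg

open Cfsg.Agent.Helper13 Cfsg.Agent.Helper17
open scoped commutatorElement
namespace Cfsg.Agent.S1998

theorem sec_equiv_of_card_le {X Y : Type u} [Group X] [Group Y] [Finite X] (h : Sec Y X)
    (hc : Nat.card X ≤ Nat.card Y) : Nonempty (X ≃* Y) := by
  obtain ⟨H, f, hf⟩ := h
  have h1 : Nat.card Y ≤ Nat.card H := Nat.card_le_card_of_surjective f hf
  have h2 : Nat.card H ≤ Nat.card X := Subgroup.card_le_card_group H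
  have hH : H = ⊤ := Subgroup.eq_top_of_card_eq H (by omega)
  subst hH
  have hbij : Function.Bijective f :=
    (Nat.bijective_iff_surjective_and_card f).mpr ⟨hf, by omega⟩
  exact ⟨(Subgroup.topEquiv.symm : X ≃* ↥(⊤ : Subgroup X)).trans (MulEquiv.ofBijective f hbij)⟩

/-- control of transfer in the groups of order less than `n`. -/
def SmallT (p : ℕ) [Fact p.Prime] (𝓦 : Set (∀ (Q : Type u) [Group Q], Subgroup Q)) (n : ℕ)
    (Y : Type u) [Group Y] : Prop :=
  Nat.card Y < n → ∀ T' : Sylow p Y, TrCtl 𝓦 Y (T' : Subgroup Y)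

theorem smallT_of_equiv {p : ℕ} [Fact p.Prime] (𝓦 : Set (∀ (Q : Type u) [Group Q], Subgroup Q))
    (h𝓦 : ∀ W ∈ 𝓦, IsCharPFunctor.{u} p W) (n : ℕ) {X Y : Type u} [Group X] [Group Y] [Finite X]
    (e : X ≃* Y) (h : SmallT p 𝓦 n X) : SmallT p 𝓦 n Y := by
  intro hlt T'
  obtain ⟨T'', hmap⟩ := exists_sylow_map_equiv e T'
  have h1 := trctl_of_equiv 𝓦 h𝓦 e T'' T''.2
    (h (by rw [Nat.card_congr e.toEquiv]; exact hlt) T'')
  rw [← hmap] at h1
  exact h1


/-- Let p be a prime, G a finite group with Sylow p-subgroup S, and 𝓦 a nonempty set of isomorphism-invariant p-group functors (W assigns to every group Q a subgroup W(Q), nontrivial whenever Q is a nontrivial finite p-group, and every isomorphism from a finite p-group Q onto a group R carries W(Q) onto W(R)). Suppose the induced conjugacy functors control transfer in every section of G other than G itself, but not in G. Let T be the subgroup generated by the S ∩ (N_G(W(S)))', W ∈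 𝓦, and M = N_G(T ∩ O_p(G)). Then: C_G(O_p(G)) ≤ O_p(G); M is a proper subgroup of G containing every proper subgroup of G that contains S (the unique maximal subgroup over S); [O_p(G), M] ≤ O_p(G) ∩ M' ≤ O_p(G) ∩ T; and every element u of S outside O_p(G) satisfies [X, u, …, u] ≰ Y with p − 1 entries u, for some chief factor X/Y of G with X ≤ O_p(G). -/
theorem result {G : Type u} [Group G] [Finite G] {p : ℕ} [Fact p.Prime] (S : Sylow p G) (𝓦 : Set (∀ (Q : Type u) [Group Q], Subgroup Q)) (h𝓦 : ∀ W ∈ 𝓦, Cfsg.IsCharPFunctor.{u} p W) (hne : 𝓦.Nonempty) (hsec : ∀ (K R : Subgroup G) [hR : (R.subgroupOf K).Normal], (K = ⊤ → R ≠ ⊥) → Cfsg.FamilyControlsTransferIn p ((fun W => Cfsg.inducedFunctor (G := (↥K ⧸ R.subgroupOf K)) W) '' 𝓦) ⊤) (hG : ¬ Cfsg.FamilyControlsTransferIn p ((fun W => Cfsg.inducedFunctor (G := G) W) '' 𝓦) ⊤) (T M : Subgroup G) (hT : T = (⨆ W ∈ 𝓦, (S : Subgroup G) ⊓ ⁅Subgroup.normalizer ((Cfsg.inducedFunctor (G := G) W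 (S : Subgroup G) : Subgroup G) : Set G), Subgroup.normalizer ((Cfsg.inducedFunctor (G := G) W (S : Subgroup G) : Subgroup G) : Set G)⁆)) (hM : M = Subgroup.normalizer ((T ⊓ Cfsg.pCore p G : Subgroup G) : Set G)) : Subgroup.centralizer ((Cfsg.pCore p G : Subgroup G) : Set G) ≤ Cfsg.pCore p G ∧ (M ≠ ⊤ ∧ ∀ H : Subgroup G, (S : Subgroup G) ≤ H → H ≠ ⊤ → H ≤ M) ∧ (⁅Cfsg.pCore p G, M⁆ ≤ Cfsg.pCore p G ⊓ ⁅M, M⁆ ∧ Cfsg.pCore p G ⊓ ⁅M, M⁆ ≤ Cfsg.pCore p G ⊓ T) ∧ ∀ u : G, u ∈ (S : Subgroup G) → u ∉ Cfsg.pCore p G → ∃ U V : Subgroup G, Cfsg.IsChiefFactor U V ∧ U ≤ Cfsg.pCore p G ∧ ¬ Cfsg.iterCommutator U (Subgroup.zpowers u) (p - 1) ≤ V := by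
  have hp := (Fact.out : p.Prime)
  have hsecG : ∀ (Y : Type u) [Group Y], Sec Y G → SmallT p 𝓦 (Nat.card G) Y :=
    sec_forall (fun Y _ => SmallT p 𝓦 (Nat.card G) Y)
      (fun X Y _ _ _ e h => smallT_of_equiv 𝓦 h𝓦 _ e h)
      (fun K R hR hlt T' => by
        apply trctl_of_famTrIn 𝓦 h𝓦 (hsec K R ?_) T'
        intro hK hRb
        subst hK
        subst hRb
        have h1 : Nat.card (↥(⊤ : Subgroup G) ⧸ (⊥ : Subgroup G).subgroupOf ⊤) = Nat.card G := by
          rw [← Subgroup.index_eq_card]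
          show (⊥ : Subgroup G).relIndex ⊤ = _
          rw [Subgroup.relIndex_top_right, Subgroup.index_bot]
        omega)
  have ihsec : ∀ (Y : Type u) [Group Y] [Finite Y], Sec Y G → Nat.card Y < Nat.card G →
      ∀ T' : Sylow p Y, TrCtl 𝓦 Y (T' : Subgroup Y) := fun Y _ _ hY hlt T' => hsecG Y hY hlt T'
  have hnot : ¬ TrCtl 𝓦 G (S : Subgroup G) := fun h => hG (famTrIn_of_trctl 𝓦 S h)
  have hTF : T = famD (indFam 𝓦 G) (S : Subgroup G) := by rw [hT, famD_indFam_eq]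
  haveI hQn : (pCore p G).Normal := pCore_normal' p G
  have hQS : pCore p G ≤ (S : Subgroup G) := pCore_le_sylow S
  have hC : Subgroup.centralizer ((pCore p G : Subgroup G) : Set G) ≤ pCore p G := by
    by_contra hcon
    apply hnot
    apply glaub_tr 𝓦 h𝓦 (Nat.card G) G le_rfl
    intro Y _ hY hCY ih T'
    by_cases hlt : Nat.card Y < Nat.card G
    · exact hsecG Y hY hlt T'
    · exfalso
      obtain ⟨e⟩ := sec_equiv_of_card_le hY (not_lt.mp hlt)
      exact hcon (charP_of_equiv e.symm hCY)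
  have hSQ : ¬ (S : Subgroup G) ≤ pCore p G := by
    intro h
    apply hnot
    obtain ⟨W₀, hW₀⟩ := hne
    have hSeq : (S : Subgroup G) = pCore p G := le_antisymm h hQS
    have hSn : (S : Subgroup G).Normal := hSeq ▸ hQn
    have h1 := normalizer_le_normalizer_inducedFunctor W₀ (h𝓦 W₀ hW₀) (S : Subgroup G) S.2
    rw [Subgroup.normalizer_eq_top_iff.mpr hSn] at h1
    have h2 : Subgroup.normalizer ((inducedFunctor W₀ (S : Subgroup G) : Subgroup G) : Set G) = ⊤ :=
      top_le_iff.mp h1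
    show (S : Subgroup G) ⊓ ⁅(⊤ : Subgroup G), (⊤ : Subgroup G)⁆ ≤
      famD (indFam 𝓦 G) (S : Subgroup G)
    rw [famD_indFam_eq]
    refine le_trans ?_ (le_iSup₂ (f := fun (W : ∀ (Q : Type u) [Group Q], Subgroup Q)
      (_ : W ∈ 𝓦) => (S : Subgroup G) ⊓
        ⁅Subgroup.normalizer ((inducedFunctor W (S : Subgroup G) : Subgroup G) : Set G),
          Subgroup.normalizer ((inducedFunctor W (S : Subgroup G) : Subgroup G) : Set G)⁆) W₀ hW₀)
    rw [h2]
  have hQbot : pCore p G ≠ ⊥ := by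
    intro h0
    apply hSQ
    intro s _
    apply hC
    rw [Subgroup.mem_centralizer_iff]
    intro z hz
    rw [h0] at hz
    have hz1 : z = 1 := Subgroup.mem_bot.mp hz
    rw [hz1, one_mul, mul_one]
  have hStop : (S : Subgroup G) ≠ ⊤ := by
    intro h
    apply hSQ
    have h1 : (⊤ : Subgroup G) ≤ pCore p G := le_pCore Subgroup.normal_top (h ▸ S.2)
    exact le_top.trans h1
  have hstep : ¬ (pCore p G ⊓ ⁅(⊤ : Subgroup G), (⊤ : Subgroup G)⁆ ≤
      famD (indFam 𝓦 G) (S : Subgroup G)) := by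
    intro hII
    apply hnot
    intro x hx
    obtain ⟨f, hf, hfx⟩ := trctl_quot_step 𝓦 h𝓦 S ihsec hSQ hQbot x hx
    have h1 := hII (Subgroup.mem_inf.mpr ⟨hfx, Subgroup.mul_mem _
      (Subgroup.inv_mem _ (famD_le_commutator 𝓦 _ hf)) (Subgroup.mem_inf.mp hx).2⟩)
    have h2 := Subgroup.mul_mem _ hf h1
    rwa [mul_inv_cancel_left] at h2
  have hMdef : M = Subgroup.normalizer
      ((famD (indFam 𝓦 G) (S : Subgroup G) ⊓ pCore p G : Subgroup G) : Set G) := by
    rw [hM, hTF]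
  have hMtop : M ≠ ⊤ := by
    intro htop
    apply hstep
    rw [hMdef] at htop
    exact trctl_beta 𝓦 h𝓦 S ihsec hne (Subgroup.normalizer_eq_top_iff.mp htop)
  have hmax : ∀ H : Subgroup G, (S : Subgroup G) ≤ H → H ≠ ⊤ → H ≤ M := by
    intro H hSH hH
    rw [hMdef]
    exact (trctl_alpha 𝓦 h𝓦 S ihsec H hH hSH).2
  have hSM : (S : Subgroup G) ≤ M := hmax _ le_rfl hStop
  refine ⟨hC, ⟨hMtop, hmax⟩, ⟨?_, ?_⟩, ?_⟩
  · exact le_inf (Subgroup.commutator_le_left _ _)
      (Subgroup.commutator_mono (hQS.trans hSM) le_rfl)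
  · refine le_inf inf_le_left ?_
    rw [hTF]
    exact (le_inf (inf_le_left.trans hQS) inf_le_right).trans
      (trctl_ihsub 𝓦 h𝓦 S ihsec M hMtop hSM)
  · intro u huS huQ
    by_contra hcon
    push Not at hcon
    exact hnot (trctl_of_unipotent 𝓦 h𝓦 S ihsec hne hQbot u huS huQ
      (fun U V hUV hUQ => hcon U V hUV hUQ))

end Cfsg.Agent.S1998
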