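import Cfsg.Statements.S2006
import Cfsg.Agent.Helper13.HH2
import Cfsg.Agent.S2005

set_option autoImplicit false
universe u
open Cfsg

open Cfsg.Agent.Helper13 Cfsg.Agent.Helper17
open scoped commutatorElement
namespace Cfsg.Agent.S2006

theorem local_false {Y : Type*} [Group Y] [Finite Y] {p : ℕ} [hp : Fact p.Prime]
    (hNPC : HasNormalPComplement p (Y ⧸ pCore p Y)) (T : Sylow p Y)
    (hT : IsCoatom (T : Subgroup Y))
    (g : Y) (hgT : g ∈ (T : Subgroup Y)) (hgH : g ∉ pCore p Y) (U V : Subgroup Y)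
    (hUV : IsChiefFactor U V) (hUH : U ≤ pCore p Y)
    (hit : iterCommutator U (Subgroup.zpowers g) (p - 1) ≤ V)
    (hne : ¬ ⁅U, Subgroup.zpowers g⁆ ≤ V) : False := by
  haveI hVn : V.Normal := hUV.2.2.1
  have hHn : (pCore p Y).Normal := inferInstance
  have hHT : pCore p Y ≤ (T : Subgroup Y) := pCore_le_sylow T
  obtain ⟨K, hKn, hHK, hS1, ⟨m, hm, hS2⟩, hS3, hS4, hS5, -⟩ :=
    coatom_struct_lift (pCore p Y) (pCore_isPGroup p Y) hNPC T hT
  have hmin : IsMinNormal (U.map (QuotientGroup.mk' V)) := isMinNormal_of_chief hUV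
  haveI hUbn : (U.map (QuotientGroup.mk' V)).Normal := hmin.1
  have hUp : IsPGroup p (U.map (QuotientGroup.mk' V)) :=
    ((pCore_isPGroup p Y).to_le hUH).map _
  have hHbp : IsPGroup p ((pCore p Y).map (QuotientGroup.mk' V)) := (pCore_isPGroup p Y).map _
  haveI hHbn : ((pCore p Y).map (QuotientGroup.mk' V)).Normal :=
    hHn.map _ (QuotientGroup.mk'_surjective V)
  have hcentH := hmin.le_centralizer hHbp (Subgroup.map_mono hUH) inferInstance
  have hHC : ∀ h ∈ pCore p Y, (QuotientGroup.mk' V) h ∈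
      Subgroup.centralizer ((U.map (QuotientGroup.mk' V) : Subgroup (Y ⧸ V)) : Set (Y ⧸ V)) := by
    intro h hh
    rw [Subgroup.mem_centralizer_iff]
    intro u hu
    exact (Subgroup.mem_centralizer_iff.mp (hcentH hu) _ (Subgroup.mem_map_of_mem _ hh)).symm
  -- the iterated commutators
  have hiter : ∀ (k : ℕ) (u : Y), u ∈ U → ∃ w ∈ iterCommutator U (Subgroup.zpowers g) k,
      (fun w : Y ⧸ V => (QuotientGroup.mk' V) g * w * ((QuotientGroup.mk' V) g)⁻¹ * w⁻¹)^[k]
        ((QuotientGroup.mk' V) u) = (QuotientGroup.mk' V) w := by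
    intro k
    induction k with
    | zero => intro u hu; exact ⟨u, hu, rfl⟩
    | succ k ih =>
      intro u hu
      obtain ⟨w, hw, hwe⟩ := ih u hu
      refine ⟨g * w * g⁻¹ * w⁻¹, ?_, ?_⟩
      · rw [iterCommutator_succ]
        have h1 : ⁅w, g⁆ ∈ ⁅iterCommutator U (Subgroup.zpowers g) k, Subgroup.zpowers g⁆ :=
          Subgroup.commutator_mem_commutator hw (Subgroup.mem_zpowers g)
        have h2 := Subgroup.inv_mem _ h1
        rw [commutatorElement_inv, commutatorElement_def] at h2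
        exact h2
      · rw [Function.iterate_succ_apply', hwe]
        simp only [map_mul, map_inv]
  have key := hh_act hmin hUp ((QuotientGroup.mk' V) g)
    (by
      rintro _ ⟨u, hu, rfl⟩
      obtain ⟨w, hw, hwe⟩ := hiter (p - 1) u hu
      rw [hwe]
      exact (QuotientGroup.eq_one_iff w).mpr (hit hw))
    (K.map (QuotientGroup.mk' V))
    (by
      rintro _ ⟨a, ha, rfl⟩ _ ⟨b, hb, rfl⟩
      have h1 := hHC _ (hS1 a ha b hb)
      simpa only [map_mul, map_inv] using h1)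
    (by
      rintro _ ⟨a, ha, rfl⟩
      refine ⟨g⁻¹ * a * g, ?_, by simp only [map_mul, map_inv]⟩
      have h1 := hKn.conj_mem a ha g⁻¹
      rwa [inv_inv] at h1)
    m hm
    (by
      rintro _ ⟨a, ha, rfl⟩
      have h1 := hHC _ (hS2 a ha)
      simpa only [map_pow] using h1)
  obtain ⟨C, hC⟩ : ∃ C : Subgroup Y, C = (Subgroup.centralizer
      ((U.map (QuotientGroup.mk' V) : Subgroup (Y ⧸ V)) : Set (Y ⧸ V))).comap (QuotientGroup.mk' V) :=
    ⟨_, rfl⟩
  have hCmem : ∀ y : Y, y ∈ C ↔ (QuotientGroup.mk' V) y ∈ Subgroup.centralizer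
      ((U.map (QuotientGroup.mk' V) : Subgroup (Y ⧸ V)) : Set (Y ⧸ V)) := by
    intro y; rw [hC, Subgroup.mem_comap]
  have hCn : C.Normal := by
    rw [hC]
    exact Subgroup.Normal.comap inferInstance _
  have hHCle : pCore p Y ≤ C := fun h hh => (hCmem h).mpr (hHC h hh)
  have hgC : g ∉ C := by
    intro hgC
    apply hne
    rw [Subgroup.commutator_le]
    intro u hu z hz
    have hzC : z ∈ C := (Subgroup.zpowers_le.mpr hgC) hz
    have h1 := Subgroup.mem_centralizer_iff.mp ((hCmem z).mp hzC) _ (Subgroup.mem_map_of_mem _ hu)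
    rw [← QuotientGroup.eq_one_iff (N := V)]
    show (QuotientGroup.mk' V) ⁅u, z⁆ = 1
    rw [commutatorElement_def, map_mul, map_mul, map_mul, map_inv, map_inv, h1]
    group
  have hkeyY : ∀ a ∈ K, g * a * g⁻¹ * a⁻¹ ∈ C := by
    intro a ha
    rw [hCmem]
    have h1 := key _ (Subgroup.mem_map_of_mem _ ha)
    simpa only [map_mul, map_inv] using h1
  have hA := hS5 (C ⊓ K) (le_inf hHCle hHK) inf_le_right (by
    have h1 : (C ⊓ K).Normal := Subgroup.normal_inf_normal C K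
    rw [Subgroup.normalizer_eq_top_iff.mpr h1]; exact le_top)
  rcases hA with hA | hA
  · -- `g` centralizes `K / H`
    have hgK : ∀ a ∈ K, g * a * g⁻¹ * a⁻¹ ∈ pCore p Y := by
      intro a ha
      rw [← hA]
      refine Subgroup.mem_inf.mpr ⟨hkeyY a ha, ?_⟩
      exact K.mul_mem (hKn.conj_mem a ha g) (K.inv_mem ha)
    let D₀ : Subgroup Y :=
      { carrier := {y | ∀ a ∈ K, y * a * y⁻¹ * a⁻¹ ∈ pCore p Y}
        one_mem' := by
          intro a ha
          have h1 : (1 : Y) * a * 1⁻¹ * a⁻¹ = 1 := by group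
          rw [h1]; exact Subgroup.one_mem _
        mul_mem' := by
          intro y z hy hz a ha
          have h1 : y * z * a * (y * z)⁻¹ * a⁻¹ = y * (z * a * z⁻¹ * a⁻¹) * y⁻¹ * (y * a * y⁻¹ * a⁻¹) := by
            group
          rw [h1]
          exact Subgroup.mul_mem _ (hHn.conj_mem _ (hz a ha) y) (hy a ha)
        inv_mem' := by
          intro y hy a ha
          have h1 : y⁻¹ * a * y⁻¹⁻¹ * a⁻¹ = (y⁻¹ * (y * a * y⁻¹ * a⁻¹) * y⁻¹⁻¹)⁻¹ := by group
          rw [h1]
          exact Subgroup.inv_mem _ (hHn.conj_mem _ (hy a ha) y⁻¹) }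
    have hD₀mem : ∀ y : Y, y ∈ D₀ ↔ ∀ a ∈ K, y * a * y⁻¹ * a⁻¹ ∈ pCore p Y := fun y => Iff.rfl
    have hD₀n : D₀.Normal := by
      constructor
      intro d hd y
      rw [hD₀mem] at hd ⊢
      intro a ha
      have h1 : y * d * y⁻¹ * a * (y * d * y⁻¹)⁻¹ * a⁻¹
          = y * (d * (y⁻¹ * a * y⁻¹⁻¹) * d⁻¹ * (y⁻¹ * a * y⁻¹⁻¹)⁻¹) * y⁻¹ := by group
      rw [h1]
      exact hHn.conj_mem _ (hd _ (hKn.conj_mem a ha y⁻¹)) y
    have hDn : (D₀ ⊓ (T : Subgroup Y)).Normal := by
      constructor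
      intro d hd y
      obtain ⟨hd0, hdT⟩ := Subgroup.mem_inf.mp hd
      refine Subgroup.mem_inf.mpr ⟨hD₀n.conj_mem d hd0 y, ?_⟩
      obtain ⟨t, ht, k, hk, rfl⟩ := hS4 y
      have h1 : k * d * k⁻¹ * d⁻¹ ∈ pCore p Y := by
        have h2 := (hD₀mem d).mp hd0 k⁻¹ (K.inv_mem hk)
        have h3 := hHn.conj_mem _ h2 k
        have h4 : k * (d * k⁻¹ * d⁻¹ * k⁻¹⁻¹) * k⁻¹ = k * d * k⁻¹ * d⁻¹ := by group
        rwa [h4] at h3
      have h5 : k * d * k⁻¹ ∈ (T : Subgroup Y) := by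
        have h6 := (T : Subgroup Y).mul_mem (hHT h1) hdT
        have h7 : k * d * k⁻¹ * d⁻¹ * d = k * d * k⁻¹ := by group
        rwa [h7] at h6
      have h8 := (T : Subgroup Y).mul_mem ((T : Subgroup Y).mul_mem ht h5) ((T : Subgroup Y).inv_mem ht)
      have h9 : t * (k * d * k⁻¹) * t⁻¹ = t * k * d * (t * k)⁻¹ := by group
      rwa [h9] at h8
    have hDp : IsPGroup p ↥(D₀ ⊓ (T : Subgroup Y)) := T.2.to_le inf_le_right
    have hgD : g ∈ D₀ ⊓ (T : Subgroup Y) := Subgroup.mem_inf.mpr ⟨(hD₀mem g).mpr hgK, hgT⟩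
    exact hgH (le_pCore hDn hDp hgD)
  · -- `K` centralizes the chief factor
    have hKC : K ≤ C := by rw [← hA]; exact inf_le_left
    have hTbp : IsPGroup p ((T : Subgroup Y).map (QuotientGroup.mk' V)) := T.2.map _
    have hnorm : (U.map (QuotientGroup.mk' V) ⊓ Subgroup.centralizer
        (((T : Subgroup Y).map (QuotientGroup.mk' V) : Subgroup (Y ⧸ V)) : Set (Y ⧸ V))).Normal := by
      constructor
      intro x hx yb
      obtain ⟨y, rfl⟩ := QuotientGroup.mk'_surjective V yb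
      obtain ⟨hxU, hxT⟩ := Subgroup.mem_inf.mp hx
      obtain ⟨t, ht, k, hk, rfl⟩ := hS4 y
      have h1 : (QuotientGroup.mk' V) k * x * ((QuotientGroup.mk' V) k)⁻¹ = x := by
        have h2 := Subgroup.mem_centralizer_iff.mp ((hCmem k).mp (hKC hk)) x hxU
        rw [← h2]; group
      have h3 : (QuotientGroup.mk' V) t * x * ((QuotientGroup.mk' V) t)⁻¹ = x := by
        have h4 := Subgroup.mem_centralizer_iff.mp hxT _ (Subgroup.mem_map_of_mem _ ht)
        rw [h4]; group
      have h5 : (QuotientGroup.mk' V) (t * k) * x * ((QuotientGroup.mk' V) (t * k))⁻¹ = x := by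
        rw [map_mul]
        calc (QuotientGroup.mk' V) t * (QuotientGroup.mk' V) k * x *
              ((QuotientGroup.mk' V) t * (QuotientGroup.mk' V) k)⁻¹
            = (QuotientGroup.mk' V) t * ((QuotientGroup.mk' V) k * x * ((QuotientGroup.mk' V) k)⁻¹) *
              ((QuotientGroup.mk' V) t)⁻¹ := by group
          _ = x := by rw [h1, h3]
      rw [h5]
      exact hx
    have hcentT := hmin.le_centralizer hTbp (Subgroup.map_mono (hUH.trans hHT)) hnorm
    apply hgC
    rw [hCmem, Subgroup.mem_centralizer_iff]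
    intro u hu
    exact (Subgroup.mem_centralizer_iff.mp (hcentT hu) _ (Subgroup.mem_map_of_mem _ hgT)).symm

/-- Let p be a prime, G a finite group with Sylow p-subgroup S, and W an isomorphism-invariant p-group functor (W assigns to every group Q a subgroup W(Q), nontrivial whenever Q is a nontrivial finite p-group, and every isomorphism from a finite p-group Q onto a group R carries W(Q) onto W(R)). Suppose N_G(W(S)) has a normal p-complement, and that whenever G* = K/R is a section of G with C_{G*}(O_p(G*)) ≤ O_p(G*) and S* is a Sylow p-subgroup of G* with W(S*) not normal in G*, there are an element g of S* outside O_p(G*) and a chief factor X/Y of G* with X ≤ O_p(G*) such that [X, g, …, g] ≤ Y with p − 1 entries g but [X, g] ≰ Y. Then G has a normal p-complement. -/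
theorem result {G : Type u} [Group G] [Finite G] {p : ℕ} [Fact p.Prime] (W : ∀ (Q : Type u) [Group Q], Subgroup Q) (hW : Cfsg.IsCharPFunctor.{u} p W) (S : Sylow p G) (hN : Cfsg.HasNormalPComplement p ↥(Subgroup.normalizer ((Cfsg.inducedFunctor (G := G) W (S : Subgroup G) : Subgroup G) : Set G))) (hloc : ∀ (K R : Subgroup G) [hR : (R.subgroupOf K).Normal], Subgroup.centralizer ((Cfsg.pCore p (↥K ⧸ R.subgroupOf K) : Subgroup (↥K ⧸ R.subgroupOf K)) : Set (↥K ⧸ R.subgroupOf K)) ≤ Cfsg.pCore p (↥K ⧸ R.subgroupOf K) → ∀ T : Sylow p (↥K ⧸ R.subgroupOf K), ¬ (Cfsg.inducedFunctor (G := (↥K ⧸ R.subgroupOf K)) W ((T : Subgroup (↥K ⧸ R.subgroupOf K)))).Normal → ∃ g : (↥K ⧸ R.subgroupOf K), g ∈ (T : Subgroup (↥K ⧸ R.subgroupOf K)) ∧ g ∉ Cfsg.pCore p (↥K ⧸ R.subgroupOf K) ∧ ∃ U V : Subgroup (↥K ⧸ R.subgroupOf K), Cfsg.IsChiefFactor U V ∧ U ≤ Cfsg.pCore p (↥K ⧸ R.subgroupOf K) ∧ Cfsg.iterCommutator U (Subgroup.zpowers g) (p - 1) ≤ V ∧ ¬ ⁅U, Subgroup.zpowers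 g⁆ ≤ V) : Cfsg.HasNormalPComplement p G := by
  refine Cfsg.Agent.S2005.result W hW S hN ?_
  intro K R hR hC hNPC T hT
  by_contra hnn
  obtain ⟨g, hgT, hgH, U, V, hUV, hUH, hit, hne⟩ := hloc K R hC T hnn
  exact local_false hNPC T hT g hgT hgH U V hUV hUH hit hne

end Cfsg.Agent.S2006
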