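import Cfsg.Statements.S2062
import Cfsg.Agent.Helper12.OutM3

set_option autoImplicit false
open Cfsg

namespace Cfsg.Agent.S2062

open Cfsg.Agent.Helper3 Cfsg.Agent.H12Out
open scoped Pointwise

/-- the points other than `∞` and `0` -/
abbrev D22 : Set GolayPt := {y | y ≠ none ∧ y ≠ some 0}

theorem mem_M22 {g : Equiv.Perm GolayPt} :
    g ∈ Spor.M22 ↔ g ∈ M24 ∧ g none = none ∧ g (some 0) = some 0 :=
  ⟨fun h => ⟨h.1.1, h.1.2, h.2⟩, fun h => ⟨⟨h.1, h.2.1⟩, h.2.2⟩⟩

theorem hD22 : ∀ g ∈ Spor.M22, ∀ x, g x ∈ D22 ↔ x ∈ D22 := by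
  intro g hg x
  obtain ⟨_, h0, h1⟩ := mem_M22.mp hg
  have e1 : g x = none ↔ x = none :=
    ⟨fun h => g.injective (h.trans h0.symm), fun h => by rw [h, h0]⟩
  have e2 : g x = some 0 ↔ x = some 0 :=
    ⟨fun h => g.injective (h.trans h1.symm), fun h => by rw [h, h1]⟩
  show (g x ≠ none ∧ g x ≠ some 0) ↔ (x ≠ none ∧ x ≠ some 0)
  rw [Ne, Ne, e1, e2]

theorem notD22 {x : GolayPt} (hx : x ∉ D22) : x = none ∨ x = some 0 := by
  by_contra h
  push Not at h
  exact hx h

theorem hfix22 : ∀ g ∈ Spor.M22, ∀ x, x ∉ D22 → g x = x := by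
  intro g hg x hx
  obtain ⟨_, h0, h1⟩ := mem_M22.mp hg
  rcases notD22 hx with rfl | rfl
  exacts [h0, h1]

/-- an embedding of two distinct points -/
def emb2 (a b : GolayPt) (hab : a ≠ b) : Fin 2 ↪ GolayPt where
  toFun := ![a, b]
  inj' := by
    intro i j hij
    fin_cases i <;> fin_cases j <;> simp_all

/-- an embedding of four distinct points -/
def emb4 (a b c d : GolayPt) (hab : a ≠ b) (hac : a ≠ c) (had : a ≠ d) (hbc : b ≠ c)
    (hbd : b ≠ d) (hcd : c ≠ d) : Fin 4 ↪ GolayPt where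
  toFun := ![a, b, c, d]
  inj' := by
    intro i j hij
    fin_cases i <;> fin_cases j <;> simp_all

theorem none_ne : (none : GolayPt) ≠ some 0 := by decide

theorem sep22 : ∀ y ∈ D22, ∀ y' ∈ D22, (∀ g ∈ Spor.M22, g y = y → g y' = y') → y = y' := by
  intro y hy y' hy' h
  by_contra hne
  obtain ⟨w, hw0, hw1, hw2, hw3⟩ :
      ∃ w : GolayPt, w ≠ none ∧ w ≠ some 0 ∧ w ≠ y ∧ w ≠ y' := by
    obtain ⟨w, hw⟩ := exists_notMem ({none, some 0, y, y'} : Finset GolayPt) (by
      have h4 := Finset.card_le_four (a := (none : GolayPt)) (b := some 0) (c := y) (d := y')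
      omega)
    simp only [Finset.mem_insert, Finset.mem_singleton, not_or] at hw
    exact ⟨w, hw.1, hw.2.1, hw.2.2.1, hw.2.2.2⟩
  have := M24_four_trans'
  obtain ⟨g, hg⟩ := MulAction.exists_smul_eq M24
    (emb4 none (some 0) y y' none_ne (Ne.symm hy.1) (Ne.symm hy'.1) (Ne.symm hy.2)
      (Ne.symm hy'.2) hne)
    (emb4 none (some 0) y w none_ne (Ne.symm hy.1) (Ne.symm hw0) (Ne.symm hy.2)
      (Ne.symm hw1) (Ne.symm hw2))
  have h0 : (g : Equiv.Perm GolayPt) none = none := DFunLike.congr_fun hg 0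
  have h1 : (g : Equiv.Perm GolayPt) (some 0) = some 0 := DFunLike.congr_fun hg 1
  have h2 : (g : Equiv.Perm GolayPt) y = y := DFunLike.congr_fun hg 2
  have h3 : (g : Equiv.Perm GolayPt) y' = w := DFunLike.congr_fun hg 3
  have h4 := h g.1 (mem_M22.mpr ⟨g.2, h0, h1⟩) h2
  rw [h3] at h4
  exact hw3 h4

theorem card_stab22 (y : GolayPt) (hy : y ∈ D22) :
    Nat.card ↥(MulAction.stabilizer ↥Spor.M22 y) = 20160 := by
  rw [← card_fix3 none (some 0) y none_ne (Ne.symm hy.1) (Ne.symm hy.2)]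
  apply Nat.card_congr
  exact
    { toFun := fun g => ⟨⟨g.1.1, g.1.2.1.1⟩, by
        rw [mem_fixingSubgroup_iff]
        intro x hx
        rcases hx with rfl | rfl | rfl
        · exact g.1.2.1.2
        · exact g.1.2.2
        · exact g.2⟩
      invFun := fun k => ⟨⟨k.1.1, ⟨⟨k.1.2, (mem_fixingSubgroup_iff _).mp k.2 none (by simp)⟩,
        (mem_fixingSubgroup_iff _).mp k.2 (some 0) (by simp)⟩⟩,
        (mem_fixingSubgroup_iff _).mp k.2 y (by simp)⟩
      left_inv := fun g => rfl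
      right_inv := fun k => rfl }

theorem stab22 (α : ↥Spor.M22 ≃* ↥Spor.M22) : ∀ y ∈ D22, ∃ y' ∈ D22, ∀ g : ↥Spor.M22,
    (g : Equiv.Perm GolayPt) y = y ↔ ((α g : ↥Spor.M22) : Equiv.Perm GolayPt) y' = y' := by
  intro y hy
  have hHc : Nat.card ↥(((MulAction.stabilizer ↥Spor.M22 y).map α.toMonoidHom).map
      Spor.M22.subtype) = 20160 := by
    rw [Subgroup.card_map_of_injective (Subgroup.subtype_injective _),
      Subgroup.card_map_of_injective α.injective]
    exact card_stab22 y hy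
  obtain ⟨y', hy'0, hy'1, hfix⟩ := M22_fix_point (Subgroup.map_subtype_le _) hHc
  have hy' : y' ∈ D22 := ⟨hy'0, hy'1⟩
  refine ⟨y', hy', fun g => ?_⟩
  have hle : (MulAction.stabilizer ↥Spor.M22 y).map α.toMonoidHom ≤
      MulAction.stabilizer ↥Spor.M22 y' := by
    rintro _ ⟨k, hk, rfl⟩
    exact hfix _ ⟨α k, ⟨k, hk, rfl⟩, rfl⟩
  have heq : (MulAction.stabilizer ↥Spor.M22 y).map α.toMonoidHom =
      MulAction.stabilizer ↥Spor.M22 y' := by
    apply Subgroup.eq_of_le_of_card_ge hle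
    rw [card_stab22 y' hy', Subgroup.card_map_of_injective α.injective, card_stab22 y hy]
  constructor
  · intro hg
    exact hle ⟨g, hg, rfl⟩
  · intro hg
    have h1 : α g ∈ (MulAction.stabilizer ↥Spor.M22 y).map α.toMonoidHom := by
      rw [heq]
      exact hg
    obtain ⟨k, hk, hkg⟩ := h1
    have h2 : k = g := α.injective hkg
    rw [← h2]
    exact hk

/-- the condition of preserving the pair `{∞, 0}` -/
abbrev Pair (n : Equiv.Perm GolayPt) : Prop :=
  (n none = none ∧ n (some 0) = some 0) ∨ (n none = some 0 ∧ n (some 0) = none)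

theorem pair_inv {n : Equiv.Perm GolayPt} (h : Pair n) : Pair n⁻¹ := by
  rcases h with ⟨a, b⟩ | ⟨a, b⟩
  · left
    exact ⟨by rw [Equiv.Perm.inv_eq_iff_eq, a], by rw [Equiv.Perm.inv_eq_iff_eq, b]⟩
  · right
    exact ⟨by rw [Equiv.Perm.inv_eq_iff_eq, b], by rw [Equiv.Perm.inv_eq_iff_eq, a]⟩

theorem norm_of_pair {n : Equiv.Perm GolayPt} (hn : n ∈ M24) (hpair : Pair n) :
    ∀ m ∈ Spor.M22, n * m * n⁻¹ ∈ Spor.M22 := by
  intro m hm
  obtain ⟨hmM, hm0, hm1⟩ := mem_M22.mp hm
  refine mem_M22.mpr ⟨mul_mem (mul_mem hn hmM) (inv_mem hn), ?_, ?_⟩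
  · show n (m (n⁻¹ none)) = none
    rcases hpair with ⟨a, b⟩ | ⟨a, b⟩
    · have e : n⁻¹ none = none := by rw [Equiv.Perm.inv_eq_iff_eq, a]
      rw [e, hm0, a]
    · have e : n⁻¹ none = some 0 := by rw [Equiv.Perm.inv_eq_iff_eq, b]
      rw [e, hm1, b]
  · show n (m (n⁻¹ (some 0))) = some 0
    rcases hpair with ⟨a, b⟩ | ⟨a, b⟩
    · have e : n⁻¹ (some 0) = some 0 := by rw [Equiv.Perm.inv_eq_iff_eq, b]
      rw [e, hm1, b]
    · have e : n⁻¹ (some 0) = none := by rw [Equiv.Perm.inv_eq_iff_eq, a]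
      rw [e, hm0, a]

theorem norm_of_pair' {n : Equiv.Perm GolayPt} (hn : n ∈ M24) (hpair : Pair n) :
    ∀ m ∈ Spor.M22, n⁻¹ * m * n ∈ Spor.M22 := by
  intro m hm
  have h := norm_of_pair (inv_mem hn) (pair_inv hpair) m hm
  rw [inv_inv] at h
  exact h

/-- conjugation by a permutation normalising `M22`, as an automorphism -/
def conjAut (n : Equiv.Perm GolayPt) (hn : ∀ m ∈ Spor.M22, n * m * n⁻¹ ∈ Spor.M22)
    (hn' : ∀ m ∈ Spor.M22, n⁻¹ * m * n ∈ Spor.M22) : MulAut ↥Spor.M22 where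
  toFun m := ⟨n * m.1 * n⁻¹, hn m.1 m.2⟩
  invFun m := ⟨n⁻¹ * m.1 * n, hn' m.1 m.2⟩
  left_inv m := by
    apply Subtype.ext
    show n⁻¹ * (n * m.1 * n⁻¹) * n = m.1
    group
  right_inv m := by
    apply Subtype.ext
    show n * (n⁻¹ * m.1 * n) * n⁻¹ = m.1
    group
  map_mul' a b := by
    apply Subtype.ext
    show n * (a.1 * b.1) * n⁻¹ = (n * a.1 * n⁻¹) * (n * b.1 * n⁻¹)
    group

theorem swap_conj_fix {k : Equiv.Perm GolayPt} (h0 : k none = none) (h1 : k (some 0) = some 0) :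
    Equiv.swap (none : GolayPt) (some 0) * k * (Equiv.swap (none : GolayPt) (some 0))⁻¹ = k := by
  have h := Equiv.swap_apply_apply k (none : GolayPt) (some 0)
  rw [h0, h1] at h
  have h2 : Equiv.swap (none : GolayPt) (some 0) * k = k * Equiv.swap (none : GolayPt) (some 0) := by
    calc Equiv.swap (none : GolayPt) (some 0) * k
        = (k * Equiv.swap (none : GolayPt) (some 0) * k⁻¹) * k := by rw [← h]
      _ = k * Equiv.swap (none : GolayPt) (some 0) := by group
  rw [h2]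
  group

/-- every automorphism of `M22` is conjugation by an element of `M24` preserving `{∞, 0}` -/
theorem exists_norm (α : MulAut ↥Spor.M22) : ∃ n ∈ M24, Pair n ∧
    ∀ g : ↥Spor.M22, ((α g : ↥Spor.M22) : Equiv.Perm GolayPt) = n * g * n⁻¹ := by
  obtain ⟨π, hπ0, hπ⟩ := exists_perm_of_stab Spor.M22 α D22 hD22 hfix22 sep22 (stab22 α)
  have h0 : π none = none := hπ0 none (fun h => h.1 rfl)
  have h1 : π (some 0) = some 0 := hπ0 (some 0) (fun h => h.2 rfl)
  have hoct : ∀ O ∈ octads, none ∈ O → some 0 ∈ O → π • O ∈ octads ∧ π⁻¹ • O ∈ octads := by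
    intro O hO hn hs
    constructor
    · apply smul_octad_of_conj hO
      intro z hz hzO
      have hz22 : z ∈ Spor.M22 := mem_M22.mpr ⟨hz, hzO none hn, hzO (some 0) hs⟩
      have h2 := hπ ⟨z, hz22⟩
      have h3 : π * z * π⁻¹ = ((α ⟨z, hz22⟩ : ↥Spor.M22) : Equiv.Perm GolayPt) := h2.symm
      rw [h3]
      exact (α ⟨z, hz22⟩).2.1.1
    · apply smul_octad_of_conj hO
      intro z hz hzO
      have hz22 : z ∈ Spor.M22 := mem_M22.mpr ⟨hz, hzO none hn, hzO (some 0) hs⟩
      obtain ⟨k, hk⟩ : ∃ k : ↥Spor.M22, α k = ⟨z, hz22⟩ := ⟨α.symm ⟨z, hz22⟩, by simp⟩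
      have h2 := hπ k
      rw [hk] at h2
      have h2' : z = π * (k : Equiv.Perm GolayPt) * π⁻¹ := h2
      have h3 : π⁻¹ * z * π⁻¹⁻¹ = (k : Equiv.Perm GolayPt) := by
        rw [h2']
        group
      rw [h3]
      exact k.2.1.1
  rcases M22_dich h0 h1 hoct with hM | hM
  · exact ⟨π, hM, Or.inl ⟨h0, h1⟩, hπ⟩
  · refine ⟨Equiv.swap none (some 0) * π, hM, Or.inr ⟨?_, ?_⟩, fun g => ?_⟩
    · show Equiv.swap none (some 0) (π none) = some 0
      rw [h0, Equiv.swap_apply_left]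
    · show Equiv.swap none (some 0) (π (some 0)) = none
      rw [h1, Equiv.swap_apply_right]
    · have hk := mem_M22.mp (α g).2
      rw [hπ g] at hk
      have h2 := swap_conj_fix hk.2.1 hk.2.2
      rw [hπ g]
      calc π * (g : Equiv.Perm GolayPt) * π⁻¹
          = Equiv.swap (none : GolayPt) (some 0) * (π * (g : Equiv.Perm GolayPt) * π⁻¹) *
              (Equiv.swap (none : GolayPt) (some 0))⁻¹ := h2.symm
        _ = Equiv.swap none (some 0) * π * (g : Equiv.Perm GolayPt) *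
              (Equiv.swap none (some 0) * π)⁻¹ := by group

/-- the centraliser of `M22` in `M24` is trivial -/
theorem cent_trivial {c : Equiv.Perm GolayPt} (hc : c ∈ M24)
    (hcomm : ∀ g ∈ Spor.M22, c * g = g * c) : c = 1 := by
  have hcx : ∀ g ∈ Spor.M22, ∀ x, c (g x) = g (c x) := fun g hg x =>
    congrArg (fun f : Equiv.Perm GolayPt => f x) (hcomm g hg)
  have hfixpts : ∀ x, (∀ g ∈ Spor.M22, g x = x) → x ∉ D22 := by
    intro x hx hxD
    obtain ⟨y', hy'⟩ := exists_notMem ({none, some 0, x} : Finset GolayPt) (by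
      have h3 := Finset.card_le_three (a := (none : GolayPt)) (b := some 0) (c := x)
      omega)
    simp only [Finset.mem_insert, Finset.mem_singleton, not_or] at hy'
    exact hy'.2.2 (sep22 y' ⟨hy'.1, hy'.2.1⟩ x hxD (fun g hg _ => hx g hg))
  have hc_nonD : ∀ x, x ∉ D22 → c x ∉ D22 := by
    intro x hx
    apply hfixpts
    intro g hg
    rw [← hcx g hg, hfix22 g hg x hx]
  have hc_D : ∀ y ∈ D22, c y ∈ D22 := by
    intro y hy
    by_contra hcy
    have i1 : c y ≠ c none := fun h => hy.1 (c.injective h)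
    have i2 : c y ≠ c (some 0) := fun h => hy.2 (c.injective h)
    have i3 : c none ≠ c (some 0) := fun h => none_ne (c.injective h)
    rcases notD22 hcy with a | a <;>
      rcases notD22 (hc_nonD none (fun h => h.1 rfl)) with b | b <;>
      rcases notD22 (hc_nonD (some 0) (fun h => h.2 rfl)) with d | d <;>
      first
        | exact i1 (a.trans b.symm)
        | exact i2 (a.trans d.symm)
        | exact i3 (b.trans d.symm)
  have hcy : ∀ y ∈ D22, c y = y := by
    intro y hy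
    symm
    apply sep22 y hy (c y) (hc_D y hy)
    intro g hg hgy
    have h1 := hcx g hg y
    rw [hgy] at h1
    exact h1.symm
  apply fix9_trivial hc
  have hsub : ((Finset.univ : Finset GolayPt).erase none).erase (some 0) ⊆ fixF c := by
    intro y hy
    simp only [Finset.mem_erase, Finset.mem_univ, and_true] at hy
    exact mem_fixF.mpr (hcy y ⟨hy.2, hy.1⟩)
  have h1 := Finset.card_le_card hsub
  rw [Finset.card_erase_of_mem (by simp), Finset.card_erase_of_mem (Finset.mem_univ _),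
    Finset.card_univ, card_GolayPt] at h1
  omega

/-- The outer automorphism group of the Mathieu group M₂₂ (the stabiliser of two points in the automorphism group of the length-24 binary code) has order 2. -/
theorem result : Nat.card (Cfsg.Out ↥Cfsg.Spor.M22) = 2 := by
  have hidx : (Inn ↥Spor.M22).index = 2 := by
    rw [Subgroup.index_eq_two_iff]
    have := M24_two_trans
    obtain ⟨g0, hg0⟩ := MulAction.exists_smul_eq M24 (emb2 none (some 0) none_ne)
      (emb2 (some 0) none (Ne.symm none_ne))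
    have g00 : (g0 : Equiv.Perm GolayPt) none = some 0 := DFunLike.congr_fun hg0 0
    have g01 : (g0 : Equiv.Perm GolayPt) (some 0) = none := DFunLike.congr_fun hg0 1
    have hpair0 : Pair (g0 : Equiv.Perm GolayPt) := Or.inr ⟨g00, g01⟩
    have hβ : conjAut g0.1 (norm_of_pair g0.2 hpair0) (norm_of_pair' g0.2 hpair0) ∉
        Inn ↥Spor.M22 := by
      rintro ⟨m, hm⟩
      have hcomm : ∀ g ∈ Spor.M22, ((m : Equiv.Perm GolayPt)⁻¹ * g0.1) * g =
          g * ((m : Equiv.Perm GolayPt)⁻¹ * g0.1) := by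
        intro g hg
        have h1 := congrArg
          (fun f : MulAut ↥Spor.M22 => ((f ⟨g, hg⟩ : ↥Spor.M22) : Equiv.Perm GolayPt)) hm
        have h2 : (m : Equiv.Perm GolayPt) * g * (m : Equiv.Perm GolayPt)⁻¹ =
            g0.1 * g * g0.1⁻¹ := h1
        calc ((m : Equiv.Perm GolayPt)⁻¹ * g0.1) * g
            = (m : Equiv.Perm GolayPt)⁻¹ * (g0.1 * g * g0.1⁻¹) * g0.1 := by group
          _ = (m : Equiv.Perm GolayPt)⁻¹ * ((m : Equiv.Perm GolayPt) * g *
                (m : Equiv.Perm GolayPt)⁻¹) * g0.1 := by rw [h2]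
          _ = g * ((m : Equiv.Perm GolayPt)⁻¹ * g0.1) := by group
      have hc1 := cent_trivial (mul_mem (inv_mem m.2.1.1) g0.2) hcomm
      rw [inv_mul_eq_one] at hc1
      have h3 : (g0 : Equiv.Perm GolayPt) none = none := by
        rw [← hc1]
        exact m.2.1.2
      rw [g00] at h3
      exact none_ne h3.symm
    refine ⟨conjAut g0.1 (norm_of_pair g0.2 hpair0) (norm_of_pair' g0.2 hpair0), fun b => ?_⟩
    obtain ⟨n, hn, hpair, hb⟩ := exists_norm b
    by_cases hbI : b ∈ Inn ↥Spor.M22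
    · right
      refine ⟨hbI, fun h => hβ ?_⟩
      have e : conjAut g0.1 (norm_of_pair g0.2 hpair0) (norm_of_pair' g0.2 hpair0) =
          b⁻¹ * (b * conjAut g0.1 (norm_of_pair g0.2 hpair0) (norm_of_pair' g0.2 hpair0)) := by
        group
      rw [e]
      exact mul_mem (inv_mem hbI) h
    · left
      refine ⟨?_, hbI⟩
      rcases hpair with ⟨a0, a1⟩ | ⟨a0, a1⟩
      · exfalso
        apply hbI
        refine ⟨⟨n, mem_M22.mpr ⟨hn, a0, a1⟩⟩, ?_⟩
        apply MulEquiv.ext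
        intro g
        apply Subtype.ext
        rw [hb g]
        rfl
      · have hng : n * g0.1 ∈ Spor.M22 := mem_M22.mpr ⟨mul_mem hn g0.2, by
          show n (g0.1 none) = none
          rw [g00, a1], by
          show n (g0.1 (some 0)) = some 0
          rw [g01, a0]⟩
        refine ⟨⟨n * g0.1, hng⟩, ?_⟩
        apply MulEquiv.ext
        intro g
        apply Subtype.ext
        show ((MulAut.conj (⟨n * g0.1, hng⟩ : ↥Spor.M22) g : ↥Spor.M22) : Equiv.Perm GolayPt) =
          ((b (conjAut g0.1 (norm_of_pair g0.2 hpair0) (norm_of_pair' g0.2 hpair0) g) :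
            ↥Spor.M22) : Equiv.Perm GolayPt)
        rw [hb]
        show (n * g0.1) * g.1 * (n * g0.1)⁻¹ = n * (g0.1 * g.1 * g0.1⁻¹) * n⁻¹
        group
  exact hidx

end Cfsg.Agent.S2062
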