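import Cfsg.Statements.S2063
import Cfsg.Agent.Helper12.OutM

set_option autoImplicit false
open Cfsg

namespace Cfsg.Agent.S2063

open Cfsg.Agent.Helper3 Cfsg.Agent.H12Out
open scoped Pointwise

theorem M24_three_trans : MulAction.IsMultiplyPretransitive M24 GolayPt 3 :=
  haveI := M24_five_trans
  MulAction.isMultiplyPretransitive_of_le (G := M24) (α := GolayPt) (n := 5) (m := 3)
    (by norm_num) (by rw [Nat.card_eq_fintype_card]; decide)

/-- an embedding of three distinct points -/
def emb3 (a b c : GolayPt) (hab : a ≠ b) (hac : a ≠ c) (hbc : b ≠ c) : Fin 3 ↪ GolayPt where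
  toFun := ![a, b, c]
  inj' := by
    intro i j hij
    fin_cases i <;> fin_cases j <;> simp_all

/-- the set of points other than `∞` -/
abbrev D23 : Set GolayPt := {y | y ≠ none}

theorem hD23 : ∀ g ∈ Spor.M23, ∀ x, g x ∈ D23 ↔ x ∈ D23 := by
  intro g hg x
  have h0 : g none = none := hg.2
  show g x ≠ none ↔ x ≠ none
  constructor
  · intro h hx
    exact h (hx ▸ h0)
  · intro h hx
    exact h (g.injective (hx.trans h0.symm))

theorem hfix23 : ∀ g ∈ Spor.M23, ∀ x, x ∉ D23 → g x = x := by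
  intro g hg x hx
  have hx' : x = none := by
    by_contra h
    exact hx h
  rw [hx']
  exact hg.2

theorem sep23 : ∀ y ∈ D23, ∀ y' ∈ D23, (∀ g ∈ Spor.M23, g y = y → g y' = y') → y = y' := by
  intro y hy y' hy' h
  by_contra hne
  obtain ⟨w, hw1, hw2, hw3⟩ : ∃ w : GolayPt, w ≠ none ∧ w ≠ y ∧ w ≠ y' := by
    by_contra hcon
    push Not at hcon
    have hsub : (Finset.univ : Finset GolayPt) ⊆ {none, y, y'} := by
      intro p _
      simp only [Finset.mem_insert, Finset.mem_singleton]
      by_cases h1 : p = none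
      · exact Or.inl h1
      · by_cases h2 : p = y
        · exact Or.inr (Or.inl h2)
        · exact Or.inr (Or.inr (hcon p h1 h2))
    have h1 := Finset.card_le_card hsub
    have h2 : ({none, y, y'} : Finset GolayPt).card ≤ 3 := Finset.card_le_three
    rw [Finset.card_univ, card_GolayPt] at h1
    omega
  have := M24_three_trans
  obtain ⟨g, hg⟩ := MulAction.exists_smul_eq M24
    (emb3 none y y' (Ne.symm hy) (Ne.symm hy') hne)
    (emb3 none y w (Ne.symm hy) (Ne.symm hw1) (Ne.symm hw2))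
  have h0 : (g : Equiv.Perm GolayPt) none = none := DFunLike.congr_fun hg 0
  have h1 : (g : Equiv.Perm GolayPt) y = y := DFunLike.congr_fun hg 1
  have h2 : (g : Equiv.Perm GolayPt) y' = w := DFunLike.congr_fun hg 2
  have h3 := h g.1 ⟨g.2, h0⟩ h1
  rw [h2] at h3
  exact hw3 h3

theorem card_stab23 (y : GolayPt) (hy : y ≠ none) :
    Nat.card ↥(MulAction.stabilizer ↥Spor.M23 y) = 443520 := by
  rw [← card_stabilizer_two_points none y (Ne.symm hy)]
  apply Nat.card_congr
  exact
    { toFun := fun g => ⟨⟨g.1.1, g.1.2.1⟩, ⟨g.1.2.2, g.2⟩⟩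
      invFun := fun g => ⟨⟨g.1.1, ⟨g.1.2, g.2.1⟩⟩, g.2.2⟩
      left_inv := fun g => rfl
      right_inv := fun g => rfl }

theorem stab23 (α : ↥Spor.M23 ≃* ↥Spor.M23) : ∀ y ∈ D23, ∃ y' ∈ D23, ∀ g : ↥Spor.M23,
    (g : Equiv.Perm GolayPt) y = y ↔ ((α g : ↥Spor.M23) : Equiv.Perm GolayPt) y' = y' := by
  intro y hy
  have hHc : Nat.card ↥(((MulAction.stabilizer ↥Spor.M23 y).map α.toMonoidHom).map
      Spor.M23.subtype) = 443520 := by
    rw [Subgroup.card_map_of_injective (Subgroup.subtype_injective _),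
      Subgroup.card_map_of_injective α.injective]
    exact card_stab23 y hy
  obtain ⟨y', hy', hfix⟩ := M23_fix_point (Subgroup.map_subtype_le _) hHc
  refine ⟨y', hy', fun g => ?_⟩
  have hle : (MulAction.stabilizer ↥Spor.M23 y).map α.toMonoidHom ≤
      MulAction.stabilizer ↥Spor.M23 y' := by
    rintro _ ⟨k, hk, rfl⟩
    exact hfix _ ⟨α k, ⟨k, hk, rfl⟩, rfl⟩
  have heq : (MulAction.stabilizer ↥Spor.M23 y).map α.toMonoidHom =
      MulAction.stabilizer ↥Spor.M23 y' := by
    apply Subgroup.eq_of_le_of_card_ge hle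
    rw [card_stab23 y' hy', Subgroup.card_map_of_injective α.injective, card_stab23 y hy]
  constructor
  · intro hg
    exact hle ⟨g, hg, rfl⟩
  · intro hg
    have h1 : α g ∈ (MulAction.stabilizer ↥Spor.M23 y).map α.toMonoidHom := by
      rw [heq]
      exact hg
    obtain ⟨k, hk, hkg⟩ := h1
    have h2 : k = g := α.injective hkg
    rw [← h2]
    exact hk

/-- The outer automorphism group of the Mathieu group M₂₃ (the stabiliser of a point in the automorphism group of the length-24 binary code) is trivial: every automorphism is inner. -/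
theorem result : Nat.card (Cfsg.Out ↥Cfsg.Spor.M23) = 1 := by
  have htop : Inn ↥Spor.M23 = ⊤ := by
    rw [eq_top_iff]
    intro α _
    obtain ⟨π, hπ0, hπ⟩ := exists_perm_of_stab Spor.M23 α D23 hD23 hfix23 sep23 (stab23 α)
    have hπnone : π none = none := hπ0 none (fun h => h rfl)
    have hπM : π ∈ M24 := by
      apply mem_M24_of_octads_none
      intro O hO hnone
      apply smul_octad_of_conj hO
      intro z hz hzO
      have hz23 : z ∈ Spor.M23 := ⟨hz, hzO none hnone⟩
      obtain ⟨k, hk⟩ : ∃ k : ↥Spor.M23, α k = ⟨z, hz23⟩ := ⟨α.symm ⟨z, hz23⟩, by simp⟩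
      have h1 := hπ k
      rw [hk] at h1
      have h1' : z = π * (k : Equiv.Perm GolayPt) * π⁻¹ := h1
      have h2 : π⁻¹ * z * π⁻¹⁻¹ = (k : Equiv.Perm GolayPt) := by
        rw [h1']
        group
      rw [h2]
      exact k.2.1
    have hπ23 : π ∈ Spor.M23 := ⟨hπM, hπnone⟩
    refine ⟨⟨π, hπ23⟩, ?_⟩
    apply MulEquiv.ext
    intro g
    apply Subtype.ext
    rw [hπ g]
    rfl
  show Nat.card (MulAut ↥Spor.M23 ⧸ Inn ↥Spor.M23) = 1
  rw [htop]
  exact Subgroup.index_top

end Cfsg.Agent.S2063
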