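import Cfsg.Statements.S2064
import Cfsg.Agent.Helper12.OutM2

set_option autoImplicit false
open Cfsg

namespace Cfsg.Agent.S2064

open Cfsg.Agent.Helper3 Cfsg.Agent.H12Out
open scoped Pointwise

/-- an embedding of two distinct points -/
def emb2 (a b : GolayPt) (hab : a ≠ b) : Fin 2 ↪ GolayPt where
  toFun := ![a, b]
  inj' := by
    intro i j hij
    fin_cases i <;> fin_cases j <;> simp_all

theorem sep24 : ∀ y ∈ (Set.univ : Set GolayPt), ∀ y' ∈ (Set.univ : Set GolayPt),
    (∀ g ∈ M24, g y = y → g y' = y') → y = y' := by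
  intro y _ y' _ h
  by_contra hne
  obtain ⟨w, hw1, hw2⟩ : ∃ w : GolayPt, w ≠ y ∧ w ≠ y' := by
    by_contra hcon
    push Not at hcon
    have hsub : (Finset.univ : Finset GolayPt) ⊆ {y, y'} := by
      intro p _
      simp only [Finset.mem_insert, Finset.mem_singleton]
      by_cases h1 : p = y
      · exact Or.inl h1
      · exact Or.inr (hcon p h1)
    have h1 := Finset.card_le_card hsub
    have h2 : ({y, y'} : Finset GolayPt).card ≤ 2 := Finset.card_le_two
    rw [Finset.card_univ, card_GolayPt] at h1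
    omega
  have := M24_two_trans
  obtain ⟨g, hg⟩ := MulAction.exists_smul_eq M24 (emb2 y y' hne) (emb2 y w (Ne.symm hw1))
  have h0 : (g : Equiv.Perm GolayPt) y = y := DFunLike.congr_fun hg 0
  have h1 : (g : Equiv.Perm GolayPt) y' = w := DFunLike.congr_fun hg 1
  have h3 := h g.1 g.2 h0
  rw [h1] at h3
  exact hw2 h3

theorem stab24 (α : ↥M24 ≃* ↥M24) : ∀ y ∈ (Set.univ : Set GolayPt),
    ∃ y' ∈ (Set.univ : Set GolayPt), ∀ g : ↥M24,
    (g : Equiv.Perm GolayPt) y = y ↔ ((α g : ↥M24) : Equiv.Perm GolayPt) y' = y' := by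
  intro y _
  have hHc : Nat.card ↥(((MulAction.stabilizer ↥M24 y).map α.toMonoidHom).map
      M24.subtype) = 10200960 := by
    rw [Subgroup.card_map_of_injective (Subgroup.subtype_injective _),
      Subgroup.card_map_of_injective α.injective]
    exact card_stabilizer_point y
  obtain ⟨y', hfix⟩ := M24_fix_point (Subgroup.map_subtype_le _) hHc
  refine ⟨y', Set.mem_univ _, fun g => ?_⟩
  have hle : (MulAction.stabilizer ↥M24 y).map α.toMonoidHom ≤
      MulAction.stabilizer ↥M24 y' := by
    rintro _ ⟨k, hk, rfl⟩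
    exact hfix _ ⟨α k, ⟨k, hk, rfl⟩, rfl⟩
  have heq : (MulAction.stabilizer ↥M24 y).map α.toMonoidHom =
      MulAction.stabilizer ↥M24 y' := by
    apply Subgroup.eq_of_le_of_card_ge hle
    rw [card_stabilizer_point y', Subgroup.card_map_of_injective α.injective,
      card_stabilizer_point y]
  constructor
  · intro hg
    exact hle ⟨g, hg, rfl⟩
  · intro hg
    have h1 : α g ∈ (MulAction.stabilizer ↥M24 y).map α.toMonoidHom := by
      rw [heq]
      exact hg
    obtain ⟨k, hk, hkg⟩ := h1
    have h2 : k = g := α.injective hkg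
    rw [← h2]
    exact hk

/-- The outer automorphism group of the Mathieu group M₂₄ (the automorphism group of the length-24 binary code) is trivial: every automorphism is inner. -/
theorem result : Nat.card (Cfsg.Out ↥Cfsg.M24) = 1 := by
  have htop : Inn ↥M24 = ⊤ := by
    rw [eq_top_iff]
    intro α _
    obtain ⟨π, _, hπ⟩ := exists_perm_of_stab M24 α Set.univ
      (fun _ _ _ => by simp) (fun _ _ x hx => absurd (Set.mem_univ x) hx) sep24 (stab24 α)
    have hπM : π ∈ M24 := by
      apply mem_M24_of_octads_none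
      intro O hO _
      apply smul_octad_of_conj hO
      intro z hz _
      obtain ⟨k, hk⟩ : ∃ k : ↥M24, α k = ⟨z, hz⟩ := ⟨α.symm ⟨z, hz⟩, by simp⟩
      have h1 := hπ k
      rw [hk] at h1
      have h1' : z = π * (k : Equiv.Perm GolayPt) * π⁻¹ := h1
      have h2 : π⁻¹ * z * π⁻¹⁻¹ = (k : Equiv.Perm GolayPt) := by
        rw [h1']
        group
      rw [h2]
      exact k.2
    refine ⟨⟨π, hπM⟩, ?_⟩
    apply MulEquiv.ext
    intro g
    apply Subtype.ext
    rw [hπ g]
    rfl
  show Nat.card (MulAut ↥M24 ⧸ Inn ↥M24) = 1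
  rw [htop]
  exact Subgroup.index_top

end Cfsg.Agent.S2064
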