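import Cfsg.Statements.S2271
import Mathlib
-- import your own Cfsg.Agent.* helpers here

set_option autoImplicit false
open Cfsg

namespace Cfsg.Agent.S2271

/-- Number of points where two permutations agree. -/
def agr {n : ℕ} (b c : Equiv.Perm (Fin n)) : ℕ := (Finset.univ.filter (fun z => b z = c z)).card

theorem card_fix_eq {n : ℕ} (a b : Equiv.Perm (Fin n)) :
    Nat.card (Function.fixedPoints ⇑(a * b)) = agr b a⁻¹ := by
  have h1 : Nat.card (Function.fixedPoints ⇑(a * b)) = Nat.card {z : Fin n // b z = a⁻¹ z} := by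
    apply Nat.card_congr
    refine Equiv.subtypeEquivRight (fun z => ?_)
    rw [Function.mem_fixedPoints, Function.IsFixedPt, Equiv.Perm.mul_apply]
    constructor
    · intro h; rw [Equiv.Perm.eq_inv_iff_eq]; exact h
    · intro h; rw [Equiv.Perm.eq_inv_iff_eq] at h; exact h
  rw [h1, Nat.card_eq_fintype_card, Fintype.card_subtype]
  rfl

theorem card_fix_comm {n : ℕ} (x y : Equiv.Perm (Fin n)) :
    Nat.card (Function.fixedPoints ⇑(x * y)) = Nat.card (Function.fixedPoints ⇑(y * x)) := by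
  apply Nat.card_congr
  refine Equiv.subtypeEquiv y (fun z => ?_)
  rw [Function.mem_fixedPoints, Function.IsFixedPt, Function.mem_fixedPoints, Function.IsFixedPt,
    Equiv.Perm.mul_apply, Equiv.Perm.mul_apply]
  constructor
  · intro h; rw [h]
  · intro h; exact y.injective h

theorem alpha {n : ℕ} (b c : Equiv.Perm (Fin n)) (u v w : Fin n) (hcu : c u = v) (hbu : b u = v)
    (huv : u ≠ v) (hwu : w ≠ u) (hwv : w ≠ v) (h1 : b w ≠ c v) (h2 : c w ≠ b v) :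
    agr (Equiv.swap v w * b * Equiv.swap v w) c + 1 ≤ agr b c := by
  unfold agr
  have hu : u ∈ Finset.univ.filter (fun z => b z = c z) := by
    rw [Finset.mem_filter]; exact ⟨Finset.mem_univ _, by rw [hcu, hbu]⟩
  have hsub : (Finset.univ.filter (fun z => (Equiv.swap v w * b * Equiv.swap v w) z = c z)) ⊆
      (Finset.univ.filter (fun z => b z = c z)).erase u := by
    intro z hz
    rw [Finset.mem_filter] at hz
    have hz2 := hz.2
    rw [Equiv.Perm.mul_apply, Equiv.Perm.mul_apply] at hz2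
    rw [Finset.mem_erase, Finset.mem_filter]
    by_cases hzu : z = u
    · exfalso
      rw [hzu, Equiv.swap_apply_of_ne_of_ne huv hwu.symm, hbu, Equiv.swap_apply_left, hcu] at hz2
      exact hwv hz2
    by_cases hzv : z = v
    · exfalso
      rw [hzv, Equiv.swap_apply_left] at hz2
      by_cases e1 : b w = v
      · exact hwu (b.injective (e1.trans hbu.symm))
      by_cases e2 : b w = w
      · rw [e2, Equiv.swap_apply_right] at hz2
        exact huv (c.injective (hcu.trans hz2))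
      · rw [Equiv.swap_apply_of_ne_of_ne e1 e2] at hz2
        exact h1 hz2
    by_cases hzw : z = w
    · exfalso
      rw [hzw, Equiv.swap_apply_right] at hz2
      by_cases e1 : b v = v
      · exact huv (b.injective (hbu.trans e1.symm))
      by_cases e2 : b v = w
      · rw [e2, Equiv.swap_apply_right] at hz2
        exact hwu (c.injective (hz2.symm.trans hcu.symm))
      · rw [Equiv.swap_apply_of_ne_of_ne e1 e2] at hz2
        exact h2 hz2.symm
    · rw [Equiv.swap_apply_of_ne_of_ne hzv hzw] at hz2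
      refine ⟨hzu, Finset.mem_univ _, ?_⟩
      by_cases e1 : b z = v
      · exact absurd (b.injective (e1.trans hbu.symm)) hzu
      by_cases e2 : b z = w
      · rw [e2, Equiv.swap_apply_right] at hz2
        exact absurd (c.injective (hz2.symm.trans hcu.symm)) hzu
      · rw [Equiv.swap_apply_of_ne_of_ne e1 e2] at hz2
        exact hz2
  have h3 := Finset.card_le_card hsub
  have h4 := Finset.card_erase_add_one hu
  omega

theorem gamma {n : ℕ} (b c τ : Equiv.Perm (Fin n)) (u2 u1 v1 w w' : Fin n)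
    (hc2 : c u2 = u1) (hc1 : c u1 = v1) (hb2 : b u2 = u1) (hb1 : b u1 = v1)
    (h21 : u2 ≠ u1) (h1v : u1 ≠ v1) (h2v : u2 ≠ v1)
    (hw2 : w ≠ u2) (hw1 : w ≠ u1) (hwv : w ≠ v1) (hw'2 : w' ≠ u2) (hw'1 : w' ≠ u1)
    (hw'v : w' ≠ v1) (hww : w ≠ w')
    (hτ1 : τ u1 = w) (hτ2 : τ w = w') (hτ3 : τ w' = u1)
    (hτ4 : ∀ z, z ≠ u1 → z ≠ w → z ≠ w' → τ z = z)
    (hgood : ¬ (b w ≠ w ∧ b w' ≠ w ∧ c (b⁻¹ w) = w')) :
    agr (τ * b * τ⁻¹) c + 1 ≤ agr b c := by
  unfold agr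
  have hi1 : τ⁻¹ u1 = w' := by rw [Equiv.Perm.inv_eq_iff_eq]; exact hτ3.symm
  have hi2 : τ⁻¹ w = u1 := by rw [Equiv.Perm.inv_eq_iff_eq]; exact hτ1.symm
  have hi3 : τ⁻¹ w' = w := by rw [Equiv.Perm.inv_eq_iff_eq]; exact hτ2.symm
  have hi4 : ∀ z, z ≠ u1 → z ≠ w → z ≠ w' → τ⁻¹ z = z := by
    intro z a1 a2 a3
    rw [Equiv.Perm.inv_eq_iff_eq]; exact (hτ4 z a1 a2 a3).symm
  have hu1 : u1 ∈ Finset.univ.filter (fun z => b z = c z) := by
    rw [Finset.mem_filter]; exact ⟨Finset.mem_univ _, by rw [hc1, hb1]⟩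
  have hu2 : u2 ∈ (Finset.univ.filter (fun z => b z = c z)).erase u1 := by
    rw [Finset.mem_erase, Finset.mem_filter]
    exact ⟨h21, Finset.mem_univ _, by rw [hc2, hb2]⟩
  have hsub : (Finset.univ.filter (fun z => (τ * b * τ⁻¹) z = c z)) ⊆
      insert w' (((Finset.univ.filter (fun z => b z = c z)).erase u1).erase u2) := by
    intro z hz
    rw [Finset.mem_filter] at hz
    have hz2 := hz.2
    rw [Equiv.Perm.mul_apply, Equiv.Perm.mul_apply] at hz2
    rw [Finset.mem_insert, Finset.mem_erase, Finset.mem_erase, Finset.mem_filter]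
    by_cases hzw' : z = w'
    · exact Or.inl hzw'
    right
    by_cases hz2' : z = u2
    · exfalso
      rw [hz2', hi4 u2 h21 hw2.symm hw'2.symm, hb2, hτ1, hc2] at hz2
      exact hw1 hz2
    by_cases hz1 : z = u1
    · exfalso
      rw [hz1, hi1, hc1] at hz2
      have e : τ (b w') = τ v1 := by rw [hz2, hτ4 v1 h1v.symm hwv.symm hw'v.symm]
      have e2 := b.injective ((τ.injective e).trans hb1.symm)
      exact hw'1 e2
    by_cases hzw : z = w
    · exfalso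
      rw [hzw, hi2, hb1, hτ4 v1 h1v.symm hwv.symm hw'v.symm] at hz2
      exact hw1 (c.injective (hz2.symm.trans hc1.symm))
    · rw [hi4 z hz1 hzw hzw'] at hz2
      refine ⟨hz2', hz1, Finset.mem_univ _, ?_⟩
      by_cases e1 : b z = u1
      · exact absurd (b.injective (e1.trans hb2.symm)) hz2'
      by_cases e2 : b z = w
      · exfalso
        rw [e2, hτ2] at hz2
        apply hgood
        refine ⟨fun e => hzw (b.injective (e2.trans e.symm)),
          fun e => hzw' (b.injective (e2.trans e.symm)), ?_⟩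
        have : b⁻¹ w = z := by rw [Equiv.Perm.inv_eq_iff_eq]; exact e2.symm
        rw [this]; exact hz2.symm
      by_cases e3 : b z = w'
      · exfalso
        rw [e3, hτ3] at hz2
        exact hz2' (c.injective (hz2.symm.trans hc2.symm))
      · rw [hτ4 _ e1 e2 e3] at hz2
        exact hz2
  have h3 := Finset.card_le_card hsub
  have h4 := Finset.card_insert_le w' (((Finset.univ.filter (fun z => b z = c z)).erase u1).erase u2)
  have h5 := Finset.card_erase_add_one hu1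
  have h6 := Finset.card_erase_add_one hu2
  omega

theorem two_outside {n : ℕ} (hn : 5 ≤ n) (x y z : Fin n) :
    ∃ p q : Fin n, p ≠ x ∧ p ≠ y ∧ p ≠ z ∧ q ≠ x ∧ q ≠ y ∧ q ≠ z ∧ p ≠ q := by
  classical
  have h1 : 1 < (Finset.univ \ ({x, y, z} : Finset (Fin n))).card := by
    have h2 := Finset.card_le_card_sdiff_add_card (s := (Finset.univ : Finset (Fin n)))
      (t := ({x, y, z} : Finset (Fin n)))
    have h3 : ({x, y, z} : Finset (Fin n)).card ≤ 3 := Finset.card_le_three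
    rw [Finset.card_univ, Fintype.card_fin] at h2
    omega
  obtain ⟨p, hp, q, hq, hpq⟩ := Finset.one_lt_card.mp h1
  simp only [Finset.mem_sdiff, Finset.mem_univ, Finset.mem_insert, Finset.mem_singleton,
    true_and, not_or] at hp hq
  exact ⟨p, q, hp.1, hp.2.1, hp.2.2, hq.1, hq.2.1, hq.2.2, hpq⟩

theorem exists_good {n : ℕ} (hn : 5 ≤ n) (b c : Equiv.Perm (Fin n)) (u2 u1 v1 : Fin n)
    (hb2 : b u2 = u1) (hb1 : b u1 = v1) :
    ∃ w w' : Fin n, w ≠ u2 ∧ w ≠ u1 ∧ w ≠ v1 ∧ w' ≠ u2 ∧ w' ≠ u1 ∧ w' ≠ v1 ∧ w ≠ w' ∧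
      ¬ (b w ≠ w ∧ b w' ≠ w ∧ c (b⁻¹ w) = w') := by
  obtain ⟨p, q, hp2, hp1, hpv, hq2, hq1, hqv, hpq⟩ := two_outside hn u2 u1 v1
  by_cases g1 : ¬ (b p ≠ p ∧ b q ≠ p ∧ c (b⁻¹ p) = q)
  · exact ⟨p, q, hp2, hp1, hpv, hq2, hq1, hqv, hpq, g1⟩
  by_cases g2 : ¬ (b q ≠ q ∧ b p ≠ q ∧ c (b⁻¹ q) = p)
  · exact ⟨q, p, hq2, hq1, hqv, hp2, hp1, hpv, hpq.symm, g2⟩
  rw [not_not] at g1 g2
  obtain ⟨a1, a2, a3⟩ := g1
  obtain ⟨d1, d2, d3⟩ := g2
  have hbz : b (b⁻¹ p) = p := by simp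
  have hbz' : b (b⁻¹ q) = q := by simp
  -- third point
  have key : ∀ r : Fin n, (b r = p ∨ b r = q) → r ≠ v1 → c (b⁻¹ p) = q →
      ∃ w w' : Fin n, w ≠ u2 ∧ w ≠ u1 ∧ w ≠ v1 ∧ w' ≠ u2 ∧ w' ≠ u1 ∧ w' ≠ v1 ∧ w ≠ w' ∧
      ¬ (b w ≠ w ∧ b w' ≠ w ∧ c (b⁻¹ w) = w') := by
    intro r hr hrv hcp
    have hr2 : r ≠ u2 := by
      rintro rfl
      rcases hr with h | h
      · rw [hb2] at h; exact hp1 h.symm
      · rw [hb2] at h; exact hq1 h.symm
    have hr1 : r ≠ u1 := by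
      rintro rfl
      rcases hr with h | h
      · rw [hb1] at h; exact hpv h.symm
      · rw [hb1] at h; exact hqv h.symm
    have hrp : r ≠ p := by
      rintro rfl
      rcases hr with h | h
      · exact a1 h
      · exact d2 h
    have hrq : r ≠ q := by
      rintro rfl
      rcases hr with h | h
      · exact a2 h
      · exact d1 h
    refine ⟨p, r, hp2, hp1, hpv, hr2, hr1, hrv, hrp.symm, ?_⟩
    rintro ⟨-, -, e⟩
    rw [hcp] at e
    exact hrq e.symm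
  by_cases hv : b⁻¹ p = v1
  · have hne : b⁻¹ q ≠ v1 := by
      intro h
      have : b⁻¹ p = b⁻¹ q := hv.trans h.symm
      exact hpq ((b⁻¹).injective this)
    exact key (b⁻¹ q) (Or.inr hbz') hne a3
  · exact key (b⁻¹ p) (Or.inl hbz) hv a3

theorem trans2 {n : ℕ} (k l u v : Fin n) (hkl : k ≠ l) (huv : u ≠ v) :
    ∃ h : Equiv.Perm (Fin n), h k = u ∧ h l = v := by
  have e1 : Equiv.swap k u l ≠ u := by
    intro h
    have h2 : Equiv.swap k u l = Equiv.swap k u k := by rw [h, Equiv.swap_apply_left]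
    exact hkl ((Equiv.swap k u).injective h2).symm
  refine ⟨Equiv.swap (Equiv.swap k u l) v * Equiv.swap k u, ?_, ?_⟩
  · rw [Equiv.Perm.mul_apply, Equiv.swap_apply_left, Equiv.swap_apply_of_ne_of_ne e1.symm huv]
  · rw [Equiv.Perm.mul_apply, Equiv.swap_apply_left]

theorem trans3 {n : ℕ} (k2 k1 l1 u2 u1 v1 : Fin n) (hk21 : k2 ≠ k1) (hk2l : k2 ≠ l1)
    (hk1l : k1 ≠ l1) (hu21 : u2 ≠ u1) (hu2v : u2 ≠ v1) (hu1v : u1 ≠ v1) :
    ∃ h : Equiv.Perm (Fin n), h k2 = u2 ∧ h k1 = u1 ∧ h l1 = v1 := by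
  obtain ⟨h0, h01, h02⟩ := trans2 k2 k1 u2 u1 hk21 hu21
  have e1 : h0 l1 ≠ u2 := by
    intro h; exact hk2l (h0.injective (h01.trans h.symm))
  have e2 : h0 l1 ≠ u1 := by
    intro h; exact hk1l (h0.injective (h02.trans h.symm))
  refine ⟨Equiv.swap (h0 l1) v1 * h0, ?_, ?_, ?_⟩
  · rw [Equiv.Perm.mul_apply, h01, Equiv.swap_apply_of_ne_of_ne e1.symm hu2v]
  · rw [Equiv.Perm.mul_apply, h02, Equiv.swap_apply_of_ne_of_ne e2.symm hu1v]
  · rw [Equiv.Perm.mul_apply, Equiv.swap_apply_left]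

theorem conj_apply' {n : ℕ} (h b : Equiv.Perm (Fin n)) (k u : Fin n) (hk : h k = u) :
    (h * b * h⁻¹) u = h (b k) := by
  rw [Equiv.Perm.mul_apply, Equiv.Perm.mul_apply]
  have : h⁻¹ u = k := by rw [Equiv.Perm.inv_eq_iff_eq]; exact hk.symm
  rw [this]

theorem exists_moved {n : ℕ} (c : Equiv.Perm (Fin n)) (hc : c ≠ 1) : ∃ u, c u ≠ u := by
  by_contra h
  push Not at h
  exact hc (Equiv.Perm.ext (fun x => by rw [h x]; rfl))

theorem caseII {n : ℕ} (hn : 5 ≤ n) (a b : Equiv.Perm (Fin n)) (ha : a ≠ 1) (hb : b ≠ 1)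
    (hinv : ∀ k, b (b k) = k) :
    ∃ h₁ h₂ : Equiv.Perm (Fin n), h₁ ∈ alternatingGroup (Fin n) ∧
      h₂ ∈ alternatingGroup (Fin n) ∧
      Nat.card (Function.fixedPoints ⇑(a * (h₁ * b * h₁⁻¹))) ≠
        Nat.card (Function.fixedPoints ⇑(a * (h₂ * b * h₂⁻¹))) := by
  classical
  obtain ⟨u, hu⟩ := exists_moved a⁻¹ (by
    intro h; exact ha (inv_eq_one.mp h))
  obtain ⟨k, hk⟩ := exists_moved b hb
  obtain ⟨h0, h01, h02⟩ := trans2 k (b k) u (a⁻¹ u) hk.symm hu.symm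
  obtain ⟨b', hb'⟩ : ∃ b' : Equiv.Perm (Fin n), b' = h0 * b * h0⁻¹ := ⟨_, rfl⟩
  have hb'u : b' u = a⁻¹ u := by rw [hb', conj_apply' h0 b k u h01, h02]
  have hb'v : b' (a⁻¹ u) = u := by rw [hb', conj_apply' h0 b (b k) (a⁻¹ u) h02, hinv, h01]
  obtain ⟨w, hw⟩ : ∃ w : Fin n, w ∉ ({u, a⁻¹ u, b'⁻¹ (a⁻¹ (a⁻¹ u)), a u} : Finset (Fin n)) := by
    by_contra hcon
    push Not at hcon
    have h1 : (Finset.univ : Finset (Fin n)).card ≤
        ({u, a⁻¹ u, b'⁻¹ (a⁻¹ (a⁻¹ u)), a u} : Finset (Fin n)).card :=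
      Finset.card_le_card (fun x _ => hcon x)
    have h2 : ({u, a⁻¹ u, b'⁻¹ (a⁻¹ (a⁻¹ u)), a u} : Finset (Fin n)).card ≤ 4 :=
      Finset.card_le_four
    rw [Finset.card_univ, Fintype.card_fin] at h1
    omega
  simp only [Finset.mem_insert, Finset.mem_singleton, not_or] at hw
  obtain ⟨hw1, hw2, hw3, hw4⟩ := hw
  have hα := alpha b' a⁻¹ u (a⁻¹ u) w rfl hb'u hu.symm hw1 hw2
    (by
      intro h
      apply hw3
      rw [Equiv.Perm.eq_inv_iff_eq]; exact h)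
    (by
      rw [hb'v]
      intro h
      apply hw4
      rw [Equiv.Perm.inv_eq_iff_eq] at h; exact h)
  -- parity bookkeeping
  obtain ⟨κ, hκ⟩ : ∃ κ : Equiv.Perm (Fin n), κ = Equiv.swap k (b k) := ⟨_, rfl⟩
  have hκsign : Equiv.Perm.sign κ = -1 := by rw [hκ]; exact Equiv.Perm.sign_swap hk.symm
  have hκb : κ * b * κ⁻¹ = b := by
    rw [hκ, Equiv.swap_inv]
    ext z
    rw [Equiv.Perm.mul_apply, Equiv.Perm.mul_apply]
    by_cases hz1 : z = k
    · rw [hz1, Equiv.swap_apply_left, hinv, Equiv.swap_apply_left]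
    by_cases hz2 : z = b k
    · rw [hz2, Equiv.swap_apply_right, Equiv.swap_apply_right, hinv]
    · rw [Equiv.swap_apply_of_ne_of_ne hz1 hz2]
      have e1 : b z ≠ k := by
        intro h
        apply hz2
        rw [← h, hinv]
      have e2 : b z ≠ b k := fun h => hz1 (b.injective h)
      rw [Equiv.swap_apply_of_ne_of_ne e1 e2]
  have hconjκ : ∀ h : Equiv.Perm (Fin n), (h * κ) * b * (h * κ)⁻¹ = h * b * h⁻¹ := by
    intro h
    rw [mul_inv_rev]
    calc h * κ * b * (κ⁻¹ * h⁻¹) = h * (κ * b * κ⁻¹) * h⁻¹ := by group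
      _ = h * b * h⁻¹ := by rw [hκb]
  obtain ⟨t, ht⟩ : ∃ t : Equiv.Perm (Fin n), t = Equiv.swap (a⁻¹ u) w := ⟨_, rfl⟩
  have htsign : Equiv.Perm.sign t = -1 := by rw [ht]; exact Equiv.Perm.sign_swap (Ne.symm hw2)
  have htinv : t⁻¹ = t := by rw [ht, Equiv.swap_inv]
  have hb'' : (t * h0) * b * (t * h0)⁻¹ = t * b' * t := by
    rw [hb', mul_inv_rev, htinv]; group
  rw [← ht] at hα
  have hne : agr b' a⁻¹ ≠ agr (t * b' * t) a⁻¹ := by omega
  rcases Int.units_eq_one_or (Equiv.Perm.sign h0) with hs | hs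
  · refine ⟨h0, t * h0 * κ, Equiv.Perm.mem_alternatingGroup.mpr hs,
      Equiv.Perm.mem_alternatingGroup.mpr (by
        rw [Equiv.Perm.sign_mul, Equiv.Perm.sign_mul, htsign, hs, hκsign]; rfl), ?_⟩
    rw [card_fix_eq, card_fix_eq, hconjκ (t * h0), hb'', ← hb']
    exact hne
  · refine ⟨h0 * κ, t * h0, Equiv.Perm.mem_alternatingGroup.mpr (by
        rw [Equiv.Perm.sign_mul, hs, hκsign]; rfl),
      Equiv.Perm.mem_alternatingGroup.mpr (by
        rw [Equiv.Perm.sign_mul, htsign, hs]; rfl), ?_⟩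
    rw [card_fix_eq, card_fix_eq, hconjκ h0, hb'', ← hb']
    exact hne

theorem caseI {n : ℕ} (hn : 5 ≤ n) (a b : Equiv.Perm (Fin n)) (k : Fin n) (hk : b (b k) ≠ k)
    (u : Fin n) (hu : a (a u) ≠ u) :
    ∃ h₁ h₂ : Equiv.Perm (Fin n), h₁ ∈ alternatingGroup (Fin n) ∧
      h₂ ∈ alternatingGroup (Fin n) ∧
      Nat.card (Function.fixedPoints ⇑(a * (h₁ * b * h₁⁻¹))) ≠
        Nat.card (Function.fixedPoints ⇑(a * (h₂ * b * h₂⁻¹))) := by
  classical
  -- the path u2 → u1 → v1 of c = a⁻¹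
  have hc2 : a⁻¹ (a (a u)) = a u := by simp
  have hc1 : a⁻¹ (a u) = u := by simp
  have hu21 : a (a u) ≠ a u := fun h => hu (by rw [a.injective h]; exact a.injective h)
  have hu1v : a u ≠ u := fun h => hu (by rw [h, h])
  have hk21 : k ≠ b k := fun h => hk (by rw [← h, ← h])
  have hk1l : b k ≠ b (b k) := fun h => hk21 (b.injective h)
  obtain ⟨h0, h01, h02, h03⟩ := trans3 k (b k) (b (b k)) (a (a u)) (a u) u hk21 hk.symm hk1l
    hu21 hu hu1v
  obtain ⟨p, q, hp1, hp2, hp3, hq1, hq2, hq3, hpq⟩ := two_outside hn k (b k) (b (b k))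
  obtain ⟨h1, h1s, h11, h12, h13⟩ : ∃ h1 : Equiv.Perm (Fin n), Equiv.Perm.sign h1 = 1 ∧
      h1 k = a (a u) ∧ h1 (b k) = a u ∧ h1 (b (b k)) = u := by
    rcases Int.units_eq_one_or (Equiv.Perm.sign h0) with hs | hs
    · exact ⟨h0, hs, h01, h02, h03⟩
    · refine ⟨h0 * Equiv.swap p q, ?_, ?_, ?_, ?_⟩
      · rw [Equiv.Perm.sign_mul, hs, Equiv.Perm.sign_swap hpq]; rfl
      · rw [Equiv.Perm.mul_apply, Equiv.swap_apply_of_ne_of_ne hp1.symm hq1.symm, h01]
      · rw [Equiv.Perm.mul_apply, Equiv.swap_apply_of_ne_of_ne hp2.symm hq2.symm, h02]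
      · rw [Equiv.Perm.mul_apply, Equiv.swap_apply_of_ne_of_ne hp3.symm hq3.symm, h03]
  obtain ⟨b', hb'⟩ : ∃ b' : Equiv.Perm (Fin n), b' = h1 * b * h1⁻¹ := ⟨_, rfl⟩
  have hb2 : b' (a (a u)) = a u := by rw [hb', conj_apply' h1 b k _ h11, h12]
  have hb1 : b' (a u) = u := by rw [hb', conj_apply' h1 b (b k) _ h12, h13]
  obtain ⟨w, w', hw2, hw1, hwv, hw'2, hw'1, hw'v, hww, hgood⟩ :=
    exists_good hn b' a⁻¹ (a (a u)) (a u) u hb2 hb1
  obtain ⟨τ, hτ⟩ : ∃ τ : Equiv.Perm (Fin n), τ = Equiv.swap (a u) w' * Equiv.swap (a u) w :=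
    ⟨_, rfl⟩
  have hτ1 : τ (a u) = w := by
    rw [hτ, Equiv.Perm.mul_apply, Equiv.swap_apply_left, Equiv.swap_apply_of_ne_of_ne hw1 hww]
  have hτ2 : τ w = w' := by
    rw [hτ, Equiv.Perm.mul_apply, Equiv.swap_apply_right, Equiv.swap_apply_left]
  have hτ3 : τ w' = a u := by
    rw [hτ, Equiv.Perm.mul_apply, Equiv.swap_apply_of_ne_of_ne hw'1 hww.symm,
      Equiv.swap_apply_right]
  have hτ4 : ∀ z, z ≠ a u → z ≠ w → z ≠ w' → τ z = z := by
    intro z z1 z2 z3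
    rw [hτ, Equiv.Perm.mul_apply, Equiv.swap_apply_of_ne_of_ne z1 z2,
      Equiv.swap_apply_of_ne_of_ne z1 z3]
  have hτs : Equiv.Perm.sign τ = 1 := by
    rw [hτ, Equiv.Perm.sign_mul, Equiv.Perm.sign_swap hw'1.symm, Equiv.Perm.sign_swap hw1.symm]
    rfl
  have hγ := gamma b' a⁻¹ τ (a (a u)) (a u) u w w' hc2 hc1 hb2 hb1 hu21 hu1v hu
    hw2 hw1 hwv hw'2 hw'1 hw'v hww hτ1 hτ2 hτ3 hτ4 hgood
  have hb'' : (τ * h1) * b * (τ * h1)⁻¹ = τ * b' * τ⁻¹ := by
    rw [hb', mul_inv_rev]; group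
  refine ⟨h1, τ * h1, Equiv.Perm.mem_alternatingGroup.mpr h1s,
    Equiv.Perm.mem_alternatingGroup.mpr (by rw [Equiv.Perm.sign_mul, hτs, h1s]; rfl), ?_⟩
  rw [card_fix_eq, card_fix_eq, hb'', ← hb']
  omega


/-- Let n ≥ 5 and let a, b be non-identity permutations in the symmetric group S_n. Then the number of fixed points is not constant on the set of products a′b′ with a′ conjugate to a and b′ conjugate to b under the alternating group: there are even permutations g₁, h₁, g₂, h₂ such that (g₁ a g₁⁻¹)(h₁ b h₁⁻¹) and (g₂ a g₂⁻¹)(h₂ b h₂⁻¹) have different numbers of fixed points. -/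
theorem result (n : ℕ) (hn : 5 ≤ n) (a b : Equiv.Perm (Fin n)) (ha : a ≠ 1) (hb : b ≠ 1) :
    ∃ g₁ h₁ g₂ h₂ : Equiv.Perm (Fin n), g₁ ∈ alternatingGroup (Fin n) ∧ h₁ ∈ alternatingGroup (Fin n) ∧ g₂ ∈ alternatingGroup (Fin n) ∧ h₂ ∈ alternatingGroup (Fin n) ∧
      Nat.card (Function.fixedPoints ⇑(g₁ * a * g₁⁻¹ * (h₁ * b * h₁⁻¹))) ≠
        Nat.card (Function.fixedPoints ⇑(g₂ * a * g₂⁻¹ * (h₂ * b * h₂⁻¹))) := by
  by_cases hB : ∃ k, b (b k) ≠ k
  · by_cases hA : ∃ u, a (a u) ≠ u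
    · obtain ⟨k, hk⟩ := hB
      obtain ⟨u, hu⟩ := hA
      obtain ⟨h₁, h₂, e1, e2, hne⟩ := caseI hn a b k hk u hu
      refine ⟨1, h₁, 1, h₂, Subgroup.one_mem _, e1, Subgroup.one_mem _, e2, ?_⟩
      simp only [one_mul, inv_one, mul_one]
      exact hne
    · push Not at hA
      obtain ⟨h₁, h₂, e1, e2, hne⟩ := caseII hn b a hb ha hA
      refine ⟨h₁, 1, h₂, 1, e1, Subgroup.one_mem _, e2, Subgroup.one_mem _, ?_⟩
      simp only [one_mul, inv_one, mul_one]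
      rw [card_fix_comm (h₁ * a * h₁⁻¹) b, card_fix_comm (h₂ * a * h₂⁻¹) b]
      exact hne
  · push Not at hB
    obtain ⟨h₁, h₂, e1, e2, hne⟩ := caseII hn a b ha hb hB
    refine ⟨1, h₁, 1, h₂, Subgroup.one_mem _, e1, Subgroup.one_mem _, e2, ?_⟩
    simp only [one_mul, inv_one, mul_one]
    exact hne

end Cfsg.Agent.S2271
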