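import Cfsg.Statements.S2277
import Mathlib
import Cfsg.Agent.Helper10.PComp
import Cfsg.Agent.Helper10.FStar
import Cfsg.Agent.Helper20.FixCount
-- import your own Cfsg.Agent.* helpers here

set_option autoImplicit false
open Cfsg

namespace Cfsg.Agent.S2277

universe u

open Subgroup in
theorem inf_bot_h20 {G : Type*} [Group G] [Finite G] {p : ℕ} [Fact p.Prime] {P N : Subgroup G}
    (hP : IsPGroup p P) (hN : (Nat.card N).Coprime p) : N ⊓ P = ⊥ := by
  obtain ⟨k, hk⟩ := IsPGroup.iff_card.mp hP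
  apply Subgroup.inf_eq_bot_of_coprime
  rw [hk]
  exact Nat.Coprime.pow_right k hN

theorem mem_sup_of_norm_h20 {G : Type*} [Group G] {A B : Subgroup G}
    (h : B ≤ Subgroup.normalizer (A : Set G)) {x : G} (hx : x ∈ A ⊔ B) :
    ∃ a ∈ A, ∃ b ∈ B, x = a * b := by
  rw [Subgroup.sup_eq_closure] at hx
  induction hx using Subgroup.closure_induction with
  | mem x hx =>
    rcases hx with hx | hx
    · exact ⟨x, hx, 1, B.one_mem, by simp⟩
    · exact ⟨1, A.one_mem, x, hx, by simp⟩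
  | one => exact ⟨1, A.one_mem, 1, B.one_mem, by simp⟩
  | mul x y _ _ ihx ihy =>
    obtain ⟨a1, ha1, b1, hb1, rfl⟩ := ihx
    obtain ⟨a2, ha2, b2, hb2, rfl⟩ := ihy
    refine ⟨a1 * (b1 * a2 * b1⁻¹),
      A.mul_mem ha1 ((Subgroup.mem_normalizer_iff.mp (h hb1) a2).mp ha2), b1 * b2,
      B.mul_mem hb1 hb2, by group⟩
  | inv x _ ihx =>
    obtain ⟨a, ha, b, hb, rfl⟩ := ihx
    refine ⟨b⁻¹ * a⁻¹ * b⁻¹⁻¹, ?_, b⁻¹, B.inv_mem hb, by group⟩
    exact (Subgroup.mem_normalizer_iff.mp (h (B.inv_mem hb)) a⁻¹).mp (A.inv_mem ha)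

/-- the hypothesis gives `N = C_N(d) C_N(c)` -/
theorem factor_h20 {G : Type*} [Group G] [Finite G] {p : ℕ} [hp : Fact p.Prime]
    (P N : Subgroup G) [hNn : N.Normal]
    (hP : IsPGroup p P) (hN : (Nat.card N).Coprime p) (hNP : N ⊔ P = ⊤)
    (x c d : G) (hx : x ∈ N) (hc : c ∈ P) (hd : d ∈ P)
    (h : IsPGroup p ↥(Subgroup.closure ({x * c * x⁻¹, d} : Set G))) :
    ∃ y ∈ N, y * d = d * y ∧ (y⁻¹ * x) * c = c * (y⁻¹ * x) := by
  have hinf : N ⊓ P = ⊥ := inf_bot_h20 hP hN
  have hidx : ¬ p ∣ Nat.card (G ⧸ P) := by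
    rw [← Subgroup.index_eq_card]
    have h1 := Cfsg.Agent.Helper10.relIndex_sup_dvd_card P N
    rw [sup_comm, hNP, Subgroup.relIndex_top_right] at h1
    intro h2
    exact (Nat.Prime.coprime_iff_not_dvd hp.out).mp hN.symm (h2.trans h1)
  obtain ⟨q, hq⟩ := h.nonempty_fixed_point_of_prime_not_dvd_card (G ⧸ P) hidx
  obtain ⟨g, rfl⟩ := QuotientGroup.mk_surjective q
  have hfixg : ∀ s ∈ Subgroup.closure ({x * c * x⁻¹, d} : Set G), g⁻¹ * s * g ∈ P := by
    intro s hs
    have h1 := hq ⟨s, hs⟩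
    have h2 : ((s * g : G) : G ⧸ P) = (g : G ⧸ P) := h1
    rw [QuotientGroup.eq] at h2
    have h3 := P.inv_mem h2
    have e : ((s * g)⁻¹ * g)⁻¹ = g⁻¹ * s * g := by group
    rwa [e] at h3
  have hg : g ∈ N ⊔ P := by rw [hNP]; trivial
  obtain ⟨y, hy, u, hu, rfl⟩ := Subgroup.mem_sup_of_normal_left.mp hg
  have hP' : ∀ s ∈ Subgroup.closure ({x * c * x⁻¹, d} : Set G), y⁻¹ * s * y ∈ P := by
    intro s hs
    have h1 := hfixg s hs
    have h2 := P.mul_mem (P.mul_mem hu h1) (P.inv_mem hu)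
    have e : u * ((y * u)⁻¹ * s * (y * u)) * u⁻¹ = y⁻¹ * s * y := by group
    rwa [e] at h2
  have hmemP : ∀ w ∈ N, ∀ e ∈ P, w * e * w⁻¹ ∈ P → w * e = e * w := by
    intro w hw e he hwe
    have h1 : e⁻¹ * (w * e * w⁻¹) ∈ P := P.mul_mem (P.inv_mem he) hwe
    have h2 : e⁻¹ * (w * e * w⁻¹) ∈ N := by
      have h3 : e⁻¹ * w * e⁻¹⁻¹ ∈ N := hNn.conj_mem w hw e⁻¹
      have h4 := N.mul_mem h3 (N.inv_mem hw)
      have e2 : e⁻¹ * w * e⁻¹⁻¹ * w⁻¹ = e⁻¹ * (w * e * w⁻¹) := by group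
      rwa [e2] at h4
    have h5 : e⁻¹ * (w * e * w⁻¹) ∈ N ⊓ P := ⟨h2, h1⟩
    rw [hinf, Subgroup.mem_bot] at h5
    calc w * e = e * (e⁻¹ * (w * e * w⁻¹)) * w := by group
      _ = e * w := by rw [h5, mul_one]
  refine ⟨y, hy, ?_, ?_⟩
  · have h1 := hP' d (Subgroup.subset_closure (by simp))
    have h2 := hmemP y⁻¹ (N.inv_mem hy) d hd (by simpa using h1)
    calc y * d = y * (y⁻¹ * d) * y := by rw [h2]; group
      _ = d * y := by group
  · have h1 := hP' (x * c * x⁻¹) (Subgroup.subset_closure (by simp))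
    apply hmemP (y⁻¹ * x) (N.mul_mem (N.inv_mem hy) hx) c hc
    have e : y⁻¹ * x * c * (y⁻¹ * x)⁻¹ = y⁻¹ * (x * c * x⁻¹) * y := by group
    rwa [e]

/-- coprime stability -/
theorem central_of_stable_h20 {G : Type*} [Group G] [Finite G] {p : ℕ} [hp : Fact p.Prime]
    (P N M : Subgroup G)
    (hP : IsPGroup p P) (hN : (Nat.card N).Coprime p) (hMN : M ≤ N)
    (h1 : ∀ u ∈ P, ∀ m ∈ M, u * m = m * u)
    (h2 : ∀ u ∈ P, ∀ x ∈ N, u * x * u⁻¹ * x⁻¹ ∈ M) :
    ∀ u ∈ P, ∀ x ∈ N, u * x = x * u := by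
  intro u hu x hx
  obtain ⟨m, hmdef⟩ : ∃ m, m = u * x * u⁻¹ * x⁻¹ := ⟨_, rfl⟩
  have hmM : m ∈ M := hmdef ▸ h2 u hu x hx
  have hux : u * x * u⁻¹ = m * x := by rw [hmdef]; group
  have hum : ∀ k : ℕ, u * m ^ k = m ^ k * u := fun k => h1 u hu _ (M.pow_mem hmM k)
  have hpow : ∀ k : ℕ, u ^ k * x * (u ^ k)⁻¹ = m ^ k * x := by
    intro k
    induction k with
    | zero => simp
    | succ k ih =>
      calc u ^ (k + 1) * x * (u ^ (k + 1))⁻¹ = u * (u ^ k * x * (u ^ k)⁻¹) * u⁻¹ := by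
            rw [pow_succ']; group
        _ = u * (m ^ k * x) * u⁻¹ := by rw [ih]
        _ = (u * m ^ k) * u⁻¹ * (u * x * u⁻¹) := by group
        _ = (m ^ k * u) * u⁻¹ * (m * x) := by rw [hum k, hux]
        _ = m ^ (k + 1) * x := by rw [pow_succ]; group
  obtain ⟨j, hj⟩ := hP ⟨u, hu⟩
  have huj : u ^ (p ^ j) = 1 := by
    have := congrArg Subtype.val hj
    simpa using this
  have h3 := hpow (p ^ j)
  rw [huj] at h3
  have hmj : m ^ (p ^ j) = 1 := by
    have : m ^ (p ^ j) * x = x := by simpa using h3.symm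
    exact mul_eq_right.mp this
  have ho1 : orderOf m ∣ p ^ j := orderOf_dvd_of_pow_eq_one hmj
  have ho2 : orderOf m ∣ Nat.card N := Subgroup.orderOf_dvd_natCard N (hMN hmM)
  have hcop : (Nat.card N).Coprime (p ^ j) := Nat.Coprime.pow_right j hN
  have ho : orderOf m = 1 := Nat.eq_one_of_dvd_coprimes hcop ho2 ho1
  rw [orderOf_eq_one_iff] at ho
  rw [ho, one_mul] at hux
  calc u * x = (u * x * u⁻¹) * u := by group
    _ = x * u := by rw [hux]

/-- a `P`-invariant Sylow `r`-subgroup of `N` -/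
theorem exists_inv_sylow_h20 {G : Type*} [Group G] [Finite G] {p : ℕ} [hp : Fact p.Prime]
    (P N : Subgroup G) [hNn : N.Normal]
    (hP : IsPGroup p P) (hN : (Nat.card N).Coprime p) (r : ℕ) [hr : Fact r.Prime] :
    ∃ R : Subgroup G, R ≤ N ∧ P ≤ Subgroup.normalizer (R : Set G) ∧
      Nat.card R = r ^ (Nat.card N).factorization r := by
  obtain ⟨R₀⟩ : Nonempty (Sylow r ↥N) := inferInstance
  set R1 : Subgroup G := (R₀ : Subgroup ↥N).map N.subtype with hR1
  have hR1N : R1 ≤ N := by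
    rintro x ⟨y, -, rfl⟩
    exact y.2
  have hR1card : Nat.card R1 = r ^ (Nat.card N).factorization r := by
    rw [hR1, Subgroup.card_map_of_injective N.subtype_injective]
    exact R₀.card_eq_multiplicity
  have hFr : Subgroup.normalizer (R1 : Set G) ⊔ N = ⊤ := Sylow.normalizer_sup_eq_top R₀
  have hidx : ¬ p ∣ Nat.card (G ⧸ Subgroup.normalizer (R1 : Set G)) := by
    rw [← Subgroup.index_eq_card]
    have h1 := Cfsg.Agent.Helper10.relIndex_sup_dvd_card (Subgroup.normalizer (R1 : Set G)) N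
    rw [hFr, Subgroup.relIndex_top_right] at h1
    intro h2
    exact (Nat.Prime.coprime_iff_not_dvd hp.out).mp hN.symm (h2.trans h1)
  obtain ⟨q, hq⟩ := hP.nonempty_fixed_point_of_prime_not_dvd_card
    (G ⧸ Subgroup.normalizer (R1 : Set G)) hidx
  obtain ⟨g, rfl⟩ := QuotientGroup.mk_surjective q
  have hfixg : ∀ s ∈ P, g⁻¹ * s * g ∈ Subgroup.normalizer (R1 : Set G) := by
    intro s hs
    have h1 := hq ⟨s, hs⟩
    have h2 : ((s * g : G) : G ⧸ Subgroup.normalizer (R1 : Set G)) = (g : G ⧸ _) := h1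
    rw [QuotientGroup.eq] at h2
    have h3 := (Subgroup.normalizer (R1 : Set G)).inv_mem h2
    have e : ((s * g)⁻¹ * g)⁻¹ = g⁻¹ * s * g := by group
    rwa [e] at h3
  set R : Subgroup G := R1.map (MulAut.conj g).toMonoidHom with hR
  have hmemR : ∀ h : G, h ∈ R ↔ g⁻¹ * h * g ∈ R1 := by
    intro h
    rw [hR, Subgroup.mem_map]
    constructor
    · rintro ⟨y, hy, rfl⟩
      have : g⁻¹ * ((MulAut.conj g).toMonoidHom y) * g = y := by
        show g⁻¹ * (g * y * g⁻¹) * g = y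
        group
      rw [this]; exact hy
    · intro hh
      refine ⟨g⁻¹ * h * g, hh, ?_⟩
      simp [MulAut.conj_apply, mul_assoc]
  refine ⟨R, ?_, ?_, ?_⟩
  · intro h hh
    rw [hmemR] at hh
    have h1 := hNn.conj_mem _ (hR1N hh) g
    have e : g * (g⁻¹ * h * g) * g⁻¹ = h := by group
    rwa [e] at h1
  · intro u hu
    rw [Subgroup.mem_normalizer_iff]
    intro h
    rw [hmemR, hmemR]
    have h1 := Subgroup.mem_normalizer_iff.mp (hfixg u hu) (g⁻¹ * h * g)
    rw [h1]
    have e : g⁻¹ * u * g * (g⁻¹ * h * g) * (g⁻¹ * u * g)⁻¹ = g⁻¹ * (u * h * u⁻¹) * g := by group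
    rw [e]
  · rw [hR, Subgroup.card_map_of_injective (MulAut.conj g).injective]
    exact hR1card

theorem main_aux_h20 (p : ℕ) [hp : Fact p.Prime] (hp3 : 3 ≤ p) : ∀ n : ℕ,
    ∀ (G : Type u) [Group G] [Finite G], Nat.card G = n →
    ∀ (P N : Subgroup G) [N.Normal], IsPGroup p P → (Nat.card N).Coprime p → N ⊔ P = ⊤ →
    ∀ C D : Set G, Subgroup.closure C = P → Subgroup.closure D = P →
    (∀ x ∈ N, ∀ c ∈ C, ∀ d ∈ D, IsPGroup p ↥(Subgroup.closure ({x * c * x⁻¹, d} : Set G))) →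
    ∀ u ∈ P, ∀ x ∈ N, u * x = x * u := by
  intro n
  induction n using Nat.strong_induction_on with
  | _ n ih =>
  intro G _ _ hn P N hNn hP hN hNP C D hC hD h
  classical
  have hinf : N ⊓ P = ⊥ := inf_bot_h20 hP hN
  have hCP : C ⊆ (P : Set G) := by rw [← hC]; exact Subgroup.subset_closure
  have hDP : D ⊆ (P : Set G) := by rw [← hD]; exact Subgroup.subset_closure
  -- Step 1: proper invariant subgroups are centralized
  have step1 : ∀ L : Subgroup G, L ≤ N → L ≠ N → P ≤ Subgroup.normalizer (L : Set G) →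
      ∀ u ∈ P, ∀ x ∈ L, u * x = x * u := by
    intro L hLN hLne hPL
    obtain ⟨H, hHdef⟩ : ∃ H : Subgroup G, H = L ⊔ P := ⟨_, rfl⟩
    have hLH : L ≤ H := hHdef ▸ le_sup_left
    have hPH : P ≤ H := hHdef ▸ le_sup_right
    have hHtop : H ≠ ⊤ := by
      intro htop
      apply hLne
      apply le_antisymm hLN
      intro x hx
      have hxH : x ∈ L ⊔ P := by rw [← hHdef, htop]; trivial
      obtain ⟨l, hl, v, hv, rfl⟩ := mem_sup_of_norm_h20 hPL hxH
      have hvN : v ∈ N := by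
        have := N.mul_mem (N.inv_mem (hLN hl)) hx
        simpa using this
      have hv1 : v ∈ N ⊓ P := ⟨hvN, hv⟩
      rw [hinf, Subgroup.mem_bot] at hv1
      rw [hv1, mul_one]
      exact hl
    have hcard : Nat.card H < n := hn ▸ Cfsg.Agent.Helper10.card_lt_of_ne_top hHtop
    have hHnorm : H ≤ Subgroup.normalizer (L : Set G) := by
      rw [hHdef]
      exact sup_le Subgroup.le_normalizer hPL
    haveI : (L.subgroupOf H).Normal :=
      (Subgroup.normal_subgroupOf_iff_le_normalizer hLH).mpr hHnorm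
    have hcop : (Nat.card (L.subgroupOf H)).Coprime p := by
      rw [Nat.card_congr (Subgroup.subgroupOfEquivOfLe hLH).toEquiv]
      exact Nat.Coprime.coprime_dvd_left (Subgroup.card_dvd_of_le hLN) hN
    have hsup : L.subgroupOf H ⊔ P.subgroupOf H = ⊤ := by
      rw [← Subgroup.subgroupOf_sup hLH hPH, ← hHdef, Subgroup.subgroupOf_self]
    have hclos : ∀ S : Set G, Subgroup.closure S = P →
        Subgroup.closure (H.subtype ⁻¹' S) = P.subgroupOf H := by
      intro S hS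
      apply Subgroup.map_injective H.subtype_injective
      rw [MonoidHom.map_closure, Subgroup.subgroupOf_map_subtype, inf_of_le_left hPH,
        Set.image_preimage_eq_of_subset, hS]
      intro s hs
      have : s ∈ (P : Set G) := by rw [← hS]; exact Subgroup.subset_closure hs
      exact ⟨⟨s, hPH this⟩, rfl⟩
    have h' : ∀ x ∈ L.subgroupOf H, ∀ c ∈ H.subtype ⁻¹' C, ∀ d ∈ H.subtype ⁻¹' D,
        IsPGroup p ↥(Subgroup.closure ({x * c * x⁻¹, d} : Set ↥H)) := by
      intro x hx c hc d hd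
      have hmap : (Subgroup.closure ({x * c * x⁻¹, d} : Set ↥H)).map H.subtype
          = Subgroup.closure ({(x : G) * (c : G) * (x : G)⁻¹, (d : G)} : Set G) := by
        rw [MonoidHom.map_closure, Set.image_pair]
        rfl
      have hp1 := h (x : G) (hLN (Subgroup.mem_subgroupOf.mp hx)) (c : G) hc (d : G) hd
      rw [← hmap] at hp1
      exact hp1.of_equiv
        (Subgroup.equivMapOfInjective _ H.subtype H.subtype_injective).symm
    have res := ih (Nat.card H) hcard ↥H rfl (P.subgroupOf H) (L.subgroupOf H)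
      hP.comap_subtype hcop hsup (H.subtype ⁻¹' C) (H.subtype ⁻¹' D) (hclos C hC) (hclos D hD) h'
    intro u hu x hx
    have := res ⟨u, hPH hu⟩ (Subgroup.mem_subgroupOf.mpr hu) ⟨x, hLH hx⟩
      (Subgroup.mem_subgroupOf.mpr hx)
    exact congrArg Subtype.val this
  -- Step 2: quotients
  have step2 : ∀ M : Subgroup G, M.Normal → M ≤ N → M ≠ ⊥ →
      ∀ u ∈ P, ∀ x ∈ N, u * x * u⁻¹ * x⁻¹ ∈ M := by
    intro M hMn hMN hM1
    haveI := hMn
    have hcard : Nat.card (G ⧸ M) < n := by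
      rw [← hn, Subgroup.card_eq_card_quotient_mul_card_subgroup M]
      have h1 : 1 < Nat.card M := (Subgroup.one_lt_card_iff_ne_bot M).mpr hM1
      have h2 : 0 < Nat.card (G ⧸ M) := Nat.card_pos
      exact lt_mul_of_one_lt_right h2 h1
    obtain ⟨π, hπdef⟩ : ∃ π : G →* G ⧸ M, π = QuotientGroup.mk' M := ⟨_, rfl⟩
    have hπ : Function.Surjective π := hπdef ▸ QuotientGroup.mk'_surjective M
    haveI : (N.map π).Normal := Subgroup.Normal.map hNn π hπ
    have hcop : (Nat.card (N.map π)).Coprime p :=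
      Nat.Coprime.coprime_dvd_left (Subgroup.card_map_dvd N π) hN
    have hsup : N.map π ⊔ P.map π = ⊤ := by
      rw [← Subgroup.map_sup, hNP, Subgroup.map_top_of_surjective π hπ]
    have h' : ∀ x ∈ N.map π, ∀ c ∈ π '' C, ∀ d ∈ π '' D,
        IsPGroup p ↥(Subgroup.closure ({x * c * x⁻¹, d} : Set (G ⧸ M))) := by
      rintro _ ⟨x, hx, rfl⟩ _ ⟨c, hc, rfl⟩ _ ⟨d, hd, rfl⟩
      have hmap : (Subgroup.closure ({x * c * x⁻¹, d} : Set G)).map π
          = Subgroup.closure ({π x * π c * (π x)⁻¹, π d} : Set (G ⧸ M)) := by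
        rw [MonoidHom.map_closure, Set.image_pair]
        simp
      rw [← hmap]
      exact (h x hx c hc d hd).map π
    have res := ih (Nat.card (G ⧸ M)) hcard (G ⧸ M) rfl (P.map π) (N.map π)
      (hP.map π) hcop hsup (π '' C) (π '' D)
      (by rw [← MonoidHom.map_closure, hC]) (by rw [← MonoidHom.map_closure, hD]) h'
    intro u hu x hx
    have h1 := res (π u) (Subgroup.mem_map_of_mem π hu) (π x) (Subgroup.mem_map_of_mem π hx)
    have h2 : π (u * x * u⁻¹ * x⁻¹) = 1 := by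
      rw [map_mul, map_mul, map_mul, h1, map_inv, map_inv]
      group
    rw [hπdef] at h2
    exact (QuotientGroup.eq_one_iff _).mp h2
  -- reduce to prime power order
  by_cases hpp : ∃ r k : ℕ, r.Prime ∧ Nat.card N = r ^ k
  swap
  · have hXN : Nat.card N ∣ Nat.card (N ⊓ Subgroup.centralizer (P : Set G) : Subgroup G) := by
      rw [Nat.dvd_iff_prime_pow_dvd_dvd]
      intro r k hr hrk
      haveI : Fact r.Prime := ⟨hr⟩
      obtain ⟨R, hRN, hPR, hRcard⟩ := exists_inv_sylow_h20 P N hP hN r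
      have hRne : R ≠ N := by
        rintro rfl
        exact hpp ⟨r, _, hr, hRcard⟩
      have hRX : R ≤ N ⊓ Subgroup.centralizer (P : Set G) := by
        intro x hx
        refine Subgroup.mem_inf.mpr ⟨hRN hx, ?_⟩
        rw [Subgroup.mem_centralizer_iff]
        intro u hu
        exact step1 R hRN hRne hPR u hu x hx
      have h1 : r ^ k ∣ r ^ (Nat.card N).factorization r :=
        pow_dvd_pow r ((hr.pow_dvd_iff_le_factorization (Nat.card_pos.ne')).mp hrk)
      rw [← hRcard] at h1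
      exact h1.trans (Subgroup.card_dvd_of_le hRX)
    have hXeq : N ⊓ Subgroup.centralizer (P : Set G) = N := by
      apply Subgroup.eq_of_le_of_card_ge inf_le_left
      exact Nat.le_of_dvd Nat.card_pos hXN
    intro u hu x hx
    have hxX : x ∈ N ⊓ Subgroup.centralizer (P : Set G) := by rw [hXeq]; exact hx
    exact Subgroup.mem_centralizer_iff.mp hxX.2 u hu
  obtain ⟨r, k, hr, hrk⟩ := hpp
  haveI : Fact r.Prime := ⟨hr⟩
  have hNr : IsPGroup r ↥N := IsPGroup.of_card hrk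
  by_cases hN1 : N = ⊥
  · intro u hu x hx
    rw [hN1, Subgroup.mem_bot] at hx
    rw [hx, mul_one, one_mul]
  haveI : Nontrivial ↥N := (Subgroup.nontrivial_iff_ne_bot N).mpr hN1
  -- the centre of N
  have hZn : (N ⊓ Subgroup.centralizer (N : Set G)).Normal := by
    constructor
    intro z hz g
    refine Subgroup.mem_inf.mpr ⟨hNn.conj_mem z hz.1 g, ?_⟩
    rw [Subgroup.mem_centralizer_iff]
    intro y hy
    have hy' : g⁻¹ * y * g ∈ N := by
      have := hNn.conj_mem y hy g⁻¹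
      simpa using this
    have h1 := Subgroup.mem_centralizer_iff.mp hz.2 (g⁻¹ * y * g) hy'
    calc y * (g * z * g⁻¹) = g * ((g⁻¹ * y * g) * z) * g⁻¹ := by group
      _ = g * (z * (g⁻¹ * y * g)) * g⁻¹ := by rw [h1]
      _ = g * z * g⁻¹ * y := by group
  have hZ1 : N ⊓ Subgroup.centralizer (N : Set G) ≠ ⊥ := by
    haveI := hNr.center_nontrivial
    obtain ⟨⟨z, hzc⟩, hzne⟩ := exists_ne (1 : Subgroup.center ↥N)
    intro hbot
    have hzmem : (z : G) ∈ N ⊓ Subgroup.centralizer (N : Set G) := by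
      refine Subgroup.mem_inf.mpr ⟨z.2, ?_⟩
      rw [Subgroup.mem_centralizer_iff]
      intro y hy
      have := Subgroup.mem_center_iff.mp hzc ⟨y, hy⟩
      exact congrArg Subtype.val this
    rw [hbot, Subgroup.mem_bot] at hzmem
    apply hzne
    apply Subtype.ext
    apply Subtype.ext
    exact hzmem
  by_cases hZ : N ⊓ Subgroup.centralizer (N : Set G) = N
  swap
  · have hPZ : P ≤ Subgroup.normalizer ((N ⊓ Subgroup.centralizer (N : Set G) : Subgroup G) : Set G) := by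
      rw [Subgroup.normalizer_eq_top_iff.mpr hZn]
      exact le_top
    exact central_of_stable_h20 P N _ hP hN inf_le_left (step1 _ inf_le_left hZ hPZ)
      (step2 _ hZn inf_le_left hZ1)
  have hab : ∀ a ∈ N, ∀ b ∈ N, a * b = b * a := by
    intro a ha b hb
    have hb' : b ∈ N ⊓ Subgroup.centralizer (N : Set G) := by rw [hZ]; exact hb
    exact Subgroup.mem_centralizer_iff.mp hb'.2 a ha
  -- irreducibility
  by_cases hirr : ∀ W : Subgroup G, W ≤ N → P ≤ Subgroup.normalizer (W : Set G) → W = ⊥ ∨ W = N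
  swap
  · push Not at hirr
    obtain ⟨W, hWN, hPW, hW1, hW2⟩ := hirr
    have hWn : W.Normal := by
      rw [← Subgroup.normalizer_eq_top_iff, eq_top_iff, ← hNP]
      apply sup_le _ hPW
      intro a ha
      rw [Subgroup.mem_normalizer_iff]
      intro w
      constructor
      · intro hw
        have : a * w * a⁻¹ = w := by
          rw [hab a ha w (hWN hw)]; group
        rw [this]; exact hw
      · intro hw
        have h1 : a * w * a⁻¹ ∈ N := hWN hw
        have h2 : w ∈ N := by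
          have := N.mul_mem (N.mul_mem (N.inv_mem ha) h1) ha
          simpa [mul_assoc] using this
        have : a * w * a⁻¹ = w := by
          rw [hab a ha w h2]; group
        rw [this] at hw; exact hw
    exact central_of_stable_h20 P N W hP hN hWN (step1 W hWN hW2 hPW) (step2 W hWn hWN hW1)
  -- Step 4: the counting contradiction
  by_contra hcon
  push Not at hcon
  obtain ⟨u0, hu0, x0, hx0, hne0⟩ := hcon
  obtain ⟨φ, hφdef⟩ : ∃ φ : ↥P →* MulAut ↥N,
      φ = (MulAut.conjNormal : G →* MulAut ↥N).comp P.subtype := ⟨_, rfl⟩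
  have hφapp : ∀ (u : ↥P) (v : ↥N), ((φ u) v : G) = (u : G) * (v : G) * (u : G)⁻¹ := by
    intro u v
    rw [hφdef]
    rfl
  have hQp : IsPGroup p ↥φ.range := hP.of_surjective φ.rangeRestrict φ.rangeRestrict_surjective
  haveI : Nontrivial ↥φ.range := by
    refine nontrivial_of_ne (φ.rangeRestrict ⟨u0, hu0⟩) 1 ?_
    intro h1
    have h2 : φ ⟨u0, hu0⟩ = 1 := by
      have := congrArg Subtype.val h1
      simpa using this
    have h3 := hφapp ⟨u0, hu0⟩ ⟨x0, hx0⟩
    rw [h2] at h3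
    apply hne0
    have h4 : x0 = u0 * x0 * u0⁻¹ := by simpa using h3
    calc u0 * x0 = (u0 * x0 * u0⁻¹) * u0 := by group
      _ = x0 * u0 := by rw [← h4]
  have hfaith : ∀ q : ↥φ.range, (∀ v : ↥N, q • v = v) → q = 1 := by
    intro q hq
    apply Subtype.ext
    apply MulEquiv.ext
    intro v
    exact hq v
  have hirr' : ∀ W : Subgroup ↥N, (∀ q : ↥φ.range, ∀ w ∈ W, q • w ∈ W) → W = ⊥ ∨ W = ⊤ := by
    intro W hW
    have hPW : P ≤ Subgroup.normalizer ((W.map N.subtype : Subgroup G) : Set G) := by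
      have hfw : ∀ u ∈ P, ∀ h ∈ W.map N.subtype, u * h * u⁻¹ ∈ W.map N.subtype := by
        intro u hu h hh
        obtain ⟨w, hw, rfl⟩ := Subgroup.mem_map.mp hh
        have h1 := hW (φ.rangeRestrict ⟨u, hu⟩) w hw
        refine Subgroup.mem_map.mpr ⟨_, h1, ?_⟩
        exact hφapp ⟨u, hu⟩ w
      intro u hu
      rw [Subgroup.mem_normalizer_iff]
      intro h
      constructor
      · exact hfw u hu h
      · intro hh
        have := hfw u⁻¹ (P.inv_mem hu) _ hh
        have e : u⁻¹ * (u * h * u⁻¹) * u⁻¹⁻¹ = h := by group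
        rwa [e] at this
    rcases hirr (W.map N.subtype) (by rintro x ⟨y, -, rfl⟩; exact y.2) hPW with h1 | h1
    · left
      exact (Subgroup.map_eq_bot_iff_of_injective W N.subtype_injective).mp h1
    · right
      rw [eq_top_iff]
      intro v _
      have hv : (v : G) ∈ W.map N.subtype := by rw [h1]; exact v.2
      obtain ⟨w, hw, hwv⟩ := Subgroup.mem_map.mp hv
      have : w = v := Subtype.ext hwv
      rwa [← this]
  have hclos : ∀ S : Set G, Subgroup.closure S = P →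
      Subgroup.closure (φ.rangeRestrict '' (P.subtype ⁻¹' S)) = ⊤ := by
    intro S hS
    rw [← MonoidHom.map_closure]
    have h1 : Subgroup.closure (P.subtype ⁻¹' S) = ⊤ := by
      apply Subgroup.map_injective P.subtype_injective
      rw [MonoidHom.map_closure, Set.image_preimage_eq_of_subset, hS, ← MonoidHom.range_eq_map,
        Subgroup.range_subtype]
      intro s hs
      have : s ∈ (P : Set G) := by rw [← hS]; exact Subgroup.subset_closure hs
      exact ⟨⟨s, this⟩, rfl⟩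
    rw [h1, Subgroup.map_top_of_surjective _ φ.rangeRestrict_surjective]
  have hcommN : ∀ a b : ↥N, a * b = b * a := fun a b => Subtype.ext (hab a a.2 b b.2)
  obtain ⟨c', hc', d', hd', hlt⟩ := Cfsg.Agent.Helper20.FixCount.exists_small_fix'
    (V := ↥N) (Q := ↥φ.range) hcommN p hp3 hN hQp hfaith hirr' _ _ (hclos C hC) (hclos D hD)
  obtain ⟨⟨c, hcP⟩, hcC, rfl⟩ := hc'
  obtain ⟨⟨d, hdP⟩, hdD, rfl⟩ := hd'
  have hcC' : c ∈ C := hcC
  have hdD' : d ∈ D := hdD
  have hsurj : Function.Surjective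
      (fun w : {v : ↥N // φ.rangeRestrict ⟨d, hdP⟩ • v = v} ×
        {v : ↥N // φ.rangeRestrict ⟨c, hcP⟩ • v = v} => (w.1 : ↥N) * (w.2 : ↥N)) := by
    intro x
    obtain ⟨y, hy, hyd, hyc⟩ := factor_h20 P N hP hN hNP x c d x.2 hcP hdP
      (h x x.2 c hcC' d hdD')
    refine ⟨(⟨⟨y, hy⟩, ?_⟩, ⟨⟨y⁻¹ * x, N.mul_mem (N.inv_mem hy) x.2⟩, ?_⟩), ?_⟩
    · apply Subtype.ext
      show ((φ ⟨d, hdP⟩) ⟨y, hy⟩ : G) = y
      rw [hφapp]
      show d * y * d⁻¹ = y
      rw [← hyd]; group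
    · apply Subtype.ext
      show ((φ ⟨c, hcP⟩) ⟨y⁻¹ * x, _⟩ : G) = y⁻¹ * x
      rw [hφapp]
      show c * (y⁻¹ * x) * c⁻¹ = y⁻¹ * x
      rw [← hyc]; group
    · apply Subtype.ext
      show y * (y⁻¹ * x) = x
      group
  have hle := Nat.card_le_card_of_surjective _ hsurj
  rw [Nat.card_prod] at hle
  rw [mul_comm] at hlt
  exact absurd hle (not_le.mpr hlt)

/-- Let p ≥ 3 be prime and G a finite group with a Sylow p-subgroup P and a normal p-complement N (N normal, of order prime to p, with NP = G). Suppose P is generated by a subset C and also by a subset D, and that ⟨x c x⁻¹, d⟩ is a p-group for all x ∈ N, c ∈ C, d ∈ D. Then P centralizes N, so that G = N × P. -/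
theorem result {G : Type*} [Group G] [Finite G] (p : ℕ) [Fact p.Prime] (hp3 : 3 ≤ p) (P : Sylow p G)
    (N : Subgroup G) [N.Normal] (hN : (Nat.card N).Coprime p) (hNP : N ⊔ (P : Subgroup G) = ⊤)
    (C D : Set G) (hC : Subgroup.closure C = (P : Subgroup G)) (hD : Subgroup.closure D = (P : Subgroup G))
    (h : ∀ x ∈ N, ∀ c ∈ C, ∀ d ∈ D, IsPGroup p ↥(Subgroup.closure ({x * c * x⁻¹, d} : Set G))) :
    ⁅(P : Subgroup G), N⁆ = ⊥ := by
  have hmain := main_aux_h20 p hp3 (Nat.card G) G rfl (P : Subgroup G) N P.isPGroup' hN hNP C D hC hD h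
  rw [Subgroup.commutator_eq_bot_iff_le_centralizer]
  intro u hu
  rw [Subgroup.mem_centralizer_iff]
  intro x hx
  exact (hmain u hu x hx).symm

end Cfsg.Agent.S2277
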