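import Mathlib
import Cfsg.Statements.S2300
import Cfsg.Agent.Helper14.SL2Twist
import Cfsg.Agent.S2298

set_option autoImplicit false
open Cfsg

namespace Cfsg.Agent.S2300

/-- Over a finite field F with q elements, q even, every irreducible complex character of SL₂ has degree 1, q − 1, q or q + 1; and when q ≥ 4 (so that these four numbers are distinct) there are exactly one irreducible character of degree 1, one of degree q, (q − 2)/2 of degree q + 1 and q/2 of degree q − 1. -/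
theorem result {F : Type*} [Field F] [Fintype F] [CharP F 2] :
    (∀ χ : Matrix.SpecialLinearGroup (Fin 2) F → ℂ, Cfsg.IsIrrCharacter (Matrix.SpecialLinearGroup (Fin 2) F) χ →
      χ 1 = 1 ∨ χ 1 = (Fintype.card F : ℂ) - 1 ∨ χ 1 = (Fintype.card F : ℂ) ∨ χ 1 = (Fintype.card F : ℂ) + 1) ∧
    (4 ≤ Fintype.card F →
      Nat.card {χ : Cfsg.IrrCharacter (Matrix.SpecialLinearGroup (Fin 2) F) // (χ : Matrix.SpecialLinearGroup (Fin 2) F → ℂ) 1 = 1} = 1 ∧
      Nat.card {χ : Cfsg.IrrCharacter (Matrix.SpecialLinearGroup (Fin 2) F) // (χ : Matrix.SpecialLinearGroup (Fin 2) F → ℂ) 1 = (Fintype.card F : ℂ)} = 1 ∧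
      Nat.card {χ : Cfsg.IrrCharacter (Matrix.SpecialLinearGroup (Fin 2) F) // (χ : Matrix.SpecialLinearGroup (Fin 2) F → ℂ) 1 = (Fintype.card F : ℂ) + 1} = (Fintype.card F - 2) / 2 ∧
      Nat.card {χ : Cfsg.IrrCharacter (Matrix.SpecialLinearGroup (Fin 2) F) // (χ : Matrix.SpecialLinearGroup (Fin 2) F → ℂ) 1 = (Fintype.card F : ℂ) - 1} = Fintype.card F / 2) := by
  classical
  constructor
  · intro χ hχ
    obtain ⟨X, hX⟩ := Cfsg.Agent.Helper14.GL2.exists_lift_even ⟨χ, hχ⟩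
    have h1 := congrFun hX 1
    rw [Cfsg.Agent.Helper14.GL2.res_one] at h1
    change (X : Matrix.GeneralLinearGroup (Fin 2) F → ℂ) 1 = χ 1 at h1
    rw [← h1]
    exact (Cfsg.Agent.S2298.result (F := F)).1 X.1 X.2
  · intro hq
    obtain ⟨c1, cq, cq1, cqm⟩ := (Cfsg.Agent.S2298.result (F := F)).2 (by omega)
    rw [Cfsg.Agent.Helper14.GL2.card_deg_even] at c1 cq cq1 cqm
    obtain ⟨n1, hn1⟩ : ∃ n, n = Nat.card {χ : Cfsg.IrrCharacter (Matrix.SpecialLinearGroup (Fin 2) F) //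
      (χ : Matrix.SpecialLinearGroup (Fin 2) F → ℂ) 1 = 1} := ⟨_, rfl⟩
    obtain ⟨nq, hnq⟩ : ∃ n, n = Nat.card {χ : Cfsg.IrrCharacter (Matrix.SpecialLinearGroup (Fin 2) F) //
      (χ : Matrix.SpecialLinearGroup (Fin 2) F → ℂ) 1 = (Fintype.card F : ℂ)} := ⟨_, rfl⟩
    obtain ⟨nq1, hnq1⟩ : ∃ n, n = Nat.card {χ : Cfsg.IrrCharacter (Matrix.SpecialLinearGroup (Fin 2) F) //
      (χ : Matrix.SpecialLinearGroup (Fin 2) F → ℂ) 1 = (Fintype.card F : ℂ) + 1} := ⟨_, rfl⟩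
    obtain ⟨nqm, hnqm⟩ : ∃ n, n = Nat.card {χ : Cfsg.IrrCharacter (Matrix.SpecialLinearGroup (Fin 2) F) //
      (χ : Matrix.SpecialLinearGroup (Fin 2) F → ℂ) 1 = (Fintype.card F : ℂ) - 1} := ⟨_, rfl⟩
    rw [← hn1] at c1
    rw [← hnq] at cq
    rw [← hnq1] at cq1
    rw [← hnqm] at cqm
    rw [← hn1, ← hnq, ← hnq1, ← hnqm]
    have heven : Fintype.card F % 2 = 0 := FiniteField.even_card_of_char_two (ringChar.eq F 2)
    obtain ⟨k, hk⟩ : ∃ k, Fintype.card F = 2 * k + 2 := ⟨(Fintype.card F - 2) / 2, by omega⟩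
    rw [hk] at c1 cq cq1 cqm ⊢
    simp only [show 2 * k + 2 - 1 = 2 * k + 1 by omega, show 2 * k + 2 - 2 = 2 * k by omega]
      at c1 cq cq1 cqm ⊢
    have e1 : (2 * k + 1) * (2 * k) / 2 = k * (2 * k + 1) := by
      rw [show (2 * k + 1) * (2 * k) = 2 * (k * (2 * k + 1)) by ring]
      exact Nat.mul_div_cancel_left _ (by norm_num)
    have e2 : (2 * k + 2) * (2 * k + 1) / 2 = (k + 1) * (2 * k + 1) := by
      rw [show (2 * k + 2) * (2 * k + 1) = 2 * ((k + 1) * (2 * k + 1)) by ring]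
      exact Nat.mul_div_cancel_left _ (by norm_num)
    rw [e1] at cq1
    rw [e2] at cqm
    have hpos : 0 < 2 * k + 1 := by omega
    refine ⟨?_, ?_, ?_, ?_⟩
    · exact Nat.eq_of_mul_eq_mul_right hpos (by rw [c1, one_mul])
    · exact Nat.eq_of_mul_eq_mul_right hpos (by rw [cq, one_mul])
    · rw [Nat.mul_div_cancel_left _ (by norm_num : 0 < 2)]
      exact Nat.eq_of_mul_eq_mul_right hpos cq1
    · rw [show (2 * k + 2) / 2 = k + 1 by omega]
      exact Nat.eq_of_mul_eq_mul_right hpos cqm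

end Cfsg.Agent.S2300
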