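import Cfsg.Statements.S2307
import Mathlib
import Cfsg.Agent.Helper15.SL2C

set_option autoImplicit false
open Cfsg

namespace Cfsg.Agent.S2307

open Cfsg Matrix
open scoped ComplexConjugate
open Cfsg.Agent.Helper15.SL2A Cfsg.Agent.Helper15.SL2B Cfsg.Agent.Helper15.SL2C
open Cfsg.Agent.S2508 (Zm Zm_coe Zm_center Zm_ne_one center_odd)
open Cfsg.Agent.S2430 (two_ne_zero_of_odd)

/-- Over a finite field F with q elements, q odd, let α be the multiplicative character of F of order 2. The character of SL₂ induced from the linear character b ↦ α(b₁₁) of the upper triangular subgroup is the sum of two distinct irreducible characters, each of degree (q + 1)/2, which are conjugate under GL₂: some fixed element of GL₂ conjugates the one into the other. -/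
theorem result {F : Type*} [Field F] [Fintype F] [DecidableEq F] (hodd : Odd (Fintype.card F)) (α : MulChar F ℂ)
    (hα : α ^ 2 = 1) (hα1 : α ≠ 1) :
    ∃ χ₁ χ₂ : Matrix.SpecialLinearGroup (Fin 2) F → ℂ, Cfsg.IsIrrCharacter (Matrix.SpecialLinearGroup (Fin 2) F) χ₁ ∧ Cfsg.IsIrrCharacter (Matrix.SpecialLinearGroup (Fin 2) F) χ₂ ∧ χ₁ ≠ χ₂ ∧
      Cfsg.indFun ((Cfsg.upperTriangularGL 2 F).comap Matrix.SpecialLinearGroup.toGL) (fun b => α (((b : Matrix.SpecialLinearGroup (Fin 2) F) : Matrix (Fin 2) (Fin 2) F) 0 0)) = χ₁ + χ₂ ∧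
      χ₁ 1 = (((Fintype.card F + 1) / 2 : ℕ) : ℂ) ∧ χ₂ 1 = (((Fintype.card F + 1) / 2 : ℕ) : ℂ) ∧
      ∃ x : Matrix.GeneralLinearGroup (Fin 2) F, ∀ g h : Matrix.SpecialLinearGroup (Fin 2) F,
        Matrix.SpecialLinearGroup.toGL h = x * Matrix.SpecialLinearGroup.toGL g * x⁻¹ → χ₂ h = χ₁ g := by
  obtain ⟨C, hN⟩ := exists_nst (F := F) hodd
  have hal : α = al0 := al0_unique hα1 hα
  subst hal
  obtain ⟨ν, hν⟩ := exists_nonsquare hodd
  obtain ⟨ψ₁, ψ₂, i1, i2, hne, hdec⟩ := R_al0_decomp (F := F) hodd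
  have hP : classInner (R (al0 (F := F))) ψ₁ ≠ 0 := by
    have e : classInner ψ₂ ψ₁ = 0 := by
      by_contra h'
      exact hne (irr_eq_of_inner_ne i2 i1 h').symm
    rw [hdec, Helper2.classInner_add_left, irr_inner_self i1, e, add_zero]
    exact one_ne_zero
  obtain ⟨i', hne', hdec'⟩ := twistP hodd hN i1 hP ν hν
  have hdeg := (typeP hodd hN i1 hP).2.2.2
  have hdet : (!![(ν : F), 0; 0, 1] : Matrix (Fin 2) (Fin 2) F).det ≠ 0 := by
    rw [Matrix.det_fin_two_of, mul_one, mul_zero, sub_zero]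
    exact ν.ne_zero
  refine ⟨fun g => ψ₁ (sig ν g), ψ₁, i', i1, hne', ?_, ?_, ?_,
    Matrix.GeneralLinearGroup.mkOfDetNeZero _ hdet, ?_⟩
  · show R (al0 (F := F)) = _
    rw [hdec', add_comm]
  · show ψ₁ (sig ν 1) = _
    rw [map_one, hdeg, half_add_cast hodd]
  · rw [hdeg, half_add_cast hodd]
  · intro g h hgh
    have e : h = sig ν g := by
      rw [eq_mul_inv_iff_mul_eq] at hgh
      have hm := congrArg (fun y : Matrix.GeneralLinearGroup (Fin 2) F =>
        (y : Matrix (Fin 2) (Fin 2) F)) hgh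
      simp only [Matrix.GeneralLinearGroup.coe_mul] at hm
      have eX : ((Matrix.GeneralLinearGroup.mkOfDetNeZero _ hdet :
          Matrix.GeneralLinearGroup (Fin 2) F) : Matrix (Fin 2) (Fin 2) F) =
          !![(ν : F), 0; 0, 1] := rfl
      have eh : ((Matrix.SpecialLinearGroup.toGL h : Matrix.GeneralLinearGroup (Fin 2) F) :
          Matrix (Fin 2) (Fin 2) F) = h.1 := rfl
      have eg : ((Matrix.SpecialLinearGroup.toGL g : Matrix.GeneralLinearGroup (Fin 2) F) :
          Matrix (Fin 2) (Fin 2) F) = g.1 := rfl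
      rw [eX, eh, eg] at hm
      have h00 := congrFun (congrFun hm 0) 0
      have h01 := congrFun (congrFun hm 0) 1
      have h10 := congrFun (congrFun hm 1) 0
      have h11 := congrFun (congrFun hm 1) 1
      simp only [Matrix.mul_apply, Fin.sum_univ_two, Matrix.of_apply, Matrix.cons_val_zero,
        Matrix.cons_val_one, Matrix.cons_val', Matrix.cons_val_fin_one, mul_zero, mul_one,
        add_zero, zero_add, zero_mul, one_mul] at h00 h01 h10 h11
      have hν0 : (ν : F) ≠ 0 := ν.ne_zero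
      have hνi : ((ν⁻¹ : Fˣ) : F) * (ν : F) = 1 := by
        rw [← Units.val_mul, inv_mul_cancel, Units.val_one]
      apply sl_ext
      · rw [sig_apply, sigFun_00]
        exact mul_right_cancel₀ hν0 (h00.trans (mul_comm _ _))
      · rw [sig_apply, sigFun_01]
        exact h01
      · rw [sig_apply, sigFun_10, ← h10]
        linear_combination (-(h.1 1 0)) * hνi
      · rw [sig_apply, sigFun_11]
        exact h11
    rw [e]

end Cfsg.Agent.S2307
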