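import Cfsg.Statements.S2322
import Mathlib
import Cfsg.Agent.Helper15.SL2C

set_option autoImplicit false
open Cfsg

namespace Cfsg.Agent.S2322

open Cfsg Matrix
open scoped ComplexConjugate
open Cfsg.Agent.Helper15.SL2A Cfsg.Agent.Helper15.SL2B Cfsg.Agent.Helper15.SL2C
open Cfsg.Agent.S2508 (Zm Zm_coe Zm_center Zm_ne_one center_odd)
open Cfsg.Agent.S2430 (two_ne_zero_of_odd)

/-- Over a finite field F with q elements, q odd: every irreducible complex character of SL₂ of degree q − 1 or (q − 1)/2 vanishes at every diagonal matrix whose diagonal entry a has a² ≠ 1, and every irreducible complex character of degree q + 1 or (q + 1)/2 vanishes at every element with no eigenvector in F². -/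
theorem result {F : Type*} [Field F] [Fintype F] (hodd : Odd (Fintype.card F)) (χ : Matrix.SpecialLinearGroup (Fin 2) F → ℂ) (hχ : Cfsg.IsIrrCharacter (Matrix.SpecialLinearGroup (Fin 2) F) χ) (g : Matrix.SpecialLinearGroup (Fin 2) F) :
    ((χ 1 = (Fintype.card F : ℂ) - 1 ∨ χ 1 = (((Fintype.card F - 1) / 2 : ℕ) : ℂ)) →
      (g : Matrix (Fin 2) (Fin 2) F) 0 1 = 0 → (g : Matrix (Fin 2) (Fin 2) F) 1 0 = 0 → (g : Matrix (Fin 2) (Fin 2) F) 0 0 ^ 2 ≠ 1 → χ g = 0) ∧
    ((χ 1 = (Fintype.card F : ℂ) + 1 ∨ χ 1 = (((Fintype.card F + 1) / 2 : ℕ) : ℂ)) →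
      (∀ (c : F) (v : Fin 2 → F), v ≠ 0 → (g : Matrix (Fin 2) (Fin 2) F).mulVec v ≠ c • v) → χ g = 0) := by
  classical
  obtain ⟨C, hN⟩ := exists_nst (F := F) hodd
  have hq := card_ge_three hodd
  obtain ⟨n, hn, hcases⟩ := classify_deg hodd hN hχ
  obtain ⟨t, ht⟩ := id hodd
  constructor
  · intro hdeg h01 h10 h00
    obtain ⟨a, c, rfl⟩ := eq_bm_of_10 g h10
    rw [bm_00] at h00
    have ha : a * a ≠ 1 := (unit_sq_ne a).mpr h00
    have hq5 : 5 ≤ Fintype.card F := by
      by_contra hlt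
      have hq3 : Fintype.card F = 3 := by omega
      apply h00
      have h5 := FiniteField.pow_card_sub_one_eq_one (a : F) a.ne_zero
      rw [hq3] at h5
      exact h5
    have hn' : n = Fintype.card F - 1 ∨ n = (Fintype.card F - 1) / 2 := by
      rcases hdeg with h | h
      · left
        have e : ((n + 1 : ℕ) : ℂ) = (Fintype.card F : ℂ) := by
          push_cast
          rw [← hn, h]
          ring
        have e' : n + 1 = Fintype.card F := by exact_mod_cast e
        omega
      · right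
        exact_mod_cast (hn.symm.trans h)
    rcases hcases with ⟨-, h⟩ | ⟨-, h⟩ | ⟨-, h⟩ | ⟨hP, h⟩ | ⟨⟨θ, hθ, hX⟩, -⟩ |
      ⟨⟨hcusp, hb, -, hd⟩, -⟩
    · omega
    · omega
    · omega
    · omega
    · rw [hX]
      exact Xc_bm_split hodd hN θ a c ha
    · exact typeM_split hodd hN hχ hcusp hb hd a c ha
  · intro hdeg hg
    have hne : NoEig g := hg
    have hn' : n = Fintype.card F + 1 ∨ n = (Fintype.card F + 1) / 2 := by
      rcases hdeg with h | h
      · left
        exact_mod_cast (hn.symm.trans h)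
      · right
        exact_mod_cast (hn.symm.trans h)
    rcases hcases with ⟨-, h⟩ | ⟨-, h⟩ | ⟨⟨β, hβ, hR⟩, -⟩ | ⟨hP, h⟩ | ⟨⟨θ, hθ, hX⟩, h⟩ | ⟨-, h⟩
    · omega
    · omega
    · rw [hR]
      exact R_noEig hodd β g hne
    · exact typeP_noEig hodd hN hχ hP g hne
    · have hq3 : Fintype.card F = 3 := by omega
      rw [hX]
      exact Xc_noEig_three hodd hN hq3 θ hθ g hne
    · omega

end Cfsg.Agent.S2322
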