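import Cfsg.Statements.S2324
import Mathlib
import Cfsg.Agent.Helper15.SL2C

set_option autoImplicit false
open Cfsg

namespace Cfsg.Agent.S2324

open Cfsg Matrix
open scoped ComplexConjugate
open Cfsg.Agent.Helper15.SL2A Cfsg.Agent.Helper15.SL2B Cfsg.Agent.Helper15.SL2C
open Cfsg.Agent.S2508 (Zm Zm_coe Zm_center Zm_ne_one center_odd)
open Cfsg.Agent.S2430 (two_ne_zero_of_odd)

/-- Over a finite field F with q elements, q odd and q ≥ 5, let u be the upper unitriangular matrix of SL₂ with off-diagonal entry 1 and let δ = (−1)^((q−1)/2). Every irreducible complex character χ of SL₂ of degree (q + 1)/2 satisfies (2χ(u) − 1)² = δq, and every irreducible complex character χ of degree (q − 1)/2 satisfies (2χ(u) + 1)² = δq; that is, χ(u) = (1 ± √(δq))/2 in the first case and χ(u) = (−1 ± √(δq))/2 in the second. Moreover two different irreducible characters of degree (q + 1)/2 take the two different values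 (their values at u add up to 1), and likewise for degree (q − 1)/2 (values adding up to −1). -/
theorem result {F : Type*} [Field F] [Fintype F] (hodd : Odd (Fintype.card F)) (hq : 5 ≤ Fintype.card F)
    (u : Matrix.SpecialLinearGroup (Fin 2) F) (hu : (u : Matrix (Fin 2) (Fin 2) F) = !![1, 1; 0, 1]) :
    (∀ χ : Matrix.SpecialLinearGroup (Fin 2) F → ℂ, Cfsg.IsIrrCharacter (Matrix.SpecialLinearGroup (Fin 2) F) χ → χ 1 = (((Fintype.card F + 1) / 2 : ℕ) : ℂ) → (2 * χ u - 1) ^ 2 = (-1 : ℂ) ^ ((Fintype.card F - 1) / 2) * (Fintype.card F : ℂ)) ∧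
    (∀ χ : Matrix.SpecialLinearGroup (Fin 2) F → ℂ, Cfsg.IsIrrCharacter (Matrix.SpecialLinearGroup (Fin 2) F) χ → χ 1 = (((Fintype.card F - 1) / 2 : ℕ) : ℂ) → (2 * χ u + 1) ^ 2 = (-1 : ℂ) ^ ((Fintype.card F - 1) / 2) * (Fintype.card F : ℂ)) ∧
    (∀ χ₁ χ₂ : Matrix.SpecialLinearGroup (Fin 2) F → ℂ, Cfsg.IsIrrCharacter (Matrix.SpecialLinearGroup (Fin 2) F) χ₁ → Cfsg.IsIrrCharacter (Matrix.SpecialLinearGroup (Fin 2) F) χ₂ → χ₁ ≠ χ₂ →
      χ₁ 1 = (((Fintype.card F + 1) / 2 : ℕ) : ℂ) → χ₂ 1 = (((Fintype.card F + 1) / 2 : ℕ) : ℂ) → χ₁ u + χ₂ u = 1) ∧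
    (∀ χ₁ χ₂ : Matrix.SpecialLinearGroup (Fin 2) F → ℂ, Cfsg.IsIrrCharacter (Matrix.SpecialLinearGroup (Fin 2) F) χ₁ → Cfsg.IsIrrCharacter (Matrix.SpecialLinearGroup (Fin 2) F) χ₂ → χ₁ ≠ χ₂ →
      χ₁ 1 = (((Fintype.card F - 1) / 2 : ℕ) : ℂ) → χ₂ 1 = (((Fintype.card F - 1) / 2 : ℕ) : ℂ) → χ₁ u + χ₂ u = -1) := by
  classical
  obtain ⟨C, hN⟩ := exists_nst (F := F) hodd
  obtain ⟨ν, hν⟩ := exists_nonsquare hodd
  obtain ⟨t, ht⟩ := id hodd
  have hu' : u = bm 1 1 := by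
    apply sl_ext
    · rw [hu, bm_00]
      simp
    · rw [hu, bm_01]
      simp
    · rw [hu, bm_10]
      simp
    · rw [hu, bm_11]
      simp
  have hP : ∀ χ : Matrix.SpecialLinearGroup (Fin 2) F → ℂ,
      IsIrrCharacter (Matrix.SpecialLinearGroup (Fin 2) F) χ →
      χ 1 = (((Fintype.card F + 1) / 2 : ℕ) : ℂ) → classInner (R (al0 (F := F))) χ ≠ 0 := by
    intro χ hχ hdeg
    obtain ⟨n, hn, hcases⟩ := classify_deg hodd hN hχ
    have hn' : n = (Fintype.card F + 1) / 2 := by exact_mod_cast (hn.symm.trans hdeg)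
    rcases hcases with ⟨-, h⟩ | ⟨-, h⟩ | ⟨-, h⟩ | ⟨hPχ, -⟩ | ⟨-, h⟩ | ⟨-, h⟩
    · omega
    · omega
    · omega
    · exact hPχ
    · omega
    · omega
  have hM : ∀ χ : Matrix.SpecialLinearGroup (Fin 2) F → ℂ,
      IsIrrCharacter (Matrix.SpecialLinearGroup (Fin 2) F) χ →
      χ 1 = (((Fintype.card F - 1) / 2 : ℕ) : ℂ) →
      (∀ β : MulChar F ℂ, classInner (R β) χ = 0) ∧
        classInner (Xc hodd hN (th0 hodd hN)) χ = 1 ∧
        χ 1 = ((Fintype.card F : ℂ) - 1) / 2 := by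
    intro χ hχ hdeg
    obtain ⟨n, hn, hcases⟩ := classify_deg hodd hN hχ
    have hn' : n = (Fintype.card F - 1) / 2 := by exact_mod_cast (hn.symm.trans hdeg)
    rcases hcases with ⟨-, h⟩ | ⟨-, h⟩ | ⟨-, h⟩ | ⟨-, h⟩ | ⟨-, h⟩ | ⟨⟨hcusp, hb, -, hd⟩, -⟩
    · omega
    · omega
    · omega
    · omega
    · omega
    · exact ⟨hcusp, hb, hd⟩
  have hfin : ∀ (χ : Matrix.SpecialLinearGroup (Fin 2) F → ℂ) (s : ℂ),
      IsIrrCharacter (Matrix.SpecialLinearGroup (Fin 2) F) χ →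
      (fun g => χ (sig ν g)) ≠ χ → s = χ (bm 1 1) + χ (bm 1 (ν : F)) →
      (2 * χ (bm 1 1) - s) ^ 2 =
        (-1 : ℂ) ^ ((Fintype.card F - 1) / 2) * (Fintype.card F : ℂ) := by
    intro χ s hχ hne hs
    have hnorm := twist_norm hodd hN hχ ν hν hne
    have hconj := unip_conj_diff hodd hχ ν hν
    have e : 2 * χ (bm 1 1) - s = χ (bm 1 1) - χ (bm 1 (ν : F)) := by
      rw [hs]
      ring
    rw [e]
    rw [hconj] at hnorm
    have hε : ((-1 : ℂ) ^ ((Fintype.card F - 1) / 2)) * ((-1 : ℂ) ^ ((Fintype.card F - 1) / 2))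
        = 1 := by
      rw [← mul_pow]
      norm_num
    linear_combination ((-1 : ℂ) ^ ((Fintype.card F - 1) / 2)) * hnorm -
      (χ (bm 1 1) - χ (bm 1 (ν : F))) ^ 2 * hε
  have hRu : R (al0 (F := F)) (bm 1 1) = 1 := by
    rw [R_bm_unip hodd al0 1 1 (mul_one 1) one_ne_zero, Units.val_one, map_one]
  have hXu : Xc hodd hN (th0 hodd hN) (bm 1 1) = -1 := Xc_bm_one hodd hN _ 1 one_ne_zero
  rw [hu']
  refine ⟨?_, ?_, ?_, ?_⟩
  · intro χ hχ hdeg
    have hPχ := hP χ hχ hdeg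
    obtain ⟨-, hne, hdec⟩ := twistP hodd hN hχ hPχ ν hν
    have h1 := congrFun hdec (bm 1 1)
    simp only [Pi.add_apply] at h1
    rw [sig_bm, mul_one, hRu] at h1
    exact hfin χ 1 hχ hne h1
  · intro χ hχ hdeg
    obtain ⟨hcusp, hb, hd⟩ := hM χ hχ hdeg
    obtain ⟨-, hne, hdec⟩ := twistM hodd hN hχ hcusp hb hd ν hν
    have h1 := congrFun hdec (bm 1 1)
    simp only [Pi.add_apply] at h1
    rw [sig_bm, mul_one, hXu] at h1
    have h2 := hfin χ (-1) hχ hne h1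
    rw [sub_neg_eq_add] at h2
    exact h2
  · intro χ₁ χ₂ h1 h2 hne hd1 hd2
    have hdec := typeP_pair hodd hN h1 h2 hne (hP χ₁ h1 hd1) (hP χ₂ h2 hd2)
    have h3 := congrFun hdec (bm 1 1)
    simp only [Pi.add_apply] at h3
    rw [← h3, hRu]
  · intro χ₁ χ₂ h1 h2 hne hd1 hd2
    have hb1 : classInner (Xc hodd hN (th0 hodd hN)) χ₁ ≠ 0 := by
      rw [(hM χ₁ h1 hd1).2.1]
      exact one_ne_zero
    have hb2 : classInner (Xc hodd hN (th0 hodd hN)) χ₂ ≠ 0 := by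
      rw [(hM χ₂ h2 hd2).2.1]
      exact one_ne_zero
    have hdec := typeM_pair hodd hN h1 h2 hne hb1 hb2
    have h3 := congrFun hdec (bm 1 1)
    simp only [Pi.add_apply] at h3
    rw [← h3, hXu]

end Cfsg.Agent.S2324
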