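import Cfsg.Statements.S2325
import Mathlib
import Cfsg.Agent.Helper15.SL2D

set_option autoImplicit false
open Cfsg

namespace Cfsg.Agent.S2325

open Cfsg Matrix
open scoped ComplexConjugate
open Cfsg.Agent.Helper15.SL2A Cfsg.Agent.Helper15.SL2B Cfsg.Agent.Helper15.SL2C
open Cfsg.Agent.Helper15.SL2D
open Cfsg.Agent.S2508 (Zm Zm_coe Zm_center Zm_ne_one center_odd)
open Cfsg.Agent.S2430 (two_ne_zero_of_odd)

/-- Over a finite field with q elements, q odd, the special linear group SL₂ has exactly q + 4 conjugacy classes. -/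
theorem result {F : Type*} [Field F] [Fintype F] (hodd : Odd (Fintype.card F)) :
    Nat.card (ConjClasses (Matrix.SpecialLinearGroup (Fin 2) F)) = Fintype.card F + 4 := by
  classical
  rw [← Cfsg.Agent.Helper1.card_irr]
  exact card_irr_SL hodd

end Cfsg.Agent.S2325
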