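import Cfsg.Statements.S2360
import Mathlib
import Cfsg.Agent.Helper15.UI

set_option autoImplicit false
open Cfsg

namespace Cfsg.Agent.S2360

open Cfsg Cfsg.Agent.Helper3 Cfsg.Agent.Helper15.PU Cfsg.Agent.Helper15.UI

theorem arith (q N M : ℕ) (hq : 2 ≤ q)
    (hS : N * (q * (q + 1) * (q ^ 2 - 1)) = M)
    (hM : (q + 1) * M = q ^ 3 * ((q + 1) * (q ^ 2 - 1) * (q ^ 3 + 1))) :
    N = q ^ 2 * (q ^ 2 - q + 1) := by
  have h4 : 4 ≤ q ^ 2 := by nlinarith
  have hm : 0 < q ^ 2 - 1 := by omega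
  have hK : 0 < q * (q + 1) * (q ^ 2 - 1) :=
    Nat.mul_pos (Nat.mul_pos (by omega) (by omega)) hm
  have hle : q ≤ q ^ 2 := by nlinarith
  have e : q ^ 2 - q + 1 + q = q ^ 2 + 1 := by omega
  have hs1 : (q + 1) * (q ^ 2 - q + 1) = q ^ 3 + 1 := by
    have h1 : (q + 1) * (q ^ 2 - q + 1) + (q + 1) * q = (q + 1) * (q ^ 2 + 1) := by
      rw [← mul_add, e]
    have h2 : (q + 1) * (q ^ 2 + 1) = q ^ 3 + 1 + (q + 1) * q := by ring
    linarith
  apply Nat.eq_of_mul_eq_mul_right hK
  apply Nat.eq_of_mul_eq_mul_left (show 0 < q + 1 by omega)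
  rw [hS, hM]
  have : (q + 1) * (q ^ 2 * (q ^ 2 - q + 1) * (q * (q + 1) * (q ^ 2 - 1))) =
      q ^ 3 * ((q + 1) * (q ^ 2 - 1) * ((q + 1) * (q ^ 2 - q + 1))) := by ring
  rw [this, hs1]

/-- Let q be odd, F the field with q² elements and S = SU_3(F) (determinant-one isometries of the standard Hermitian form). Then all involutions of S are conjugate; there are exactly q²(q²−q+1) of them; the centralizer of an involution has order q(q+1)(q²−1), the order of the full unitary group of degree 2; and for two distinct commuting involutions t and x there is exactly one further involution commuting with both. -/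
theorem result {F : Type*} [Field F] [Fintype F] {q : ℕ} (hq : Odd q)
    (hF : Fintype.card F = q ^ 2) (t : ↥(Cfsg.SU 3 F q)) (ht : t ≠ 1) (ht2 : t * t = 1) :
    (∀ x : ↥(Cfsg.SU 3 F q), x ≠ 1 → x * x = 1 → ∃ g : ↥(Cfsg.SU 3 F q), g * t * g⁻¹ = x) ∧
    Nat.card {x : ↥(Cfsg.SU 3 F q) // x ≠ 1 ∧ x * x = 1} = q ^ 2 * (q ^ 2 - q + 1) ∧
    Nat.card ↥(Subgroup.centralizer ({t} : Set ↥(Cfsg.SU 3 F q))) = q * (q + 1) * (q ^ 2 - 1) ∧
    ∀ x : ↥(Cfsg.SU 3 F q), x ≠ 1 → x * x = 1 → x ≠ t → Commute t x →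
      Nat.card {y : ↥(Cfsg.SU 3 F q) // y ≠ 1 ∧ y * y = 1 ∧ y ≠ t ∧ y ≠ x ∧ Commute t y ∧ Commute x y} = 1 := by
  classical
  have h2F : (2 : F) ≠ 0 := two_ne hq hF
  have hq2 := two_le_q hF
  obtain ⟨gt, hgt⟩ := conj_d0 hq hF h2F t ht ht2
  have hA : ∀ x : SU 3 F q, x ≠ 1 → x * x = 1 → ∃ g : SU 3 F q, g * t * g⁻¹ = x := by
    intro x hx hx2
    obtain ⟨gx, hgx⟩ := conj_d0 hq hF h2F x hx hx2
    refine ⟨gx * gt⁻¹, ?_⟩
    rw [hgx, hgt]; group
  have hC : Nat.card (Subgroup.centralizer ({t} : Set (SU 3 F q))) =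
      q * (q + 1) * (q ^ 2 - 1) := by
    rw [hgt, card_centralizer_conj, card_centralizer_d0 hq hF h2F, card_GU hF 2]
    simp [Finset.prod_range_succ]
    ring
  refine ⟨hA, ?_, hC, ?_⟩
  · have hS := class_card t {x : SU 3 F q | x ≠ 1 ∧ x * x = 1} (by
      intro x
      constructor
      · rintro ⟨h1, h2⟩; exact hA x h1 h2
      · rintro ⟨g, rfl⟩
        refine ⟨?_, ?_⟩
        · intro h
          apply ht
          have : t = g⁻¹ * (g * t * g⁻¹) * g := by group
          rw [this, h]; group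
        · calc g * t * g⁻¹ * (g * t * g⁻¹) = g * (t * t) * g⁻¹ := by group
            _ = 1 := by rw [ht2]; group)
    rw [hC] at hS
    have hSU := card_SU hF (n := 3) (by norm_num)
    rw [card_GU hF 3] at hSU
    have hSU' : (q + 1) * Nat.card (SU 3 F q) =
        q ^ 3 * ((q + 1) * (q ^ 2 - 1) * (q ^ 3 + 1)) := by
      rw [hSU]
      simp [Finset.prod_range_succ]
    exact arith q _ _ hq2 hS hSU'
  · intro x hx hx2 hxt hcomm
    rw [Nat.card_eq_one_iff_unique]
    constructor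
    · refine ⟨fun a b => Subtype.ext ?_⟩
      obtain ⟨a, ha1, ha2, hat, hax, hta, hxa⟩ := a
      obtain ⟨b, hb1, hb2, hbt, hbx, htb, hxb⟩ := b
      show a = b
      rw [third_unique_grp hq hF t x a ht ht2 hx hx2 hxt ha1 ha2 hat hax hcomm hta hxa,
        third_unique_grp hq hF t x b ht ht2 hx hx2 hxt hb1 hb2 hbt hbx hcomm htb hxb]
    · have hxinv : t * x * x = t := by rw [mul_assoc, hx2, mul_one]
      refine ⟨⟨t * x, ?_, ?_, ?_, ?_, ?_, ?_⟩⟩
      · intro h
        apply hxt
        rw [h, one_mul] at hxinv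
        exact hxinv
      · calc t * x * (t * x) = t * (x * t) * x := by group
          _ = t * (t * x) * x := by rw [hcomm.eq]
          _ = (t * t) * (x * x) := by group
          _ = 1 := by rw [ht2, hx2, one_mul]
      · intro h
        apply hx
        have : t * x = t * 1 := by rw [mul_one]; exact h
        exact mul_left_cancel this
      · intro h
        apply ht
        have : t * x = 1 * x := by rw [one_mul]; exact h
        exact mul_right_cancel this
      · exact (Commute.refl t).mul_right hcomm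
      · exact hcomm.symm.mul_right (Commute.refl x)

end Cfsg.Agent.S2360
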