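import Cfsg.Statements.S2356
import Mathlib
import Cfsg.Agent.Helper15.UK
import Cfsg.Agent.S2360

set_option autoImplicit false
open Cfsg

namespace Cfsg.Agent.S2356

open Cfsg.Agent.Helper3 Cfsg.Agent.Helper15.PU Cfsg.Agent.Helper15.UI Cfsg.Agent.Helper15.UJ
  Cfsg.Agent.Helper15.UK

/-- Let q be odd, F the field with q² elements, S = SU_3(F) (determinant-one isometries of the standard Hermitian form) and t an involution of S. Then: exactly q(q−1) involutions other than t commute with t; exactly q(q−2)(q²−1) involutions do not commute with t but commute with some involution commuting with t; exactly (q+1)(q²−1) involutions x do not commute with t and admit no involution commuting with both t and x; and every involution can be reached from t in at most three steps, each step going to an involution that commutes with the previous one (the commuting involution graph is connected of diameter 3). -/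
theorem result {F : Type*} [Field F] [Fintype F] {q : ℕ} (hq : Odd q)
    (hF : Fintype.card F = q ^ 2) (t : ↥(Cfsg.SU 3 F q)) (ht : t ≠ 1) (ht2 : t * t = 1) :
    Nat.card {x : ↥(Cfsg.SU 3 F q) // x ≠ 1 ∧ x * x = 1 ∧ x ≠ t ∧ Commute t x} = q * (q - 1) ∧
    Nat.card {x : ↥(Cfsg.SU 3 F q) // x ≠ 1 ∧ x * x = 1 ∧ ¬ Commute t x ∧
        ∃ y : ↥(Cfsg.SU 3 F q), y ≠ 1 ∧ y * y = 1 ∧ Commute t y ∧ Commute y x} = q * (q - 2) * (q ^ 2 - 1) ∧
    Nat.card {x : ↥(Cfsg.SU 3 F q) // x ≠ 1 ∧ x * x = 1 ∧ ¬ Commute t x ∧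
        ∀ y : ↥(Cfsg.SU 3 F q), y ≠ 1 → y * y = 1 → ¬ (Commute t y ∧ Commute y x)} = (q + 1) * (q ^ 2 - 1) ∧
    ∀ x : ↥(Cfsg.SU 3 F q), x ≠ 1 → x * x = 1 →
      ∃ y z : ↥(Cfsg.SU 3 F q), y ≠ 1 ∧ y * y = 1 ∧ z ≠ 1 ∧ z * z = 1 ∧
        Commute t y ∧ Commute y z ∧ Commute z x := by
  have h2F := two_ne hq hF
  obtain ⟨g, hg⟩ := conj_d0 hq hF h2F t ht ht2
  let e : SU 3 F q ≃* SU 3 F q := MulAut.conj g⁻¹
  have het : e t = d0 hq := by
    show g⁻¹ * t * g⁻¹⁻¹ = d0 hq
    rw [hg]; group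
  have hd : Stmt (d0 hq : SU 3 F q) (q * (q - 1)) (q * (q - 2) * (q ^ 2 - 1))
      ((q + 1) * (q ^ 2 - 1)) := by
    have h1 := card_n1 hq hF
    have h3 := card_n3 hq hF
    have hp := partition (d0 hq : SU 3 F q) (d0_ne_one hq hF) (d0_sq hq)
    have htot := (Cfsg.Agent.S2360.result hq hF (d0 hq) (d0_ne_one hq hF) (d0_sq hq)).2.1
    refine ⟨h1, ?_, h3, path_d0 hq hF⟩
    rw [htot, h1, h3] at hp
    have hq2 := two_le_q hF
    obtain ⟨r, rfl⟩ : ∃ r, q = r + 2 := ⟨q - 2, by omega⟩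
    have a1 : (r + 2) ^ 2 - 1 = (r + 1) * (r + 3) := by
      apply Nat.sub_eq_of_eq_add; ring
    have a2 : (r + 2) ^ 2 - (r + 2) = (r + 2) * (r + 1) := by
      apply Nat.sub_eq_of_eq_add; ring
    have a3 : r + 2 - 1 = r + 1 := by omega
    have a4 : r + 2 - 2 = r := by omega
    rw [a1, a2, a3] at hp
    rw [a1, a4]
    have hid : (r + 2) ^ 2 * ((r + 2) * (r + 1) + 1) = 1 + (r + 2) * (r + 1) +
        (r + 2) * r * ((r + 1) * (r + 3)) + (r + 2 + 1) * ((r + 1) * (r + 3)) := by ring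
    linarith [hp, hid]
  rw [← het] at hd
  exact transport e t _ _ _ hd

end Cfsg.Agent.S2356
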