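import Cfsg.Statements.S2428
import Mathlib
import Cfsg.Agent.S2475
import Cfsg.Agent.S2508
import Cfsg.Agent.S2430
import Cfsg.Agent.S2429

set_option autoImplicit false
open Cfsg

namespace Cfsg.Agent.S2428

open Cfsg.Agent.S2475 (orderOf_of_iff)
open Cfsg.Agent.S2508 (Zm)
open Cfsg.Agent.S2430 (two_ne_zero_of_odd)
open Cfsg.Agent.S2429 (torus_package Zm_coe_neg)

lemma exists_split_gen' {F : Type*} [Field F] [Fintype F] :
    ∃ g : Matrix.SpecialLinearGroup (Fin 2) F, g.1 0 1 = 0 ∧ g.1 1 0 = 0 ∧
      orderOf g = Fintype.card F - 1 := by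
  classical
  obtain ⟨γ, hγ⟩ := IsCyclic.exists_generator (α := Fˣ)
  have hord : orderOf γ = Fintype.card F - 1 := by
    rw [orderOf_eq_card_of_forall_mem_zpowers hγ, Nat.card_units, Nat.card_eq_fintype_card]
  obtain ⟨D, hD⟩ : ∃ D : Matrix.SpecialLinearGroup (Fin 2) F,
      D.1 = !![(γ : F), 0; 0, ((γ⁻¹ : Fˣ) : F)] :=
    ⟨⟨_, by simp [Matrix.det_fin_two]⟩, rfl⟩
  have hDpow : ∀ n : ℕ, (D ^ n).1 = !![((γ ^ n : Fˣ) : F), 0; 0, (((γ⁻¹) ^ n : Fˣ) : F)] := by
    intro n
    induction n with
    | zero =>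
      rw [pow_zero, Matrix.SpecialLinearGroup.coe_one]
      ext i j
      fin_cases i <;> fin_cases j <;> simp
    | succ n ih =>
      rw [pow_succ, Matrix.SpecialLinearGroup.coe_mul, ih, hD]
      ext i j
      fin_cases i <;> fin_cases j <;> simp [Matrix.mul_apply, Fin.sum_univ_two, pow_succ]
  refine ⟨D, by rw [hD]; simp, by rw [hD]; simp, ?_⟩
  rw [← hord]
  apply orderOf_of_iff
  intro k
  rw [orderOf_dvd_iff_pow_eq_one]
  constructor
  · intro h
    have h1 : (D ^ k).1 0 0 = 1 := by rw [h]; simp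
    rw [hDpow] at h1
    apply Units.ext
    simpa using h1
  · intro h
    apply Subtype.ext
    rw [hDpow, inv_pow, h]
    ext i j
    fin_cases i <;> fin_cases j <;> simp

/-- Let F be a finite field with q elements, q odd, and let d be a diagonal element of SL₂ over F whose diagonal entry a has a² ≠ 1 (such d exist exactly when q > 3). Then the centraliser of d is precisely the diagonal subgroup T; the normaliser of T has order 2(q − 1) and exactly (q + 5)/2 conjugacy classes; and every element of that normaliser outside T has square equal to −1. -/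
theorem result {F : Type*} [Field F] [Fintype F] (hodd : Odd (Fintype.card F))
    (d : Matrix.SpecialLinearGroup (Fin 2) F) (hd01 : (d : Matrix (Fin 2) (Fin 2) F) 0 1 = 0) (hd10 : (d : Matrix (Fin 2) (Fin 2) F) 1 0 = 0) (hda : (d : Matrix (Fin 2) (Fin 2) F) 0 0 ^ 2 ≠ 1) :
    (∀ g : Matrix.SpecialLinearGroup (Fin 2) F, g ∈ Subgroup.centralizer ({d} : Set (Matrix.SpecialLinearGroup (Fin 2) F)) ↔ ((g : Matrix (Fin 2) (Fin 2) F) 0 1 = 0 ∧ (g : Matrix (Fin 2) (Fin 2) F) 1 0 = 0)) ∧
    Nat.card (Subgroup.normalizer ((Subgroup.centralizer ({d} : Set (Matrix.SpecialLinearGroup (Fin 2) F))) : Set (Matrix.SpecialLinearGroup (Fin 2) F))) = 2 * (Fintype.card F - 1) ∧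
    Nat.card (ConjClasses (Subgroup.normalizer ((Subgroup.centralizer ({d} : Set (Matrix.SpecialLinearGroup (Fin 2) F))) : Set (Matrix.SpecialLinearGroup (Fin 2) F)))) = (Fintype.card F + 5) / 2 ∧
    ∀ g : Matrix.SpecialLinearGroup (Fin 2) F, g ∈ Subgroup.normalizer ((Subgroup.centralizer ({d} : Set (Matrix.SpecialLinearGroup (Fin 2) F))) : Set (Matrix.SpecialLinearGroup (Fin 2) F)) →
      g ∉ Subgroup.centralizer ({d} : Set (Matrix.SpecialLinearGroup (Fin 2) F)) → ((g * g) : Matrix (Fin 2) (Fin 2) F) = -1 := by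
  classical
  have hoddq : Fintype.card F % 2 = 1 := Nat.odd_iff.mp hodd
  have h2 : (2 : F) ≠ 0 := two_ne_zero_of_odd hoddq
  have hq2 : 2 ≤ Fintype.card F := Fintype.one_lt_card
  have hdet : d.1 0 0 * d.1 1 1 = 1 := by
    have h := d.2
    rw [Matrix.det_fin_two, hd01, hd10] at h
    linear_combination h
  have ha0 : d.1 0 0 ≠ 0 := by
    intro h
    rw [h, zero_mul] at hdet
    exact zero_ne_one hdet
  have hne : d.1 1 1 ≠ d.1 0 0 := by
    intro h
    apply hda
    rw [sq]
    nth_rewrite 2 [← h]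
    exact hdet
  have hq5 : 5 ≤ Fintype.card F := by
    by_contra hlt
    have hq3 : Fintype.card F = 3 := by omega
    apply hda
    have h := FiniteField.pow_card_sub_one_eq_one (d.1 0 0) ha0
    rw [hq3] at h
    exact h
  have hpart1 : ∀ g : Matrix.SpecialLinearGroup (Fin 2) F,
      g ∈ Subgroup.centralizer ({d} : Set (Matrix.SpecialLinearGroup (Fin 2) F)) ↔
        ((g : Matrix (Fin 2) (Fin 2) F) 0 1 = 0 ∧ (g : Matrix (Fin 2) (Fin 2) F) 1 0 = 0) := by
    intro g
    rw [Subgroup.mem_centralizer_singleton_iff]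
    constructor
    · intro h
      have h' := congrArg Subtype.val h
      rw [Matrix.SpecialLinearGroup.coe_mul, Matrix.SpecialLinearGroup.coe_mul] at h'
      have h01 := congrFun (congrFun h' 0) 1
      have h10 := congrFun (congrFun h' 1) 0
      simp only [Matrix.mul_apply, Fin.sum_univ_two] at h01 h10
      simp only [hd01, hd10, mul_zero, zero_mul, add_zero, zero_add] at h01 h10
      constructor
      · have h3 : g.1 0 1 * (d.1 1 1 - d.1 0 0) = 0 := by linear_combination h01
        rcases mul_eq_zero.mp h3 with h4 | h4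
        · exact h4
        · exact absurd (sub_eq_zero.mp h4) hne
      · have h3 : g.1 1 0 * (d.1 1 1 - d.1 0 0) = 0 := by linear_combination (-1 : F) * h10
        rcases mul_eq_zero.mp h3 with h4 | h4
        · exact h4
        · exact absurd (sub_eq_zero.mp h4) hne
    · rintro ⟨h01, h10⟩
      apply Subtype.ext
      rw [Matrix.SpecialLinearGroup.coe_mul, Matrix.SpecialLinearGroup.coe_mul]
      ext i j
      fin_cases i <;> fin_cases j <;>
        simp [Matrix.mul_apply, Fin.sum_univ_two, h01, h10, hd01, hd10] <;> ring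
  obtain ⟨D, hD01, hD10, hD⟩ := exists_split_gen' (F := F)
  obtain ⟨hCT, hCx, hNcard, hcls, hsq⟩ :=
    torus_package hoddq D _ hD (by omega) (Or.inl rfl)
  have hDT : D ∈ Subgroup.zpowers D := Subgroup.mem_zpowers D
  have hCD : Subgroup.centralizer {D} = Subgroup.zpowers D := by
    apply hCx D hDT
    · intro h
      rw [h, orderOf_one] at hD
      omega
    · intro h
      have h1 : D ^ 2 = 1 := by
        rw [h]
        apply Subtype.ext
        rw [Matrix.SpecialLinearGroup.coe_pow, Zm_coe_neg]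
        simp
      have h3 := orderOf_dvd_of_pow_eq_one h1
      rw [hD] at h3
      have := Nat.le_of_dvd (by norm_num) h3
      omega
  have hdT : d ∈ Subgroup.zpowers D := by
    rw [← hCD, Subgroup.mem_centralizer_singleton_iff]
    apply Subtype.ext
    rw [Matrix.SpecialLinearGroup.coe_mul, Matrix.SpecialLinearGroup.coe_mul]
    ext i j
    fin_cases i <;> fin_cases j <;>
      simp [Matrix.mul_apply, Fin.sum_univ_two, hd01, hd10, hD01, hD10] <;> ring
  have hCd : Subgroup.centralizer ({d} : Set (Matrix.SpecialLinearGroup (Fin 2) F))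
      = Subgroup.zpowers D := by
    apply hCx d hdT
    · intro h
      apply hda
      rw [h]
      simp
    · intro h
      apply hda
      rw [h, Zm_coe_neg]
      simp
  refine ⟨hpart1, ?_, ?_, ?_⟩
  · rw [hCd]
    exact hNcard
  · rw [hCd]
    omega
  · intro g hgN hgT
    rw [hCd] at hgN hgT
    rw [← Matrix.SpecialLinearGroup.coe_mul, hsq g hgN hgT, Zm_coe_neg]

end Cfsg.Agent.S2428
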