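import Cfsg.Statements.S2431
import Mathlib
import Cfsg.Agent.S2430
import Cfsg.Agent.S2429
import Cfsg.Agent.S2508
import Cfsg.Agent.S2475
import Cfsg.Agent.S2455

set_option autoImplicit false
open Cfsg

namespace Cfsg.Agent.S2431

open Matrix
open Cfsg.Agent.S2430 (card_SL2 two_ne_zero_of_odd exists_split_gen exists_nonsplit_gen mem_normalizer_of)
open Cfsg.Agent.S2429 (torus_package sq_one_cases Zm_coe_neg)
open Cfsg.Agent.S2508 (Zm Zm_coe Zm_center Zm_ne_one center_odd)
open Cfsg.Agent.S2475 (det_form)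
open Cfsg.Agent.S2455 (ch)

section
variable {F : Type*} [Field F] [Fintype F]

lemma Zm_sq : Zm F * Zm F = 1 := by
  apply Subtype.ext
  rw [Matrix.SpecialLinearGroup.coe_mul, Zm_coe_neg, neg_mul_neg, one_mul]
  rfl

lemma fac2 (a b c : ℕ) (ha : a % 2 = 1) (hb : b ≠ 0) (hc : c % 4 = 2) :
    (a * b * c).factorization 2 = b.factorization 2 + 1 := by
  have ha0 : a ≠ 0 := by rintro rfl; simp at ha
  obtain ⟨d, hd⟩ : ∃ d, c = 2 * d := ⟨c / 2, by omega⟩
  have hd1 : d % 2 = 1 := by omega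
  have hd0 : d ≠ 0 := by rintro rfl; simp at hd1
  have hc0 : c ≠ 0 := by omega
  rw [Nat.factorization_mul (mul_ne_zero ha0 hb) hc0, Nat.factorization_mul ha0 hb, hd,
    Nat.factorization_mul (by norm_num) hd0]
  simp only [Finsupp.add_apply]
  rw [Nat.factorization_eq_zero_of_not_dvd (by omega : ¬ 2 ∣ a),
    Nat.factorization_eq_zero_of_not_dvd (by omega : ¬ 2 ∣ d), Nat.Prime.factorization_self Nat.prime_two]
  omega

lemma card_toFinset {G : Type*} [Group G] [Finite G] (H : Subgroup G) :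
    (Set.toFinite (H : Set G)).toFinset.card = Nat.card H := by
  rw [← Set.ncard_eq_toFinset_card (H : Set G)]
  exact (Nat.card_coe_set_eq _)

lemma sylow2_struct (hodd : Fintype.card F % 2 = 1) (S : Sylow 2 (Matrix.SpecialLinearGroup (Fin 2) F)) :
    ∃ (g : Matrix.SpecialLinearGroup (Fin 2) F) (m k : ℕ), orderOf g = m ∧ (m = Fintype.card F - 1 ∨ m = Fintype.card F + 1) ∧
      m = 2 ^ k * (m / 2 ^ k) ∧ ¬ 2 ∣ m / 2 ^ k ∧ 2 ≤ k ∧ Nat.card S = 2 ^ (k + 1) ∧
      ((Fintype.card F % 8 = 1 ∨ Fintype.card F % 8 = 7) → 3 ≤ k) ∧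
      ((Fintype.card F % 8 = 3 ∨ Fintype.card F % 8 = 5) → k = 2) ∧
      g ^ (m / 2 ^ k) ∈ (S : Subgroup (Matrix.SpecialLinearGroup (Fin 2) F)) := by
  classical
  have hq2 : 2 ≤ Fintype.card F := Fintype.one_lt_card
  obtain ⟨g, m, m', hgm, hmq, h4, hm', hcardSL, h8⟩ : ∃ (g : Matrix.SpecialLinearGroup (Fin 2) F) (m m' : ℕ), orderOf g = m ∧
      (m = Fintype.card F - 1 ∨ m = Fintype.card F + 1) ∧ 4 ∣ m ∧ m' % 4 = 2 ∧
      Nat.card (Matrix.SpecialLinearGroup (Fin 2) F) = Fintype.card F * m * m' ∧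
      (8 ∣ m ↔ (Fintype.card F % 8 = 1 ∨ Fintype.card F % 8 = 7)) := by
    by_cases h : Fintype.card F % 4 = 1
    · obtain ⟨g, hg⟩ := exists_split_gen (F := F)
      exact ⟨g, _, Fintype.card F + 1, hg, Or.inl rfl, by omega, by omega, card_SL2, by omega⟩
    · obtain ⟨g, hg⟩ := exists_nonsplit_gen (F := F)
      refine ⟨g, _, Fintype.card F - 1, hg, Or.inr rfl, by omega, by omega, ?_, by omega⟩
      rw [card_SL2]; ring
  have hm0 : m ≠ 0 := by rcases hmq with h | h <;> omega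
  have hdvd : 2 ^ m.factorization 2 ∣ m := Nat.ordProj_dvd m 2
  have hmk : m = 2 ^ m.factorization 2 * (m / 2 ^ m.factorization 2) := (Nat.mul_div_cancel' hdvd).symm
  have hc : ¬ 2 ∣ m / 2 ^ m.factorization 2 := Nat.not_dvd_ordCompl Nat.prime_two hm0
  have hk2 : 2 ≤ m.factorization 2 :=
    (Nat.Prime.pow_dvd_iff_le_factorization Nat.prime_two hm0).mp (by norm_num; exact h4)
  have hS : Nat.card S = 2 ^ (m.factorization 2 + 1) := by
    rw [S.card_eq_multiplicity, hcardSL, fac2 _ _ _ hodd hm0 hm']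
  have hy : orderOf (g ^ (m / 2 ^ m.factorization 2)) = 2 ^ m.factorization 2 := by
    have hne : m / 2 ^ m.factorization 2 ≠ 0 := by
      intro h0; rw [h0, mul_zero] at hmk; exact hm0 hmk
    rw [orderOf_pow_of_dvd hne (by rw [hgm]; exact Nat.div_dvd_of_dvd hdvd), hgm,
      Nat.div_div_self hdvd hm0]
  have hcardz : Nat.card (Subgroup.zpowers (g ^ (m / 2 ^ m.factorization 2))) = 2 ^ m.factorization 2 := by
    rw [Nat.card_zpowers, hy]
  have hpg : IsPGroup 2 (Subgroup.zpowers (g ^ (m / 2 ^ m.factorization 2))) := IsPGroup.of_card hcardz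
  obtain ⟨Q, hQ⟩ := hpg.exists_le_sylow
  obtain ⟨c, hc'⟩ := MulAction.exists_smul_eq (Matrix.SpecialLinearGroup (Fin 2) F) Q S
  refine ⟨c * g * c⁻¹, m, m.factorization 2, ?_, hmq, hmk, hc, hk2, hS, ?_, ?_, ?_⟩
  · rw [← MulAut.conj_apply, MulEquiv.orderOf_eq, hgm]
  · intro h
    exact (Nat.Prime.pow_dvd_iff_le_factorization Nat.prime_two hm0).mp (by norm_num; exact h8.mpr h)
  · intro h
    by_contra hk
    have h3 : 3 ≤ m.factorization 2 := by omega
    have := (Nat.Prime.pow_dvd_iff_le_factorization Nat.prime_two hm0).mpr h3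
    have h9 : 8 ∣ m := by norm_num at this; exact this
    have := h8.mp h9
    omega
  · rw [← hc', Sylow.coe_subgroup_smul, conj_pow]
    have h1 : g ^ (m / 2 ^ m.factorization 2) ∈ (Q : Subgroup (Matrix.SpecialLinearGroup (Fin 2) F)) := hQ (Subgroup.mem_zpowers _)
    have h3 := Subgroup.smul_mem_pointwise_smul _ (MulAut.conj c) _ h1
    rwa [MulAut.smul_def, MulAut.conj_apply] at h3

lemma facts (hodd : Fintype.card F % 2 = 1) (S : Sylow 2 (Matrix.SpecialLinearGroup (Fin 2) F)) (g : Matrix.SpecialLinearGroup (Fin 2) F) (m k : ℕ)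
    (hm : orderOf g = m) (hmq : m = Fintype.card F - 1 ∨ m = Fintype.card F + 1)
    (hmk : m = 2 ^ k * (m / 2 ^ k)) (hc : ¬ 2 ∣ m / 2 ^ k) (hk : 2 ≤ k) (hS : Nat.card S = 2 ^ (k + 1))
    (ht : g ^ (m / 2 ^ k) ∈ (S : Subgroup (Matrix.SpecialLinearGroup (Fin 2) F))) :
    orderOf (g ^ (m / 2 ^ k)) = 2 ^ k ∧
    Subgroup.centralizer {g ^ (m / 2 ^ k)} = Subgroup.zpowers g ∧
    (∀ n : Matrix.SpecialLinearGroup (Fin 2) F, n * g ^ (m / 2 ^ k) * n⁻¹ ∈ Subgroup.zpowers g →
      ∀ z ∈ Subgroup.zpowers g, n * z * n⁻¹ ∈ Subgroup.zpowers g) ∧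
    (∀ s ∈ (S : Subgroup (Matrix.SpecialLinearGroup (Fin 2) F)),
      s ∈ Subgroup.normalizer ((Subgroup.zpowers g : Subgroup (Matrix.SpecialLinearGroup (Fin 2) F)) : Set (Matrix.SpecialLinearGroup (Fin 2) F))) ∧
    (∀ s ∈ Subgroup.zpowers g, (∃ j : ℕ, s ^ (2 ^ j) = 1) → s ∈ Subgroup.zpowers (g ^ (m / 2 ^ k))) ∧
    (∃ x ∈ (S : Subgroup (Matrix.SpecialLinearGroup (Fin 2) F)), x ∉ Subgroup.zpowers g) ∧
    (∀ x ∈ Subgroup.normalizer ((Subgroup.zpowers g : Subgroup (Matrix.SpecialLinearGroup (Fin 2) F)) : Set (Matrix.SpecialLinearGroup (Fin 2) F)),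
      x ∉ Subgroup.zpowers g → x * x = Zm F ∧ ∀ c ∈ Subgroup.zpowers g, x * c * x⁻¹ = c⁻¹) ∧
    (∀ n ∈ Subgroup.normalizer ((S : Subgroup (Matrix.SpecialLinearGroup (Fin 2) F)) : Set (Matrix.SpecialLinearGroup (Fin 2) F)), n ∈ Subgroup.zpowers g →
      n ∈ (S : Subgroup (Matrix.SpecialLinearGroup (Fin 2) F))) := by
  classical
  have h2 : (2 : F) ≠ 0 := two_ne_zero_of_odd hodd
  have hq2 : 2 ≤ Fintype.card F := Fintype.one_lt_card
  have hm0 : m ≠ 0 := by rcases hmq with h | h <;> omega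
  have h4le : 4 ≤ 2 ^ k := by
    calc 4 = 2 ^ 2 := by norm_num
      _ ≤ 2 ^ k := Nat.pow_le_pow_right (by norm_num) hk
  have hdvd : 2 ^ k ∣ m := Dvd.intro _ hmk.symm
  have hm2 : 2 < m := by
    have := Nat.le_of_dvd (by omega) hdvd
    omega
  obtain ⟨hCT, hCx, hNcard, -, hsq⟩ := torus_package hodd g m hm hm2 hmq
  have hy : orderOf (g ^ (m / 2 ^ k)) = 2 ^ k := by
    have hne : m / 2 ^ k ≠ 0 := by
      intro h0; rw [h0, mul_zero] at hmk; exact hm0 hmk
    rw [orderOf_pow_of_dvd hne (by rw [hm]; exact Nat.div_dvd_of_dvd hdvd), hm,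
      Nat.div_div_self hdvd hm0]
  have ht₀T : g ^ (m / 2 ^ k) ∈ Subgroup.zpowers g := Subgroup.pow_mem _ (Subgroup.mem_zpowers g) _
  have hord : ∀ y : Matrix.SpecialLinearGroup (Fin 2) F, orderOf y = 2 ^ k → y ≠ 1 ∧ y ≠ Zm F := by
    intro y hy'
    constructor
    · rintro rfl; rw [orderOf_one] at hy'; omega
    · rintro rfl
      have h5 := orderOf_dvd_of_pow_eq_one (show (Zm F) ^ 2 = 1 by rw [sq]; exact Zm_sq)
      rw [hy'] at h5
      have := Nat.le_of_dvd (by norm_num) h5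
      omega
  have hF1 : Subgroup.centralizer {g ^ (m / 2 ^ k)} = Subgroup.zpowers g :=
    hCx _ ht₀T (hord _ hy).1 (hord _ hy).2
  have hconjT : ∀ n : Matrix.SpecialLinearGroup (Fin 2) F, n * g ^ (m / 2 ^ k) * n⁻¹ ∈ Subgroup.zpowers g →
      ∀ z ∈ Subgroup.zpowers g, n * z * n⁻¹ ∈ Subgroup.zpowers g := by
    intro n hn z hz
    have ho : orderOf (n * g ^ (m / 2 ^ k) * n⁻¹) = 2 ^ k := by
      rw [← MulAut.conj_apply, MulEquiv.orderOf_eq, hy]
    have hC := hCx _ hn (hord _ ho).1 (hord _ ho).2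
    rw [← hC, Subgroup.mem_centralizer_iff]
    intro y hy'
    rw [Set.mem_singleton_iff] at hy'
    subst hy'
    have hcomm : g ^ (m / 2 ^ k) * z = z * g ^ (m / 2 ^ k) := by
      obtain ⟨j, rfl⟩ := Subgroup.mem_zpowers_iff.mp hz
      rw [← _root_.zpow_natCast, ← _root_.zpow_add, ← _root_.zpow_add, add_comm]
    calc n * g ^ (m / 2 ^ k) * n⁻¹ * (n * z * n⁻¹) = n * (g ^ (m / 2 ^ k) * z) * n⁻¹ := by group
      _ = n * (z * g ^ (m / 2 ^ k)) * n⁻¹ := by rw [hcomm]
      _ = n * z * n⁻¹ * (n * g ^ (m / 2 ^ k) * n⁻¹) := by group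
  have hT2S : Subgroup.zpowers (g ^ (m / 2 ^ k)) ≤ (S : Subgroup (Matrix.SpecialLinearGroup (Fin 2) F)) := by
    rw [Subgroup.zpowers_le]; exact ht
  have hScard : Nat.card (S : Subgroup (Matrix.SpecialLinearGroup (Fin 2) F)) = 2 ^ (k + 1) := hS
  have hnormal : ∀ s ∈ (S : Subgroup (Matrix.SpecialLinearGroup (Fin 2) F)),
      s * g ^ (m / 2 ^ k) * s⁻¹ ∈ Subgroup.zpowers (g ^ (m / 2 ^ k)) := by
    intro s hs
    have hidx : ((Subgroup.zpowers (g ^ (m / 2 ^ k))).subgroupOf (S : Subgroup (Matrix.SpecialLinearGroup (Fin 2) F))).index = 2 := by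
      have h1 := Subgroup.card_mul_index ((Subgroup.zpowers (g ^ (m / 2 ^ k))).subgroupOf (S : Subgroup (Matrix.SpecialLinearGroup (Fin 2) F)))
      rw [Nat.card_congr (Subgroup.subgroupOfEquivOfLe hT2S).toEquiv, Nat.card_zpowers, hy, hScard,
        pow_succ] at h1
      exact Nat.eq_of_mul_eq_mul_left (by positivity) h1
    haveI := Subgroup.normal_of_index_eq_two hidx
    have h3 := Subgroup.Normal.conj_mem
      (inferInstance : ((Subgroup.zpowers (g ^ (m / 2 ^ k))).subgroupOf (S : Subgroup (Matrix.SpecialLinearGroup (Fin 2) F))).Normal)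
      ⟨g ^ (m / 2 ^ k), ht⟩ (Subgroup.mem_subgroupOf.mpr (Subgroup.mem_zpowers _)) ⟨s, hs⟩
    exact Subgroup.mem_subgroupOf.mp h3
  have hzT : Subgroup.zpowers (g ^ (m / 2 ^ k)) ≤ Subgroup.zpowers g := by
    rw [Subgroup.zpowers_le]; exact ht₀T
  have hF2 : ∀ s ∈ (S : Subgroup (Matrix.SpecialLinearGroup (Fin 2) F)),
      s ∈ Subgroup.normalizer ((Subgroup.zpowers g : Subgroup (Matrix.SpecialLinearGroup (Fin 2) F)) : Set (Matrix.SpecialLinearGroup (Fin 2) F)) := by
    intro s hs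
    apply mem_normalizer_of
    · exact hconjT s (hzT (hnormal s hs))
    · intro z hz
      have := hconjT s⁻¹ (hzT (hnormal s⁻¹ (inv_mem hs))) z hz
      rwa [inv_inv] at this
  have hF3 : ∀ s ∈ Subgroup.zpowers g, (∃ j : ℕ, s ^ (2 ^ j) = 1) →
      s ∈ Subgroup.zpowers (g ^ (m / 2 ^ k)) := by
    intro s hs ⟨j, hj⟩
    obtain ⟨i, rfl⟩ := Subgroup.mem_zpowers_iff.mp hs
    rw [← _root_.zpow_natCast, ← _root_.zpow_mul] at hj
    have h1 := (orderOf_dvd_iff_zpow_eq_one).mpr hj
    rw [hm] at h1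
    have h2' : ((m / 2 ^ k : ℕ) : ℤ) ∣ i * ((2 ^ j : ℕ) : ℤ) := by
      refine dvd_trans ?_ h1
      exact Int.natCast_dvd_natCast.mpr (Dvd.intro_left _ hmk.symm)
    have hcop : IsCoprime ((m / 2 ^ k : ℕ) : ℤ) ((2 ^ j : ℕ) : ℤ) := by
      rw [Nat.isCoprime_iff_coprime]
      exact Nat.Coprime.pow_right j ((Nat.Prime.coprime_iff_not_dvd Nat.prime_two).mpr hc).symm
    obtain ⟨i', hi'⟩ := hcop.dvd_of_dvd_mul_right h2'
    rw [Subgroup.mem_zpowers_iff]
    refine ⟨i', ?_⟩
    rw [← _root_.zpow_natCast, ← _root_.zpow_mul, ← hi']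
  have hF4 : ∃ x ∈ (S : Subgroup (Matrix.SpecialLinearGroup (Fin 2) F)), x ∉ Subgroup.zpowers g := by
    by_contra hcon
    push Not at hcon
    have hle : (S : Subgroup (Matrix.SpecialLinearGroup (Fin 2) F)) ≤ Subgroup.zpowers (g ^ (m / 2 ^ k)) := by
      intro s hs
      apply hF3 s (hcon s hs)
      obtain ⟨j, hj⟩ := S.isPGroup' ⟨s, hs⟩
      exact ⟨j, by simpa using congrArg Subtype.val hj⟩
    have h5 := Subgroup.card_le_of_le hle
    rw [Nat.card_zpowers, hy, hScard, pow_succ] at h5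
    have : 0 < 2 ^ k := by positivity
    omega
  have hF5 : ∀ x ∈ Subgroup.normalizer ((Subgroup.zpowers g : Subgroup (Matrix.SpecialLinearGroup (Fin 2) F)) : Set (Matrix.SpecialLinearGroup (Fin 2) F)),
      x ∉ Subgroup.zpowers g → x * x = Zm F ∧ ∀ c ∈ Subgroup.zpowers g, x * c * x⁻¹ = c⁻¹ := by
    intro x hxN hxT
    refine ⟨hsq x hxN hxT, ?_⟩
    intro c hc'
    have hxc : x * c ∈ Subgroup.normalizer ((Subgroup.zpowers g : Subgroup (Matrix.SpecialLinearGroup (Fin 2) F)) : Set (Matrix.SpecialLinearGroup (Fin 2) F)) :=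
      mul_mem hxN (Subgroup.le_normalizer hc')
    have hxcT : x * c ∉ Subgroup.zpowers g := by
      intro h
      apply hxT
      have := mul_mem h (inv_mem hc')
      rwa [mul_inv_cancel_right] at this
    have h1 := hsq (x * c) hxc hxcT
    rw [← hsq x hxN hxT] at h1
    have h3 : c * x * c = x := by
      apply mul_left_cancel (a := x)
      rw [← h1]; group
    calc x * c * x⁻¹ = c⁻¹ * (c * x * c) * x⁻¹ := by group
      _ = c⁻¹ := by rw [h3]; group
  have hF6 : ∀ n ∈ Subgroup.normalizer ((S : Subgroup (Matrix.SpecialLinearGroup (Fin 2) F)) : Set (Matrix.SpecialLinearGroup (Fin 2) F)), n ∈ Subgroup.zpowers g →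
      n ∈ (S : Subgroup (Matrix.SpecialLinearGroup (Fin 2) F)) := by
    intro n hnN hnT
    obtain ⟨x, hxS, hxT⟩ := hF4
    have hxN := hF2 x hxS
    have h1 : n * x * n⁻¹ ∈ (S : Subgroup (Matrix.SpecialLinearGroup (Fin 2) F)) := (Subgroup.mem_normalizer_iff.mp hnN x).mp hxS
    have h2' : x * n⁻¹ * x⁻¹ = n := by
      have := (hF5 x hxN hxT).2 n⁻¹ (inv_mem hnT)
      rw [inv_inv] at this; exact this
    have h3 : n * x * n⁻¹ = n * n * x := by
      calc n * x * n⁻¹ = n * (x * n⁻¹ * x⁻¹) * x := by group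
        _ = n * n * x := by rw [h2']
    rw [h3] at h1
    have h4 : n * n ∈ (S : Subgroup (Matrix.SpecialLinearGroup (Fin 2) F)) := by
      have := mul_mem h1 (inv_mem hxS)
      rwa [mul_inv_cancel_right] at this
    apply hT2S
    apply hF3 n hnT
    obtain ⟨j, hj⟩ := S.isPGroup' ⟨n * n, h4⟩
    refine ⟨j + 1, ?_⟩
    have hj' : (n * n) ^ (2 ^ j) = 1 := by simpa using congrArg Subtype.val hj
    rw [pow_succ, pow_mul', sq]; exact hj'
  exact ⟨hy, hF1, hconjT, hF2, hF3, hF4, hF5, hF6⟩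

lemma tr_zero_of_sq (w : Matrix.SpecialLinearGroup (Fin 2) F) (hw : w.1 * w.1 = -1) : w.1.trace = 0 := by
  have h := ch w
  rw [hw] at h
  have h3 : w.1.trace • w.1 = 0 := by
    have e : w.1.trace • w.1 = (w.1.trace • w.1 - 1) + 1 := by abel
    rw [← h] at e
    rw [e]; simp
  rcases smul_eq_zero.mp h3 with h0 | h0
  · exact h0
  · exfalso
    have hd := w.2
    rw [h0, Matrix.det_zero] at hd
    exact zero_ne_one hd

lemma hurwitz (h2 : (2 : F) ≠ 0) (u x : Matrix.SpecialLinearGroup (Fin 2) F) (hu : u * u = Zm F) (hx : x * x = Zm F)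
    (hxu : x * u * x⁻¹ = u⁻¹) :
    ∃ h : Matrix.SpecialLinearGroup (Fin 2) F, h * u * h⁻¹ = x ∧ h * x * h⁻¹ = u * x := by
  have hUU : u.1 * u.1 = -1 := by rw [← Matrix.SpecialLinearGroup.coe_mul, hu, Zm_coe_neg]
  have hXX : x.1 * x.1 = -1 := by rw [← Matrix.SpecialLinearGroup.coe_mul, hx, Zm_coe_neg]
  have hinv : u⁻¹ = Zm F * u := by
    apply inv_eq_of_mul_eq_one_right
    have hc := Subgroup.mem_center_iff.mp (Zm_center F) u
    rw [← mul_assoc, hc, mul_assoc, hu, Zm_sq]
  have hxu' : x * u = Zm F * u * x := by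
    have e : x * u = (x * u * x⁻¹) * x := by group
    rw [e, hxu, hinv]
  have hXU : x.1 * u.1 = -(u.1 * x.1) := by
    have e := congrArg Subtype.val hxu'
    rw [Matrix.SpecialLinearGroup.coe_mul, Matrix.SpecialLinearGroup.coe_mul,
      Matrix.SpecialLinearGroup.coe_mul, Zm_coe_neg, neg_mul, one_mul, neg_mul] at e
    exact e
  have hUUM : ∀ M : Matrix (Fin 2) (Fin 2) F, u.1 * (u.1 * M) = -M := by
    intro M; rw [← Matrix.mul_assoc, hUU, neg_mul, one_mul]
  have hXXM : ∀ M : Matrix (Fin 2) (Fin 2) F, x.1 * (x.1 * M) = -M := by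
    intro M; rw [← Matrix.mul_assoc, hXX, neg_mul, one_mul]
  have hXUM : ∀ M : Matrix (Fin 2) (Fin 2) F, x.1 * (u.1 * M) = -(u.1 * (x.1 * M)) := by
    intro M; rw [← Matrix.mul_assoc, hXU, neg_mul, Matrix.mul_assoc]
  have htU := tr_zero_of_sq u hUU
  have htX := tr_zero_of_sq x hXX
  have hdet : ((2⁻¹ : F) • ((1 + u.1) * (1 + x.1))).det = 1 := by
    rw [Matrix.det_smul, Matrix.det_mul, Fintype.card_fin]
    have e1 : (1 + u.1).det = 2 := by
      have := det_form u 1 1
      rw [one_smul, one_smul, htU] at this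
      rw [this]; ring
    have e2 : (1 + x.1).det = 2 := by
      have := det_form x 1 1
      rw [one_smul, one_smul, htX] at this
      rw [this]; ring
    rw [e1, e2]; field_simp
  obtain ⟨h, hh⟩ : ∃ h : Matrix.SpecialLinearGroup (Fin 2) F, h.1 = (2⁻¹ : F) • ((1 + u.1) * (1 + x.1)) := ⟨⟨_, hdet⟩, rfl⟩
  refine ⟨h, ?_, ?_⟩
  · rw [mul_inv_eq_iff_eq_mul]
    apply Subtype.ext
    rw [Matrix.SpecialLinearGroup.coe_mul, Matrix.SpecialLinearGroup.coe_mul, hh]
    rw [Matrix.smul_mul, Matrix.mul_smul]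
    congr 1
    simp only [Matrix.add_mul, Matrix.mul_add, Matrix.one_mul, Matrix.mul_one, Matrix.mul_assoc, hUU, hXX,
      hXU, hXUM, hUUM, hXXM, Matrix.mul_neg, Matrix.neg_mul, neg_neg]
    abel
  · rw [mul_inv_eq_iff_eq_mul]
    apply Subtype.ext
    rw [Matrix.SpecialLinearGroup.coe_mul, Matrix.SpecialLinearGroup.coe_mul,
      Matrix.SpecialLinearGroup.coe_mul, hh]
    rw [Matrix.smul_mul, Matrix.mul_smul]
    congr 1
    simp only [Matrix.add_mul, Matrix.mul_add, Matrix.one_mul, Matrix.mul_one, Matrix.mul_assoc, hUU, hXX,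
      hXU, hXUM, hUUM, hXXM, Matrix.mul_neg, Matrix.neg_mul, neg_neg]
    abel

end

/-- Let F be a finite field with q elements, q odd, and S a Sylow 2-subgroup of SL₂ over F. The centraliser of S is the centre of SL₂ (of order 2); S is its own normaliser when q ≡ ±1 mod 8, and has index 3 in its normaliser when q ≡ ±3 mod 8. -/
theorem result {F : Type*} [Field F] [Fintype F] (hodd : Odd (Fintype.card F)) (S : Sylow 2 (Matrix.SpecialLinearGroup (Fin 2) F)) :
    Subgroup.centralizer ((S : Subgroup (Matrix.SpecialLinearGroup (Fin 2) F)) : Set (Matrix.SpecialLinearGroup (Fin 2) F)) = Subgroup.center (Matrix.SpecialLinearGroup (Fin 2) F) ∧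
    ((Fintype.card F % 8 = 1 ∨ Fintype.card F % 8 = 7) →
      Subgroup.normalizer ((S : Subgroup (Matrix.SpecialLinearGroup (Fin 2) F)) : Set (Matrix.SpecialLinearGroup (Fin 2) F)) = (S : Subgroup (Matrix.SpecialLinearGroup (Fin 2) F))) ∧
    ((Fintype.card F % 8 = 3 ∨ Fintype.card F % 8 = 5) →
      Nat.card (Subgroup.normalizer ((S : Subgroup (Matrix.SpecialLinearGroup (Fin 2) F)) : Set (Matrix.SpecialLinearGroup (Fin 2) F))) = 3 * Nat.card S) := by
  classical
  have hoddq : Fintype.card F % 2 = 1 := Nat.odd_iff.mp hodd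
  have h2 : (2 : F) ≠ 0 := two_ne_zero_of_odd hoddq
  have hq2 : 2 ≤ Fintype.card F := Fintype.one_lt_card
  obtain ⟨g, m, k, hm, hmq, hmk, hc, hk, hS, hk3, hk2, ht⟩ := sylow2_struct hoddq S
  obtain ⟨hy, hF1, hconjT, hF2, hF3, hF4, hF5, hF6⟩ := facts hoddq S g m k hm hmq hmk hc hk hS ht
  have hm0 : m ≠ 0 := by rcases hmq with h | h <;> omega
  have h4le : 4 ≤ 2 ^ k := by
    calc 4 = 2 ^ 2 := by norm_num
      _ ≤ 2 ^ k := Nat.pow_le_pow_right (by norm_num) hk
  have hm2 : 2 < m := by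
    have := Nat.le_of_dvd (by omega) (Dvd.intro _ hmk.symm : 2 ^ k ∣ m)
    omega
  obtain ⟨hCT, hCx, -, -, -⟩ := torus_package hoddq g m hm hm2 hmq
  obtain ⟨x, hxS, hxT⟩ := hF4
  have hxN := hF2 x hxS
  obtain ⟨hxx, hxinv⟩ := hF5 x hxN hxT
  have ht₀T : g ^ (m / 2 ^ k) ∈ Subgroup.zpowers g := Subgroup.pow_mem _ (Subgroup.mem_zpowers g) _
  refine ⟨?_, ?_, ?_⟩
  · apply le_antisymm
    · intro c hc'
      rw [Subgroup.mem_centralizer_iff] at hc'
      have hcT : c ∈ Subgroup.zpowers g := by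
        rw [← hF1, Subgroup.mem_centralizer_iff]
        intro y hy'
        rw [Set.mem_singleton_iff] at hy'
        subst hy'
        exact hc' _ ht
      have h1 := hxinv c hcT
      have h2' := hc' x hxS
      have h3 : c = c⁻¹ := by rw [← h1, h2', mul_inv_cancel_right]
      have h4 : c * c = 1 := by
        have := congrArg (fun y => c * y) h3
        simpa using this
      rcases sq_one_cases h2 c h4 with rfl | rfl
      · exact one_mem _
      · exact Zm_center F
    · exact Subgroup.center_le_centralizer _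
  · intro hq8
    have hk3' := hk3 hq8
    apply le_antisymm _ Subgroup.le_normalizer
    have hkey : ∀ n ∈ Subgroup.normalizer ((S : Subgroup (Matrix.SpecialLinearGroup (Fin 2) F)) : Set (Matrix.SpecialLinearGroup (Fin 2) F)),
        n * g ^ (m / 2 ^ k) * n⁻¹ ∈ Subgroup.zpowers g := by
      intro n hn
      have h1 : n * g ^ (m / 2 ^ k) * n⁻¹ ∈ (S : Subgroup (Matrix.SpecialLinearGroup (Fin 2) F)) :=
        (Subgroup.mem_normalizer_iff.mp hn _).mp ht
      by_contra hT
      have h3 := (hF5 _ (hF2 _ h1) hT).1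
      have h4 : (n * g ^ (m / 2 ^ k) * n⁻¹) ^ 4 = 1 := by
        have e : (n * g ^ (m / 2 ^ k) * n⁻¹) ^ 4 = (n * g ^ (m / 2 ^ k) * n⁻¹ * (n * g ^ (m / 2 ^ k) * n⁻¹)) *
            (n * g ^ (m / 2 ^ k) * n⁻¹ * (n * g ^ (m / 2 ^ k) * n⁻¹)) := by
          generalize n * g ^ (m / 2 ^ k) * n⁻¹ = tt
          simp only [pow_succ, pow_zero, one_mul, mul_assoc]
        rw [e, h3, Zm_sq]
      have h5 := orderOf_dvd_of_pow_eq_one h4
      rw [← MulAut.conj_apply, MulEquiv.orderOf_eq, hy] at h5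
      have h6 := Nat.le_of_dvd (by norm_num) h5
      have h7 : 2 ^ 3 ≤ 2 ^ k := Nat.pow_le_pow_right (by norm_num) hk3'
      omega
    intro n hn
    have hnN : n ∈ Subgroup.normalizer ((Subgroup.zpowers g : Subgroup (Matrix.SpecialLinearGroup (Fin 2) F)) : Set (Matrix.SpecialLinearGroup (Fin 2) F)) := by
      apply mem_normalizer_of
      · exact hconjT n (hkey n hn)
      · intro z hz
        have := hconjT n⁻¹ (hkey n⁻¹ (inv_mem hn)) z hz
        rwa [inv_inv] at this
    by_cases hnT : n ∈ Subgroup.zpowers g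
    · exact hF6 n hn hnT
    · have hnx : n * x ∈ Subgroup.zpowers g := by
        rw [← hCT, Subgroup.mem_centralizer_iff]
        intro c hc'
        have e1 := hxinv c hc'
        have e2 := (hF5 n hnN hnT).2 c⁻¹ (inv_mem hc')
        rw [inv_inv] at e2
        calc c * (n * x) = (n * c⁻¹ * n⁻¹) * n * x := by rw [e2, mul_assoc]
          _ = n * c⁻¹ * x := by group
          _ = n * (x * c * x⁻¹) * x := by rw [e1]
          _ = n * x * c := by group
      have hnxN : n * x ∈ Subgroup.normalizer ((S : Subgroup (Matrix.SpecialLinearGroup (Fin 2) F)) : Set (Matrix.SpecialLinearGroup (Fin 2) F)) :=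
        mul_mem hn (Subgroup.le_normalizer hxS)
      have h7 := hF6 _ hnxN hnx
      have h8 := mul_mem h7 (inv_mem hxS)
      rwa [mul_inv_cancel_right] at h8
  · intro hq8
    have hk2' := hk2 hq8
    have hS8 : Nat.card S = 8 := by rw [hS, hk2']; norm_num
    have hS8' : Nat.card (S : Subgroup (Matrix.SpecialLinearGroup (Fin 2) F)) = 8 := hS8
    have hy4 : orderOf (g ^ (m / 2 ^ k)) = 4 := by rw [hy, hk2']; norm_num
    have huu : g ^ (m / 2 ^ k) * g ^ (m / 2 ^ k) = Zm F := by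
      have h4 : (g ^ (m / 2 ^ k) * g ^ (m / 2 ^ k)) * (g ^ (m / 2 ^ k) * g ^ (m / 2 ^ k)) = 1 := by
        have e : (g ^ (m / 2 ^ k) * g ^ (m / 2 ^ k)) * (g ^ (m / 2 ^ k) * g ^ (m / 2 ^ k)) =
            (g ^ (m / 2 ^ k)) ^ 4 := by
          generalize g ^ (m / 2 ^ k) = tt
          simp only [pow_succ, pow_zero, one_mul, mul_assoc]
        rw [e, ← hy4, pow_orderOf_eq_one]
      rcases sq_one_cases h2 _ h4 with h | h
      · exfalso
        have h5 := orderOf_dvd_of_pow_eq_one (show (g ^ (m / 2 ^ k)) ^ 2 = 1 by rw [sq]; exact h)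
        rw [hy4] at h5
        have := Nat.le_of_dvd (by norm_num) h5
        omega
      · exact h
    obtain ⟨h, hhu, hhx⟩ := hurwitz h2 (g ^ (m / 2 ^ k)) x huu hxx (hxinv _ ht₀T)
    have hcl : Subgroup.closure ({g ^ (m / 2 ^ k), x} : Set (Matrix.SpecialLinearGroup (Fin 2) F)) = (S : Subgroup (Matrix.SpecialLinearGroup (Fin 2) F)) := by
      have hle : Subgroup.closure ({g ^ (m / 2 ^ k), x} : Set (Matrix.SpecialLinearGroup (Fin 2) F)) ≤ (S : Subgroup (Matrix.SpecialLinearGroup (Fin 2) F)) := by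
        rw [Subgroup.closure_le]
        intro y hy'
        rcases hy' with h1 | h1
        · rw [h1]; exact ht
        · rw [Set.mem_singleton_iff] at h1; rw [h1]; exact hxS
      apply Subgroup.eq_of_le_of_card_ge hle
      have hzle : Subgroup.zpowers (g ^ (m / 2 ^ k)) ≤ Subgroup.closure ({g ^ (m / 2 ^ k), x} : Set (Matrix.SpecialLinearGroup (Fin 2) F)) := by
        rw [Subgroup.zpowers_le]; exact Subgroup.subset_closure (by simp)
      have hxc : x ∈ Subgroup.closure ({g ^ (m / 2 ^ k), x} : Set (Matrix.SpecialLinearGroup (Fin 2) F)) :=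
        Subgroup.subset_closure (by simp)
      have hd := Subgroup.card_dvd_of_le hle
      have h4 : 4 < Nat.card (Subgroup.closure ({g ^ (m / 2 ^ k), x} : Set (Matrix.SpecialLinearGroup (Fin 2) F))) := by
        by_contra hcon
        push Not at hcon
        have h5 := Subgroup.eq_of_le_of_card_ge hzle (by rw [Nat.card_zpowers, hy4]; exact hcon)
        apply hxT
        have hx2 : x ∈ Subgroup.zpowers (g ^ (m / 2 ^ k)) := by rw [h5]; exact hxc
        exact (Subgroup.zpowers_le.mpr ht₀T) hx2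
      rw [hS8'] at hd ⊢
      obtain ⟨d, hd'⟩ := hd
      rcases d with _ | _ | d
      · omega
      · omega
      · nlinarith
    have hconj : ∀ s ∈ (S : Subgroup (Matrix.SpecialLinearGroup (Fin 2) F)), h * s * h⁻¹ ∈ (S : Subgroup (Matrix.SpecialLinearGroup (Fin 2) F)) := by
      intro s hs
      rw [← hcl] at hs
      have hle : Subgroup.closure ({g ^ (m / 2 ^ k), x} : Set (Matrix.SpecialLinearGroup (Fin 2) F)) ≤
          (S : Subgroup (Matrix.SpecialLinearGroup (Fin 2) F)).comap (MulAut.conj h).toMonoidHom := by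
        rw [Subgroup.closure_le]
        intro y hy'
        rcases hy' with h1 | h1
        · rw [h1]
          show h * g ^ (m / 2 ^ k) * h⁻¹ ∈ (S : Subgroup (Matrix.SpecialLinearGroup (Fin 2) F))
          rw [hhu]; exact hxS
        · rw [Set.mem_singleton_iff] at h1; rw [h1]
          show h * x * h⁻¹ ∈ (S : Subgroup (Matrix.SpecialLinearGroup (Fin 2) F))
          rw [hhx]; exact mul_mem ht hxS
      exact hle hs
    have hconj' : ∀ s ∈ (S : Subgroup (Matrix.SpecialLinearGroup (Fin 2) F)), h⁻¹ * s * h ∈ (S : Subgroup (Matrix.SpecialLinearGroup (Fin 2) F)) := by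
      intro s hs
      let φ : ↥(S : Subgroup (Matrix.SpecialLinearGroup (Fin 2) F)) → ↥(S : Subgroup (Matrix.SpecialLinearGroup (Fin 2) F)) :=
        fun s' => ⟨h * (s' : Matrix.SpecialLinearGroup (Fin 2) F) * h⁻¹, hconj (s' : Matrix.SpecialLinearGroup (Fin 2) F) s'.property⟩
      have hinj : Function.Injective φ := by
        intro a b hab
        have e : h * (a : Matrix.SpecialLinearGroup (Fin 2) F) * h⁻¹ = h * (b : Matrix.SpecialLinearGroup (Fin 2) F) * h⁻¹ := congrArg Subtype.val hab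
        apply Subtype.ext
        exact mul_left_cancel (mul_right_cancel e)
      obtain ⟨s', hs'⟩ := Finite.surjective_of_injective hinj ⟨s, hs⟩
      have e1 : h * (s' : Matrix.SpecialLinearGroup (Fin 2) F) * h⁻¹ = s := congrArg Subtype.val hs'
      have e : h⁻¹ * s * h = (s' : Matrix.SpecialLinearGroup (Fin 2) F) := by rw [← e1]; group
      rw [e]; exact s'.property
    have hhN : h ∈ Subgroup.normalizer ((S : Subgroup (Matrix.SpecialLinearGroup (Fin 2) F)) : Set (Matrix.SpecialLinearGroup (Fin 2) F)) :=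
      mem_normalizer_of _ h hconj hconj'
    have hhS : h ∉ (S : Subgroup (Matrix.SpecialLinearGroup (Fin 2) F)) := by
      intro hh
      have hN := hF2 h hh
      have h5 := (Subgroup.mem_normalizer_iff.mp hN _).mp ht₀T
      rw [hhu] at h5
      exact hxT h5
    have hub : Nat.card (Subgroup.normalizer ((S : Subgroup (Matrix.SpecialLinearGroup (Fin 2) F)) : Set (Matrix.SpecialLinearGroup (Fin 2) F))) ≤ 24 := by
      have hcN := card_toFinset (Subgroup.normalizer ((S : Subgroup (Matrix.SpecialLinearGroup (Fin 2) F)) : Set (Matrix.SpecialLinearGroup (Fin 2) F)))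
      have hcS := card_toFinset (S : Subgroup (Matrix.SpecialLinearGroup (Fin 2) F))
      have hcT := card_toFinset (Subgroup.zpowers (g ^ (m / 2 ^ k)))
      rw [hS8'] at hcS
      rw [Nat.card_zpowers, hy4] at hcT
      have hNS : ∀ n, n ∈ (Set.toFinite ((Subgroup.normalizer ((S : Subgroup (Matrix.SpecialLinearGroup (Fin 2) F)) : Set (Matrix.SpecialLinearGroup (Fin 2) F)) :
          Subgroup (Matrix.SpecialLinearGroup (Fin 2) F)) : Set (Matrix.SpecialLinearGroup (Fin 2) F))).toFinset ↔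
          n ∈ Subgroup.normalizer ((S : Subgroup (Matrix.SpecialLinearGroup (Fin 2) F)) : Set (Matrix.SpecialLinearGroup (Fin 2) F)) := fun n => by simp
      have hSS : ∀ n, n ∈ (Set.toFinite ((S : Subgroup (Matrix.SpecialLinearGroup (Fin 2) F)) : Set (Matrix.SpecialLinearGroup (Fin 2) F))).toFinset ↔
          n ∈ (S : Subgroup (Matrix.SpecialLinearGroup (Fin 2) F)) := fun n => by rw [Set.Finite.mem_toFinset]; rfl
      have hTT : ∀ n, n ∈ (Set.toFinite ((Subgroup.zpowers (g ^ (m / 2 ^ k)) : Subgroup (Matrix.SpecialLinearGroup (Fin 2) F)) :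
          Set (Matrix.SpecialLinearGroup (Fin 2) F))).toFinset ↔ n ∈ Subgroup.zpowers (g ^ (m / 2 ^ k)) := fun n => by simp
      generalize (Set.toFinite ((Subgroup.normalizer ((S : Subgroup (Matrix.SpecialLinearGroup (Fin 2) F)) : Set (Matrix.SpecialLinearGroup (Fin 2) F)) :
          Subgroup (Matrix.SpecialLinearGroup (Fin 2) F)) : Set (Matrix.SpecialLinearGroup (Fin 2) F))).toFinset = NS at hcN hNS
      generalize (Set.toFinite ((S : Subgroup (Matrix.SpecialLinearGroup (Fin 2) F)) : Set (Matrix.SpecialLinearGroup (Fin 2) F))).toFinset = SS at hcS hSS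
      generalize (Set.toFinite ((Subgroup.zpowers (g ^ (m / 2 ^ k)) : Subgroup (Matrix.SpecialLinearGroup (Fin 2) F)) :
          Set (Matrix.SpecialLinearGroup (Fin 2) F))).toFinset = TT at hcT hTT
      have himg : (NS.image (fun n => n * g ^ (m / 2 ^ k) * n⁻¹)).card + 2 ≤ 8 := by
        have h1 : (1 : Matrix.SpecialLinearGroup (Fin 2) F) ∉ NS.image (fun n => n * g ^ (m / 2 ^ k) * n⁻¹) := by
          intro h1
          obtain ⟨n, -, hn⟩ := Finset.mem_image.mp h1
          have e : g ^ (m / 2 ^ k) = 1 := by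
            have e' : g ^ (m / 2 ^ k) = n⁻¹ * (n * g ^ (m / 2 ^ k) * n⁻¹) * n := by group
            rw [e', hn]; group
          rw [e, orderOf_one] at hy4; omega
        have hZ : Zm F ∉ insert (1 : Matrix.SpecialLinearGroup (Fin 2) F) (NS.image (fun n => n * g ^ (m / 2 ^ k) * n⁻¹)) := by
          intro hZ
          rcases Finset.mem_insert.mp hZ with h' | h'
          · exact Zm_ne_one h2 h'
          · obtain ⟨n, -, hn⟩ := Finset.mem_image.mp h'
            have hcen := Subgroup.mem_center_iff.mp (Zm_center F) n⁻¹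
            have e : g ^ (m / 2 ^ k) = Zm F := by
              have e' : g ^ (m / 2 ^ k) = n⁻¹ * (n * g ^ (m / 2 ^ k) * n⁻¹) * n := by group
              rw [e', hn, hcen]; group
            rw [e, Zm_sq] at huu
            exact Zm_ne_one h2 huu.symm
        have hsub : insert (Zm F) (insert (1 : Matrix.SpecialLinearGroup (Fin 2) F) (NS.image (fun n => n * g ^ (m / 2 ^ k) * n⁻¹))) ⊆ SS := by
          intro y hy'
          rw [hSS]
          rcases Finset.mem_insert.mp hy' with h' | h'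
          · rw [h', ← huu]; exact mul_mem ht ht
          · rcases Finset.mem_insert.mp h' with h'' | h''
            · rw [h'']; exact one_mem _
            · obtain ⟨n, hn, rfl⟩ := Finset.mem_image.mp h''
              exact (Subgroup.mem_normalizer_iff.mp ((hNS n).mp hn) _).mp ht
        have h9 := Finset.card_le_card hsub
        rw [Finset.card_insert_of_notMem hZ, Finset.card_insert_of_notMem h1, hcS] at h9
        omega
      have hfib : ∀ a ∈ NS.image (fun n => n * g ^ (m / 2 ^ k) * n⁻¹),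
          (NS.filter fun n => n * g ^ (m / 2 ^ k) * n⁻¹ = a).card ≤ 4 := by
        intro a ha
        obtain ⟨n₀, hn₀, rfl⟩ := Finset.mem_image.mp ha
        have hsub : (NS.filter fun n => n * g ^ (m / 2 ^ k) * n⁻¹ = n₀ * g ^ (m / 2 ^ k) * n₀⁻¹) ⊆
            TT.image (fun t => n₀ * t) := by
          intro n hn
          rw [Finset.mem_filter] at hn
          obtain ⟨hnN, hfn⟩ := hn
          rw [Finset.mem_image]
          refine ⟨n₀⁻¹ * n, ?_, by group⟩
          rw [hTT]
          have hcen : n₀⁻¹ * n ∈ Subgroup.zpowers g := by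
            rw [← hF1, Subgroup.mem_centralizer_iff]
            intro y hy'
            rw [Set.mem_singleton_iff] at hy'
            subst hy'
            calc g ^ (m / 2 ^ k) * (n₀⁻¹ * n) = n₀⁻¹ * (n₀ * g ^ (m / 2 ^ k) * n₀⁻¹) * n := by group
              _ = n₀⁻¹ * (n * g ^ (m / 2 ^ k) * n⁻¹) * n := by rw [hfn]
              _ = n₀⁻¹ * n * g ^ (m / 2 ^ k) := by group
          have hNm : n₀⁻¹ * n ∈ Subgroup.normalizer ((S : Subgroup (Matrix.SpecialLinearGroup (Fin 2) F)) : Set (Matrix.SpecialLinearGroup (Fin 2) F)) :=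
            mul_mem (inv_mem ((hNS n₀).mp hn₀)) ((hNS n).mp hnN)
          have hS' := hF6 _ hNm hcen
          apply hF3 _ hcen
          obtain ⟨j, hj⟩ := S.isPGroup' ⟨_, hS'⟩
          exact ⟨j, by simpa using congrArg Subtype.val hj⟩
        calc (NS.filter fun n => n * g ^ (m / 2 ^ k) * n⁻¹ = n₀ * g ^ (m / 2 ^ k) * n₀⁻¹).card
            ≤ (TT.image (fun t => n₀ * t)).card := Finset.card_le_card hsub
          _ ≤ TT.card := Finset.card_image_le
          _ = 4 := hcT
      have h10 := Finset.card_le_mul_card_image NS 4 hfib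
      rw [← hcN]
      have h6 : (NS.image (fun n => n * g ^ (m / 2 ^ k) * n⁻¹)).card ≤ 6 := by omega
      calc NS.card ≤ 4 * (NS.image (fun n => n * g ^ (m / 2 ^ k) * n⁻¹)).card := h10
        _ ≤ 4 * 6 := Nat.mul_le_mul_left 4 h6
        _ = 24 := by norm_num
    have hdvd8 : 8 ∣ Nat.card (Subgroup.normalizer ((S : Subgroup (Matrix.SpecialLinearGroup (Fin 2) F)) : Set (Matrix.SpecialLinearGroup (Fin 2) F))) := by
      rw [← hS8']; exact Subgroup.card_dvd_of_le Subgroup.le_normalizer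
    have hne8 : Nat.card (Subgroup.normalizer ((S : Subgroup (Matrix.SpecialLinearGroup (Fin 2) F)) : Set (Matrix.SpecialLinearGroup (Fin 2) F))) ≠ 8 := by
      intro h8
      have h11 := Subgroup.eq_of_le_of_card_ge
        (Subgroup.le_normalizer (H := (S : Subgroup (Matrix.SpecialLinearGroup (Fin 2) F)))) (by rw [h8, hS8'])
      apply hhS; rw [h11]; exact hhN
    have hn16 : ¬ 16 ∣ Nat.card (Subgroup.normalizer ((S : Subgroup (Matrix.SpecialLinearGroup (Fin 2) F)) : Set (Matrix.SpecialLinearGroup (Fin 2) F))) := by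
      intro h16
      have h1 := Subgroup.card_subgroup_dvd_card (Subgroup.normalizer ((S : Subgroup (Matrix.SpecialLinearGroup (Fin 2) F)) : Set (Matrix.SpecialLinearGroup (Fin 2) F)))
      have h3 := S.card_eq_multiplicity
      rw [hS8] at h3
      have hf : (Nat.card (Matrix.SpecialLinearGroup (Fin 2) F)).factorization 2 = 3 := by
        have e : 2 ^ 3 = 2 ^ (Nat.card (Matrix.SpecialLinearGroup (Fin 2) F)).factorization 2 := by rw [← h3]; norm_num
        exact (Nat.pow_right_injective (le_refl 2) e).symm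
      have h4 := Nat.pow_succ_factorization_not_dvd (Nat.card_pos (α := Matrix.SpecialLinearGroup (Fin 2) F)).ne' Nat.prime_two
      rw [hf] at h4
      exact h4 (dvd_trans h16 h1)
    rw [hS8]
    obtain ⟨d, hd⟩ := hdvd8
    omega

end Cfsg.Agent.S2431
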