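import Cfsg.Statements.S2434
import Mathlib
import Cfsg.Agent.Helper15.SL2B

set_option autoImplicit false
open Cfsg

namespace Cfsg.Agent.S2434

open Cfsg Matrix
open scoped ComplexConjugate
open Cfsg.Agent.Helper15.SL2A Cfsg.Agent.Helper15.SL2B
open Cfsg.Agent.S2508 (Zm Zm_coe Zm_center Zm_ne_one center_odd)
open Cfsg.Agent.S2430 (two_ne_zero_of_odd)

/-- Let F be a finite field with q elements, q odd, and C a cyclic subgroup of order q + 1 of SL₂ over F (a non-split torus; it contains the centre). For every homomorphism θ from C to the non-zero complex numbers with θ² ≠ 1 there is an irreducible complex character χ of degree q − 1 such that χ(c) = −θ(c) − θ(c)⁻¹ for every non-central c in C, χ(zg) = θ(z)χ(g) for central z in C, χ vanishes at diagonal elements with entry a, a² ≠ 1, and χ takes the value −1 at every upper unitriangular element other than 1. Conversely every irreducible character of degree q − 1 has, for some such θ, the values −θ(c) − θ(c)⁻¹ at the non-central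 elements c of C (for q ≥ 5 these are exactly the cuspidal characters of degree q − 1). -/
theorem result {F : Type*} [Field F] [Fintype F] (hodd : Odd (Fintype.card F))
    (C : Subgroup (Matrix.SpecialLinearGroup (Fin 2) F)) (hC : IsCyclic C) (hcard : Nat.card C = Fintype.card F + 1) :
    (∀ θ : C →* ℂˣ, (∃ c : C, θ c ^ 2 ≠ 1) →
      ∃ χ : Matrix.SpecialLinearGroup (Fin 2) F → ℂ, Cfsg.IsIrrCharacter (Matrix.SpecialLinearGroup (Fin 2) F) χ ∧ χ 1 = (Fintype.card F : ℂ) - 1 ∧
        (∀ c : C, (c : Matrix.SpecialLinearGroup (Fin 2) F) ∉ Subgroup.center (Matrix.SpecialLinearGroup (Fin 2) F) → χ c = -((θ c).val + (θ c)⁻¹.val)) ∧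
        (∀ c : C, (c : Matrix.SpecialLinearGroup (Fin 2) F) ∈ Subgroup.center (Matrix.SpecialLinearGroup (Fin 2) F) → ∀ g : Matrix.SpecialLinearGroup (Fin 2) F, χ ((c : Matrix.SpecialLinearGroup (Fin 2) F) * g) = (θ c).val * χ g) ∧
        (∀ g : Matrix.SpecialLinearGroup (Fin 2) F, (g : Matrix (Fin 2) (Fin 2) F) 0 1 = 0 → (g : Matrix (Fin 2) (Fin 2) F) 1 0 = 0 → (g : Matrix (Fin 2) (Fin 2) F) 0 0 ^ 2 ≠ 1 → χ g = 0) ∧
        (∀ g : Matrix.SpecialLinearGroup (Fin 2) F, (g : Matrix (Fin 2) (Fin 2) F) 1 0 = 0 → (g : Matrix (Fin 2) (Fin 2) F) 0 0 = 1 → (g : Matrix (Fin 2) (Fin 2) F) 1 1 = 1 → (g : Matrix (Fin 2) (Fin 2) F) 0 1 ≠ 0 → χ g = -1)) ∧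
    (∀ χ : Matrix.SpecialLinearGroup (Fin 2) F → ℂ, Cfsg.IsIrrCharacter (Matrix.SpecialLinearGroup (Fin 2) F) χ → χ 1 = (Fintype.card F : ℂ) - 1 →
      ∃ θ : C →* ℂˣ, (∃ c : C, θ c ^ 2 ≠ 1) ∧
        ∀ c : C, (c : Matrix.SpecialLinearGroup (Fin 2) F) ∉ Subgroup.center (Matrix.SpecialLinearGroup (Fin 2) F) → χ c = -((θ c).val + (θ c)⁻¹.val)) := by
  classical
  have hN : NST C := nst_of_cyclic hodd C hC hcard
  have h2 : (2 : F) ≠ 0 := two_ne_zero_of_odd (Nat.odd_iff.mp hodd)
  have hq := card_ge_three hodd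
  have hsq : ∀ θ : C →* ℂˣ, (∃ c : C, θ c ^ 2 ≠ 1) ↔ θ ^ 2 ≠ 1 := by
    intro θ
    constructor
    · rintro ⟨c, hc⟩ h
      apply hc
      have h' := congrArg (fun x : C →* ℂˣ => x c) h
      simp only [MonoidHom.pow_apply, MonoidHom.one_apply] at h'
      exact h'
    · intro h
      by_contra hcon
      push Not at hcon
      apply h
      apply MonoidHom.ext
      intro c
      rw [MonoidHom.pow_apply, hcon c, MonoidHom.one_apply]
  have hnc : ∀ c : C, (c : Matrix.SpecialLinearGroup (Fin 2) F) ∉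
      Subgroup.center (Matrix.SpecialLinearGroup (Fin 2) F) →
      (c : Matrix.SpecialLinearGroup (Fin 2) F) ≠ 1 ∧
        (c : Matrix.SpecialLinearGroup (Fin 2) F) ≠ Zm F := by
    intro c hc
    exact ⟨fun h => hc (h ▸ Subgroup.one_mem _), fun h => hc (h ▸ Zm_center F)⟩
  constructor
  · intro θ hθ
    have hθ2 := (hsq θ).mp hθ
    refine ⟨Xc hodd hN θ, Xc_irr hodd hN θ hθ2, Xc_one hodd hN θ, ?_, ?_, ?_, ?_⟩
    · intro c hc
      obtain ⟨h1, hz⟩ := hnc c hc
      exact Xc_torus hodd hN θ c.1 c.2 h1 hz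
    · intro c hc g
      rcases center_odd (c : Matrix.SpecialLinearGroup (Fin 2) F) hc with h | h
      · have e : c = 1 := Subtype.ext h
        rw [e, map_one, Units.val_one, one_mul, Subgroup.coe_one, one_mul]
      · have e : c = ⟨Zm F, hN.zm⟩ := Subtype.ext h
        rw [e]
        exact Xc_zm_mul hodd hN θ g
    · intro g h01 h10 h00
      obtain ⟨a, c, rfl⟩ := eq_bm_of_10 g h10
      rw [bm_00] at h00
      exact Xc_bm_split hodd hN θ a c ((unit_sq_ne a).mpr h00)
    · intro g h10 h00 h11 h01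
      obtain ⟨a, c, rfl⟩ := eq_bm_of_10 g h10
      rw [bm_00] at h00
      rw [bm_01] at h01
      have ha : a = 1 := Units.ext h00
      subst ha
      exact Xc_bm_one hodd hN θ c h01
  · intro χ hχ hdeg
    obtain ⟨n, hn, hcases⟩ := classify_deg hodd hN hχ
    have hn' : n + 1 = Fintype.card F := by
      have e : ((n + 1 : ℕ) : ℂ) = (Fintype.card F : ℂ) := by
        push_cast
        rw [← hn, hdeg]
        ring
      exact_mod_cast e
    obtain ⟨t, ht⟩ := id hodd
    rcases hcases with ⟨-, h⟩ | ⟨-, h⟩ | ⟨-, h⟩ | ⟨hP, h⟩ | ⟨⟨θ, hθ, hX⟩, -⟩ | ⟨-, h⟩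
    · omega
    · omega
    · omega
    · have hq3 : Fintype.card F = 3 := by omega
      obtain ⟨g₀, hord, hCeq⟩ := hN.gen
      have hg₀ : g₀ ∈ C := by
        rw [hCeq]
        exact Subgroup.mem_zpowers g₀
      have hz1 : (⟨Zm F, hN.zm⟩ : C) ≠ 1 := fun h => Zm_ne_one h2 (congrArg Subtype.val h)
      obtain ⟨θ, hθ⟩ := dual_exists (A := C) (fun a b => Subtype.ext (hN.comm a a.2 b b.2)) hz1
      have hthz : thz hN θ = -1 := by
        rcases thz_cases hN θ with h | h
        · exfalso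
          apply hθ
          exact Units.ext (by rw [Units.val_one]; exact h)
        · exact h
      have hkey : ∀ (c : Matrix.SpecialLinearGroup (Fin 2) F) (hc : c ∈ C), c ≠ 1 → c ≠ Zm F →
          ((θ ⟨c, hc⟩ : ℂˣ) : ℂ) * ((θ ⟨c, hc⟩ : ℂˣ) : ℂ) = -1 := by
        intro c hc h1 hz
        have h4 : c ^ 4 = 1 := by
          have := nst_pow_eq_one hN hc
          rwa [hq3] at this
        have hcc : c * c = Zm F := by
          have h5 : (c * c) * (c * c) = 1 := by
            have e5 : (c * c) * (c * c) = c ^ 4 := by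
              simp only [pow_succ, pow_zero, one_mul, mul_assoc]
            rw [e5, h4]
          rcases Cfsg.Agent.S2429.sq_one_cases h2 (c * c) h5 with h | h
          · rcases Cfsg.Agent.S2429.sq_one_cases h2 c h with h' | h'
            · exact absurd h' h1
            · exact absurd h' hz
          · exact h
        have e : (⟨c, hc⟩ : C) * ⟨c, hc⟩ = ⟨Zm F, hN.zm⟩ := Subtype.ext hcc
        rw [← Units.val_mul, ← map_mul, e]
        exact hthz
      have hg1 : g₀ ≠ 1 := by
        intro h'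
        rw [h', orderOf_one] at hord
        omega
      have hgz : g₀ ≠ Zm F := by
        intro h'
        have hd : orderOf g₀ ∣ 2 := orderOf_dvd_of_pow_eq_one (by rw [h', pow_two, zm_mul_self])
        rw [hord, hq3] at hd
        norm_num at hd
      refine ⟨θ, ⟨⟨g₀, hg₀⟩, ?_⟩, ?_⟩
      · intro h
        have hk := hkey g₀ hg₀ hg1 hgz
        have h' := congrArg Units.val h
        rw [Units.val_pow_eq_pow_val, Units.val_one, pow_two, hk] at h'
        norm_num at h'
      · intro c hc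
        obtain ⟨h1, hz⟩ := hnc c hc
        have hk : ((θ c : ℂˣ) : ℂ) * ((θ c : ℂˣ) : ℂ) = -1 := hkey c.1 c.2 h1 hz
        rw [typeP_noEig hodd hN hχ hP c.1 (hN.noeig c.1 c.2 h1 hz)]
        have hinv : (((θ c)⁻¹ : ℂˣ) : ℂ) = -((θ c : ℂˣ) : ℂ) := by
          rw [Units.val_inv_eq_inv_val]
          apply inv_eq_of_mul_eq_one_right
          linear_combination (-1 : ℂ) * hk
        rw [hinv]
        ring
    · refine ⟨θ, (hsq θ).mpr hθ, ?_⟩
      intro c hc
      obtain ⟨h1, hz⟩ := hnc c hc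
      rw [hX]
      exact Xc_torus hodd hN θ c.1 c.2 h1 hz
    · omega

end Cfsg.Agent.S2434
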