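import Cfsg.Statements.S2435
import Mathlib
import Cfsg.Agent.Helper15.SL2C

set_option autoImplicit false
open Cfsg

namespace Cfsg.Agent.S2435

open Cfsg Matrix
open scoped ComplexConjugate
open Cfsg.Agent.Helper15.SL2A Cfsg.Agent.Helper15.SL2B Cfsg.Agent.Helper15.SL2C
open Cfsg.Agent.S2508 (Zm Zm_coe Zm_center Zm_ne_one center_odd)
open Cfsg.Agent.S2430 (two_ne_zero_of_odd)

/-- Let F be a finite field with q elements, q odd and q ≥ 5, and χ an irreducible complex character of SL₂ over F. If χ has degree (q + 1)/2, then at a diagonal element with entry a, a² ≠ 1, χ takes the value 1 when a is a square in F and −1 otherwise. If χ has degree (q − 1)/2, then at an element g with no eigenvector in F² (so g has order dividing q + 1), χ takes the value −1 when g raised to the power (q + 1)/2 is the identity and the value 1 otherwise. -/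
theorem result {F : Type*} [Field F] [Fintype F] (hodd : Odd (Fintype.card F)) (hq : 5 ≤ Fintype.card F)
    (χ : Matrix.SpecialLinearGroup (Fin 2) F → ℂ) (hχ : Cfsg.IsIrrCharacter (Matrix.SpecialLinearGroup (Fin 2) F) χ) (g : Matrix.SpecialLinearGroup (Fin 2) F) :
    (χ 1 = (((Fintype.card F + 1) / 2 : ℕ) : ℂ) → (g : Matrix (Fin 2) (Fin 2) F) 0 1 = 0 → (g : Matrix (Fin 2) (Fin 2) F) 1 0 = 0 → (g : Matrix (Fin 2) (Fin 2) F) 0 0 ^ 2 ≠ 1 →
      (IsSquare ((g : Matrix (Fin 2) (Fin 2) F) 0 0) → χ g = 1) ∧ (¬ IsSquare ((g : Matrix (Fin 2) (Fin 2) F) 0 0) → χ g = -1)) ∧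
    (χ 1 = (((Fintype.card F - 1) / 2 : ℕ) : ℂ) → (∀ (c : F) (v : Fin 2 → F), v ≠ 0 → (g : Matrix (Fin 2) (Fin 2) F).mulVec v ≠ c • v) →
      (((g ^ ((Fintype.card F + 1) / 2)) : Matrix (Fin 2) (Fin 2) F) = 1 → χ g = -1) ∧ (((g ^ ((Fintype.card F + 1) / 2)) : Matrix (Fin 2) (Fin 2) F) ≠ 1 → χ g = 1)) := by
  classical
  obtain ⟨C, hN⟩ := exists_nst (F := F) hodd
  obtain ⟨n, hn, hcases⟩ := classify_deg hodd hN hχ
  obtain ⟨t, ht⟩ := id hodd
  constructor
  · intro hdeg h01 h10 h00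
    obtain ⟨a, c, rfl⟩ := eq_bm_of_10 g h10
    rw [bm_00] at h00 ⊢
    have ha : a * a ≠ 1 := (unit_sq_ne a).mpr h00
    have hn' : n = (Fintype.card F + 1) / 2 := by exact_mod_cast (hn.symm.trans hdeg)
    rcases hcases with ⟨-, h⟩ | ⟨-, h⟩ | ⟨-, h⟩ | ⟨hP, h⟩ | ⟨-, h⟩ | ⟨-, h⟩
    · omega
    · omega
    · omega
    · rw [typeP_split hodd hN hχ hP a c ha]
      exact ⟨fun hs => al0_isSquare a.ne_zero hs, fun hs => al0_not_isSquare hs⟩
    · omega
    · omega
  · intro hdeg hg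
    have hne : NoEig g := hg
    have hn' : n = (Fintype.card F - 1) / 2 := by exact_mod_cast (hn.symm.trans hdeg)
    rcases hcases with ⟨-, h⟩ | ⟨-, h⟩ | ⟨-, h⟩ | ⟨-, h⟩ | ⟨-, h⟩ | ⟨⟨hcusp, hb, -, hd⟩, -⟩
    · omega
    · omega
    · omega
    · omega
    · omega
    · obtain ⟨x, hx⟩ := hN.conj g hne
      have hne' := noEig_conj hne x
      have hcf := Helper2.isClassFunction_of_isCharacter
        (Helper2.isCharacter_of_isIrrCharacter hχ)
      have hval := typeM_torus hodd hN hχ hcusp hb hd _ hx (ne_one_of_noEig hne')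
        (ne_zm_of_noEig hne')
      rw [cf_conj' hcf x g, th0_apply hodd hN _ hx] at hval
      have hpow : (x⁻¹ * g * x) ^ ((Fintype.card F + 1) / 2) = 1 ↔
          g ^ ((Fintype.card F + 1) / 2) = 1 := by
        rw [← conj_pow', Cfsg.Agent.Helper15.SL2A.conj_eq_one_iff]
      have hiff : (g : Matrix (Fin 2) (Fin 2) F) ^ ((Fintype.card F + 1) / 2) = 1 ↔
          g ^ ((Fintype.card F + 1) / 2) = 1 := by
        rw [← Matrix.SpecialLinearGroup.coe_pow]
        exact ⟨fun h => Subtype.ext h, fun h => by rw [h]; rfl⟩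
      constructor
      · intro h
        rw [hval, if_pos (hpow.mpr (hiff.mp h))]
      · intro h
        rw [hval, if_neg (fun h' => h (hiff.mpr (hpow.mp h')))]
        norm_num

end Cfsg.Agent.S2435
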