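import Cfsg.Statements.S2436
import Mathlib
import Cfsg.Agent.Helper15.SL2F

set_option autoImplicit false
open Cfsg

namespace Cfsg.Agent.S2436

open Cfsg Matrix
open Cfsg.Agent.Helper15.SL2A Cfsg.Agent.Helper15.SL2E Cfsg.Agent.Helper15.SL2F
open Cfsg.Agent.S2430 (card_SL2)

/-- Let F be a finite field with q elements, q odd, ℓ any prime and S a Sylow ℓ-subgroup of SL₂ over F with normaliser N. Then SL₂ and N have the same number of irreducible complex characters of degree not divisible by ℓ (the McKay equality holds for SL₂ over F at every prime). -/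
theorem result {F : Type*} [Field F] [Fintype F] (hodd : Odd (Fintype.card F)) (ℓ : ℕ) [Fact ℓ.Prime] (S : Sylow ℓ (Matrix.SpecialLinearGroup (Fin 2) F)) :
    Nat.card {χ : Cfsg.IrrCharacter (Matrix.SpecialLinearGroup (Fin 2) F) // ¬ ℓ ∣ Cfsg.charDegree (χ : Matrix.SpecialLinearGroup (Fin 2) F → ℂ)} =
      Nat.card {ψ : Cfsg.IrrCharacter (Subgroup.normalizer ((S : Subgroup (Matrix.SpecialLinearGroup (Fin 2) F)) : Set (Matrix.SpecialLinearGroup (Fin 2) F))) //
        ¬ ℓ ∣ Cfsg.charDegree (ψ : Subgroup.normalizer ((S : Subgroup (Matrix.SpecialLinearGroup (Fin 2) F)) : Set (Matrix.SpecialLinearGroup (Fin 2) F)) → ℂ)} := by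
  classical
  have hℓP : ℓ.Prime := Fact.out
  show mkc ℓ (Matrix.SpecialLinearGroup (Fin 2) F) =
    mkc ℓ (Subgroup.normalizer ((S : Subgroup (Matrix.SpecialLinearGroup (Fin 2) F)) :
      Set (Matrix.SpecialLinearGroup (Fin 2) F)))
  by_cases h2 : ℓ = 2
  · subst h2
    obtain ⟨S₀, hS₀⟩ := mckay_two_sl (F := F) hodd
    rw [hS₀]
    exact mk_sylow_indep 2 S₀ S
  by_cases hq : ℓ ∣ Fintype.card F
  · obtain ⟨S₀, hS₀⟩ := mckay_p_sl (F := F) hodd ℓ hq
    rw [hS₀]
    exact mk_sylow_indep ℓ S₀ S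
  by_cases hm : ℓ ∣ Fintype.card F - 1
  · obtain ⟨S₀, hS₀⟩ := mckay_odd_sl (F := F) hodd ℓ h2 _ (Or.inl rfl) hm
    rw [hS₀]
    exact mk_sylow_indep ℓ S₀ S
  by_cases hp : ℓ ∣ Fintype.card F + 1
  · obtain ⟨S₀, hS₀⟩ := mckay_odd_sl (F := F) hodd ℓ h2 _ (Or.inr rfl) hp
    rw [hS₀]
    exact mk_sylow_indep ℓ S₀ S
  · apply mckay_triv
    rw [card_SL2]
    intro h
    rcases (Nat.Prime.dvd_mul hℓP).mp h with h' | h'
    · rcases (Nat.Prime.dvd_mul hℓP).mp h' with h'' | h''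
      · exact hq h''
      · exact hm h''
    · exact hp h'

end Cfsg.Agent.S2436
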