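import Cfsg.Statements.S2437
import Mathlib
import Cfsg.Agent.S2430
import Cfsg.Agent.S2433

set_option autoImplicit false
open Cfsg

namespace Cfsg.Agent.S2437

open Matrix
open Cfsg.Agent.S2430 (two_ne_zero_of_odd)
open Cfsg.Agent.S2433 (Bor mem_Bor borEquiv card_Bor)

section
variable {F : Type*} [Field F]

/-- the Borel subgroup as `Fˣ × F` -/
def borE : Bor F ≃ Fˣ × F := (Equiv.subtypeEquivRight (fun x => mem_Bor x)).trans borEquiv

lemma borE_symm_coe (p : Fˣ × F) :
    ((borE.symm p : Bor F) : Matrix.SpecialLinearGroup (Fin 2) F).1 =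
      !![(p.1 : F), p.2; 0, ((p.1⁻¹ : Fˣ) : F)] := rfl

lemma commute_iff (p r : Fˣ × F) : Commute (borE.symm p) (borE.symm r) ↔
    r.2 * ((p.1 : F) - ((p.1⁻¹ : Fˣ) : F)) = p.2 * ((r.1 : F) - ((r.1⁻¹ : Fˣ) : F)) := by
  have hmat : Commute (borE.symm p) (borE.symm r) ↔
      ((borE.symm p : Bor F) : Matrix.SpecialLinearGroup (Fin 2) F).1 *
        ((borE.symm r : Bor F) : Matrix.SpecialLinearGroup (Fin 2) F).1 =
      ((borE.symm r : Bor F) : Matrix.SpecialLinearGroup (Fin 2) F).1 *
        ((borE.symm p : Bor F) : Matrix.SpecialLinearGroup (Fin 2) F).1 := by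
    constructor
    · intro h
      have h1 : borE.symm p * borE.symm r = borE.symm r * borE.symm p := h
      have h2 := congrArg (fun x : Bor F => (x : Matrix.SpecialLinearGroup (Fin 2) F).1) h1
      simp only [Subgroup.coe_mul, Matrix.SpecialLinearGroup.coe_mul] at h2
      exact h2
    · intro h
      show borE.symm p * borE.symm r = borE.symm r * borE.symm p
      apply Subtype.ext; apply Subtype.ext
      simp only [Subgroup.coe_mul, Matrix.SpecialLinearGroup.coe_mul]
      exact h
  rw [hmat, borE_symm_coe, borE_symm_coe, Matrix.mul_fin_two, Matrix.mul_fin_two]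
  constructor
  · intro h
    have h01 := Matrix.ext_iff.mpr h 0 1
    simp at h01
    simp only [Units.val_inv_eq_inv_val]
    linear_combination h01
  · intro h
    simp only [Units.val_inv_eq_inv_val] at h
    ext i j
    fin_cases i <;> fin_cases j
    · simp; ring
    · simp; linear_combination h
    · simp
    · simp; ring

lemma count_line [Fintype F] [DecidableEq F] (a b : F) (ha : a ≠ 0) :
    ∑ c : F, ∑ d : F, (if d * a = c * b then 1 else 0 : ℕ) = Fintype.card F := by
  have h : ∀ c : F, ∑ d : F, (if d * a = c * b then 1 else 0 : ℕ) = 1 := by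
    intro c
    have h1 : ∀ d : F, (if d * a = c * b then 1 else 0 : ℕ) = if d = c * b / a then 1 else 0 := by
      intro d
      by_cases hd : d = c * b / a
      · rw [if_pos hd, if_pos ((eq_div_iff ha).mp hd)]
      · rw [if_neg hd, if_neg (fun h' => hd ((eq_div_iff ha).mpr h'))]
    rw [Finset.sum_congr rfl (fun d _ => h1 d),
      Finset.sum_ite_eq' Finset.univ (c * b / a) (fun _ => (1 : ℕ)), if_pos (Finset.mem_univ _)]
  rw [Finset.sum_congr rfl (fun c _ => h c), Finset.sum_const, Finset.card_univ, smul_eq_mul, mul_one]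

lemma count_K [Fintype F] [DecidableEq F] (a b : F) :
    ∑ c : F, ∑ d : F, (if d * a = c * b then 1 else 0 : ℕ) =
      Fintype.card F + (if a = 0 then 1 else 0) * (if b = 0 then 1 else 0) *
        (Fintype.card F * Fintype.card F - Fintype.card F) := by
  by_cases ha : a = 0
  · by_cases hb : b = 0
    · subst ha; subst hb
      simp only [mul_zero, if_true, Finset.sum_const, Finset.card_univ, smul_eq_mul, mul_one, one_mul]
      have : Fintype.card F ≤ Fintype.card F * Fintype.card F := Nat.le_mul_self _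
      omega
    · rw [if_pos ha, if_neg hb, mul_zero, zero_mul, add_zero, Finset.sum_comm]
      rw [← count_line b a hb]
      apply Finset.sum_congr rfl; intro x _
      apply Finset.sum_congr rfl; intro y _
      by_cases h : x * a = y * b
      · rw [if_pos h, if_pos h.symm]
      · rw [if_neg h, if_neg (fun h' => h h'.symm)]
  · rw [if_neg ha, zero_mul, zero_mul, add_zero]; exact count_line a b ha

lemma count_two [Fintype F] [DecidableEq F] (h2 : (2 : F) ≠ 0) :
    ∑ u : Fˣ, (if (u : F) - ((u⁻¹ : Fˣ) : F) = 0 then 1 else 0 : ℕ) = 2 := by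
  rw [← Finset.card_filter]
  have hf : Finset.univ.filter (fun u : Fˣ => (u : F) - ((u⁻¹ : Fˣ) : F) = 0) = {1, -1} := by
    ext u
    simp only [Finset.mem_filter, Finset.mem_univ, true_and, Finset.mem_insert, Finset.mem_singleton]
    constructor
    · intro h
      have h1 : (u : F) * u = 1 := by
        have h0 : (u : F) = ((u⁻¹ : Fˣ) : F) := sub_eq_zero.mp h
        calc (u : F) * u = u * ((u⁻¹ : Fˣ) : F) := by rw [← h0]
          _ = 1 := by rw [← Units.val_mul, mul_inv_cancel, Units.val_one]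
      have h3 : ((u : F) - 1) * ((u : F) + 1) = 0 := by linear_combination h1
      rcases mul_eq_zero.mp h3 with h4 | h4
      · left; apply Units.ext; rw [Units.val_one]; exact sub_eq_zero.mp h4
      · right; apply Units.ext; rw [Units.val_neg, Units.val_one]; exact eq_neg_of_add_eq_zero_left h4
    · rintro (rfl | rfl)
      · simp
      · simp
  rw [hf, Finset.card_pair]
  intro h
  have h1 := congrArg Units.val h
  rw [Units.val_neg, Units.val_one] at h1
  apply h2
  linear_combination h1

lemma count_pairs [Fintype F] [DecidableEq F] (h2 : (2 : F) ≠ 0) :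
    Nat.card {a : (Fˣ × F) × (Fˣ × F) // a.2.2 * ((a.1.1 : F) - ((a.1.1⁻¹ : Fˣ) : F)) =
        a.1.2 * ((a.2.1 : F) - ((a.2.1⁻¹ : Fˣ) : F))} =
      (Fintype.card F - 1) * ((Fintype.card F - 1) * Fintype.card F) +
        4 * (Fintype.card F * Fintype.card F - Fintype.card F) := by
  rw [Nat.card_eq_fintype_card, Fintype.card_subtype, Finset.card_filter]
  have e1 : ∑ a : (Fˣ × F) × (Fˣ × F), (if a.2.2 * ((a.1.1 : F) - ((a.1.1⁻¹ : Fˣ) : F)) =
        a.1.2 * ((a.2.1 : F) - ((a.2.1⁻¹ : Fˣ) : F)) then 1 else 0 : ℕ) =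
      ∑ u : Fˣ, ∑ v : Fˣ, ∑ c : F, ∑ d : F, (if d * ((u : F) - ((u⁻¹ : Fˣ) : F)) =
        c * ((v : F) - ((v⁻¹ : Fˣ) : F)) then 1 else 0 : ℕ) := by
    rw [Fintype.sum_prod_type]
    simp only [Fintype.sum_prod_type]
    apply Finset.sum_congr rfl; intro u _
    exact Finset.sum_comm
  rw [e1]
  simp only [count_K]
  have e2 : ∑ u : Fˣ, ∑ v : Fˣ, (if (u : F) - ((u⁻¹ : Fˣ) : F) = 0 then 1 else 0 : ℕ) *
      (if (v : F) - ((v⁻¹ : Fˣ) : F) = 0 then 1 else 0) *
        (Fintype.card F * Fintype.card F - Fintype.card F) =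
      (∑ u : Fˣ, (if (u : F) - ((u⁻¹ : Fˣ) : F) = 0 then 1 else 0 : ℕ)) *
      (∑ v : Fˣ, (if (v : F) - ((v⁻¹ : Fˣ) : F) = 0 then 1 else 0 : ℕ)) *
        (Fintype.card F * Fintype.card F - Fintype.card F) := by
    rw [Finset.sum_mul_sum]
    simp only [Finset.sum_mul]
  simp only [Finset.sum_add_distrib, Finset.sum_const, Finset.card_univ, smul_eq_mul]
  rw [e2, count_two h2, Fintype.card_units]

end

/-- Over a finite field F with q elements, q odd, the upper triangular subgroup of SL₂ (a Borel subgroup, of order q(q − 1)) has exactly q + 3 conjugacy classes. -/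
theorem result {F : Type*} [Field F] [Fintype F] (hodd : Odd (Fintype.card F)) :
    Nat.card (ConjClasses ((Cfsg.upperTriangularGL 2 F).comap Matrix.SpecialLinearGroup.toGL)) = Fintype.card F + 3 := by
  classical
  have hoddq := Nat.odd_iff.mp hodd
  have h2 := two_ne_zero_of_odd hoddq
  have h1 := card_comm_eq_card_conjClasses_mul_card (Bor F)
  have e : Nat.card {p : Bor F × Bor F // Commute p.1 p.2} =
      Nat.card {a : (Fˣ × F) × (Fˣ × F) // a.2.2 * ((a.1.1 : F) - ((a.1.1⁻¹ : Fˣ) : F)) =
        a.1.2 * ((a.2.1 : F) - ((a.2.1⁻¹ : Fˣ) : F))} :=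
    (Nat.card_congr (Equiv.subtypeEquiv (Equiv.prodCongr borE.symm borE.symm)
      (fun a => (commute_iff a.1 a.2).symm))).symm
  rw [e, count_pairs h2, card_Bor] at h1
  have hq2 : 2 ≤ Fintype.card F := Fintype.one_lt_card
  obtain ⟨m, hm⟩ : ∃ m, Fintype.card F = m + 1 := ⟨Fintype.card F - 1, by omega⟩
  rw [hm] at h1 ⊢
  simp only [Nat.add_sub_cancel] at h1
  have e3 : (m + 1) * (m + 1) - (m + 1) = m * (m + 1) := by
    rw [Nat.sub_eq_iff_eq_add (Nat.le_mul_self _)]; ring
  rw [e3] at h1
  have hpos : 0 < m * (m + 1) := Nat.mul_pos (by omega) (by omega)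
  apply Nat.eq_of_mul_eq_mul_right hpos
  change Nat.card (ConjClasses (Bor F)) * (m * (m + 1)) = (m + 1 + 3) * (m * (m + 1))
  rw [← h1]; ring

end Cfsg.Agent.S2437
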