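import Cfsg.Statements.S2438
import Mathlib
import Cfsg.Agent.Helper15.SL2C

set_option autoImplicit false
open Cfsg

namespace Cfsg.Agent.S2438

open Cfsg Matrix
open scoped ComplexConjugate
open Cfsg.Agent.Helper15.SL2A Cfsg.Agent.Helper15.SL2B Cfsg.Agent.Helper15.SL2C
open Cfsg.Agent.S2508 (Zm Zm_coe Zm_center Zm_ne_one center_odd)
open Cfsg.Agent.S2430 (two_ne_zero_of_odd)

/-- Let F be a finite field with q elements, q odd, q ≥ 5, U the upper unitriangular subgroup of SL₂ over F, and χ an irreducible complex character. The sum of the values of χ over U equals 2q, q, 0, q, 0 according as the degree of χ is q + 1, q, q − 1, (q + 1)/2, (q − 1)/2; so among these five degrees the sum vanishes exactly for the degrees q − 1 and (q − 1)/2, i.e. the irreducible characters of those two degrees are the ones whose restriction to U does not contain the trivial character (the cuspidal characters), while those of degree q + 1, q and (q +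 1)/2 are not cuspidal. -/
theorem result {F : Type*} [Field F] [Fintype F] [DecidableEq F] (hodd : Odd (Fintype.card F)) (hq : 5 ≤ Fintype.card F)
    (χ : Matrix.SpecialLinearGroup (Fin 2) F → ℂ) (hχ : Cfsg.IsIrrCharacter (Matrix.SpecialLinearGroup (Fin 2) F) χ) :
    (χ 1 = (Fintype.card F : ℂ) + 1 →
      (∑ g : Matrix.SpecialLinearGroup (Fin 2) F, if (g : Matrix (Fin 2) (Fin 2) F) 1 0 = 0 ∧ (g : Matrix (Fin 2) (Fin 2) F) 0 0 = 1 ∧ (g : Matrix (Fin 2) (Fin 2) F) 1 1 = 1 then χ g else 0) = 2 * (Fintype.card F : ℂ)) ∧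
    (χ 1 = (Fintype.card F : ℂ) →
      (∑ g : Matrix.SpecialLinearGroup (Fin 2) F, if (g : Matrix (Fin 2) (Fin 2) F) 1 0 = 0 ∧ (g : Matrix (Fin 2) (Fin 2) F) 0 0 = 1 ∧ (g : Matrix (Fin 2) (Fin 2) F) 1 1 = 1 then χ g else 0) = (Fintype.card F : ℂ)) ∧
    (χ 1 = (Fintype.card F : ℂ) - 1 →
      (∑ g : Matrix.SpecialLinearGroup (Fin 2) F, if (g : Matrix (Fin 2) (Fin 2) F) 1 0 = 0 ∧ (g : Matrix (Fin 2) (Fin 2) F) 0 0 = 1 ∧ (g : Matrix (Fin 2) (Fin 2) F) 1 1 = 1 then χ g else 0) = 0) ∧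
    (χ 1 = (((Fintype.card F + 1) / 2 : ℕ) : ℂ) →
      (∑ g : Matrix.SpecialLinearGroup (Fin 2) F, if (g : Matrix (Fin 2) (Fin 2) F) 1 0 = 0 ∧ (g : Matrix (Fin 2) (Fin 2) F) 0 0 = 1 ∧ (g : Matrix (Fin 2) (Fin 2) F) 1 1 = 1 then χ g else 0) = (Fintype.card F : ℂ)) ∧
    (χ 1 = (((Fintype.card F - 1) / 2 : ℕ) : ℂ) →
      (∑ g : Matrix.SpecialLinearGroup (Fin 2) F, if (g : Matrix (Fin 2) (Fin 2) F) 1 0 = 0 ∧ (g : Matrix (Fin 2) (Fin 2) F) 0 0 = 1 ∧ (g : Matrix (Fin 2) (Fin 2) F) 1 1 = 1 then χ g else 0) = 0) := by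
  classical
  haveI : Fintype (MulChar F ℂ) := Fintype.ofFinite _
  obtain ⟨C, hN⟩ := exists_nst (F := F) hodd
  obtain ⟨n, hn, hcases⟩ := classify_deg hodd hN hχ
  obtain ⟨t, ht⟩ := id hodd
  have hcf := Helper2.isClassFunction_of_isCharacter (Helper2.isCharacter_of_isIrrCharacter hχ)
  have hsum := sum_U χ
  have hU := sum_unip_eq hcf
  have hq0 := q_ne_zero (F := F)
  -- the value of the sum of the multiplicities, by type
  have hR : ∀ β : MulChar F ℂ, β ^ 2 ≠ 1 → χ = R β →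
      ∑ α : MulChar F ℂ, classInner (R α) χ = 2 := by
    intro β hβ hχβ
    have e : ∀ α : MulChar F ℂ, classInner (R α) χ =
        (if α = β then 1 else 0) + (if α = β⁻¹ then 1 else 0) := by
      intro α
      rw [hχβ, inner_RR hodd]
    rw [Finset.sum_congr rfl (fun α _ => e α), Finset.sum_add_distrib, Finset.sum_ite_eq',
      Finset.sum_ite_eq', if_pos (Finset.mem_univ _), if_pos (Finset.mem_univ _)]
    norm_num
  have hSt : χ = St → ∑ α : MulChar F ℂ, classInner (R α) χ = 1 := by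
    intro hχS
    have e : ∀ α : MulChar F ℂ, classInner (R α) χ = (if α = 1 then 1 else 0) := by
      intro α
      rw [hχS, inner_R_St hodd]
    rw [Finset.sum_congr rfl (fun α _ => e α), Finset.sum_ite_eq', if_pos (Finset.mem_univ _)]
  have hX : ∀ θ : C →* ℂˣ, χ = Xc hodd hN θ → ∑ α : MulChar F ℂ, classInner (R α) χ = 0 := by
    intro θ hχX
    apply Finset.sum_eq_zero
    intro α _
    rw [hχX, inner_R_Xc]
  have hP : classInner (R (al0 (F := F))) χ ≠ 0 → ∑ α : MulChar F ℂ, classInner (R α) χ = 1 := by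
    intro h
    have e : ∀ α : MulChar F ℂ, classInner (R α) χ = (if α = al0 then 1 else 0) := by
      intro α
      rw [(typeP hodd hN hχ h).2.1 α]
    rw [Finset.sum_congr rfl (fun α _ => e α), Finset.sum_ite_eq', if_pos (Finset.mem_univ _)]
  have hM : (∀ β : MulChar F ℂ, classInner (R β) χ = 0) →
      ∑ α : MulChar F ℂ, classInner (R α) χ = 0 := by
    intro h
    exact Finset.sum_eq_zero (fun α _ => h α)
  rw [hsum, hU]
  refine ⟨?_, ?_, ?_, ?_, ?_⟩
  · intro hdeg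
    have hn' : n = Fintype.card F + 1 := by exact_mod_cast (hn.symm.trans hdeg)
    rcases hcases with ⟨-, h⟩ | ⟨-, h⟩ | ⟨⟨β, hβ, hRβ⟩, -⟩ | ⟨-, h⟩ | ⟨-, h⟩ | ⟨-, h⟩
    · omega
    · omega
    · rw [hR β hβ hRβ, map_ofNat]
      ring
    · omega
    · omega
    · omega
  · intro hdeg
    have hn' : n = Fintype.card F := by exact_mod_cast (hn.symm.trans hdeg)
    rcases hcases with ⟨-, h⟩ | ⟨hS, -⟩ | ⟨-, h⟩ | ⟨-, h⟩ | ⟨-, h⟩ | ⟨-, h⟩
    · omega
    · rw [hSt hS, map_one, mul_one]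
    · omega
    · omega
    · omega
    · omega
  · intro hdeg
    have hn' : n + 1 = Fintype.card F := by
      have e : ((n + 1 : ℕ) : ℂ) = (Fintype.card F : ℂ) := by
        push_cast
        rw [← hn, hdeg]
        ring
      exact_mod_cast e
    rcases hcases with ⟨-, h⟩ | ⟨-, h⟩ | ⟨-, h⟩ | ⟨-, h⟩ | ⟨⟨θ, hθ, hXθ⟩, -⟩ | ⟨-, h⟩
    · omega
    · omega
    · omega
    · omega
    · rw [hX θ hXθ, map_zero, mul_zero]
    · omega
  · intro hdeg
    have hn' : n = (Fintype.card F + 1) / 2 := by exact_mod_cast (hn.symm.trans hdeg)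
    rcases hcases with ⟨-, h⟩ | ⟨-, h⟩ | ⟨-, h⟩ | ⟨hPχ, -⟩ | ⟨-, h⟩ | ⟨-, h⟩
    · omega
    · omega
    · omega
    · rw [hP hPχ, map_one, mul_one]
    · omega
    · omega
  · intro hdeg
    have hn' : n = (Fintype.card F - 1) / 2 := by exact_mod_cast (hn.symm.trans hdeg)
    rcases hcases with ⟨-, h⟩ | ⟨-, h⟩ | ⟨-, h⟩ | ⟨-, h⟩ | ⟨-, h⟩ | ⟨⟨hcusp, -⟩, -⟩
    · omega
    · omega
    · omega
    · omega
    · omega
    · rw [hM hcusp, map_zero, mul_zero]

end Cfsg.Agent.S2438
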