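import Cfsg.Statements.S2439
import Mathlib
import Cfsg.Agent.Helper15.SL2D
import Cfsg.Agent.Helper7.IndBlock
import Cfsg.Agent.Helper25.CharEig
import Cfsg.Agent.Helper25.BlockRank
import Cfsg.Agent.Helper7.Defect

set_option autoImplicit false
open Cfsg

namespace Cfsg.Agent.S2439

open Cfsg Matrix
open scoped ComplexConjugate
open Cfsg.Agent.Helper15.SL2A Cfsg.Agent.Helper15.SL2B Cfsg.Agent.Helper15.SL2C
open Cfsg.Agent.Helper15.SL2D
open Cfsg.Agent.S2508 (Zm Zm_coe Zm_center Zm_ne_one center_odd)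
open Cfsg.Agent.S2430 (two_ne_zero_of_odd card_SL2)
open Cfsg.Agent.Helper25 Cfsg.Agent.Helper7

section Generic
universe u
variable {G : Type u} [Group G] [Finite G] {p : ℕ} {M : Ideal AlgInt}

/-- `χ(x^j) ≡ χ(x)` modulo the local ideal when `x^((j-1) p^k) = 1`. -/
lemma li_pow_sub (hM : IsPModular p M) (χ : IrrCharacter G) (x : G) (j k : ℕ) (hj : 1 ≤ j)
    (h1 : x ^ ((j - 1) * p ^ k) = 1) :
    MemLocalIdeal M ((χ : G → ℂ) (x ^ j) - (χ : G → ℂ) x) := by
  obtain ⟨ι, _, μ, δ, -, hμ, hpow, -⟩ := irr_eigenvalues χ x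
  have hx : (χ : G → ℂ) x = ∑ i, μ i := by
    have := hpow 1
    simpa using this
  rw [hpow j, hx, ← Finset.sum_sub_distrib]
  apply li_sum hM
  intro i _
  have hord : 0 < orderOf x := orderOf_pos x
  have hint : IsIntegral ℤ (μ i) := by
    apply IsIntegral.of_pow hord
    rw [hμ i]
    exact isIntegral_one
  have hdvd : orderOf x ∣ (j - 1) * p ^ k := orderOf_dvd_of_pow_eq_one h1
  have h2 : (μ i ^ (j - 1)) ^ (p ^ k) = 1 := by
    rw [← pow_mul]
    obtain ⟨m, hm⟩ := hdvd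
    rw [hm, pow_mul, hμ i, one_pow]
  have h3 := li_sub_one_of_pow_eq_one hM k h2
  have e : μ i ^ j - μ i = μ i * (μ i ^ (j - 1) - 1) := by
    obtain ⟨j', rfl⟩ : ∃ j', j = j' + 1 := ⟨j - 1, by omega⟩
    rw [Nat.add_sub_cancel, pow_succ]
    ring
  rw [e]
  exact lr_mul_li hM (lr_of_isIntegral hM hint) h3

lemma li_centralChar_of_dvd (hM : IsPModular p M) (χ : IrrCharacter G)
    (hχ : ¬ p ∣ charDegree (χ : G → ℂ)) (x : G)
    (hx : p ∣ (Subgroup.centralizer ({x} : Set G)).index) :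
    MemLocalIdeal M (centralChar (χ : G → ℂ) x) := by
  unfold centralChar
  rw [irr_one_eq_degree χ, div_eq_mul_inv]
  exact li_mul_lr hM (li_mul_lr hM ((li_natCast_iff hM _).mpr hx)
    (lr_of_isIntegral hM (irr_isIntegral χ x))) (lr_natCast_inv hM hχ)

lemma li_centralChar_sub (hM : IsPModular p M) (χ ψ : IrrCharacter G)
    (hχ : ¬ p ∣ charDegree (χ : G → ℂ)) (hψ : ¬ p ∣ charDegree (ψ : G → ℂ)) (x z : G)
    (h1 : MemLocalIdeal M ((χ : G → ℂ) z - (χ : G → ℂ) x))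
    (h2 : MemLocalIdeal M ((ψ : G → ℂ) z - (ψ : G → ℂ) x))
    (h3 : (χ : G → ℂ) z * (ψ : G → ℂ) 1 = (ψ : G → ℂ) z * (χ : G → ℂ) 1) :
    MemLocalIdeal M (centralChar (χ : G → ℂ) x - centralChar (ψ : G → ℂ) x) := by
  have hχ0 := irr_one_ne_zero χ
  have hψ0 := irr_one_ne_zero ψ
  have ha : ((χ : G → ℂ) 1)⁻¹ * (χ : G → ℂ) 1 = 1 := inv_mul_cancel₀ hχ0
  have hb : ((ψ : G → ℂ) 1)⁻¹ * (ψ : G → ℂ) 1 = 1 := inv_mul_cancel₀ hψ0
  have e : centralChar (χ : G → ℂ) x - centralChar (ψ : G → ℂ) x =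
      ((Subgroup.centralizer ({x} : Set G)).index : ℂ) *
        (((ψ : G → ℂ) z - (ψ : G → ℂ) x) * ((ψ : G → ℂ) 1)⁻¹ -
          ((χ : G → ℂ) z - (χ : G → ℂ) x) * ((χ : G → ℂ) 1)⁻¹) := by
    unfold centralChar
    rw [div_eq_mul_inv, div_eq_mul_inv]
    linear_combination
      (((Subgroup.centralizer ({x} : Set G)).index : ℂ) * ((χ : G → ℂ) 1)⁻¹ * ((ψ : G → ℂ) 1)⁻¹) * h3
      - (((Subgroup.centralizer ({x} : Set G)).index : ℂ) * (χ : G → ℂ) z * ((χ : G → ℂ) 1)⁻¹) * hb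
      + (((Subgroup.centralizer ({x} : Set G)).index : ℂ) * (ψ : G → ℂ) z * ((ψ : G → ℂ) 1)⁻¹) * ha
  rw [e]
  apply lr_mul_li hM (lr_natCast hM _)
  apply li_sub hM
  · rw [irr_one_eq_degree ψ]
    exact li_mul_lr hM h2 (lr_natCast_inv hM hψ)
  · rw [irr_one_eq_degree χ]
    exact li_mul_lr hM h1 (lr_natCast_inv hM hχ)

/-- a block containing a character of `p'`-degree has the Sylow `p`-subgroups as defect groups -/
lemma defect_sylow [Fact p.Prime] (hM : IsPModular p M) {B : Set (IrrCharacter G)}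
    (hB : IsPBlock M B) (χ : IrrCharacter G) (hχ : χ ∈ B)
    (hdeg : ¬ p ∣ charDegree (χ : G → ℂ)) (P : Sylow p G) :
    IsDefectGroup p M B (P : Subgroup G) := by
  obtain ⟨g, hg⟩ := exists_isDefectClass hM hB
  obtain ⟨S⟩ : Nonempty (Sylow p (Subgroup.centralizer ({g} : Set G))) := inferInstance
  obtain ⟨D, hDdef⟩ : ∃ D : Subgroup G, D = (S : Subgroup (Subgroup.centralizer ({g} : Set G))).map
      (Subgroup.centralizer ({g} : Set G)).subtype := ⟨_, rfl⟩
  have hD : IsDefectGroup p M B D := ⟨g, hg, S, hDdef⟩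
  have hcard := card_defectGroup hM hB hD
  have hdef : blockDefect p B = (Nat.card G).factorization p := by
    unfold blockDefect
    have h0 : sInf ((fun χ : IrrCharacter G => (charDegree (χ : G → ℂ)).factorization p) '' B)
        = 0 := by
      apply Nat.sInf_eq_zero.mpr
      left
      exact ⟨χ, hχ, Nat.factorization_eq_zero_of_not_dvd hdeg⟩
    rw [h0, Nat.sub_zero]
  rw [hdef] at hcard
  obtain ⟨x, hx⟩ := MulAction.exists_smul_eq G (Sylow.ofCard D hcard) P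
  have h1 := isDefectGroup_conj hD x
  have h2 : (P : Subgroup G) = D.map (MulAut.conj x).toMonoidHom := by
    rw [← hx, Sylow.coe_subgroup_smul, Sylow.coe_ofCard, Subgroup.pointwise_smul_def]
    rfl
  rw [h2]
  exact h1

end Generic

section SLsec
variable {F : Type*} [Field F] [Fintype F] [DecidableEq F]

local notation "SL" => Matrix.SpecialLinearGroup (Fin 2) F

lemma neg_one_eq : (-1 : SL) = Zm F := by
  apply Subtype.ext
  rw [Zm_coe]
  ext i j
  fin_cases i <;> fin_cases j <;> simp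

lemma bm_one_pow (c : F) (n : ℕ) : (bm (1 : Fˣ) c) ^ n = bm 1 ((n : F) * c) := by
  induction n with
  | zero => rw [pow_zero, Nat.cast_zero, zero_mul, bm_one]
  | succ n ih =>
    rw [pow_succ, ih, bm_mul, one_mul, inv_one, Units.val_one, one_mul, mul_one, Nat.cast_succ]
    congr 1
    ring

lemma comm_unip (x : SL) (h : x * bm 1 1 = bm 1 1 * x) :
    ∃ (e : Fˣ) (d : F), e * e = 1 ∧ x = bm e d := by
  have h00 := congrArg (fun y : SL => y.1 0 0) h
  simp only [mul_00, bm_00, bm_01, bm_10, bm_11] at h00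
  have h10 : x.1 1 0 = 0 := by simpa using h00
  obtain ⟨a, c, rfl⟩ := eq_bm_of_10 x h10
  refine ⟨a, c, ?_, rfl⟩
  rw [bm_mul, bm_mul] at h
  have h01 := congrArg (fun y : SL => y.1 0 1) h
  simp only [bm_01, Units.val_one, inv_one, mul_one, one_mul] at h01
  have h3 : (a : F) = ((a⁻¹ : Fˣ) : F) := by linear_combination h01
  apply Units.ext
  rw [Units.val_mul, Units.val_one]
  nth_rewrite 2 [h3]
  exact Units.mul_inv a

lemma dichotomy (p : ℕ) [Fact p.Prime] [CharP F p] (x : SL) :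
    p ∣ (Subgroup.centralizer ({x} : Set SL)).index ∨
      ∃ (g : SL) (e : Fˣ) (d : F), e * e = 1 ∧ g * x * g⁻¹ = bm e d := by
  by_cases h : p ∣ (Subgroup.centralizer ({x} : Set SL)).index
  · exact Or.inl h
  right
  have hup : (bm (1 : Fˣ) (1 : F)) ^ p = 1 := by
    rw [bm_one_pow, CharP.cast_eq_zero, zero_mul, bm_one]
  have hu : IsPGroup p (Subgroup.zpowers (bm (1 : Fˣ) (1 : F))) := by
    rintro ⟨g, hg⟩
    obtain ⟨m, rfl⟩ := Subgroup.mem_zpowers_iff.mp hg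
    refine ⟨1, Subtype.ext ?_⟩
    simp only [Subgroup.coe_pow, Subgroup.coe_one, pow_one]
    rw [← zpow_natCast, ← _root_.zpow_mul, mul_comm, _root_.zpow_mul, zpow_natCast, hup,
      _root_.one_zpow]
  obtain ⟨P, hP⟩ := hu.exists_le_sylow
  obtain ⟨g, hg⟩ := exists_conj_centralizes_sylow P x h
  have h1 := hg _ (hP (Subgroup.mem_zpowers _))
  obtain ⟨e, d, he, hx⟩ := comm_unip (g * x * g⁻¹) h1.symm
  exact ⟨g, e, d, he, hx⟩

lemma pow_facts (p : ℕ) [Fact p.Prime] [CharP F p] (hp : p ≠ 2) (e : Fˣ) (d : F)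
    (he : e * e = 1) :
    (bm e d) ^ p = bm e 0 ∧ (bm e d) ^ ((p - 1) * p ^ 1) = 1 := by
  have hodd : Odd p := (Fact.out : p.Prime).odd_of_ne_two hp
  obtain ⟨m, hm⟩ := hodd
  have hz : bm e 0 * bm e 0 = (1 : SL) := by
    rw [bm_mul, he, mul_zero, zero_mul, add_zero, bm_one]
  have hee : e⁻¹ = e := (eq_inv_of_mul_eq_one_left he).symm
  have hx : bm e d = bm e 0 * bm 1 (((e⁻¹ : Fˣ) : F) * d) := by
    rw [bm_mul, mul_one, zero_mul, add_zero, ← mul_assoc, Units.mul_inv, one_mul]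
  have hcomm : Commute (bm e (0 : F)) (bm (1 : Fˣ) (((e⁻¹ : Fˣ) : F) * d)) := by
    show bm e 0 * bm 1 _ = bm 1 _ * bm e 0
    rw [bm_mul, bm_mul, hee, mul_one, one_mul]
    congr 1
    simp
    ring
  have hzp : (bm e (0 : F)) ^ p = bm e 0 := by
    rw [hm, pow_succ, pow_mul, pow_two, hz, one_pow, one_mul]
  have h1 : (bm e d) ^ p = bm e 0 := by
    rw [hx, hcomm.mul_pow, bm_one_pow, CharP.cast_eq_zero, zero_mul, bm_one, mul_one, hzp]
  refine ⟨h1, ?_⟩
  rw [pow_one, mul_comm, pow_mul, h1, hm, Nat.add_sub_cancel, pow_mul, pow_two, hz, one_pow]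

lemma deg_cases (p : ℕ) [Fact p.Prime] [CharP F p] (hodd : Odd (Fintype.card F))
    (χ : IrrCharacter SL) :
    ((χ : SL → ℂ) = St) ∨
      ((χ : SL → ℂ) 1 ≠ (Fintype.card F : ℂ) ∧ ¬ p ∣ charDegree (χ : SL → ℂ)) := by
  obtain ⟨C, hC⟩ := exists_nst hodd
  obtain ⟨n, hn, hcases⟩ := classify_deg hodd hC χ.2
  have hdeg : charDegree (χ : SL → ℂ) = n := by
    have h := irr_one_eq_degree χ
    rw [hn] at h
    exact_mod_cast h.symm
  obtain ⟨k, -, hq⟩ := FiniteField.card F p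
  have hpq : p ∣ Fintype.card F := by
    rw [hq]
    exact dvd_pow_self p k.pos.ne'
  have h3 := card_ge_three hodd
  have hp1 : ¬ p ∣ 1 := (Fact.out : p.Prime).not_dvd_one
  obtain ⟨t, ht⟩ := id hodd
  have hne : ∀ m : ℕ, n = m → m ≠ Fintype.card F → (χ : SL → ℂ) 1 ≠ (Fintype.card F : ℂ) := by
    intro m hm hmq hcon
    rw [hn, hm] at hcon
    exact hmq (by exact_mod_cast hcon)
  rcases hcases with ⟨-, h⟩ | ⟨h, -⟩ | ⟨-, h⟩ | ⟨-, h⟩ | ⟨-, h⟩ | ⟨-, h⟩
  · right
    refine ⟨hne _ h (by omega), ?_⟩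
    rw [hdeg, h]
    exact hp1
  · left
    exact h
  · right
    refine ⟨hne _ h (by omega), ?_⟩
    rw [hdeg, h]
    intro hd
    have := Nat.dvd_sub hd hpq
    rw [Nat.add_sub_cancel_left] at this
    exact hp1 this
  · right
    refine ⟨hne _ h (by omega), ?_⟩
    rw [hdeg, h]
    intro hd
    have h4 : p ∣ 2 * ((Fintype.card F + 1) / 2) := Dvd.dvd.mul_left hd 2
    have h5 : 2 * ((Fintype.card F + 1) / 2) = Fintype.card F + 1 := by omega
    rw [h5] at h4
    have := Nat.dvd_sub h4 hpq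
    rw [Nat.add_sub_cancel_left] at this
    exact hp1 this
  · right
    refine ⟨hne _ h (by omega), ?_⟩
    rw [hdeg, h]
    intro hd
    have := Nat.dvd_sub hpq hd
    have h5 : Fintype.card F - (Fintype.card F - 1) = 1 := by omega
    rw [h5] at this
    exact hp1 this
  · right
    refine ⟨hne _ h (by omega), ?_⟩
    rw [hdeg, h]
    intro hd
    have h4 : p ∣ 2 * ((Fintype.card F - 1) / 2) := Dvd.dvd.mul_left hd 2
    have := Nat.dvd_sub hpq h4
    have h5 : Fintype.card F - 2 * ((Fintype.card F - 1) / 2) = 1 := by omega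
    rw [h5] at this
    exact hp1 this

lemma St_zm : St (Zm F) = St (1 : SL) := by
  rw [St_apply, St_apply, ← mul_one (Zm F), R_one_zm_mul]

lemma zm_sign (χ : IrrCharacter SL) :
    (χ : SL → ℂ) (Zm F) = (χ : SL → ℂ) 1 ∨ (χ : SL → ℂ) (Zm F) = -(χ : SL → ℂ) 1 := by
  obtain ⟨c, hc, h⟩ := irr_central_sign χ.2 (Zm F) (Zm_center F) zm_mul_self
  have h1 := h 1
  rw [mul_one] at h1
  rcases hc with rfl | rfl
  · left
    rw [h1, one_mul]
  · right
    rw [h1, neg_one_mul]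

lemma sameBlock_of (p : ℕ) [Fact p.Prime] [CharP F p] (hp : p ≠ 2) {M : Ideal AlgInt}
    (hM : IsPModular p M) (χ ψ : IrrCharacter SL) (hχ : ¬ p ∣ charDegree (χ : SL → ℂ))
    (hψ : ¬ p ∣ charDegree (ψ : SL → ℂ))
    (hs : (χ : SL → ℂ) (Zm F) * (ψ : SL → ℂ) 1 = (ψ : SL → ℂ) (Zm F) * (χ : SL → ℂ) 1) :
    SameBlock M (χ : SL → ℂ) (ψ : SL → ℂ) := by
  intro x
  rcases dichotomy p x with h | ⟨g, e, d, he, hx⟩
  · exact li_sub hM (li_centralChar_of_dvd hM χ hχ x h) (li_centralChar_of_dvd hM ψ hψ x h)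
  · rw [← centralChar_conj χ x g, ← centralChar_conj ψ x g, hx]
    obtain ⟨h1, h2⟩ := pow_facts p hp e d he
    have hz : bm e (0 : F) = 1 ∨ bm e (0 : F) = Zm F := by
      rcases unit_sq_one e he with rfl | rfl
      · left
        exact bm_one
      · right
        exact bm_neg_one
    have a1 := li_pow_sub hM χ (bm e d) p 1 (Fact.out : p.Prime).one_le h2
    have a2 := li_pow_sub hM ψ (bm e d) p 1 (Fact.out : p.Prime).one_le h2
    rw [h1] at a1 a2
    apply li_centralChar_sub hM χ ψ hχ hψ (bm e d) (bm e 0) a1 a2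
    rcases hz with hz | hz
    · rw [hz]
      ring
    · rw [hz]
      exact hs

lemma centralChar_zm (χ : IrrCharacter SL) :
    centralChar (χ : SL → ℂ) (Zm F) = (χ : SL → ℂ) (Zm F) / (χ : SL → ℂ) 1 := by
  unfold centralChar
  have h : Subgroup.centralizer ({Zm F} : Set SL) = ⊤ := by
    rw [Subgroup.centralizer_eq_top_iff_subset]
    intro y hy
    rw [Set.mem_singleton_iff] at hy
    rw [hy]
    exact Zm_center F
  rw [h, Subgroup.index_top, Nat.cast_one, one_mul]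

end SLsec

section MainSec
variable {F : Type*} [Field F] [Fintype F] [DecidableEq F]

local notation "SL" => Matrix.SpecialLinearGroup (Fin 2) F

theorem main_aux (p : ℕ) [Fact p.Prime] [CharP F p] (hp : p ≠ 2)
    (M : Ideal AlgInt) (hM : IsPModular p M) :
    (∀ B : Set (IrrCharacter SL), IsPBlock M B ↔
      (B = {χ : IrrCharacter SL | (χ : SL → ℂ) 1 = (Fintype.card F : ℂ)} ∨
       B = {χ : IrrCharacter SL | (χ : SL → ℂ) (Zm F) = (χ : SL → ℂ) 1 ∧
          (χ : SL → ℂ) 1 ≠ (Fintype.card F : ℂ)} ∨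
       B = {χ : IrrCharacter SL | (χ : SL → ℂ) (Zm F) = -(χ : SL → ℂ) 1})) ∧
    Nat.card {B : Set (IrrCharacter SL) // IsPBlock M B} = 3 ∧
    ∀ P : Sylow p SL,
      IsDefectGroup p M {χ : IrrCharacter SL | (χ : SL → ℂ) (Zm F) = (χ : SL → ℂ) 1 ∧
          (χ : SL → ℂ) 1 ≠ (Fintype.card F : ℂ)} (P : Subgroup SL) ∧
      IsDefectGroup p M {χ : IrrCharacter SL | (χ : SL → ℂ) (Zm F) = -(χ : SL → ℂ) 1}
        (P : Subgroup SL) := by
  have hpP : p.Prime := Fact.out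
  have hodd : Odd (Fintype.card F) := by
    obtain ⟨k, -, hq⟩ := FiniteField.card F p
    rw [hq]
    exact (hpP.odd_of_ne_two hp).pow
  have h2F : (2 : F) ≠ 0 := two_ne_zero_of_odd (Nat.odd_iff.mp hodd)
  have h3 := card_ge_three hodd
  have hq0 : (Fintype.card F : ℂ) ≠ 0 := q_ne_zero
  obtain ⟨SSt, hSSt⟩ : ∃ S : Set (IrrCharacter SL),
      S = {χ : IrrCharacter SL | (χ : SL → ℂ) 1 = (Fintype.card F : ℂ)} := ⟨_, rfl⟩
  obtain ⟨S0, hS0⟩ : ∃ S : Set (IrrCharacter SL),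
      S = {χ : IrrCharacter SL | (χ : SL → ℂ) (Zm F) = (χ : SL → ℂ) 1 ∧
          (χ : SL → ℂ) 1 ≠ (Fintype.card F : ℂ)} := ⟨_, rfl⟩
  obtain ⟨S1, hS1⟩ : ∃ S : Set (IrrCharacter SL),
      S = {χ : IrrCharacter SL | (χ : SL → ℂ) (Zm F) = -(χ : SL → ℂ) 1} := ⟨_, rfl⟩
  rw [← hSSt, ← hS0, ← hS1]
  have mSSt : ∀ χ : IrrCharacter SL, χ ∈ SSt ↔ (χ : SL → ℂ) 1 = (Fintype.card F : ℂ) :=
    fun χ => by rw [hSSt]; rfl
  have mS0 : ∀ χ : IrrCharacter SL, χ ∈ S0 ↔ ((χ : SL → ℂ) (Zm F) = (χ : SL → ℂ) 1 ∧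
      (χ : SL → ℂ) 1 ≠ (Fintype.card F : ℂ)) := fun χ => by rw [hS0]; rfl
  have mS1 : ∀ χ : IrrCharacter SL, χ ∈ S1 ↔ (χ : SL → ℂ) (Zm F) = -(χ : SL → ℂ) 1 :=
    fun χ => by rw [hS1]; rfl
  clear hSSt hS0 hS1
  obtain ⟨St', hSt'⟩ : ∃ χ : IrrCharacter SL, (χ : SL → ℂ) = St := ⟨⟨St, St_irr hodd⟩, rfl⟩
  obtain ⟨T, hT⟩ : ∃ χ : IrrCharacter SL, (χ : SL → ℂ) = triv := ⟨⟨triv, triv_irr⟩, rfl⟩
  have hSt1 : (St' : SL → ℂ) 1 = (Fintype.card F : ℂ) := by rw [hSt', St_one hodd]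
  have hStz : (St' : SL → ℂ) (Zm F) = (Fintype.card F : ℂ) := by rw [hSt', St_zm, St_one hodd]
  have hT1 : (T : SL → ℂ) 1 = 1 := by rw [hT]; rfl
  have hTz : (T : SL → ℂ) (Zm F) = 1 := by rw [hT]; rfl
  have hq1 : (Fintype.card F : ℂ) ≠ 1 := by
    intro h
    have : Fintype.card F = 1 := by exact_mod_cast h
    omega
  have F1 : ∀ χ : IrrCharacter SL, χ ∈ SSt ↔ χ = St' := by
    intro χ
    rw [mSSt]
    constructor
    · intro h
      rcases deg_cases p hodd χ with h1 | ⟨h1, -⟩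
      · exact Subtype.ext (h1.trans hSt'.symm)
      · exact absurd h h1
    · intro h
      rw [h]
      exact hSt1
  have F3 : ∀ χ : IrrCharacter SL, χ ∉ SSt → ¬ p ∣ charDegree (χ : SL → ℂ) := by
    intro χ hχ
    rcases deg_cases p hodd χ with h1 | ⟨-, h1⟩
    · exact absurd ((F1 χ).mpr (Subtype.ext (h1.trans hSt'.symm))) hχ
    · exact h1
  have F2 : blockOf M (St' : SL → ℂ) = SSt := by
    have hd : (Nat.card SL).factorization p ≤ (charDegree (St' : SL → ℂ)).factorization p := by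
      have hdeg : charDegree (St' : SL → ℂ) = Fintype.card F := by
        have h := irr_one_eq_degree St'
        rw [hSt1] at h
        exact_mod_cast h.symm
      rw [hdeg, card_SL2]
      obtain ⟨k, -, hq⟩ := FiniteField.card F p
      have hpq : p ∣ Fintype.card F := by
        rw [hq]
        exact dvd_pow_self p k.pos.ne'
      have hp1 : ¬ p ∣ 1 := hpP.not_dvd_one
      have hA : ¬ p ∣ Fintype.card F - 1 := by
        intro hd
        have := Nat.dvd_sub hpq hd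
        have h5 : Fintype.card F - (Fintype.card F - 1) = 1 := by omega
        rw [h5] at this
        exact hp1 this
      have hB : ¬ p ∣ Fintype.card F + 1 := by
        intro hd
        have := Nat.dvd_sub hd hpq
        rw [Nat.add_sub_cancel_left] at this
        exact hp1 this
      rw [Nat.factorization_mul (Nat.mul_ne_zero (by omega) (by omega)) (by omega),
        Nat.factorization_mul (by omega) (by omega)]
      simp [Nat.factorization_eq_zero_of_not_dvd hA, Nat.factorization_eq_zero_of_not_dvd hB]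
    ext ψ
    rw [F1]
    constructor
    · intro hψ
      exact eq_of_mem_block_of_defect_zero hM (isPBlock_blockOf St') (self_mem_blockOf hM St')
        hψ hd
    · intro h
      rw [h]
      exact self_mem_blockOf hM St'
  have hcz : ∀ χ : IrrCharacter SL, χ ∉ S1 → centralChar (χ : SL → ℂ) (Zm F) = 1 := by
    intro χ hχ
    rw [centralChar_zm]
    rcases zm_sign χ with h | h
    · rw [h, div_self (irr_one_ne_zero χ)]
    · exact absurd ((mS1 χ).mpr h) hχ
  have hcz1 : ∀ χ : IrrCharacter SL, χ ∈ S1 → centralChar (χ : SL → ℂ) (Zm F) = -1 := by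
    intro χ hχ
    rw [centralChar_zm, (mS1 χ).mp hχ, neg_div, div_self (irr_one_ne_zero χ)]
  have hli2 : ¬ MemLocalIdeal M (2 : ℂ) := by
    intro h
    have h' : MemLocalIdeal M ((2 : ℕ) : ℂ) := by exact_mod_cast h
    rw [li_natCast_iff hM] at h'
    exact hp ((Nat.prime_dvd_prime_iff_eq hpP Nat.prime_two).mp h')
  have hStS0 : St' ∉ S0 := by
    rw [mS0]
    intro h
    exact h.2 hSt1
  have hStS1 : St' ∉ S1 := by
    rw [mS1, hStz, hSt1]
    intro h
    apply hq0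
    linear_combination h / 2
  have hTS0 : T ∈ S0 := by
    rw [mS0, hTz, hT1]
    exact ⟨rfl, fun h => hq1 h.symm⟩
  have hTS1 : T ∉ S1 := by
    rw [mS1, hTz, hT1]
    norm_num
  have hS1SSt : ∀ χ, χ ∈ S1 → χ ∉ SSt := by
    intro χ h1 h2
    rw [F1] at h2
    rw [h2] at h1
    exact hStS1 h1
  have hS0SSt : ∀ χ, χ ∈ S0 → χ ∉ SSt := by
    intro χ h1 h2
    rw [mS0] at h1
    rw [mSSt] at h2
    exact h1.2 h2
  have hS01 : ∀ χ, χ ∈ S0 → χ ∉ S1 := by
    intro χ h1 h2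
    rw [mS0] at h1
    rw [mS1] at h2
    apply irr_one_ne_zero χ
    have := h1.1.symm.trans h2
    linear_combination this / 2
  have F5 : ∀ χ : IrrCharacter SL, χ ∈ SSt ∨ χ ∈ S0 ∨ χ ∈ S1 := by
    intro χ
    by_cases h : (χ : SL → ℂ) 1 = (Fintype.card F : ℂ)
    · left
      exact (mSSt χ).mpr h
    · rcases zm_sign χ with h1 | h1
      · right; left
        exact (mS0 χ).mpr ⟨h1, h⟩
      · right; right
        exact (mS1 χ).mpr h1
  have F4 : ∀ χ₀ : IrrCharacter SL, χ₀ ∈ S0 → blockOf M (χ₀ : SL → ℂ) = S0 := by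
    intro χ₀ h0
    ext ψ
    constructor
    · intro hψ
      have hψ' : SameBlock M (χ₀ : SL → ℂ) (ψ : SL → ℂ) := hψ
      rcases F5 ψ with h | h | h
      · exfalso
        rw [F1] at h
        rw [h] at hψ'
        have h5 : χ₀ ∈ blockOf M (St' : SL → ℂ) := sameBlock_symm hψ'
        rw [F2] at h5
        exact hS0SSt χ₀ h0 h5
      · exact h
      · exfalso
        have h4 := hψ' (Zm F)
        rw [hcz χ₀ (hS01 χ₀ h0), hcz1 ψ h] at h4
        apply hli2
        have e : (1 : ℂ) - -1 = 2 := by norm_num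
        rwa [e] at h4
    · intro hψ
      have hs : (χ₀ : SL → ℂ) (Zm F) * (ψ : SL → ℂ) 1 =
          (ψ : SL → ℂ) (Zm F) * (χ₀ : SL → ℂ) 1 := by
        rw [((mS0 χ₀).mp h0).1, ((mS0 ψ).mp hψ).1]
        ring
      exact sameBlock_of p hp hM χ₀ ψ (F3 χ₀ (hS0SSt χ₀ h0)) (F3 ψ (hS0SSt ψ hψ)) hs
  have F4' : ∀ χ₀ : IrrCharacter SL, χ₀ ∈ S1 → blockOf M (χ₀ : SL → ℂ) = S1 := by
    intro χ₀ h0
    ext ψ
    constructor
    · intro hψ
      have hψ' : SameBlock M (χ₀ : SL → ℂ) (ψ : SL → ℂ) := hψ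
      rcases F5 ψ with h | h | h
      · exfalso
        rw [F1] at h
        rw [h] at hψ'
        have h5 : χ₀ ∈ blockOf M (St' : SL → ℂ) := sameBlock_symm hψ'
        rw [F2] at h5
        exact hS1SSt χ₀ h0 h5
      · exfalso
        have h4 := hψ' (Zm F)
        rw [hcz ψ (hS01 ψ h), hcz1 χ₀ h0] at h4
        apply hli2
        have e : (2 : ℂ) = -((-1 : ℂ) - 1) := by norm_num
        rw [e]
        exact li_neg h4
      · exact h
    · intro hψ
      have hs : (χ₀ : SL → ℂ) (Zm F) * (ψ : SL → ℂ) 1 =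
          (ψ : SL → ℂ) (Zm F) * (χ₀ : SL → ℂ) 1 := by
        rw [(mS1 χ₀).mp h0, (mS1 ψ).mp hψ]
        ring
      exact sameBlock_of p hp hM χ₀ ψ (F3 χ₀ (hS1SSt χ₀ h0)) (F3 ψ (hS1SSt ψ hψ)) hs
  have hex : ∃ χ₁ : IrrCharacter SL, χ₁ ∈ S1 := by
    by_contra hcon
    push Not at hcon
    have h1 := sum_irr_one_mul (Zm F)
    rw [if_neg (Zm_ne_one h2F)] at h1
    have h2 := sum_irr_degree_sq (G := SL)
    have h4 : ∑ χ : IrrCharacter SL, (χ : SL → ℂ) 1 * (χ : SL → ℂ) (Zm F) =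
        ∑ χ : IrrCharacter SL, (χ : SL → ℂ) 1 * (χ : SL → ℂ) 1 := by
      apply Finset.sum_congr rfl
      intro χ _
      rcases zm_sign χ with h | h
      · rw [h]
      · exact absurd ((mS1 χ).mpr h) (hcon χ)
    rw [h4, h2] at h1
    exact card_ne_zero h1
  obtain ⟨χ₁, hχ₁⟩ := hex
  have part1 : ∀ B : Set (IrrCharacter SL), IsPBlock M B ↔ (B = SSt ∨ B = S0 ∨ B = S1) := by
    intro B
    constructor
    · rintro ⟨χ₀, rfl⟩
      rcases F5 χ₀ with h | h | h
      · left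
        rw [F1] at h
        rw [h, F2]
      · right; left
        exact F4 χ₀ h
      · right; right
        exact F4' χ₀ h
    · rintro (rfl | rfl | rfl)
      · exact ⟨St', F2.symm⟩
      · exact ⟨T, (F4 T hTS0).symm⟩
      · exact ⟨χ₁, (F4' χ₁ hχ₁).symm⟩
  refine ⟨part1, ?_, ?_⟩
  · have hset : {B : Set (IrrCharacter SL) | IsPBlock M B} = {SSt, S0, S1} := by
      ext B
      change IsPBlock M B ↔ _
      rw [part1 B]
      simp only [Set.mem_insert_iff, Set.mem_singleton_iff]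
    have hne1 : SSt ≠ S0 := by
      intro h
      exact hStS0 (h ▸ (F1 St').mpr rfl)
    have hne2 : SSt ≠ S1 := by
      intro h
      exact hStS1 (h ▸ (F1 St').mpr rfl)
    have hne3 : S0 ≠ S1 := by
      intro h
      exact hTS1 (h ▸ hTS0)
    show Nat.card ↥{B : Set (IrrCharacter SL) | IsPBlock M B} = 3
    rw [Nat.card_coe_set_eq, hset, Set.ncard_eq_three]
    exact ⟨SSt, S0, S1, hne1, hne2, hne3, rfl⟩
  · intro P
    exact ⟨defect_sylow hM ((part1 S0).mpr (Or.inr (Or.inl rfl))) T hTS0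
        (F3 T (hS0SSt T hTS0)) P,
      defect_sylow hM ((part1 S1).mpr (Or.inr (Or.inr rfl))) χ₁ hχ₁
        (F3 χ₁ (hS1SSt χ₁ hχ₁)) P⟩

end MainSec

/-- Let F be a finite field with q elements of odd characteristic p, and M a maximal ideal of the algebraic integers containing p. Then SL₂ over F has exactly three p-blocks relative to M: the irreducible character of degree q (the Steinberg character) alone; the other irreducible characters taking the same value at −1 as at 1 (the principal block); and the irreducible characters χ with χ(−1) = −χ(1). Every Sylow p-subgroup is a defect group of each of the last two blocks. -/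
theorem result {F : Type*} [Field F] [Fintype F] (p : ℕ) [Fact p.Prime] [CharP F p] (hp : p ≠ 2)
    (M : Ideal Cfsg.AlgInt) (hM : Cfsg.IsPModular p M) :
    (∀ B : Set (Cfsg.IrrCharacter (Matrix.SpecialLinearGroup (Fin 2) F)), Cfsg.IsPBlock M B ↔
      (B = {χ : Cfsg.IrrCharacter (Matrix.SpecialLinearGroup (Fin 2) F) | (χ : Matrix.SpecialLinearGroup (Fin 2) F → ℂ) 1 = (Fintype.card F : ℂ)} ∨
       B = {χ : Cfsg.IrrCharacter (Matrix.SpecialLinearGroup (Fin 2) F) | (χ : Matrix.SpecialLinearGroup (Fin 2) F → ℂ) (-1) = (χ : Matrix.SpecialLinearGroup (Fin 2) F → ℂ) 1 ∧ (χ : Matrix.SpecialLinearGroup (Fin 2) F → ℂ) 1 ≠ (Fintype.card F : ℂ)} ∨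
       B = {χ : Cfsg.IrrCharacter (Matrix.SpecialLinearGroup (Fin 2) F) | (χ : Matrix.SpecialLinearGroup (Fin 2) F → ℂ) (-1) = -(χ : Matrix.SpecialLinearGroup (Fin 2) F → ℂ) 1})) ∧
    Nat.card {B : Set (Cfsg.IrrCharacter (Matrix.SpecialLinearGroup (Fin 2) F)) // Cfsg.IsPBlock M B} = 3 ∧
    ∀ P : Sylow p (Matrix.SpecialLinearGroup (Fin 2) F),
      Cfsg.IsDefectGroup p M {χ : Cfsg.IrrCharacter (Matrix.SpecialLinearGroup (Fin 2) F) | (χ : Matrix.SpecialLinearGroup (Fin 2) F → ℂ) (-1) = (χ : Matrix.SpecialLinearGroup (Fin 2) F → ℂ) 1 ∧ (χ : Matrix.SpecialLinearGroup (Fin 2) F → ℂ) 1 ≠ (Fintype.card F : ℂ)} (P : Subgroup (Matrix.SpecialLinearGroup (Fin 2) F)) ∧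
      Cfsg.IsDefectGroup p M {χ : Cfsg.IrrCharacter (Matrix.SpecialLinearGroup (Fin 2) F) | (χ : Matrix.SpecialLinearGroup (Fin 2) F → ℂ) (-1) = -(χ : Matrix.SpecialLinearGroup (Fin 2) F → ℂ) 1} (P : Subgroup (Matrix.SpecialLinearGroup (Fin 2) F)) := by
  classical
  rw [neg_one_eq (F := F)]
  exact main_aux p hp M hM

end Cfsg.Agent.S2439
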