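import Cfsg.Statements.S2468
import Mathlib
import Cfsg.Agent.Helper15.PG

set_option autoImplicit false
open Cfsg

namespace Cfsg.Agent.S2468

open Polynomial
open Cfsg.Agent.Helper15.PL Cfsg.Agent.Helper15.PG

theorem irr_eq_of_dvd {F : Type*} [Field F] {f g : F[X]} (hfm : f.Monic) (hfi : Irreducible f)
    (hgm : g.Monic) (hgi : Irreducible g) (h : f ∣ g) : f = g := by
  obtain ⟨c, hc⟩ := h
  rcases hgi.isUnit_or_isUnit hc with hu | hu
  · exact absurd hu hfi.not_isUnit
  · exact eq_of_monic_of_associated hfm hgm ⟨hu.unit, by rw [hc]; simp⟩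

/-- Adjacency of two odd primes in the prime graph of PSL(n,q): let F be a finite field of characteristic p with q elements, n ≥ 2 with PSL(n,F) simple, and let r ≠ s be odd primes different from p dividing the order of PSL(n,F). Let k and l be the multiplicative orders of q modulo r and modulo s, and suppose 2 ≤ k ≤ l. Then PSL(n,F) has NO element of order r·s if and only if k + l > n and k does not divide l. -/
theorem result {F : Type*} [Field F] [Fintype F] (p : ℕ) [Fact p.Prime] [CharP F p] (n : ℕ) (hn : 2 ≤ n) (hsmall : n = 2 → 4 ≤ Fintype.card F)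
    (r s : ℕ) (hr : r.Prime) (hs : s.Prime) (hr2 : r ≠ 2) (hs2 : s ≠ 2) (hrp : r ≠ p) (hsp : s ≠ p) (hrs : r ≠ s)
    (hrG : r ∣ Nat.card (Matrix.ProjectiveSpecialLinearGroup (Fin n) F)) (hsG : s ∣ Nat.card (Matrix.ProjectiveSpecialLinearGroup (Fin n) F))
    (k l : ℕ) (hk : k = orderOf ((Fintype.card F : ℕ) : ZMod r)) (hl : l = orderOf ((Fintype.card F : ℕ) : ZMod s))
    (h2k : 2 ≤ k) (hkl : k ≤ l) :
    (r * s ∉ Set.range (orderOf : Matrix.ProjectiveSpecialLinearGroup (Fin n) F → ℕ)) ↔ (n < k + l ∧ ¬ k ∣ l) := by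
  classical
  haveI : Fact r.Prime := ⟨hr⟩
  haveI : Fact s.Prime := ⟨hs⟩
  have hp : p.Prime := Fact.out
  have hq1 : 1 ≤ Fintype.card F := Fintype.card_pos
  have hrq1 : ¬ r ∣ Fintype.card F - 1 := by
    intro h
    have h1 : k ∣ 1 := by
      rw [hk, order_dvd_iff _ _ hq1, pow_one]
      exact h
    have := Nat.le_of_dvd one_pos h1
    omega
  have hsq1 : ¬ s ∣ Fintype.card F - 1 := by
    intro h
    have h1 : l ∣ 1 := by
      rw [hl, order_dvd_iff _ _ hq1, pow_one]
      exact h
    have := Nat.le_of_dvd one_pos h1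
    omega
  have hrk : r ∣ Fintype.card F ^ k - 1 := by rw [← order_dvd_iff _ _ hq1, ← hk]
  have hsl : s ∣ Fintype.card F ^ l - 1 := by rw [← order_dvd_iff _ _ hq1, ← hl]
  have hcopr : Nat.Coprime r (Fintype.card F - 1) := (Nat.Prime.coprime_iff_not_dvd hr).mpr hrq1
  have hcops : Nat.Coprime s (Fintype.card F - 1) := (Nat.Prime.coprime_iff_not_dvd hs).mpr hsq1
  have hcoprs : Nat.Coprime r s := (Nat.coprime_primes hr hs).mpr hrs
  constructor
  · intro hno
    by_contra hcon
    apply hno
    by_cases hkl' : k ∣ l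
    · have hln : l ≤ n := by
        obtain ⟨x, hx⟩ := exists_prime_orderOf_dvd_card' s hsG
        obtain ⟨M, rfl⟩ := QuotientGroup.mk_surjective x
        obtain ⟨h1, N, hN, hMN⟩ := lift_order M
        obtain ⟨f, -, -, -, hf1, hfn, hfd⟩ :=
          exists_factor_of_prime_dvd_order p M.1 N hN hMN hs hsp (hx ▸ h1)
        have h2 : l ∣ f.natDegree := by
          rw [hl, order_dvd_iff _ _ hq1]
          exact hfd
        exact (Nat.le_of_dvd (by omega) h2).trans hfn
      have hrs' : r * s ∣ Fintype.card F ^ l - 1 := by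
        apply Nat.Coprime.mul_dvd_of_dvd_of_dvd hcoprs _ hsl
        rw [← order_dvd_iff _ _ hq1, ← hk]
        exact hkl'
      obtain ⟨x, hx⟩ := exists_order_of_dvd (F := F) (n := n) p l (by omega) hln (r * s) hrs'
        (Nat.Coprime.mul_left hcopr hcops)
      exact ⟨x, hx⟩
    · have hle : k + l ≤ n := by
        by_contra h
        exact hcon ⟨by omega, hkl'⟩
      obtain ⟨x, hx⟩ := exists_order_of_dvd_two (F := F) (n := n) p k l (by omega) (by omega) hle
        r s hrk hsl hcopr hcops
      refine ⟨x, ?_⟩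
      rw [hx, Nat.Coprime.lcm_eq_mul hcoprs]
  · rintro ⟨hnkl, hkl'⟩ ⟨x, hx⟩
    obtain ⟨M, rfl⟩ := QuotientGroup.mk_surjective x
    obtain ⟨h1, N, hN, hMN⟩ := lift_order M
    have hrM : r ∣ orderOf M.1 := (Dvd.intro _ rfl : r ∣ r * s).trans (hx ▸ h1)
    have hsM : s ∣ orderOf M.1 := (Dvd.intro_left _ rfl : s ∣ r * s).trans (hx ▸ h1)
    obtain ⟨f, hfm, hfi, hfμ, hf1, hfn, hfd⟩ :=
      exists_factor_of_prime_dvd_order p M.1 N hN hMN hr hrp hrM
    obtain ⟨g, hgm, hgi, hgμ, hg1, hgn, hgd⟩ :=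
      exists_factor_of_prime_dvd_order p M.1 N hN hMN hs hsp hsM
    have hkf : k ∣ f.natDegree := by
      rw [hk, order_dvd_iff _ _ hq1]
      exact hfd
    have hlg : l ∣ g.natDegree := by
      rw [hl, order_dvd_iff _ _ hq1]
      exact hgd
    by_cases hfg : f = g
    · subst hfg
      obtain ⟨t, ht⟩ := hlg
      have ht2 : 2 ≤ t := by
        by_contra hcon
        have h01 : t = 0 ∨ t = 1 := by omega
        rcases h01 with rfl | rfl
        · omega
        · rw [mul_one] at ht
          exact hkl' (ht ▸ hkf)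
      have h2l : 2 * l ≤ f.natDegree := by
        rw [ht]
        nlinarith
      omega
    · have hcop : IsCoprime f g := by
        rw [Irreducible.coprime_iff_not_dvd hfi]
        intro hdvd
        exact hfg (irr_eq_of_dvd hfm hfi hgm hgi hdvd)
      have hint : IsIntegral F M.1 := Algebra.IsIntegral.isIntegral M.1
      have h2 := Polynomial.natDegree_le_of_dvd (hcop.mul_dvd hfμ hgμ) (minpoly.ne_zero hint)
      rw [natDegree_mul hfi.ne_zero hgi.ne_zero] at h2
      have h3 := minpoly_natDegree_le M.1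
      have h4 := Nat.le_of_dvd (by omega) hkf
      have h5 := Nat.le_of_dvd (by omega) hlg
      omega

end Cfsg.Agent.S2468
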