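import Cfsg.Statements.S2470
import Mathlib
import Cfsg.Agent.Helper15.PG
import Cfsg.Agent.Helper15.PS

set_option autoImplicit false
open Cfsg

namespace Cfsg.Agent.S2470

open Polynomial
open Cfsg.Agent.Helper15.PL Cfsg.Agent.Helper15.PG

theorem irr_eq_of_dvd {F : Type*} [Field F] {f g : F[X]} (hfm : f.Monic) (hfi : Irreducible f)
    (hgm : g.Monic) (hgi : Irreducible g) (h : f ∣ g) : f = g := by
  obtain ⟨c, hc⟩ := h
  rcases hgi.isUnit_or_isUnit hc with hu | hu
  · exact absurd hu hfi.not_isUnit
  · exact eq_of_monic_of_associated hfm hgm ⟨hu.unit, by rw [hc]; simp⟩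

/-- Adjacency of an odd prime and the characteristic in the prime graph of PSL(n,q): let F be a finite field of characteristic p with q elements, n ≥ 2 with PSL(n,F) simple, and let r ≠ p be an odd prime dividing the order of PSL(n,F), with k the multiplicative order of q modulo r. Then PSL(n,F) has NO element of order r·p if and only if either k > n − 2, or n = 3, r = 3 and 3 divides q − 1 exactly once. -/
theorem result {F : Type*} [Field F] [Fintype F] (p : ℕ) [Fact p.Prime] [CharP F p] (n : ℕ) (hn : 2 ≤ n) (hsmall : n = 2 → 4 ≤ Fintype.card F)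
    (r : ℕ) (hr : r.Prime) (hr2 : r ≠ 2) (hrp : r ≠ p) (hrG : r ∣ Nat.card (Matrix.ProjectiveSpecialLinearGroup (Fin n) F))
    (k : ℕ) (hk : k = orderOf ((Fintype.card F : ℕ) : ZMod r)) :
    (r * p ∉ Set.range (orderOf : Matrix.ProjectiveSpecialLinearGroup (Fin n) F → ℕ)) ↔
      (n - 2 < k ∨ (n = 3 ∧ r = 3 ∧ 3 ∣ Fintype.card F - 1 ∧ ¬ 9 ∣ Fintype.card F - 1)) := by
  classical
  haveI : Fact r.Prime := ⟨hr⟩
  have hp : p.Prime := Fact.out
  have hq1 : 1 ≤ Fintype.card F := Fintype.card_pos
  have hq2 : 2 ≤ Fintype.card F := Fintype.one_lt_card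
  have hpq : p ∣ Fintype.card F := by
    obtain ⟨a, -, ha⟩ := FiniteField.card F p
    rw [ha]
    exact dvd_pow_self p a.ne_zero
  have hrq : ¬ r ∣ Fintype.card F := by
    obtain ⟨a, -, ha⟩ := FiniteField.card F p
    rw [ha]
    intro h
    exact hrp ((Nat.prime_dvd_prime_iff_eq hr hp).mp (hr.dvd_of_dvd_pow h))
  have hk0 : 0 < k := by
    rw [hk]
    exact order_pos _ hrq
  have hrk : r ∣ Fintype.card F ^ k - 1 := by rw [← order_dvd_iff _ _ hq1, ← hk]
  have hpn : ∀ d, 1 ≤ d → ¬ p ∣ Fintype.card F ^ d - 1 := by
    intro d hd hdvd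
    have h1 : p ∣ Fintype.card F ^ d := hpq.trans (dvd_pow_self _ (by omega))
    have hpos : 1 ≤ Fintype.card F ^ d := Nat.one_le_pow _ _ hq1
    have h2 : Fintype.card F ^ d = (Fintype.card F ^ d - 1) + 1 := by omega
    rw [h2] at h1
    exact hp.one_lt.ne' (Nat.dvd_one.mp ((Nat.dvd_add_right hdvd).mp h1))
  have hcoprp : Nat.Coprime r p := (Nat.coprime_primes hr hp).mpr hrp
  constructor
  · intro hno
    by_contra hcon
    push Not at hcon
    obtain ⟨hkn, hexc⟩ := hcon
    apply hno
    have hfin : ∀ x : Matrix.ProjectiveSpecialLinearGroup (Fin n) F, r ∣ orderOf x →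
        p ∣ orderOf x →
        r * p ∈ Set.range (orderOf : Matrix.ProjectiveSpecialLinearGroup (Fin n) F → ℕ) := by
      intro x h1 h2
      exact ⟨x ^ (orderOf x / (r * p)), orderOf_pow_orderOf_div (orderOf_pos x).ne'
        (hcoprp.mul_dvd_of_dvd_of_dvd h1 h2)⟩
    have hn3 : 3 ≤ n := by omega
    by_cases hk1 : k = 1
    · have hrq1 : r ∣ Fintype.card F - 1 := by
        have := hrk
        rwa [hk1, pow_one] at this
      by_cases hn3' : n = 3
      · subst hn3'
        obtain ⟨x, hx⟩ := Cfsg.Agent.S2476.exists_e4 (F := F) p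
        apply hfin x _ ((dvd_mul_right _ _).trans hx)
        refine (?_ : r ∣ (Fintype.card F - 1) / Nat.gcd 3 (Fintype.card F - 1)).trans
          ((dvd_mul_left _ _).trans hx)
        by_cases hr3 : r = 3
        · subst hr3
          have h9 := hexc rfl rfl hrq1
          have hg : Nat.gcd 3 (Fintype.card F - 1) = 3 := Nat.gcd_eq_left hrq1
          rw [hg]
          obtain ⟨c, hc⟩ := h9
          rw [hc, show 9 * c = 3 * (3 * c) by ring, Nat.mul_div_cancel_left _ (by norm_num)]
          exact dvd_mul_right _ _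
        · have hg : Nat.Coprime r (Nat.gcd 3 (Fintype.card F - 1)) := by
            apply Nat.Coprime.coprime_dvd_right (Nat.gcd_dvd_left 3 _)
            exact (Nat.coprime_primes hr Nat.prime_three).mpr hr3
          have h1 : r ∣ Nat.gcd 3 (Fintype.card F - 1) *
              ((Fintype.card F - 1) / Nat.gcd 3 (Fintype.card F - 1)) := by
            rw [Nat.mul_div_cancel' (Nat.gcd_dvd_right _ _)]
            exact hrq1
          exact hg.dvd_of_dvd_mul_left h1
      · obtain ⟨a, ha⟩ : ∃ a : Fˣ, orderOf a = r := by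
          apply exists_prime_orderOf_dvd_card r
          rw [Fintype.card_units]
          exact hrq1
        have hfr : (n - 2) + Module.finrank F (F × F) = n := by
          rw [Module.finrank_prod, Module.finrank_self]
          omega
        have hnorm : Algebra.norm F (((a : F), ((a⁻¹ : Fˣ) : F)) : F × F) = 1 := by
          rw [Cfsg.Agent.S2476.norm_prod', Algebra.norm_self]
          simp
        obtain ⟨x, hx1, hx2⟩ := exists_p_mul (F := F) (n := n) p (n - 2) (by omega) hfr _ hnorm
        apply hfin x _ hx1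
        have h1 := congrArg Prod.fst hx2
        simp only [Prod.pow_mk, Prod.fst_one] at h1
        rw [← ha, ← orderOf_units]
        exact orderOf_dvd_of_pow_eq_one h1
    · have hk2 : 2 ≤ k := by omega
      haveI : NeZero k := ⟨by omega⟩
      have hrq1 : ¬ r ∣ Fintype.card F - 1 := by
        intro h
        have h1 : k ∣ 1 := by
          rw [hk, order_dvd_iff _ _ hq1, pow_one]
          exact h
        have := Nat.le_of_dvd one_pos h1
        omega
      obtain ⟨y, hy⟩ := exists_order_ext (F := F) p k r hrk
      have hfr : (n - k) + Module.finrank F (FiniteField.Extension F p k) = n := by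
        rw [FiniteField.finrank_extension]
        omega
      have hnorm : Algebra.norm F y = 1 :=
        norm_eq_one_of_coprime y r hr.pos (hy ▸ pow_orderOf_eq_one y)
          ((Nat.Prime.coprime_iff_not_dvd hr).mpr hrq1)
      obtain ⟨x, hx1, hx2⟩ := exists_p_mul (F := F) (n := n) p (n - k) (by omega) hfr y hnorm
      apply hfin x _ hx1
      rw [← hy]
      exact orderOf_dvd_of_pow_eq_one hx2
  · rintro hR ⟨x, hx⟩
    rcases hR with hkn | ⟨rfl, rfl, h3, h9⟩
    · by_cases hn2 : n = 2
      · subst hn2
        have hchar : ringChar F = p := ringChar.eq F p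
        have hg1 : Nat.gcd 2 (Fintype.card F - 1) ∣ Fintype.card F - 1 := Nat.gcd_dvd_right _ _
        have hg2 : Nat.gcd 2 (Fintype.card F - 1) ∣ Fintype.card F + 1 := by
          have h1 : Fintype.card F + 1 = (Fintype.card F - 1) + 2 := by omega
          rw [h1]
          exact dvd_add hg1 (Nat.gcd_dvd_left _ _)
        rcases Cfsg.Agent.Helper15.PS.psl2_order_dvd x with h | h | h
        · rw [hx, hchar] at h
          have h1 := Nat.le_of_dvd hp.pos h
          have h2 := hr.two_le
          have h5 := Nat.mul_le_mul_right p h2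
          have h0 := hp.pos
          omega
        · rw [hx] at h
          exact hpn 1 le_rfl (by
            rw [pow_one]
            exact (dvd_mul_left p r).trans (h.trans (Nat.div_dvd_of_dvd hg1)))
        · rw [hx] at h
          have h1 : p ∣ Fintype.card F + 1 :=
            (dvd_mul_left p r).trans (h.trans (Nat.div_dvd_of_dvd hg2))
          exact hp.one_lt.ne' (Nat.dvd_one.mp ((Nat.dvd_add_right hpq).mp h1))
      · have hk2 : 2 ≤ k := by omega
        obtain ⟨M, rfl⟩ := QuotientGroup.mk_surjective x
        obtain ⟨h1, N, hN, hMN⟩ := lift_order M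
        have hrM : r ∣ orderOf M.1 := (Dvd.intro _ rfl : r ∣ r * p).trans (hx ▸ h1)
        have hpM : p ∣ orderOf M.1 := (Dvd.intro_left _ rfl : p ∣ r * p).trans (hx ▸ h1)
        obtain ⟨g, hgm, hgi, hgμ, hg1, hgn, hgd⟩ :=
          exists_factor_of_prime_dvd_order p M.1 N hN hMN hr hrp hrM
        obtain ⟨f, hfm, hfi, hfμ⟩ := exists_sq_factor p M.1 N hN hMN hpM
        have hkg : k ∣ g.natDegree := by
          rw [hk, order_dvd_iff _ _ hq1]
          exact hgd
        have hkle := Nat.le_of_dvd (by omega) hkg
        have hint : IsIntegral F M.1 := Algebra.IsIntegral.isIntegral M.1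
        have h3 := minpoly_natDegree_le M.1
        by_cases hfg : f = g
        · subst hfg
          have h2 := Polynomial.natDegree_le_of_dvd hfμ (minpoly.ne_zero hint)
          rw [natDegree_mul hfi.ne_zero hfi.ne_zero] at h2
          omega
        · have hcop : IsCoprime f g := by
            rw [Irreducible.coprime_iff_not_dvd hfi]
            intro hdvd
            exact hfg (irr_eq_of_dvd hfm hfi hgm hgi hdvd)
          have h2 := Polynomial.natDegree_le_of_dvd ((hcop.mul_left hcop).mul_dvd hfμ hgμ)
            (minpoly.ne_zero hint)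
          rw [natDegree_mul (mul_ne_zero hfi.ne_zero hfi.ne_zero) hgi.ne_zero,
            natDegree_mul hfi.ne_zero hfi.ne_zero] at h2
          have h4 := hfi.natDegree_pos
          omega
    · have hg : Nat.gcd 3 (Fintype.card F - 1) = 3 := Nat.gcd_eq_left h3
      have hp3 : p ∣ 3 * p := dvd_mul_left p 3
      rcases Cfsg.Agent.S2476.psl3_order_dvd p x with h | h | h | h | ⟨hp2, h⟩
      · rw [hx, hg] at h
        have hd : 3 ∣ Fintype.card F ^ 2 + Fintype.card F + 1 := by
          have h4 := Qs_gcd (Fintype.card F) 3 hq1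
          have hQ : Qs (Fintype.card F) 3 = Fintype.card F ^ 2 + Fintype.card F + 1 := by
            simp [Qs, Finset.sum_range_succ]
            ring
          rw [hQ, hg] at h4
          rw [← h4]
          exact Nat.gcd_dvd_left _ _
        have h5 : p ∣ Fintype.card F ^ 2 + Fintype.card F + 1 :=
          hp3.trans (h.trans (Nat.div_dvd_of_dvd hd))
        have h6 : p ∣ Fintype.card F ^ 2 + Fintype.card F :=
          dvd_add (hpq.trans (dvd_pow_self _ (by norm_num))) hpq
        exact hp.one_lt.ne' (Nat.dvd_one.mp ((Nat.dvd_add_right h6).mp h5))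
      · rw [hx, hg] at h
        have hd : 3 ∣ Fintype.card F ^ 2 - 1 := by
          rw [← Cfsg.Agent.S2476.sq_sub_one_eq _ hq1]
          exact h3.trans (dvd_mul_left _ _)
        exact hpn 2 (by norm_num) (hp3.trans (h.trans (Nat.div_dvd_of_dvd hd)))
      · rw [hx] at h
        exact hpn 1 le_rfl (by rw [pow_one]; exact hp3.trans h)
      · rw [hx, hg, Nat.mul_div_assoc _ h3, mul_comm 3 p] at h
        have h4 : 3 ∣ (Fintype.card F - 1) / 3 := Nat.dvd_of_mul_dvd_mul_left hp.pos h
        apply h9
        obtain ⟨c, hc⟩ := h4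
        have h5 : Fintype.card F - 1 = 3 * ((Fintype.card F - 1) / 3) :=
          (Nat.mul_div_cancel' h3).symm
        rw [h5, hc]
        exact ⟨c, by ring⟩
      · rw [hx, hp2] at h
        norm_num at h

end Cfsg.Agent.S2470
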