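import Cfsg.Statements.S2477
import Mathlib

set_option autoImplicit false
open Cfsg

namespace Cfsg.Agent.S2477

/-- all pairs (lcm, sum + card) reachable by adding parts `≥ 2` of total size at most `b`. -/
def reach : ℕ → ℕ → ℕ → ℕ → List (ℕ × ℕ)
  | 0, _, l, t => [(l, t)]
  | fuel + 1, b, l, t =>
    (l, t) :: (List.range (b + 1)).flatMap
      (fun a => if 2 ≤ a then reach fuel (b - a) (Nat.lcm l a) (t + a + 1) else [])

theorem mem_reach_self (fuel b l t : ℕ) : (l, t) ∈ reach fuel b l t := by
  cases fuel with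
  | zero => simp [reach]
  | succ f => simp [reach]

theorem mem_reach (m : Multiset ℕ) : ∀ (fuel b l t : ℕ), (∀ a ∈ m, 2 ≤ a) → m.sum ≤ b → b ≤ fuel →
    (Nat.lcm l m.lcm, t + m.sum + Multiset.card m) ∈ reach fuel b l t := by
  induction m using Multiset.induction_on with
  | empty =>
    intro fuel b l t _ _ _
    simp only [Multiset.lcm_zero, Nat.lcm_one_right, Multiset.sum_zero, add_zero, Multiset.card_zero]
    exact mem_reach_self fuel b l t
  | cons a s ih =>
    intro fuel b l t h2 hsum hfuel
    have ha2 : 2 ≤ a := h2 a (Multiset.mem_cons_self a s)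
    rw [Multiset.sum_cons] at hsum
    obtain ⟨f, rfl⟩ : ∃ f, fuel = f + 1 := ⟨fuel - 1, by omega⟩
    have ih' := ih f (b - a) (Nat.lcm l a) (t + a + 1)
      (fun x hx => h2 x (Multiset.mem_cons_of_mem hx)) (by omega) (by omega)
    have e1 : Nat.lcm l (a ::ₘ s).lcm = Nat.lcm (Nat.lcm l a) s.lcm := by
      rw [Multiset.lcm_cons, lcm_eq_nat_lcm, Nat.lcm_assoc]
    have e2 : t + (a ::ₘ s).sum + Multiset.card (a ::ₘ s) = t + a + 1 + s.sum + Multiset.card s := by
      rw [Multiset.sum_cons, Multiset.card_cons]; ring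
    rw [e1, e2]
    simp only [reach, List.mem_cons, List.mem_flatMap, List.mem_range]
    right
    refine ⟨a, by omega, ?_⟩
    rw [if_pos ha2]
    exact ih'

theorem reach_check : ∀ p ∈ reach 10 10 1 0, p.2 % 2 = 0 →
    p.1 ∈ [1, 2, 3, 4, 5, 6, 7, 8, 9, 10, 12, 15, 21] := by
  decide +kernel

theorem exists_of_type (m : Multiset ℕ) (hsum : m.sum ≤ 10) (h2 : ∀ a ∈ m, 2 ≤ a)
    (hev : Even (m.sum + Multiset.card m)) :
    m.lcm ∈ Set.range (orderOf : alternatingGroup (Fin 10) → ℕ) := by
  have hex : ∃ g : Equiv.Perm (Fin 10), g.cycleType = m := by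
    rw [Equiv.Perm.exists_with_cycleType_iff]
    exact ⟨by simpa using hsum, h2⟩
  obtain ⟨g, hg⟩ := hex
  have hsign : Equiv.Perm.sign g = 1 := by
    rw [Equiv.Perm.sign_of_cycleType, hg]
    exact hev.neg_one_pow
  refine ⟨⟨g, Equiv.Perm.mem_alternatingGroup.mpr hsign⟩, ?_⟩
  rw [← Subgroup.orderOf_coe, ← Equiv.Perm.lcm_cycleType]
  show g.cycleType.lcm = m.lcm
  rw [hg]

/-- The set of element orders of the alternating group of degree 10 is {1, 2, 3, 4, 5, 6, 7, 8, 9, 10, 12, 15, 21}. -/
theorem result : Set.range (orderOf : alternatingGroup (Fin 10) → ℕ) = {1, 2, 3, 4, 5, 6, 7, 8, 9, 10, 12, 15, 21} := by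
  apply Set.eq_of_subset_of_subset
  · rintro x ⟨g, rfl⟩
    have hsign : Equiv.Perm.sign (g : Equiv.Perm (Fin 10)) = 1 := Equiv.Perm.mem_alternatingGroup.mp g.2
    rw [← Subgroup.orderOf_coe, ← Equiv.Perm.lcm_cycleType]
    have hsum := Equiv.Perm.sum_cycleType_le (g : Equiv.Perm (Fin 10))
    rw [Fintype.card_fin] at hsum
    rw [Equiv.Perm.sign_of_cycleType] at hsign
    have hneg : (-1 : ℤˣ) ≠ 1 := by decide
    have hev : Even ((g : Equiv.Perm (Fin 10)).cycleType.sum + Multiset.card (g : Equiv.Perm (Fin 10)).cycleType) :=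
      (neg_one_pow_eq_one_iff_even hneg).mp hsign
    have h2le : ∀ x ∈ (g : Equiv.Perm (Fin 10)).cycleType, 2 ≤ x :=
      fun x hx => Equiv.Perm.two_le_of_mem_cycleType hx
    have hmem := mem_reach (g : Equiv.Perm (Fin 10)).cycleType 10 10 1 0 h2le hsum (le_refl _)
    have hchk := reach_check _ hmem (by
      simp only [zero_add]
      exact Nat.even_iff.mp hev)
    simp only [Nat.lcm_one_left] at hchk
    simpa using hchk
  · intro x hx
    simp only [Set.mem_insert_iff, Set.mem_singleton_iff] at hx
    rcases hx with rfl | rfl | rfl | rfl | rfl | rfl | rfl | rfl | rfl | rfl | rfl | rfl | rfl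
    · exact ⟨1, orderOf_one⟩
    · exact exists_of_type {2, 2} (by decide) (by decide) (by decide)
    · exact exists_of_type {3} (by decide) (by decide) (by decide)
    · exact exists_of_type {4, 2} (by decide) (by decide) (by decide)
    · exact exists_of_type {5} (by decide) (by decide) (by decide)
    · exact exists_of_type {3, 2, 2} (by decide) (by decide) (by decide)
    · exact exists_of_type {7} (by decide) (by decide) (by decide)
    · exact exists_of_type {8, 2} (by decide) (by decide) (by decide)
    · exact exists_of_type {9} (by decide) (by decide) (by decide)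
    · exact exists_of_type {5, 2, 2} (by decide) (by decide) (by decide)
    · exact exists_of_type {4, 3, 2} (by decide) (by decide) (by decide)
    · exact exists_of_type {5, 3} (by decide) (by decide) (by decide)
    · exact exists_of_type {7, 3} (by decide) (by decide) (by decide)

end Cfsg.Agent.S2477
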