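import Cfsg.Statements.S2495
import Mathlib
import Cfsg.Agent.Helper15.PG
import Cfsg.Agent.S2904

set_option autoImplicit false
open Cfsg

namespace Cfsg.Agent.S2495

open Polynomial
open Cfsg.Agent.Helper15.PL Cfsg.Agent.Helper15.PG

theorem two_adic (m Q : ℕ) (hm : 0 < m) (hQ : 0 < Q) :
    Nat.gcd (m + m) Q ∣ m ↔ padicValNat 2 Q < padicValNat 2 (m + m) := by
  haveI : Fact (Nat.Prime 2) := ⟨Nat.prime_two⟩
  have h2 : padicValNat 2 (m + m) = padicValNat 2 m + 1 := by
    rw [← two_mul, padicValNat.mul (by norm_num) hm.ne', padicValNat.self (by norm_num)]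
    ring
  rw [h2]
  constructor
  · intro h
    by_contra hcon
    push Not at hcon
    have h3 : 2 ^ (padicValNat 2 m + 1) ∣ Q := (padicValNat_dvd_iff_le hQ.ne').mpr hcon
    have h4 : 2 ^ (padicValNat 2 m + 1) ∣ m + m := by
      rw [← h2]
      exact pow_padicValNat_dvd
    have h5 := (Nat.dvd_gcd h4 h3).trans h
    have h6 := (padicValNat_dvd_iff_le hm.ne').mp h5
    omega
  · intro h
    have hd0 : Nat.gcd (m + m) Q ≠ 0 := (Nat.gcd_pos_of_pos_right _ hQ).ne'
    have h3 : padicValNat 2 (Nat.gcd (m + m) Q) ≤ padicValNat 2 Q := by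
      rw [← padicValNat_dvd_iff_le hQ.ne']
      exact pow_padicValNat_dvd.trans (Nat.gcd_dvd_right _ _)
    have h4 : 2 ^ padicValNat 2 (Nat.gcd (m + m) Q) ∣ m :=
      (padicValNat_dvd_iff_le hm.ne').mpr (by omega)
    have hfac : (Nat.gcd (m + m) Q).factorization 2 = padicValNat 2 (Nat.gcd (m + m) Q) :=
      Nat.factorization_def _ Nat.prime_two
    have h5 : Nat.gcd (m + m) Q / 2 ^ padicValNat 2 (Nat.gcd (m + m) Q) ∣ m := by
      have h6 : Nat.gcd (m + m) Q / 2 ^ padicValNat 2 (Nat.gcd (m + m) Q) ∣ 2 * m := by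
        rw [← hfac]
        exact (Nat.ordCompl_dvd _ 2).trans (by rw [two_mul]; exact Nat.gcd_dvd_left _ _)
      have hcop : Nat.Coprime 2 (Nat.gcd (m + m) Q / 2 ^ padicValNat 2 (Nat.gcd (m + m) Q)) := by
        rw [← hfac]
        exact Nat.coprime_ordCompl Nat.prime_two hd0
      exact hcop.symm.dvd_of_dvd_mul_left h6
    have hcop2 : Nat.Coprime (2 ^ padicValNat 2 (Nat.gcd (m + m) Q))
        (Nat.gcd (m + m) Q / 2 ^ padicValNat 2 (Nat.gcd (m + m) Q)) := by
      apply Nat.Coprime.pow_left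
      rw [← hfac]
      exact Nat.coprime_ordCompl Nat.prime_two hd0
    have h7 := Nat.ordProj_mul_ordCompl_eq_self (Nat.gcd (m + m) Q) 2
    rw [hfac] at h7
    have h8 := Nat.Coprime.mul_dvd_of_dvd_of_dvd hcop2 h4 h5
    rwa [h7] at h8

/-- Let q be an odd prime power, n ≥ 4 even, and L = PSL(n,q). Then L has an element of order q^(n/2) + 1 if and only if the 2-part of n exceeds the 2-part of q − 1. -/
theorem result {F : Type*} [Field F] [Fintype F] {q : ℕ} (hF : Fintype.card F = q) (hodd : Odd q)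
    {n : ℕ} (hn : 4 ≤ n) (heven : Even n) :
    (∃ g : Matrix.ProjectiveSpecialLinearGroup (Fin n) F, orderOf g = q ^ (n / 2) + 1) ↔
      padicValNat 2 (q - 1) < padicValNat 2 n := by
  classical
  subst hF
  obtain ⟨p, hpc⟩ := CharP.exists F
  haveI := hpc
  haveI : Fact p.Prime := ⟨CharP.char_is_prime F p⟩
  have hp : p.Prime := Fact.out
  have hq2 : 2 ≤ Fintype.card F := Fintype.one_lt_card
  have hq1 : 1 ≤ Fintype.card F := Fintype.card_pos
  have hpq : p ∣ Fintype.card F := by
    obtain ⟨a, -, ha⟩ := FiniteField.card F p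
    rw [ha]
    exact dvd_pow_self p a.ne_zero
  obtain ⟨m, hm⟩ := heven
  have hm2 : 2 ≤ m := by omega
  have hnm : n / 2 = m := by omega
  rw [hnm]
  have hpos : 1 ≤ Fintype.card F ^ m := Nat.one_le_pow _ _ hq1
  have h3 : Fintype.card F ^ n - 1 = (Fintype.card F ^ m - 1) * (Fintype.card F ^ m + 1) := by
    rw [hm, pow_add]
    obtain ⟨a, ha⟩ : ∃ a, Fintype.card F ^ m = a + 1 := ⟨Fintype.card F ^ m - 1, by omega⟩
    rw [ha]
    simp only [Nat.add_sub_cancel]
    have : (a + 1) * (a + 1) = a * (a + 1 + 1) + 1 := by ring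
    omega
  have hQ : Qs (Fintype.card F) n = Qs (Fintype.card F) m * (Fintype.card F ^ m + 1) := by
    have h1 := Qs_mul (Fintype.card F) n hq1
    have h2 := Qs_mul (Fintype.card F) m hq1
    have hq10 : 0 < Fintype.card F - 1 := by omega
    apply Nat.eq_of_mul_eq_mul_left hq10
    rw [h1, h3, ← h2]
    ring
  have hd0 : 0 < Nat.gcd n (Fintype.card F - 1) := Nat.gcd_pos_of_pos_left _ (by omega)
  have hdQn : Nat.gcd n (Fintype.card F - 1) ∣ Qs (Fintype.card F) n := by
    rw [← Qs_gcd (Fintype.card F) n hq1]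
    exact Nat.gcd_dvd_left _ _
  have key1 : (Fintype.card F ^ m + 1) ∣ Qs (Fintype.card F) n / Nat.gcd n (Fintype.card F - 1) ↔
      Nat.gcd n (Fintype.card F - 1) ∣ Qs (Fintype.card F) m := by
    constructor
    · intro h
      obtain ⟨c, hc⟩ := h
      have h1 : Qs (Fintype.card F) n =
          Nat.gcd n (Fintype.card F - 1) * ((Fintype.card F ^ m + 1) * c) := by
        rw [← hc, Nat.mul_div_cancel' hdQn]
      rw [hQ] at h1
      have h2 : Qs (Fintype.card F) m * (Fintype.card F ^ m + 1) =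
          (Nat.gcd n (Fintype.card F - 1) * c) * (Fintype.card F ^ m + 1) := by
        rw [h1]
        ring
      exact ⟨c, Nat.eq_of_mul_eq_mul_right (by positivity) h2⟩
    · rintro ⟨c, hc⟩
      have h1 : Qs (Fintype.card F) n / Nat.gcd n (Fintype.card F - 1) =
          c * (Fintype.card F ^ m + 1) := by
        rw [hQ, hc, mul_assoc, Nat.mul_div_cancel_left _ hd0]
      rw [h1]
      exact dvd_mul_left _ _
  have key2 : Nat.gcd n (Fintype.card F - 1) ∣ Qs (Fintype.card F) m ↔
      Nat.gcd n (Fintype.card F - 1) ∣ m := by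
    have h1 : Qs (Fintype.card F) m ≡ m [MOD Nat.gcd n (Fintype.card F - 1)] :=
      (Qs_modEq (Fintype.card F) m hq1).of_dvd (Nat.gcd_dvd_right _ _)
    exact h1.dvd_iff dvd_rfl
  have key3 : Nat.gcd n (Fintype.card F - 1) ∣ m ↔
      padicValNat 2 (Fintype.card F - 1) < padicValNat 2 n := by
    rw [hm]
    exact two_adic m (Fintype.card F - 1) (by omega) (by omega)
  constructor
  · rintro ⟨g, hg⟩
    rw [← key3, ← key2, ← key1]
    obtain ⟨r, hr, hrdvd, hrprim⟩ := Cfsg.Agent.S2904.result (Fintype.card F) n (by omega)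
      (by omega) (by
        rintro ⟨h, -⟩
        rw [h] at hodd
        exact absurd hodd (by decide)) (by
        rintro ⟨h, -⟩
        omega)
    have hrp : r ≠ p := by
      rintro rfl
      have h1 : r ∣ Fintype.card F ^ n := hpq.trans (dvd_pow_self _ (by omega))
      have hpos' : 1 ≤ Fintype.card F ^ n := Nat.one_le_pow _ _ hq1
      have h2 : Fintype.card F ^ n = (Fintype.card F ^ n - 1) + 1 := by omega
      rw [h2] at h1
      exact hr.one_lt.ne' (Nat.dvd_one.mp ((Nat.dvd_add_right hrdvd).mp h1))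
    have hrm : r ∣ Fintype.card F ^ m + 1 := by
      rw [h3] at hrdvd
      rcases (Nat.Prime.dvd_mul hr).mp hrdvd with h | h
      · exact absurd h (hrprim m (by omega) (by omega))
      · exact h
    obtain ⟨M, rfl⟩ := QuotientGroup.mk_surjective g
    obtain ⟨h1, N, hN, hMN⟩ := lift_order M
    have hrM : r ∣ orderOf M.1 := hrm.trans (hg ▸ h1)
    obtain ⟨f, hfm, hfi, hfμ, hf1, hfn, hfd⟩ :=
      exists_factor_of_prime_dvd_order p M.1 N hN hMN hr hrp hrM
    have hfdeg : f.natDegree = n := by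
      by_contra hne
      exact hrprim f.natDegree (by omega) (by omega) hfd
    have hint : IsIntegral F M.1 := Algebra.IsIntegral.isIntegral M.1
    have hμ : minpoly F M.1 = f :=
      Polynomial.eq_of_monic_of_dvd_of_natDegree_le hfm (minpoly.monic hint) hfμ
        (by rw [hfdeg]; exact minpoly_natDegree_le M.1)
    have h5 := S_lemma M (hμ ▸ hfi) (by rw [hμ]; exact hfdeg)
    rw [hg] at h5
    exact h5
  · intro h
    rw [← key3, ← key2, ← key1] at h
    obtain ⟨s, hs⟩ := exists_singer (F := F) (n := n) p (by omega)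
    exact ⟨s ^ (orderOf s / (Fintype.card F ^ m + 1)),
      orderOf_pow_orderOf_div (orderOf_pos s).ne' (h.trans hs)⟩

end Cfsg.Agent.S2495
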