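import Cfsg.Statements.S2503
import Mathlib
import Cfsg.Agent.S2430
import Cfsg.Agent.S2475
import Cfsg.Agent.S2455

set_option autoImplicit false
open Cfsg

namespace Cfsg.Agent.S2503

open Matrix
open Cfsg.Agent.S2430 (exists_nonsplit_gen)
open Cfsg.Agent.S2475 (pow_form det_form)
open Cfsg.Agent.S2455 (ch)

section
variable {F : Type*} [Field F] [Fintype F]

lemma two_zero (h2 : 2 ∣ Fintype.card F) : (2 : F) = 0 := by
  have h : ringChar F = 2 := FiniteField.even_card_iff_char_two.mpr (Nat.mod_eq_zero_of_dvd h2)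
  have h' := (ringChar.spec F 2).mpr (by rw [h])
  exact_mod_cast h'

lemma sq_inj (h2 : (2 : F) = 0) (a b : F) (h : a * a = b * b) : a = b := by
  have : (a - b) * (a - b) = 0 := by linear_combination h + (b * b - a * b) * h2
  have := mul_self_eq_zero.mp this
  exact sub_eq_zero.mp this

lemma exists_sqrt (h2 : 2 ∣ Fintype.card F) (d : F) : ∃ r : F, r * r = d := by
  have h : ringChar F = 2 := FiniteField.even_card_iff_char_two.mpr (Nat.mod_eq_zero_of_dvd h2)
  obtain ⟨r, hr⟩ := FiniteField.isSquare_of_char_two h d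
  exact ⟨r, hr.symm⟩

/-- an element of order `q+1` has no eigenvalue in `F` (characteristic 2) -/
lemma no_eig (h2 : 2 ∣ Fintype.card F) (h4 : 4 ≤ Fintype.card F)
    (a₀ : Matrix.SpecialLinearGroup (Fin 2) F) (ha₀ : orderOf a₀ = Fintype.card F + 1) (l : F) :
    l ^ 2 + a₀.1.trace * l + 1 ≠ 0 := by
  have h20 := two_zero h2
  intro hl
  have hl0 : l ≠ 0 := by
    rintro rfl
    simp at hl
  have hdet : ((-l) • (1 : Matrix (Fin 2) (Fin 2) F) + (1 : F) • a₀.1).det = 0 := by
    rw [det_form]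
    linear_combination hl - (a₀.1.trace * l) * h20
  obtain ⟨v, hv0, hv⟩ := Matrix.exists_mulVec_eq_zero_iff.mpr hdet
  have hv' : a₀.1 *ᵥ v = l • v := by
    rw [Matrix.add_mulVec, Matrix.smul_mulVec, Matrix.smul_mulVec, Matrix.one_mulVec, one_smul] at hv
    have : a₀.1 *ᵥ v = -((-l) • v) := eq_neg_of_add_eq_zero_right hv
    rw [this, neg_smul, neg_neg]
  have hpow : ∀ k : ℕ, (a₀.1 ^ k) *ᵥ v = l ^ k • v := by
    intro k
    induction k with
    | zero => simp
    | succ k ih =>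
      rw [pow_succ, ← Matrix.mulVec_mulVec, hv', Matrix.mulVec_smul, ih, smul_smul, pow_succ, mul_comm]
  have hfix : ((a₀ ^ (Fintype.card F - 1) : Matrix.SpecialLinearGroup (Fin 2) F)).1 *ᵥ v = v := by
    rw [Matrix.SpecialLinearGroup.coe_pow, hpow, FiniteField.pow_card_sub_one_eq_one l hl0, one_smul]
  have hdet2 : ((-1 : F) • (1 : Matrix (Fin 2) (Fin 2) F) +
      (1 : F) • ((a₀ ^ (Fintype.card F - 1) : Matrix.SpecialLinearGroup (Fin 2) F)).1).det = 0 := by
    apply Matrix.exists_mulVec_eq_zero_iff.mp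
    refine ⟨v, hv0, ?_⟩
    rw [Matrix.add_mulVec, Matrix.smul_mulVec, Matrix.smul_mulVec, Matrix.one_mulVec, one_smul, hfix]
    simp
  rw [det_form] at hdet2
  have htr : ((a₀ ^ (Fintype.card F - 1) : Matrix.SpecialLinearGroup (Fin 2) F)).1.trace = 0 := by
    linear_combination -hdet2 + h20
  have hsq : (a₀ ^ (Fintype.card F - 1)) * (a₀ ^ (Fintype.card F - 1)) = 1 := by
    apply Subtype.ext
    rw [Matrix.SpecialLinearGroup.coe_mul, ch, htr, zero_smul, zero_sub]
    have : (-1 : Matrix (Fin 2) (Fin 2) F) = 1 := by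
      have h3 : (2 : Matrix (Fin 2) (Fin 2) F) = 0 := by
        have : (2 : Matrix (Fin 2) (Fin 2) F) = (2 : F) • (1 : Matrix (Fin 2) (Fin 2) F) := by
          rw [two_smul, one_add_one_eq_two]
        rw [this, h20, zero_smul]
      have : (1 : Matrix (Fin 2) (Fin 2) F) + 1 = 0 := by rw [one_add_one_eq_two, h3]
      exact neg_eq_of_add_eq_zero_left this
    rw [this]
    rfl
  rw [← pow_add] at hsq
  have hdvd := orderOf_dvd_of_pow_eq_one hsq
  rw [ha₀] at hdvd
  have hne : Fintype.card F - 1 + (Fintype.card F - 1) ≠ 0 := by omega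
  have hlt : Fintype.card F - 1 + (Fintype.card F - 1) < 2 * (Fintype.card F + 1) := by omega
  have := Nat.eq_of_dvd_of_lt_two_mul hne hdvd hlt
  omega

lemma aniso (h2 : 2 ∣ Fintype.card F) (h4 : 4 ≤ Fintype.card F)
    (a₀ : Matrix.SpecialLinearGroup (Fin 2) F) (ha₀ : orderOf a₀ = Fintype.card F + 1) (x y : F)
    (hxy : ¬ (x = 0 ∧ y = 0)) : x ^ 2 + a₀.1.trace * x * y + y ^ 2 ≠ 0 := by
  intro h
  by_cases hy : y = 0
  · subst hy
    apply hxy
    refine ⟨?_, rfl⟩
    have : x ^ 2 = 0 := by linear_combination h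
    exact pow_eq_zero_iff (two_ne_zero) |>.mp this
  · apply no_eig h2 h4 a₀ ha₀ (x / y)
    field_simp
    linear_combination h

/-- normalised elements of `F[a₀]` -/
lemma exists_norm (h2 : 2 ∣ Fintype.card F) (h4 : 4 ≤ Fintype.card F)
    (a₀ : Matrix.SpecialLinearGroup (Fin 2) F) (ha₀ : orderOf a₀ = Fintype.card F + 1) (x y : F)
    (hxy : ¬ (x = 0 ∧ y = 0)) :
    ∃ g : Matrix.SpecialLinearGroup (Fin 2) F, ∃ r : F, r ≠ 0 ∧
      g.1 = r • (x • (1 : Matrix (Fin 2) (Fin 2) F) + y • a₀.1) := by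
  have hd := aniso h2 h4 a₀ ha₀ x y hxy
  obtain ⟨ρ, hρ⟩ := exists_sqrt h2 (x ^ 2 + a₀.1.trace * x * y + y ^ 2)
  have hρ0 : ρ ≠ 0 := by
    rintro rfl
    apply hd
    rw [← hρ, mul_zero]
  refine ⟨⟨ρ⁻¹ • (x • (1 : Matrix (Fin 2) (Fin 2) F) + y • a₀.1), ?_⟩, ρ⁻¹, inv_ne_zero hρ0, rfl⟩
  rw [Matrix.det_smul, det_form, Fintype.card_fin, ← hρ]
  field_simp

def Sset (a₀ : Matrix.SpecialLinearGroup (Fin 2) F) : Set (Matrix.SpecialLinearGroup (Fin 2) F) :=
  {g | ∃ x y : F, g.1 = x • (1 : Matrix (Fin 2) (Fin 2) F) + y • a₀.1}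

lemma zpowers_sub_S (a₀ : Matrix.SpecialLinearGroup (Fin 2) F) :
    ((Subgroup.zpowers a₀ : Subgroup _) : Set (Matrix.SpecialLinearGroup (Fin 2) F)) ⊆ Sset a₀ := by
  intro g hg
  obtain ⟨n, rfl⟩ := (Submonoid.mem_powers_iff _ _).mp (mem_powers_iff_mem_zpowers.mpr hg)
  obtain ⟨α, β, h⟩ := pow_form a₀ n
  exact ⟨α, β, by rw [Matrix.SpecialLinearGroup.coe_pow, h]⟩

lemma S_eq (h2 : 2 ∣ Fintype.card F) (h4 : 4 ≤ Fintype.card F)
    (a₀ : Matrix.SpecialLinearGroup (Fin 2) F) (ha₀ : orderOf a₀ = Fintype.card F + 1) :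
    ((Subgroup.zpowers a₀ : Subgroup _) : Set (Matrix.SpecialLinearGroup (Fin 2) F)) = Sset a₀ := by
  classical
  have h20 := two_zero h2
  apply Set.eq_of_subset_of_ncard_le (zpowers_sub_S a₀) _ (Set.toFinite _)
  have hz : ((Subgroup.zpowers a₀ : Subgroup _) : Set (Matrix.SpecialLinearGroup (Fin 2) F)).ncard
      = Fintype.card F + 1 := by
    rw [← ha₀, ← Nat.card_zpowers]
    exact (Nat.card_coe_set_eq _).symm
  rw [hz]
  -- surjection from Option F
  have hex : ∀ r : F, ∃ g : Matrix.SpecialLinearGroup (Fin 2) F, ∃ ρ : F, ρ ≠ 0 ∧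
      g.1 = ρ • (r • (1 : Matrix (Fin 2) (Fin 2) F) + (1 : F) • a₀.1) := fun r =>
    exists_norm h2 h4 a₀ ha₀ r 1 (by simp)
  choose f hf using hex
  let f' : Option F → Matrix.SpecialLinearGroup (Fin 2) F := fun o => o.elim 1 f
  have hsub : Sset a₀ ⊆ f' '' Set.univ := by
    rintro g ⟨x, y, hg⟩
    by_cases hy : y = 0
    · refine ⟨none, Set.mem_univ _, ?_⟩
      subst hy
      rw [zero_smul, add_zero] at hg
      have hdet := g.2
      rw [hg, Matrix.det_smul, Matrix.det_one, Fintype.card_fin, mul_one] at hdet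
      have hx : x = 1 := sq_inj h20 x 1 (by rw [mul_one, ← sq, hdet])
      apply Subtype.ext
      rw [hg, hx, one_smul]
      rfl
    · refine ⟨some (x / y), Set.mem_univ _, ?_⟩
      obtain ⟨ρ, hρ0, hρ⟩ := hf (x / y)
      have hg' : g.1 = y • ((x / y) • (1 : Matrix (Fin 2) (Fin 2) F) + (1 : F) • a₀.1) := by
        rw [hg, smul_add, smul_smul, smul_smul, mul_one, mul_div_cancel₀ _ hy]
      have hd1 := g.2
      rw [hg', Matrix.det_smul, Fintype.card_fin] at hd1
      have hd2 := (f (x / y)).2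
      rw [hρ, Matrix.det_smul, Fintype.card_fin] at hd2
      have hN : ((x / y) • (1 : Matrix (Fin 2) (Fin 2) F) + (1 : F) • a₀.1).det ≠ 0 := by
        intro h0
        rw [h0, mul_zero] at hd1
        exact zero_ne_one hd1
      have hρy : ρ = y := by
        apply sq_inj h20
        have : (ρ * ρ - y * y) * ((x / y) • (1 : Matrix (Fin 2) (Fin 2) F) + (1 : F) • a₀.1).det = 0 := by
          linear_combination hd2 - hd1
        have := (mul_eq_zero.mp this).resolve_right hN
        exact sub_eq_zero.mp this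
      apply Subtype.ext
      show (f (x / y)).1 = g.1
      rw [hρ, hg', hρy]
  calc (Sset a₀).ncard ≤ (f' '' Set.univ).ncard := Set.ncard_le_ncard hsub (Set.toFinite _)
    _ ≤ (Set.univ : Set (Option F)).ncard := Set.ncard_image_le (Set.toFinite _)
    _ = Fintype.card F + 1 := by
      rw [Set.ncard_univ, Nat.card_eq_fintype_card, Fintype.card_option]

def U (t : F) : Matrix.SpecialLinearGroup (Fin 2) F :=
  ⟨!![1, t; 0, 1], by rw [Matrix.det_fin_two_of]; ring⟩

lemma U_add (t u : F) : U (t + u) = U t * U u := by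
  apply Subtype.ext
  rw [Matrix.SpecialLinearGroup.coe_mul]
  show !![1, t + u; 0, 1] = !![1, t; 0, 1] * !![1, u; 0, 1]
  rw [Matrix.mul_fin_two]
  ext i j
  fin_cases i <;> fin_cases j <;> simp
  ring

lemma U_zero : U (0 : F) = 1 := by
  apply Subtype.ext
  show !![1, (0 : F); 0, 1] = (1 : Matrix (Fin 2) (Fin 2) F)
  exact Matrix.one_fin_two.symm

def Uhom : Multiplicative F →* Matrix.SpecialLinearGroup (Fin 2) F where
  toFun t := U (Multiplicative.toAdd t)
  map_one' := U_zero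
  map_mul' t u := U_add _ _

lemma Uhom_inj : Function.Injective (Uhom : Multiplicative F →* Matrix.SpecialLinearGroup (Fin 2) F) := by
  intro t u h
  have h1 : U (Multiplicative.toAdd t) = U (Multiplicative.toAdd u) := h
  have h' := congrArg (fun g : Matrix.SpecialLinearGroup (Fin 2) F => g.1 0 1) h1
  have h2 : Multiplicative.toAdd t = Multiplicative.toAdd u := by simpa [U] using h'
  exact Multiplicative.toAdd.injective h2

lemma aba (h2 : 2 ∣ Fintype.card F) (h4 : 4 ≤ Fintype.card F)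
    (a₀ : Matrix.SpecialLinearGroup (Fin 2) F) (ha₀ : orderOf a₀ = Fintype.card F + 1)
    (g : Matrix.SpecialLinearGroup (Fin 2) F) :
    ∃ a ∈ Subgroup.zpowers a₀, ∃ t : F, ∃ c ∈ Subgroup.zpowers a₀, g = a * U t * c := by
  have h20 := two_zero h2
  have hS := S_eq h2 h4 a₀ ha₀
  have hmemS : ∀ n : Matrix.SpecialLinearGroup (Fin 2) F, n ∈ Sset a₀ → n ∈ Subgroup.zpowers a₀ := by
    intro n hn
    have : n ∈ ((Subgroup.zpowers a₀ : Subgroup _) : Set (Matrix.SpecialLinearGroup (Fin 2) F)) := by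
      rw [hS]; exact hn
    exact this
  -- Step 1
  have h1 : ∃ c' ∈ Subgroup.zpowers a₀, (g * c').1.trace = 0 := by
    by_cases htr : g.1.trace = 0
    · exact ⟨1, one_mem _, by rw [mul_one]; exact htr⟩
    · obtain ⟨n, r, hr, hn⟩ := exists_norm h2 h4 a₀ ha₀ ((g * a₀).1.trace) (g.1.trace) (by tauto)
      refine ⟨n, hmemS n ⟨r * (g * a₀).1.trace, r * g.1.trace, by rw [hn, smul_add, smul_smul, smul_smul]⟩, ?_⟩
      rw [Matrix.SpecialLinearGroup.coe_mul, hn, Matrix.mul_smul, Matrix.mul_add, Matrix.mul_smul,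
        Matrix.mul_smul, Matrix.mul_one, Matrix.trace_smul, Matrix.trace_add, Matrix.trace_smul,
        Matrix.trace_smul, ← Matrix.SpecialLinearGroup.coe_mul]
      simp only [smul_eq_mul]
      linear_combination (r * (g * a₀).1.trace * g.1.trace) * h20
  obtain ⟨c', hc', htr⟩ := h1
  -- Step 2: fixed vector of t = g * c'
  have hdet : ((-1 : F) • (1 : Matrix (Fin 2) (Fin 2) F) + (1 : F) • (g * c').1).det = 0 := by
    rw [det_form, htr]
    linear_combination h20
  obtain ⟨v, hv0, hv⟩ := Matrix.exists_mulVec_eq_zero_iff.mpr hdet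
  have hv' : (g * c').1 *ᵥ v = v := by
    rw [Matrix.add_mulVec, Matrix.smul_mulVec, Matrix.smul_mulVec, Matrix.one_mulVec, one_smul,
      neg_smul, one_smul] at hv
    exact eq_of_sub_eq_zero (by rw [sub_eq_add_neg, add_comm]; exact hv)
  -- Step 3
  have hγ : a₀.1 1 0 ≠ 0 := by
    intro h0
    apply no_eig h2 h4 a₀ ha₀ (a₀.1 0 0)
    have hd := a₀.2
    rw [Matrix.det_fin_two, h0, mul_zero, sub_zero] at hd
    rw [Matrix.trace_fin_two]
    linear_combination hd + (a₀.1 0 0 ^ 2 + 1) * h20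
  obtain ⟨a, r, hr, ha⟩ := exists_norm h2 h4 a₀ ha₀ (v 0 - v 1 / a₀.1 1 0 * a₀.1 0 0) (v 1 / a₀.1 1 0) (by
    rintro ⟨e1, e2⟩
    apply hv0
    have hv1 : v 1 = 0 := by
      rcases div_eq_zero_iff.mp e2 with h | h
      · exact h
      · exact absurd h hγ
    have hv00 : v 0 = 0 := by
      rw [hv1] at e1
      simpa using e1
    funext i
    fin_cases i
    · exact hv00
    · exact hv1)
  have ha_mem : a ∈ Subgroup.zpowers a₀ :=
    hmemS a ⟨r * (v 0 - v 1 / a₀.1 1 0 * a₀.1 0 0), r * (v 1 / a₀.1 1 0), by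
      rw [ha, smul_add, smul_smul, smul_smul]⟩
  have hcol : ∀ i : Fin 2, a.1 i 0 = r * v i := by
    intro i
    fin_cases i
    · show a.1 0 0 = r * v 0
      rw [ha]
      simp only [Matrix.smul_apply, Matrix.add_apply, Matrix.one_apply_eq, smul_eq_mul]
      ring
    · show a.1 1 0 = r * v 1
      rw [ha]
      simp only [Matrix.smul_apply, Matrix.add_apply,
        Matrix.one_apply_ne (show (1 : Fin 2) ≠ 0 by decide), smul_eq_mul, mul_zero, zero_add]
      rw [div_mul_cancel₀ _ hγ]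
  have hta : ∀ i : Fin 2, ((g * c') * a).1 i 0 = a.1 i 0 := by
    intro i
    rw [Matrix.SpecialLinearGroup.coe_mul, Matrix.mul_apply, Fin.sum_univ_two, hcol 0, hcol 1, hcol i]
    have := congrFun hv' i
    rw [Matrix.mulVec, dotProduct, Fin.sum_univ_two] at this
    linear_combination r * this
  have hb : ∀ i : Fin 2, (a⁻¹ * ((g * c') * a)).1 i 0 = (1 : Matrix (Fin 2) (Fin 2) F) i 0 := by
    intro i
    have e1 : (a⁻¹ * ((g * c') * a)).1 i 0 = (a⁻¹ * a).1 i 0 := by
      rw [Matrix.SpecialLinearGroup.coe_mul, Matrix.mul_apply, Fin.sum_univ_two, hta 0, hta 1,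
        Matrix.SpecialLinearGroup.coe_mul, Matrix.mul_apply, Fin.sum_univ_two]
    rw [e1, inv_mul_cancel]
    rfl
  have hbU : a⁻¹ * ((g * c') * a) = U ((a⁻¹ * ((g * c') * a)).1 0 1) := by
    have h00 := hb 0
    have h10 := hb 1
    simp only [Matrix.one_apply_eq, Matrix.one_apply_ne, ne_eq, one_ne_zero, not_false_eq_true] at h00 h10
    have hd := (a⁻¹ * ((g * c') * a)).2
    rw [Matrix.det_fin_two, h00, h10, mul_zero, sub_zero, one_mul] at hd
    apply Subtype.ext
    show (a⁻¹ * ((g * c') * a)).1 = !![1, (a⁻¹ * ((g * c') * a)).1 0 1; 0, 1]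
    ext i j
    fin_cases i <;> fin_cases j
    · exact h00
    · rfl
    · exact h10
    · exact hd
  refine ⟨a, ha_mem, (a⁻¹ * ((g * c') * a)).1 0 1, a⁻¹ * c'⁻¹,
    mul_mem (inv_mem ha_mem) (inv_mem hc'), ?_⟩
  rw [← hbU]
  group

lemma center_bot (h2 : 2 ∣ Fintype.card F) :
    Subgroup.center (Matrix.SpecialLinearGroup (Fin 2) F) = ⊥ := by
  have h20 := two_zero h2
  rw [Subgroup.eq_bot_iff_forall]
  intro z hz
  obtain ⟨r, hr1, hr⟩ := Matrix.SpecialLinearGroup.mem_center_iff.mp hz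
  rw [Fintype.card_fin] at hr1
  have hr' : r = 1 := sq_inj h20 r 1 (by rw [mul_one, ← sq, hr1])
  apply Subtype.ext
  rw [← hr, hr', map_one]
  rfl

end

/-- Let F be a finite field with q = 2^t ≥ 4 elements and L = PSL(2,F). Then L has a cyclic subgroup A of order q + 1 and an elementary abelian 2-subgroup B of order q such that L = ABA: every element of L is a product a·b·a' with a, a' ∈ A and b ∈ B. -/
theorem result {F : Type*} [Field F] [Fintype F]
    (h2 : 2 ∣ Fintype.card F) (h4 : 4 ≤ Fintype.card F) :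
    ∃ A B : Subgroup (Matrix.ProjectiveSpecialLinearGroup (Fin 2) F),
      IsCyclic A ∧ Nat.card A = Fintype.card F + 1 ∧ IsMulCommutative B ∧ (∀ b ∈ B, b * b = 1) ∧
        Nat.card B = Fintype.card F ∧
        ∀ g : Matrix.ProjectiveSpecialLinearGroup (Fin 2) F, ∃ a ∈ A, ∃ b ∈ B, ∃ c ∈ A, g = a * b * c := by
  classical
  obtain ⟨a₀, ha₀⟩ := exists_nonsplit_gen (F := F)
  have hcb := center_bot (F := F) h2
  have hinj : Function.Injective
      (QuotientGroup.mk' (Subgroup.center (Matrix.SpecialLinearGroup (Fin 2) F))) := by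
    rw [← MonoidHom.ker_eq_bot_iff, QuotientGroup.ker_mk', hcb]
  have hψ : Function.Injective
      ((QuotientGroup.mk' (Subgroup.center (Matrix.SpecialLinearGroup (Fin 2) F))).comp Uhom) := by
    intro t u h
    exact Uhom_inj (hinj h)
  refine ⟨Subgroup.zpowers (QuotientGroup.mk' (Subgroup.center (Matrix.SpecialLinearGroup (Fin 2) F)) a₀),
    ((QuotientGroup.mk' (Subgroup.center (Matrix.SpecialLinearGroup (Fin 2) F))).comp Uhom).range,
    inferInstance, ?_, ?_, ?_, ?_, ?_⟩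
  · rw [Nat.card_zpowers, orderOf_injective _ hinj, ha₀]
  · refine ⟨⟨fun x y => ?_⟩⟩
    obtain ⟨x, t, rfl⟩ := x
    obtain ⟨y, u, rfl⟩ := y
    apply Subtype.ext
    show ((QuotientGroup.mk' (Subgroup.center (Matrix.SpecialLinearGroup (Fin 2) F))).comp Uhom) t *
      ((QuotientGroup.mk' (Subgroup.center (Matrix.SpecialLinearGroup (Fin 2) F))).comp Uhom) u =
      ((QuotientGroup.mk' (Subgroup.center (Matrix.SpecialLinearGroup (Fin 2) F))).comp Uhom) u *
      ((QuotientGroup.mk' (Subgroup.center (Matrix.SpecialLinearGroup (Fin 2) F))).comp Uhom) t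
    rw [← map_mul, ← map_mul, mul_comm]
  · rintro b ⟨t, rfl⟩
    rw [← map_mul]
    have : t * t = 1 := by
      have h20 := two_zero (F := F) h2
      apply Multiplicative.toAdd.injective
      show Multiplicative.toAdd t + Multiplicative.toAdd t = 0
      rw [← two_mul, h20, zero_mul]
    rw [this, map_one]
  · rw [← Nat.card_congr (MonoidHom.ofInjective hψ).toEquiv, Nat.card_eq_fintype_card]
    exact Fintype.card_multiplicative F
  · intro g
    obtain ⟨g', rfl⟩ := QuotientGroup.mk_surjective g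
    obtain ⟨a, ha, t, c, hc, hg⟩ := aba h2 h4 a₀ ha₀ g'
    have hmap : ∀ y ∈ Subgroup.zpowers a₀,
        QuotientGroup.mk' (Subgroup.center (Matrix.SpecialLinearGroup (Fin 2) F)) y ∈
          Subgroup.zpowers (QuotientGroup.mk' (Subgroup.center (Matrix.SpecialLinearGroup (Fin 2) F)) a₀) := by
      intro y hy
      obtain ⟨k, rfl⟩ := Subgroup.mem_zpowers_iff.mp hy
      rw [map_zpow]
      exact Subgroup.zpow_mem_zpowers _ k
    refine ⟨_, hmap a ha, _, ⟨Multiplicative.ofAdd t, rfl⟩, _, hmap c hc, ?_⟩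
    rw [hg]
    rfl

end Cfsg.Agent.S2503
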