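import Cfsg.Statements.S2510
import Mathlib
import Cfsg.Agent.Helper15.PL

set_option autoImplicit false
open Cfsg

namespace Cfsg.Agent.S2510

open Cfsg.Agent.Helper15.PL in
theorem ord_vec (r m : ℕ) (hr : r.Prime) (v : Multiplicative (Fin m → ZMod r)) :
    orderOf v = 1 ∨ orderOf v = r := by
  have h1 : v ^ r = 1 := by
    apply Multiplicative.toAdd.injective
    rw [toAdd_pow, toAdd_one]
    funext i
    simp
  exact (Nat.dvd_prime hr).mp (orderOf_dvd_of_pow_eq_one h1)

/-- Let F be a finite field with q = p^a elements, n ≥ 2 (with q ≥ 4 when n = 2), L = PSL(n, F), and let r be a prime dividing q − 1 and not dividing n. Then for every m the direct product L × L × L × (ℤ/r)^m has the same set of element orders as L × L × L; and if n − 1 ≠ p^j for every j ≥ 0 (so never when n = 2, since 1 = p^0), then already L × L × (ℤ/r)^m has the same set of element orders as L × L. -/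
theorem result {F : Type*} [Field F] [Fintype F] (p a n r m : ℕ) (hp : p.Prime) (ha : 1 ≤ a) (hF : Fintype.card F = p ^ a)
    (hn : 2 ≤ n) (hn2 : n = 2 → 4 ≤ Fintype.card F) (hr : r.Prime) (hrq : r ∣ Fintype.card F - 1) (hrn : ¬ r ∣ n) :
    Set.range (orderOf : Matrix.ProjectiveSpecialLinearGroup (Fin n) F × Matrix.ProjectiveSpecialLinearGroup (Fin n) F × Matrix.ProjectiveSpecialLinearGroup (Fin n) F × Multiplicative (Fin m → ZMod r) → ℕ) =
      Set.range (orderOf : Matrix.ProjectiveSpecialLinearGroup (Fin n) F × Matrix.ProjectiveSpecialLinearGroup (Fin n) F × Matrix.ProjectiveSpecialLinearGroup (Fin n) F → ℕ) ∧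
    ((¬ ∃ j : ℕ, n - 1 = p ^ j) →
      Set.range (orderOf : Matrix.ProjectiveSpecialLinearGroup (Fin n) F × Matrix.ProjectiveSpecialLinearGroup (Fin n) F × Multiplicative (Fin m → ZMod r) → ℕ) =
        Set.range (orderOf : Matrix.ProjectiveSpecialLinearGroup (Fin n) F × Matrix.ProjectiveSpecialLinearGroup (Fin n) F → ℕ)) := by
  classical
  haveI : Fact p.Prime := ⟨hp⟩
  have hchar : CharP F p := by
    obtain ⟨p', hp'⟩ := CharP.exists F
    haveI := hp'
    have hp'prime : p'.Prime := CharP.char_is_prime F p'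
    haveI : Fact p'.Prime := ⟨hp'prime⟩
    obtain ⟨a', -, ha'⟩ := FiniteField.card F p'
    rw [hF] at ha'
    have h1 : p ∣ p' ^ (a' : ℕ) := by
      rw [← ha']
      exact dvd_pow_self p (by omega)
    have h2 := (Nat.prime_dvd_prime_iff_eq hp hp'prime).mp (hp.dvd_of_dvd_pow h1)
    subst h2
    exact hp'
  haveI := hchar
  have hq2 : 2 ≤ Fintype.card F := Fintype.one_lt_card
  obtain ⟨ζu, hζu⟩ : ∃ x : Fˣ, orderOf x = r := by
    haveI : Fact r.Prime := ⟨hr⟩
    apply exists_prime_orderOf_dvd_card r
    rw [Fintype.card_units]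
    exact hrq
  have hζ : orderOf (ζu : F) = r := by
    rw [orderOf_units]
    exact hζu
  have hrp : r ≠ p := by
    rintro rfl
    have h1 : r ∣ Fintype.card F := by
      rw [hF]
      exact dvd_pow_self r (by omega)
    have h3 : Fintype.card F = (Fintype.card F - 1) + 1 := by omega
    rw [h3] at h1
    have h2 : r ∣ 1 := (Nat.dvd_add_right hrq).mp h1
    exact hr.one_lt.ne' (Nat.dvd_one.mp h2)
  have hpq : p ∣ Fintype.card F := by
    rw [hF]
    exact dvd_pow_self p (by omega)
  -- an element of order `r`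
  obtain ⟨t, ht⟩ : ∃ t : Matrix.ProjectiveSpecialLinearGroup (Fin n) F, orderOf t = r := by
    obtain ⟨x, -, hx, -⟩ := Cfsg.Agent.Helper15.PL.construction (F := F) (n := n) p hr hrn
      (ζu : F) hζ (n - 1) 1 0 1 (by omega) le_rfl (by omega) (Or.inl rfl) (one_dvd _)
      (fun h => hr.one_lt.ne' (Nat.dvd_one.mp h))
    exact ⟨x ^ (orderOf x / r), orderOf_pow_orderOf_div (orderOf_pos x).ne' hx⟩
  -- the Singer element
  obtain ⟨s, hs⟩ := Cfsg.Agent.Helper15.PL.exists_singer (F := F) (n := n) p (by omega)
  have hkey := fun g hg => Cfsg.Agent.Helper15.PL.key_lemma (F := F) (n := n) p hr hrn hrp hn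
    (ζu : F) hζ g hg
  have hlcm : ∀ o : ℕ, ¬ r ∣ o → Nat.lcm o r = r * o := by
    intro o ho
    rw [Nat.Coprime.lcm_eq_mul (Nat.Coprime.symm ((Nat.Prime.coprime_iff_not_dvd hr).mpr ho)),
      mul_comm]
  constructor
  · apply Set.Subset.antisymm
    · rintro o ⟨⟨g1, g2, g3, v⟩, rfl⟩
      rw [Prod.orderOf, Prod.orderOf, Prod.orderOf]
      simp only
      rcases ord_vec r m hr v with hv | hv
      · refine ⟨(g1, g2, g3), ?_⟩
        rw [Prod.orderOf, Prod.orderOf, hv, Nat.lcm_one_right]
      · rw [hv]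
        obtain ⟨h1, h2, h3, heq⟩ := Cfsg.Agent.Helper15.PL.spec_three hr hp t ht s hs
          (fun g hg => by
            rcases hkey g hg with ⟨x, hx⟩ | h | ⟨k, hk, -⟩
            · left
              exact ⟨x, by rw [hx, hlcm _ hg]⟩
            · right; left
              exact h
            · right; right
              exact ⟨k, hk⟩) g1 g2 g3
        refine ⟨(h1, h2, h3), ?_⟩
        rw [Prod.orderOf, Prod.orderOf]
        exact heq
    · rintro o ⟨⟨g1, g2, g3⟩, rfl⟩
      refine ⟨(g1, g2, g3, 1), ?_⟩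
      rw [Prod.orderOf, Prod.orderOf, Prod.orderOf, Prod.orderOf, Prod.orderOf]
      simp
  · intro hj
    apply Set.Subset.antisymm
    · rintro o ⟨⟨g1, g2, v⟩, rfl⟩
      rw [Prod.orderOf, Prod.orderOf]
      simp only
      rcases ord_vec r m hr v with hv | hv
      · refine ⟨(g1, g2), ?_⟩
        rw [Prod.orderOf, hv, Nat.lcm_one_right]
      · rw [hv]
        obtain ⟨h1, h2, heq⟩ := Cfsg.Agent.Helper15.PL.spec_two t ht s hs
          (fun g hg => by
            rcases hkey g hg with ⟨x, hx⟩ | h | ⟨k, hk, hkb⟩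
            · left
              exact ⟨x, by rw [hx, hlcm _ hg]⟩
            · right
              exact h
            · left
              have hk' : k = 0 ∨ p ^ (k - 1) < n - 1 := by
                rcases hkb with h | h
                · left
                  exact h
                · right
                  have h1 : n - 1 ≠ p ^ (k - 1) := fun h2 => hj ⟨k - 1, h2⟩
                  omega
              obtain ⟨x, hx1, hx2, -⟩ := Cfsg.Agent.Helper15.PL.construction (F := F) (n := n) p
                hr hrn (ζu : F) hζ (n - 1) 1 k 1 (by omega) le_rfl (by omega) hk' (one_dvd _)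
                (fun h => hr.one_lt.ne' (Nat.dvd_one.mp h))
              have hcop1 : Nat.Coprime r (p ^ k) :=
                Nat.Coprime.pow_right _ ((Nat.coprime_primes hr hp).mpr hrp)
              have hdvd : r * p ^ k ∣ orderOf x := hcop1.mul_dvd_of_dvd_of_dvd hx2 hx1
              refine ⟨x ^ (orderOf x / (r * p ^ k)), ?_⟩
              rw [orderOf_pow_orderOf_div (orderOf_pos x).ne' hdvd, hlcm _ hg, hk]) g1 g2
        refine ⟨(h1, h2), ?_⟩
        rw [Prod.orderOf]
        exact heq
    · rintro o ⟨⟨g1, g2⟩, rfl⟩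
      refine ⟨(g1, g2, 1), ?_⟩
      rw [Prod.orderOf, Prod.orderOf, Prod.orderOf]
      simp

end Cfsg.Agent.S2510
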