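import Cfsg.Statements.S2794
import Cfsg.Agent.S2795
import Cfsg.Agent.S0653
import Cfsg.Agent.Helper13.Glaub2
import Cfsg.Agent.Helper13.QdCtl


set_option autoImplicit false
open Cfsg

namespace Cfsg.Agent.S2794


universe u

open Cfsg.Agent.Helper13 Cfsg.Agent.Helper17 Cfsg.Agent.Helper5 Cfsg.Agent.S0653

/-- the functor `Q ↦ Z(J(Q))` (abelian version of the Thompson subgroup) -/
def zjFun : ∀ (Q : Type u) [Group Q], Subgroup Q :=
  fun Q _ => Cfsg.thompsonSubgroupA Q ⊓ Subgroup.centralizer (Cfsg.thompsonSubgroupA Q : Set Q)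

theorem thompsonA_eq_JA (Q : Type u) [Group Q] :
    Cfsg.thompsonSubgroupA Q = JA 0 (⊤ : Subgroup Q) := by
  unfold Cfsg.thompsonSubgroupA JA
  congr 1
  ext A
  constructor
  · rintro ⟨h1, h2⟩
    exact ⟨le_top, h1, fun a _ => pow_zero a, fun A' _ h3 _ => h2 A' h3⟩
  · rintro ⟨-, h1, -, h2⟩
    exact ⟨h1, fun B hB => h2 B le_top hB (fun a _ => pow_zero a)⟩

theorem zjFun_eq_WZ (Q : Type u) [Group Q] : zjFun Q = WZ 0 (⊤ : Subgroup Q) := by
  ext x
  unfold zjFun
  rw [thompsonA_eq_JA, mem_WZ, Subgroup.mem_inf]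
  simp

theorem zjFun_char (p : ℕ) [Fact p.Prime] : Cfsg.IsCharPFunctor.{u} p zjFun := by
  constructor
  · intro Q _ _ hQ hnt
    rw [zjFun_eq_WZ]
    haveI := hQ.center_nontrivial
    obtain ⟨z, hz⟩ := exists_ne (1 : ↥(Subgroup.center Q))
    intro h0
    apply hz
    have hzc : ∀ a : Q, a * (z : Q) = (z : Q) * a := fun a =>
      (Subgroup.mem_center_iff.mp z.2 a)
    have hzW : (z : Q) ∈ WZ 0 (⊤ : Subgroup Q) := by
      obtain ⟨A, hA⟩ := calA_nonempty 0 (⊤ : Subgroup Q)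
      have hzA : (z : Q) ∈ A :=
        mem_of_centralizes hA (Subgroup.mem_top _) (pow_zero _) (fun a _ => hzc a)
      refine ⟨le_sSup hA hzA, ?_, pow_zero _⟩
      rw [Subgroup.mem_centralizer_iff]
      intro y _
      exact hzc y
    rw [h0, Subgroup.mem_bot] at hzW
    exact Subtype.ext hzW
  · intro Q R _ _ _ hQ φ
    rw [zjFun_eq_WZ, zjFun_eq_WZ, WZ_map]
    congr 1
    exact Subgroup.map_top_of_surjective _ φ.surjective

theorem inducedFunctor_zj {X : Type u} [Group X] (T : Subgroup X) :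
    Cfsg.inducedFunctor zjFun T = Cfsg.centerThompsonAOf T := by
  ext x
  unfold Cfsg.inducedFunctor zjFun Cfsg.centerThompsonAOf Cfsg.thompsonSubgroupAOf
  constructor
  · rintro ⟨y, hy, rfl⟩
    obtain ⟨hy1, hy2⟩ := Subgroup.mem_inf.mp hy
    refine Subgroup.mem_inf.mpr ⟨⟨y, hy1, rfl⟩, ?_⟩
    rw [Subgroup.mem_centralizer_iff]
    rintro _ ⟨w, hw, rfl⟩
    have h := Subgroup.mem_centralizer_iff.mp hy2 w hw
    exact congrArg Subtype.val h
  · intro hx
    obtain ⟨⟨y, hy1, rfl⟩, hc⟩ := Subgroup.mem_inf.mp hx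
    refine ⟨y, Subgroup.mem_inf.mpr ⟨hy1, ?_⟩, rfl⟩
    rw [Subgroup.mem_centralizer_iff]
    intro w hw
    exact Subtype.ext (Subgroup.mem_centralizer_iff.mp hc _ ⟨w, hw, rfl⟩)

theorem hasQdSec_of_sec {p : ℕ} {X Y : Type u} [Group X] [Group Y] (h : Sec Y X)
    (hY : HasQdSec p Y) : HasQdSec p X := by
  obtain ⟨H, f, hf⟩ := h
  exact hasQdSec_of_injective p H.subtype H.subtype_injective (hasQdSec_lift p f hf hY)

/-- `Qd(p)`-free groups: `Z(J(T))` controls strong fusion, in chain form. -/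
theorem zj_famCtl {p : ℕ} [Fact p.Prime] (hp : p ≠ 2) (X : Type u) [Group X] [Finite X]
    (hfree : ¬ HasQdSec p X) (T : Sylow p X) :
    FamCtl (indFam {zjFun} X) ⊤ (T : Subgroup X) := by
  have h𝓦 : ∀ W ∈ ({zjFun} : Set (∀ (Q : Type u) [Group Q], Subgroup Q)),
      Cfsg.IsCharPFunctor.{u} p W := by
    intro W hW
    rw [Set.mem_singleton_iff.mp hW]
    exact zjFun_char p
  refine glaub_main {zjFun} h𝓦 (Nat.card X) X le_rfl (fun Y _ hY => ?_) T
  intro hC T'
  haveI : Finite Y := by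
    obtain ⟨H, f, hf⟩ := hY
    exact Finite.of_surjective f hf
  have hfreeY : ¬ HasQdSec p Y := fun h => hfree (hasQdSec_of_sec hY h)
  have hst : ∀ (V : Subgroup Y) [V.Normal], IsPGroup p V → Cfsg.IsPStableOn p V := by
    intro V _ hV a hq
    rcases quad_mem_LL_or_qd hp V hV a hq with h | h
    · exact h
    · exact absurd h hfreeY
  have hn : (WZ 0 (T' : Subgroup Y)).Normal := WZ_normal hp 0 hC hst T'
  intro P x hP _ hxP
  refine ⟨x, FChain.single ?_ hP hxP, fun _ _ => rfl⟩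
  refine (fst_indFam_iff _ _ _ _).mpr ⟨zjFun, rfl, Subgroup.mem_top _, ?_⟩
  rw [inducedFunctor_zj, centerThompsonAOf_eq, Subgroup.normalizer_eq_top]
  exact Subgroup.mem_top _

theorem zj_not_controls_aux {p : ℕ} [Fact p.Prime] {Y : Type u} [Group Y] [Finite Y]
    (e : Y ≃* ↥(Cfsg.qd p)) (T : Sylow p Y) :
    ¬ Cfsg.ControlsStrongFusion p (Cfsg.centerThompsonAOf (T : Subgroup Y)) := by
  rw [← inducedFunctor_zj]
  exact not_ctl_of_equiv_qd zjFun (zjFun_char p) e T

theorem zj_controls {p : ℕ} [Fact p.Prime] (hp : p ≠ 2) (X : Type u) [Group X] [Finite X]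
    (hfree : ¬ HasQdSec p X) (T : Sylow p X) :
    Cfsg.ControlsStrongFusion p (Cfsg.centerThompsonAOf (T : Subgroup X)) := by
  have hctl := zj_famCtl hp X hfree T
  have hle : Cfsg.centerThompsonAOf (T : Subgroup X) ≤ (T : Subgroup X) := by
    rw [centerThompsonAOf_eq]; exact WZ_le 0 _
  refine ⟨T, hle, fun A hA => ⟨hA, fun g hg => ?_⟩⟩
  obtain ⟨g', hch, hag⟩ := hctl (Subgroup.closure A) g ((Subgroup.closure_le _).mpr hA)
    (Subgroup.mem_top _) (cj_closure_le hg)
  refine ⟨g', ?_, fun a ha => (hag a (Subgroup.subset_closure ha)).symm⟩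
  refine FChain.mem_of_subgroup (K := Subgroup.normalizer
    ((Cfsg.centerThompsonAOf (T : Subgroup X) : Subgroup X) : Set X)) ?_ hch
  intro y hy
  obtain ⟨W, hW, -, hy2⟩ := (fst_indFam_iff _ _ _ y).mp hy
  rw [Set.mem_singleton_iff.mp hW, inducedFunctor_zj] at hy2
  exact hy2

/-- For an odd prime p and a finite group G, the group Qd(p) is not involved in G if and only if in every section K/R of G, for every Sylow p-subgroup S* of K/R, the centre of J(S*) (J generated by the abelian subgroups of largest order) controls strong fusion in K/R. -/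
theorem result {G : Type*} [Group G] [Finite G] {p : ℕ} [Fact p.Prime] (hp : p ≠ 2) : ¬ Cfsg.Involves ↥(Cfsg.qd p) G ↔ ∀ (K R : Subgroup G) [hR : (R.subgroupOf K).Normal], ∀ T : Sylow p (K ⧸ R.subgroupOf K), Cfsg.ControlsStrongFusion p (Cfsg.centerThompsonAOf (T : Subgroup (K ⧸ R.subgroupOf K))) := by
  constructor
  · intro hfree K R hR T
    apply zj_controls hp
    intro h2
    apply hfree
    have h3 : HasQdSec p ↥K :=
      hasQdSec_lift p (QuotientGroup.mk' (R.subgroupOf K)) (QuotientGroup.mk'_surjective _) h2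
    obtain ⟨L, ψ, hψ⟩ := hasQdSec_of_injective p K.subtype K.subtype_injective h3
    obtain ⟨L', hL', ⟨e⟩⟩ := Cfsg.Agent.Helper5.sec_of_surj L ψ hψ
    exact ⟨L, L', hL', ⟨e⟩⟩
  · intro hst hinv
    obtain ⟨K, R, hR, ⟨e⟩⟩ := hinv
    obtain ⟨T⟩ : Nonempty (Sylow p (↥K ⧸ R.subgroupOf K)) := inferInstance
    exact zj_not_controls_aux e T (hst K R T)

end Cfsg.Agent.S2794
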