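import Cfsg.Statements.S2809
import Cfsg.Agent.Helper17.Basic
-- import your own Cfsg.Agent.* helpers here

set_option autoImplicit false
open Cfsg

namespace Cfsg.Agent.S2809

open Cfsg.Agent.Helper17
open scoped commutatorElement


/-- Let H be a finite group, p a prime, R a p-subgroup of H with C_H(R) ≤ R, and L a subgroup of N_H(R) acting nilpotently on R (some iterated commutator [R, L, …, L] is trivial). Then L is a p-group. -/
theorem result {H : Type*} [Group H] [Finite H] {p : ℕ} [Fact p.Prime] (R : Subgroup H) (hR : IsPGroup p ↥R) (hC : Subgroup.centralizer (R : Set H) ≤ R) (L : Subgroup H) (hL : L ≤ Subgroup.normalizer (R : Set H)) (hnil : ∃ n : ℕ, Cfsg.iterCommutator R L n = ⊥) : IsPGroup p ↥L := by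
  classical
  -- every term of the chain lies in `R`
  have hle : ∀ i, Cfsg.iterCommutator R L i ≤ R := by
    intro i
    induction i with
    | zero => exact le_of_eq rfl
    | succ i ih =>
      rw [iterCommutator_succ, Subgroup.commutator_le]
      intro r hr l hl
      have hr' : r ∈ R := ih hr
      have h1 : l * r⁻¹ * l⁻¹ ∈ R := (Subgroup.mem_normalizer_iff.mp (hL hl) r⁻¹).mp (R.inv_mem hr')
      have : ⁅r, l⁆ = r * (l * r⁻¹ * l⁻¹) := by rw [commutatorElement_def]; group
      rw [this]
      exact R.mul_mem hr' h1
  obtain ⟨n, hn⟩ := hnil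
  apply isPGroup_of_coprime_trivial
  intro y hy hyc
  -- `y` centralizes every term of the chain, by downward induction
  have key : ∀ j, j ≤ n → ∀ r ∈ Cfsg.iterCommutator R L (n - j), Commute r y := by
    intro j
    induction j with
    | zero =>
      intro _ r hr
      rw [Nat.sub_zero, hn, Subgroup.mem_bot] at hr
      subst hr
      exact Commute.one_left y
    | succ j ih =>
      intro hj r hr
      have hstep : n - j = (n - (j + 1)) + 1 := by omega
      have hc : r * y * r⁻¹ * y⁻¹ ∈ Cfsg.iterCommutator R L (n - j) := by
        rw [hstep, iterCommutator_succ]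
        have := Subgroup.commutator_mem_commutator hr hy
        rwa [commutatorElement_def] at this
      have hcomm : Commute (r * y * r⁻¹ * y⁻¹) y := ih (by omega) _ hc
      exact commute_of_coprime_of_commutator hyc hcomm (exists_pow_of_isPGroup hR (hle _ hc))
  have hcent : y ∈ Subgroup.centralizer (R : Set H) := by
    rw [Subgroup.mem_centralizer_iff]
    intro r hr
    have := key n le_rfl r (by rw [Nat.sub_self]; exact hr)
    exact this.eq
  exact eq_one_of_isPGroup_of_coprime hR (hC hcent) hyc

end Cfsg.Agent.S2809
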