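import Cfsg.Statements.S2810
import Cfsg.Agent.Helper17.Basic
-- import your own Cfsg.Agent.* helpers here

set_option autoImplicit false
open Cfsg

namespace Cfsg.Agent.S2810

open Cfsg.Agent.Helper17
open scoped commutatorElement


/-- Let H be a finite group of characteristic p and L a subgroup of H centralizing every factor of some H-invariant chain 1 = A₀ ≤ A₁ ≤ … ≤ Aₙ = O_p(H) of normal subgroups (that is, [A_{i+1}, L] ≤ Aᵢ for each i). Then L ≤ O_p(H). -/
theorem result {H : Type*} [Group H] [Finite H] {p : ℕ} [Fact p.Prime] (hchar : Subgroup.centralizer (Cfsg.pCore p H : Set H) ≤ Cfsg.pCore p H) (L : Subgroup H) (n : ℕ) (A : Fin (n + 1) → Subgroup H) (h0 : A 0 = ⊥) (hn : A (Fin.last n) = Cfsg.pCore p H) (hmono : Monotone A) (hnorm : ∀ i, (A i).Normal) (hcent : ∀ i : Fin n, ⁅A i.succ, L⁆ ≤ A i.castSucc) : L ≤ Cfsg.pCore p H := by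
  classical
  let D : Subgroup H :=
    { carrier := {g | ∀ i : Fin n, ∀ a ∈ A i.succ, a * g * a⁻¹ * g⁻¹ ∈ A i.castSucc}
      one_mem' := by
        intro i a ha
        have : a * 1 * a⁻¹ * (1 : H)⁻¹ = 1 := by group
        rw [this]; exact one_mem _
      mul_mem' := by
        intro g h hg hh i a ha
        have h1 := hg i a ha
        have h2 := hh i a ha
        have h3 : g * (a * h * a⁻¹ * h⁻¹) * g⁻¹ ∈ A i.castSucc := (hnorm _).conj_mem _ h2 g
        have : a * (g * h) * a⁻¹ * (g * h)⁻¹ = (a * g * a⁻¹ * g⁻¹) * (g * (a * h * a⁻¹ * h⁻¹) * g⁻¹) := by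
          group
        rw [this]; exact mul_mem h1 h3
      inv_mem' := by
        intro g hg i a ha
        have h1 := hg i a ha
        have h2 : g⁻¹ * (a * g * a⁻¹ * g⁻¹)⁻¹ * g⁻¹⁻¹ ∈ A i.castSucc :=
          (hnorm _).conj_mem _ (inv_mem h1) g⁻¹
        have : a * g⁻¹ * a⁻¹ * g⁻¹⁻¹ = g⁻¹ * (a * g * a⁻¹ * g⁻¹)⁻¹ * g⁻¹⁻¹ := by group
        rw [this]; exact h2 }
  have hDmem : ∀ g : H, g ∈ D ↔ ∀ i : Fin n, ∀ a ∈ A i.succ, a * g * a⁻¹ * g⁻¹ ∈ A i.castSucc :=
    fun g => Iff.rfl
  have hDn : D.Normal := by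
    constructor
    intro g hg x
    rw [hDmem] at hg ⊢
    intro i a ha
    have ha' : x⁻¹ * a * x⁻¹⁻¹ ∈ A i.succ := (hnorm _).conj_mem _ ha x⁻¹
    have h1 := hg i _ ha'
    have h2 := (hnorm i.castSucc).conj_mem _ h1 x
    have : a * (x * g * x⁻¹) * a⁻¹ * (x * g * x⁻¹)⁻¹ =
        x * ((x⁻¹ * a * x⁻¹⁻¹) * g * (x⁻¹ * a * x⁻¹⁻¹)⁻¹ * g⁻¹) * x⁻¹ := by group
    rw [this]; exact h2
  have hLD : L ≤ D := by
    intro l hl
    rw [hDmem]
    intro i a ha
    have := hcent i (Subgroup.commutator_mem_commutator ha hl)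
    rwa [commutatorElement_def] at this
  have hDp : IsPGroup p D := by
    apply isPGroup_of_coprime_trivial
    intro y hy hyc
    rw [hDmem] at hy
    have key : ∀ j : Fin (n + 1), ∀ a ∈ A j, Commute a y := by
      intro j
      induction j using Fin.induction with
      | zero =>
        intro a ha
        rw [h0, Subgroup.mem_bot] at ha
        subst ha
        exact Commute.one_left y
      | succ i ih =>
        intro a ha
        have hc := hy i a ha
        have hcomm : Commute (a * y * a⁻¹ * y⁻¹) y := ih _ hc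
        have hcp : a * y * a⁻¹ * y⁻¹ ∈ Cfsg.pCore p H := hn ▸ hmono (Fin.le_last _) hc
        exact commute_of_coprime_of_commutator hyc hcomm
          (exists_pow_of_isPGroup (pCore_isPGroup p H) hcp)
    have hcent' : y ∈ Subgroup.centralizer (Cfsg.pCore p H : Set H) := by
      rw [Subgroup.mem_centralizer_iff]
      intro r hr
      rw [SetLike.mem_coe, ← hn] at hr
      exact (key _ r hr).eq
    exact eq_one_of_isPGroup_of_coprime (pCore_isPGroup p H) (hchar hcent') hyc
  exact hLD.trans (le_pCore hDn hDp)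

end Cfsg.Agent.S2810
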