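import Cfsg.Statements.S2813
import Cfsg.Agent.Helper17.Basic
-- import your own Cfsg.Agent.* helpers here

set_option autoImplicit false
open Cfsg

namespace Cfsg.Agent.S2813

open Cfsg.Agent.Helper17
open scoped commutatorElement


/-- Let K be a subgroup of the finite group H with O_p(K) = 1 and Y a p-subgroup of N_H(K) with [K, Y, Y] = 1. Then [K, Y] = 1. -/
theorem result {H : Type*} [Group H] [Finite H] {p : ℕ} [Fact p.Prime] (K : Subgroup H) (hO : Cfsg.pCore p ↥K = ⊥) (Y : Subgroup H) (hY : IsPGroup p ↥Y) (hYK : Y ≤ Subgroup.normalizer (K : Set H)) (hq : ⁅⁅K, Y⁆, Y⁆ = ⊥) : ⁅K, Y⁆ = ⊥ := by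
  classical
  have hNK : ⁅K, Y⁆ ≤ K := commutator_le_left_of_le_normalizer hYK
  have hKN : K ≤ Subgroup.normalizer ((⁅K, Y⁆ : Subgroup H) : Set H) := le_normalizer_commutator_left K Y
  have hNN : ⁅⁅K, Y⁆, ⁅K, Y⁆⁆ = ⊥ := by
    have h1 : ⁅⁅Y, ⁅K, Y⁆⁆, K⁆ = ⊥ := by
      rw [Subgroup.commutator_comm Y ⁅K, Y⁆, hq]
      exact Subgroup.commutator_bot_left K
    have h2 : ⁅⁅⁅K, Y⁆, K⁆, Y⁆ = ⊥ := by
      have : ⁅⁅K, Y⁆, K⁆ ≤ ⁅K, Y⁆ := commutator_le_left_of_le_normalizer hKN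
      exact le_bot_iff.mp (hq ▸ Subgroup.commutator_mono this le_rfl)
    exact Subgroup.commutator_commutator_eq_bot_of_rotate h1 h2
  have hcomm : ∀ a ∈ ⁅K, Y⁆, ∀ b ∈ ⁅K, Y⁆, Commute a b := by
    intro a ha b hb
    have := (Subgroup.commutator_eq_bot_iff_le_centralizer.mp hNN) ha
    exact (Subgroup.mem_centralizer_iff.mp this b hb).symm
  have hNp : IsPGroup p (⁅K, Y⁆ : Subgroup H) := by
    apply isPGroup_of_closure_of_commute (Subgroup.commutator_def K Y) hcomm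
    rintro s ⟨k, hk, y, hy, rfl⟩
    obtain ⟨b, hb⟩ := exists_pow_of_isPGroup hY hy
    refine ⟨b, ?_⟩
    have hc : Commute (k * y * k⁻¹ * y⁻¹) y := by
      have hmem : k * y * k⁻¹ * y⁻¹ ∈ ⁅K, Y⁆ := Subgroup.commutator_mem_commutator hk hy
      have := (Subgroup.commutator_eq_bot_iff_le_centralizer.mp hq) hmem
      exact (Subgroup.mem_centralizer_iff.mp this y hy).symm
    exact commutator_pow_eq_one hc hb
  have hsub : (⁅K, Y⁆ : Subgroup H).subgroupOf K ≤ Cfsg.pCore p ↥K := by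
    apply le_pCore
    · exact (Subgroup.normal_subgroupOf_iff_le_normalizer hNK).mpr hKN
    · exact hNp.comap_subtype
  rw [hO, le_bot_iff, Subgroup.subgroupOf_eq_bot] at hsub
  exact hsub.eq_bot_of_le hNK

end Cfsg.Agent.S2813
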