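import Cfsg.Statements.S2815
import Cfsg.Agent.Helper17.QS
-- import your own Cfsg.Agent.* helpers here

set_option autoImplicit false
open Cfsg

namespace Cfsg.Agent.S2815

open Cfsg.Agent.Helper17
open scoped commutatorElement
open Subgroup


/-- Let H be a finite group and p a prime dividing its order with O_p(H) = 1, and suppose K = O^p(H) (generated by the elements of order prime to p) is quasisimple. Then K = F*(H); for every nontrivial p-subgroup Y of H, K = [K, Y] and K lies in the subgroup generated by the K-conjugates of Y; every normal subgroup of H not containing K has order prime to p; and H is p-irreducible. -/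
theorem result {H : Type*} [Group H] [Finite H] {p : ℕ} [Fact p.Prime] (hp : p ∣ Nat.card H) (hO : Cfsg.pCore p H = ⊥) (hq : Cfsg.IsQuasisimple ↥(Cfsg.pResidual p H)) : Cfsg.pResidual p H = Cfsg.generalizedFittingSubgroup H ∧ (∀ Y : Subgroup H, IsPGroup p ↥Y → Y ≠ ⊥ → ⁅Cfsg.pResidual p H, Y⁆ = Cfsg.pResidual p H ∧ Cfsg.pResidual p H ≤ ⨆ k : ↥(Cfsg.pResidual p H), Y.map (MulAut.conj (k : H)).toMonoidHom) ∧ (∀ C : Subgroup H, C.Normal → ¬ Cfsg.pResidual p H ≤ C → (Nat.card ↥C).Coprime p) ∧ Cfsg.IsPIrreducible p H := by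
  have hp' : p.Prime := Fact.out
  obtain ⟨K, hK⟩ : ∃ K : Subgroup H, K = Cfsg.pResidual p H := ⟨_, rfl⟩
  rw [← hK] at hq ⊢
  have hKn : K.Normal := hK ▸ pResidual_normal' p H
  have hKcomp : Cfsg.IsComponent K := ⟨hKn.isSubnormal, hq⟩
  have hKperf : ⁅K, K⁆ = K := Cfsg.Agent.Helper10.comp_perfect hKcomp
  have hmemK : ∀ x : H, (orderOf x).Coprime p → x ∈ K := fun x hx => hK ▸ mem_pResidual_of_coprime hx
  have hdich : ∀ N : Subgroup H, N ≤ K → K ≤ normalizer (N : Set H) →
      K ≤ N ∨ N ≤ centralizer (K : Set H) := by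
    intro N hNK hKN
    have hn : (N.subgroupOf K).Normal := (Subgroup.normal_subgroupOf_iff_le_normalizer hNK).mpr hKN
    rcases Cfsg.Agent.Helper10.qs_normal hq _ hn with h | h
    · left; exact Subgroup.subgroupOf_eq_top.mp h
    · right
      intro n hn'
      rw [Subgroup.mem_centralizer_iff]
      intro k hk
      have h1 : (⟨n, hNK hn'⟩ : K) ∈ N.subgroupOf K := Subgroup.mem_subgroupOf.mpr hn'
      have h2 := Subgroup.mem_center_iff.mp (h h1) ⟨k, hk⟩
      exact congrArg Subtype.val h2
  have h3 : ∀ X : Subgroup H, ⁅⁅X, K⁆, K⁆ = ⊥ → ⁅K, X⁆ = ⊥ := by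
    intro X h
    have h' : ⁅⁅K, X⁆, K⁆ = ⊥ := by rw [Subgroup.commutator_comm K X]; exact h
    have := Subgroup.commutator_commutator_eq_bot_of_rotate h' h
    rwa [hKperf] at this
  obtain ⟨C, hC⟩ : ∃ C : Subgroup H, C = centralizer (K : Set H) := ⟨_, rfl⟩
  have hCn : C.Normal := hC ▸ Subgroup.normal_centralizer
  have hCnil : Group.IsNilpotent ↥C := by
    haveI : Group.IsNilpotent (H ⧸ K) := by
      have hq' : IsPGroup p (H ⧸ K) := by
        subst hK
        exact isPGroup_quotient_pResidual p H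
      exact hq'.isNilpotent
    apply Subgroup.isNilpotent_of_ker_le_center ((QuotientGroup.mk' K).comp C.subtype)
    intro x hx
    rw [MonoidHom.mem_ker] at hx
    have hxK : (x : H) ∈ K := by
      have : (QuotientGroup.mk' K) (x : H) = 1 := hx
      rwa [QuotientGroup.mk'_apply, QuotientGroup.eq_one_iff] at this
    rw [Subgroup.mem_center_iff]
    intro y
    apply Subtype.ext
    have hy : (y : H) ∈ centralizer (K : Set H) := hC ▸ y.2
    have := Subgroup.mem_centralizer_iff.mp hy x hxK
    exact this.symm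
  have hCcop : (Nat.card C).Coprime p := card_coprime_of_nilpotent_normal hO C hCnil
  have hCK : C ≤ K := by
    intro x hx
    apply hmemK
    exact Nat.Coprime.coprime_dvd_left (Subgroup.orderOf_dvd_natCard C hx) hCcop
  have hCsolv : Group.IsSolvable ↥C := inferInstance
  have hF : K = Cfsg.generalizedFittingSubgroup H := by
    apply le_antisymm
    · exact (Cfsg.Agent.Helper10.comp_le_layer hKcomp).trans le_sup_left
    · apply sup_le
      · apply sSup_le
        intro J hJ
        rcases Cfsg.Agent.Helper10.comp_eq_or_comm hJ hKcomp with h | h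
        · exact h.le
        · exfalso
          have hJC : J ≤ C := by
            rw [hC]; exact Subgroup.commutator_eq_bot_iff_le_centralizer.mp h
          exact Cfsg.Agent.Helper10.comp_not_le_solvable hJ hCsolv hJC
      · have h1 := Cfsg.Agent.Helper10.layer_comm_fitting H
        have h2 : ⁅K, Cfsg.fittingSubgroup H⁆ = ⊥ := by
          rw [eq_bot_iff, ← h1]
          exact Subgroup.commutator_mono (Cfsg.Agent.Helper10.comp_le_layer hKcomp) le_rfl
        rw [Subgroup.commutator_comm, Subgroup.commutator_eq_bot_iff_le_centralizer] at h2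
        exact (hC ▸ h2 : Cfsg.fittingSubgroup H ≤ C).trans hCK
  have hY : ∀ Y : Subgroup H, IsPGroup p Y → Y ≠ ⊥ → ⁅K, Y⁆ = K := by
    intro Y hYp hYne
    have hle : ⁅K, Y⁆ ≤ K := Subgroup.commutator_le_left K Y
    rcases hdich ⁅K, Y⁆ hle (le_normalizer_commutator_left K Y) with h | h
    · exact le_antisymm hle h
    · exfalso
      have h1 : ⁅⁅Y, K⁆, K⁆ = ⊥ := by
        rw [Subgroup.commutator_comm Y K, Subgroup.commutator_eq_bot_iff_le_centralizer]; exact h
      have h2 := h3 Y h1
      rw [Subgroup.commutator_comm, Subgroup.commutator_eq_bot_iff_le_centralizer] at h2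
      apply hYne
      rw [eq_bot_iff]
      intro y hy
      have hyC : y ∈ C := hC ▸ h2 hy
      obtain ⟨k, hk⟩ := hYp ⟨y, hy⟩
      have hk' : y ^ p ^ k = 1 := by simpa [Subtype.ext_iff] using hk
      exact Subgroup.mem_bot.mpr
        (eq_one_of_pow_eq_one_of_coprime ⟨k, hk'⟩ (pow_card_eq_one_of_mem hyC) hCcop)
  have hpart3 : ∀ N : Subgroup H, N.Normal → ¬ K ≤ N → (Nat.card N).Coprime p := by
    intro N hN hKN
    have h1 : N ⊓ K ≤ centralizer (K : Set H) := by
      have hNK : (N ⊓ K).Normal := Subgroup.normal_inf_normal N K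
      rcases hdich (N ⊓ K) inf_le_right (le_normalizer_of_normal K (N ⊓ K)) with h | h
      · exact absurd (h.trans inf_le_left) hKN
      · exact h
    have h2 : ⁅⁅N, K⁆, K⁆ = ⊥ := by
      rw [Subgroup.commutator_eq_bot_iff_le_centralizer]
      exact (Subgroup.commutator_le_inf N K).trans h1
    have h4 := h3 N h2
    rw [Subgroup.commutator_comm, Subgroup.commutator_eq_bot_iff_le_centralizer] at h4
    exact Nat.Coprime.coprime_dvd_left (Subgroup.card_dvd_of_le (hC ▸ h4 : N ≤ C)) hCcop
  refine ⟨hF, ?_, hpart3, ?_, ?_⟩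
  · intro Y hYp hYne
    refine ⟨hY Y hYp hYne, ?_⟩
    calc K = ⁅K, Y⁆ := (hY Y hYp hYne).symm
      _ ≤ ⨆ k : ↥K, Y.map (MulAut.conj (k : H)).toMonoidHom := by
        rw [Subgroup.commutator_le]
        intro k hk y hy
        have h1 : k * y * k⁻¹ ∈ ⨆ k : ↥K, Y.map (MulAut.conj (k : H)).toMonoidHom :=
          Subgroup.mem_iSup_of_mem ⟨k, hk⟩ ⟨y, hy, rfl⟩
        have h2 : y⁻¹ ∈ ⨆ k : ↥K, Y.map (MulAut.conj (k : H)).toMonoidHom :=
          Subgroup.mem_iSup_of_mem (1 : K) ⟨y⁻¹, Y.inv_mem hy, by simp⟩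
        exact Subgroup.mul_mem _ h1 h2
  · intro hcl
    obtain ⟨P⟩ : Nonempty (Sylow p H) := inferInstance
    have h1 : (P : Subgroup H) ≤ Cfsg.pCore p H := le_pCore (hcl P) P.isPGroup'
    rw [hO, le_bot_iff] at h1
    exact P.ne_bot_of_dvd_card hp h1
  · intro N hN hncl
    by_contra hKN
    have hcop := hpart3 N hN (by rw [hK]; exact hKN)
    apply hncl
    intro P
    have hP : (P : Subgroup ↥N) = ⊥ := by
      by_contra hne
      have hd : p ∣ Nat.card (P : Subgroup ↥N) := dvd_card_of_isPGroup_ne_bot P.isPGroup' hne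
      have hd2 : p ∣ Nat.card N := hd.trans (Subgroup.card_subgroup_dvd_card _)
      rw [Nat.coprime_comm, hp'.coprime_iff_not_dvd] at hcop
      exact hcop hd2
    rw [hP]
    infer_instance

end Cfsg.Agent.S2815
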