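import Cfsg.Statements.S2816
import Cfsg.Agent.Helper17.FStarAct
-- import your own Cfsg.Agent.* helpers here

set_option autoImplicit false
open Cfsg

namespace Cfsg.Agent.S2816

open Cfsg.Agent.Helper17
open scoped commutatorElement
open Subgroup


/-- Let H be a finite group and p a prime with O_p(H) = 1, and Y a p-subgroup of H. Then for every subnormal subgroup K of H containing Y, [F*(H), Y] = [F*(K), Y] = [F*(K), Y, Y]; and if Y₀ ≤ Y with [F*(H), Y, Y₀] = 1 then Y₀ = 1 (in particular [F*(H), Y] = 1 forces Y = 1). -/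
theorem result {H : Type*} [Group H] [Finite H] {p : ℕ} [Fact p.Prime] (hO : Cfsg.pCore p H = ⊥) (Y : Subgroup H) (hY : IsPGroup p ↥Y) : (∀ K : Subgroup H, K.IsSubnormal → Y ≤ K → ⁅Cfsg.generalizedFittingSubgroup H, Y⁆ = ⁅(Cfsg.generalizedFittingSubgroup ↥K).map K.subtype, Y⁆ ∧ ⁅(Cfsg.generalizedFittingSubgroup ↥K).map K.subtype, Y⁆ = ⁅⁅(Cfsg.generalizedFittingSubgroup ↥K).map K.subtype, Y⁆, Y⁆) ∧ (∀ Y₀ : Subgroup H, Y₀ ≤ Y → ⁅⁅Cfsg.generalizedFittingSubgroup H, Y⁆, Y₀⁆ = ⊥ → Y₀ = ⊥) := by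
  refine ⟨fun K hK hYK => fstar_commutator_subnormal hO Y hY K hK hYK, ?_⟩
  intro Y₀ hY₀ hc
  have hY₀p : IsPGroup p ↥Y₀ := hY.to_le hY₀
  apply eq_bot_of_centralizes_gfitting hO Y₀ hY₀p
  have hFn : (Cfsg.generalizedFittingSubgroup H).Normal := Cfsg.Agent.Helper10.gfitting_normal H
  have hYF : Y₀ ≤ normalizer ((Cfsg.generalizedFittingSubgroup H : Subgroup H) : Set H) :=
    le_normalizer_of_normal _ _
  have hd := fstar_subnormal_decomp_type hO Y₀ hY₀p _ le_rfl hFn.isSubnormal hYF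
  have hs := commutator_stable_of_decomp hYF hd
  rw [hs, eq_bot_iff, ← hc]
  exact Subgroup.commutator_mono (Subgroup.commutator_mono le_rfl hY₀) le_rfl

end Cfsg.Agent.S2816
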