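import Cfsg.Statements.S2818
import Cfsg.Agent.Helper17.Frattini
-- import your own Cfsg.Agent.* helpers here

set_option autoImplicit false
open Cfsg

namespace Cfsg.Agent.S2818

open Cfsg.Agent.Helper17
open scoped commutatorElement
open Subgroup


/-- Let P be a finite p-subgroup of a group G and H a subgroup of N_G(P) with [P, H] ≤ Ω₁(Z(P)) (the elements of order dividing p in the centre of P). Then H centralizes the Frattini subgroup of P. -/
theorem result {G : Type*} [Group G] [Finite G] {p : ℕ} [Fact p.Prime] (P : Subgroup G) (hP : IsPGroup p ↥P) (H : Subgroup G) (hH : H ≤ Subgroup.normalizer (P : Set G)) (h : ⁅P, H⁆ ≤ Cfsg.omegaOne p (P ⊓ Subgroup.centralizer (P : Set G))) : ⁅(frattini ↥P).map P.subtype, H⁆ = ⊥ := by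
  have hΩ := omegaOne_center_mem (p := p) P
  rw [eq_bot_iff, Subgroup.commutator_le]
  intro a ha h' hh'
  rw [Subgroup.mem_bot]
  obtain ⟨a', ha', rfl⟩ := ha
  have hc : ∀ x ∈ P, ⁅x, h'⁆ ∈ Cfsg.omegaOne p (P ⊓ centralizer (P : Set G)) :=
    fun x hx => h (Subgroup.commutator_mem_commutator hx hh')
  let φ : ↥P →* G := MonoidHom.mk' (fun x => ⁅(x : G), h'⁆) (by
    intro x y
    show ⁅((x * y : ↥P) : G), h'⁆ = ⁅(x : G), h'⁆ * ⁅(y : G), h'⁆
    have hy := (hΩ _ (hc y y.2)).1.2
    have hcomm : (x : G) * ⁅(y : G), h'⁆ = ⁅(y : G), h'⁆ * x :=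
      (Subgroup.mem_centralizer_iff.mp hy) x x.2
    have e1 : ⁅(x : G) * y, h'⁆ = (x * ⁅(y : G), h'⁆ * (x : G)⁻¹) * ⁅(x : G), h'⁆ := by
      simp only [commutatorElement_def]; group
    rw [Subgroup.coe_mul, e1, hcomm, mul_inv_cancel_right]
    exact ((Subgroup.mem_centralizer_iff.mp hy) _ (hΩ _ (hc x x.2)).1.1).symm)
  have hker : frattini ↥P ≤ φ.ker := by
    apply frattini_le_of_elementary (p := p)
    · intro x y
      rw [MonoidHom.mem_ker, map_commutatorElement, commutatorElement_eq_one_iff_commute]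
      have hy := (hΩ _ (hc y y.2)).1.2
      exact ((Subgroup.mem_centralizer_iff.mp hy) _ (hΩ _ (hc x x.2)).1.1)
    · intro x
      rw [MonoidHom.mem_ker, map_pow]
      exact (hΩ _ (hc x x.2)).2
  exact MonoidHom.mem_ker.mp (hker ha')

end Cfsg.Agent.S2818
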