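import Cfsg.Statements.S2819
import Cfsg.Agent.Helper17.CharSub
-- import your own Cfsg.Agent.* helpers here

set_option autoImplicit false
open Cfsg

namespace Cfsg.Agent.S2819

open Cfsg.Agent.Helper17
open scoped commutatorElement
open Subgroup

lemma aux_id {G : Type*} [Group G] (x w c cn : G) :
    (x * w * x⁻¹ * c) * (cn * c)⁻¹ = (x * (w * cn⁻¹) * x⁻¹) * (x * cn * x⁻¹ * cn⁻¹) := by group

lemma conj_eq_of_mem_centralizer {G : Type*} [Group G] {D : Subgroup G} {a d : G}
    (ha : a ∈ centralizer (D : Set G)) (hd : d ∈ D) : a * d * a⁻¹ = d := by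
  have := (Subgroup.mem_centralizer_iff.mp ha) d hd
  rw [← this]; group


/-- Let P be a finite p-subgroup of a group G, H a subgroup of N_G(P), and Y a subgroup of H centralizing the derived subgroup P' such that [P, Y] is elementary abelian. Then O^p(⟨Y^H⟩), the subgroup of the normal closure of Y in H generated by its elements of order prime to p, centralizes the Frattini subgroup of P. -/
theorem result {G : Type*} [Group G] [Finite G] {p : ℕ} [Fact p.Prime] (P : Subgroup G) (hP : IsPGroup p ↥P) (H : Subgroup G) (hH : H ≤ Subgroup.normalizer (P : Set G)) (Y : Subgroup G) (hYH : Y ≤ H) (hYc : Y ≤ Subgroup.centralizer ((⁅P, P⁆ : Subgroup G) : Set G)) (hel : Cfsg.IsElementaryAbelian p ⁅P, Y⁆) (NY : Subgroup G) (hNY : NY = (Subgroup.normalClosure ((Y.subgroupOf H : Subgroup ↥H) : Set ↥H)).map H.subtype) : (Cfsg.pResidual p ↥NY).map NY.subtype ≤ Subgroup.centralizer (((frattini ↥P).map P.subtype : Subgroup G) : Set G) := by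
  classical
  obtain ⟨D, hD⟩ : ∃ D : Subgroup G, D = ⁅P, P⁆ := ⟨_, rfl⟩
  obtain ⟨Φ, hΦ⟩ : ∃ Φ : Subgroup G, Φ = (frattini ↥P).map P.subtype := ⟨_, rfl⟩
  rw [← hΦ]
  rw [← hD] at hYc
  have hDP : D ≤ P := by
    rw [hD, Subgroup.commutator_le]
    intro a ha b hb
    exact mul_mem (mul_mem (mul_mem ha hb) (inv_mem ha)) (inv_mem hb)
  have hDn : ∀ g ∈ normalizer (P : Set G), ∀ d ∈ D, g * d * g⁻¹ ∈ D := by
    intro g hg d hd
    have h1 : cj g D = D := by
      rw [hD, cj_commutator, cj_eq_self_of_mem_normalizer hg]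
    rw [← h1]; exact conj_mem_cj hd
  have hΦn : ∀ g ∈ normalizer (P : Set G), ∀ x ∈ Φ, g * x * g⁻¹ ∈ Φ := by
    intro g hg x hx
    rw [hΦ] at hx ⊢
    exact char_conj_mem' P (frattini ↥P) hg hx
  have hPn : P ≤ normalizer (P : Set G) := Subgroup.le_normalizer
  have hcD : ∀ a ∈ P, ∀ b ∈ P, ⁅a, b⁆ ∈ D := by
    intro a ha b hb; rw [hD]; exact Subgroup.commutator_mem_commutator ha hb
  have hcP : ∀ x ∈ P, ∀ y ∈ Y, ⁅x, y⁆ ∈ P := by
    intro x hx y hy
    have h1 : y * x⁻¹ * y⁻¹ ∈ P :=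
      (Subgroup.mem_normalizer_iff.mp (hH (hYH hy)) x⁻¹).mp (inv_mem hx)
    have e : ⁅x, y⁆ = x * (y * x⁻¹ * y⁻¹) := by rw [commutatorElement_def]; group
    rw [e]; exact mul_mem hx h1
  have hkey : ∀ y ∈ Y, ∀ x ∈ Φ, ⁅x, y⁆ ∈ D := by
    intro y hy
    have hyD : ∀ d ∈ D, ⁅d, y⁆ = 1 := by
      intro d hd
      have := (Subgroup.mem_centralizer_iff.mp (hYc hy)) d hd
      rw [commutatorElement_def, this]; group
    let S : Subgroup ↥P :=
      { carrier := {x : ↥P | ⁅(x : G), y⁆ ∈ D}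
        one_mem' := by
          show ⁅((1 : ↥P) : G), y⁆ ∈ D
          rw [Subgroup.coe_one, commutatorElement_one_left]; exact one_mem D
        mul_mem' := by
          intro a b ha hb
          show ⁅((a * b : ↥P) : G), y⁆ ∈ D
          rw [Subgroup.coe_mul, commutatorElement_mul_left']
          exact mul_mem (hDn _ (hPn a.2) _ hb) ha
        inv_mem' := by
          intro a ha
          show ⁅((a⁻¹ : ↥P) : G), y⁆ ∈ D
          rw [Subgroup.coe_inv, commutatorElement_inv_left']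
          exact hDn _ (hPn (inv_mem a.2)) _ (inv_mem ha) }
    have hS : frattini ↥P ≤ S := by
      apply frattini_le_of_elementary (p := p)
      · intro u v
        show ⁅((⁅u, v⁆ : ↥P) : G), y⁆ ∈ D
        have : ((⁅u, v⁆ : ↥P) : G) = ⁅(u : G), (v : G)⁆ := by
          simp [commutatorElement_def]
        rw [this, hyD _ (hcD _ u.2 _ v.2)]; exact one_mem D
      · intro x
        show ⁅((x ^ p : ↥P) : G), y⁆ ∈ D
        rw [Subgroup.coe_pow]
        have hc : ⁅(x : G), y⁆ ^ p = 1 := by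
          apply hel.2
          exact Subgroup.commutator_mem_commutator x.2 hy
        have hind : ∀ n : ℕ, ⁅(x : G) ^ n, y⁆ * (⁅(x : G), y⁆ ^ n)⁻¹ ∈ D := by
          intro n
          induction n with
          | zero => simp
          | succ n ih =>
            have e : ⁅(x : G) ^ (n + 1), y⁆ * (⁅(x : G), y⁆ ^ (n + 1))⁻¹ =
                ((x : G) * (⁅(x : G) ^ n, y⁆ * (⁅(x : G), y⁆ ^ n)⁻¹) * (x : G)⁻¹) *
                  ⁅(x : G), ⁅(x : G), y⁆ ^ n⁆ := by
              rw [pow_succ' (x : G) n, commutatorElement_mul_left', pow_succ,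
                commutatorElement_def (x : G) (⁅(x : G), y⁆ ^ n)]
              exact aux_id _ _ _ _
            rw [e]
            exact mul_mem (hDn _ (hPn x.2) _ ih) (hcD _ x.2 _ (pow_mem (hcP _ x.2 _ hy) n))
        have := hind p
        rwa [hc, inv_one, mul_one] at this
    intro x hx
    rw [hΦ] at hx
    obtain ⟨x', hx', rfl⟩ := hx
    exact hS hx'
  let B : Subgroup G :=
    { carrier := {a : G | a ∈ H ∧ a ∈ centralizer (D : Set G) ∧ ∀ x ∈ Φ, ⁅x, a⁆ ∈ D}
      one_mem' := ⟨one_mem H, one_mem _, fun x _ => by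
        rw [commutatorElement_one_right]; exact one_mem D⟩
      mul_mem' := by
        rintro a b ⟨ha1, ha2, ha3⟩ ⟨hb1, hb2, hb3⟩
        refine ⟨mul_mem ha1 hb1, mul_mem ha2 hb2, fun x hx => ?_⟩
        rw [commutatorElement_mul_right', conj_eq_of_mem_centralizer ha2 (hb3 x hx)]
        exact mul_mem (ha3 x hx) (hb3 x hx)
      inv_mem' := by
        rintro a ⟨ha1, ha2, ha3⟩
        refine ⟨inv_mem ha1, inv_mem ha2, fun x hx => ?_⟩
        rw [commutatorElement_inv_right',
          conj_eq_of_mem_centralizer (inv_mem ha2) (inv_mem (ha3 x hx))]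
        exact inv_mem (ha3 x hx) }
  have hBn : ∀ h ∈ H, ∀ a ∈ B, h * a * h⁻¹ ∈ B := by
    intro h hh a ha
    obtain ⟨ha1, ha2, ha3⟩ := ha
    have hhN := hH hh
    have hhN' := inv_mem hhN
    refine ⟨mul_mem (mul_mem hh ha1) (inv_mem hh), ?_, ?_⟩
    · rw [Subgroup.mem_centralizer_iff]
      intro d hd
      have hd' : h⁻¹ * d * h⁻¹⁻¹ ∈ D := hDn _ hhN' d hd
      have := (Subgroup.mem_centralizer_iff.mp ha2) _ hd'
      have e1 : d * (h * a * h⁻¹) = h * ((h⁻¹ * d * h⁻¹⁻¹) * a) * h⁻¹ := by group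
      have e2 : h * a * h⁻¹ * d = h * (a * (h⁻¹ * d * h⁻¹⁻¹)) * h⁻¹ := by group
      rw [e1, e2, this]
    · intro x hx
      have hx' : h⁻¹ * x * h⁻¹⁻¹ ∈ Φ := hΦn _ hhN' x hx
      have := hDn _ hhN _ (ha3 _ hx')
      have e : ⁅x, h * a * h⁻¹⁆ = h * ⁅h⁻¹ * x * h⁻¹⁻¹, a⁆ * h⁻¹ := by
        simp only [commutatorElement_def]; group
      rw [e]; exact this
  have hYB : Y ≤ B := fun y hy => ⟨hYH hy, hYc hy, hkey y hy⟩
  have hNYB : NY ≤ B := by
    rw [hNY, Subgroup.map_le_iff_le_comap]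
    haveI hn : (B.comap H.subtype).Normal := by
      constructor
      intro b hb h
      show ((h * b * h⁻¹ : ↥H) : G) ∈ B
      exact hBn _ h.2 _ hb
    apply Subgroup.normalClosure_le_normal
    intro y hy
    exact hYB (Subgroup.mem_subgroupOf.mp hy)
  have hpow : ∀ a ∈ B, a ^ Nat.card P ∈ centralizer (Φ : Set G) := by
    intro a ha
    obtain ⟨ha1, ha2, ha3⟩ := ha
    rw [Subgroup.mem_centralizer_iff]
    intro x hx
    have hc : ⁅a, x⁆ ∈ D := by
      rw [← commutatorElement_inv]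
      exact inv_mem (ha3 x hx)
    have hac : ⁅a, x⁆ * a = a * ⁅a, x⁆ := (Subgroup.mem_centralizer_iff.mp ha2) _ hc
    have hind : ∀ k : ℕ, a ^ k * x = ⁅a, x⁆ ^ k * x * a ^ k := by
      intro k
      induction k with
      | zero => simp
      | succ k ih =>
        have h1 : a * ⁅a, x⁆ ^ k = ⁅a, x⁆ ^ k * a := by
          have : Commute a (⁅a, x⁆) := hac.symm
          exact (this.pow_right k).eq
        have h2 : a * x = ⁅a, x⁆ * x * a := by rw [commutatorElement_def]; group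
        calc a ^ (k + 1) * x = a * (a ^ k * x) := by rw [pow_succ', mul_assoc]
          _ = a * (⁅a, x⁆ ^ k * x * a ^ k) := by rw [ih]
          _ = (a * ⁅a, x⁆ ^ k) * x * a ^ k := by simp only [mul_assoc]
          _ = ⁅a, x⁆ ^ k * (a * x) * a ^ k := by rw [h1]; simp only [mul_assoc]
          _ = ⁅a, x⁆ ^ k * (⁅a, x⁆ * x * a) * a ^ k := by rw [h2]
          _ = ⁅a, x⁆ ^ (k + 1) * x * a ^ (k + 1) := by
            rw [pow_succ, pow_succ']; simp only [mul_assoc]
    have h1 := hind (Nat.card P)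
    rw [pow_card_eq_one_of_mem (hDP hc), one_mul] at h1
    exact h1.symm
  rw [map_pResidual_eq, Subgroup.closure_le]
  rintro g ⟨hgN, hgc⟩
  have hgB := hNYB hgN
  have h1 := hpow g hgB
  obtain ⟨m, hm⟩ := hP.exists_card_eq
  have hcop : (Nat.card P).Coprime (orderOf g) := by
    rw [hm]; exact (Nat.Coprime.pow_right m hgc).symm
  obtain ⟨c, hc⟩ := exists_pow_eq_self_of_coprime hcop
  have : g ∈ centralizer (Φ : Set G) := by
    rw [← hc]; exact pow_mem h1 c
  exact this

end Cfsg.Agent.S2819
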