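import Cfsg.Statements.S2820
import Cfsg.Agent.Helper17.PReduced
-- import your own Cfsg.Agent.* helpers here

set_option autoImplicit false
open Cfsg

namespace Cfsg.Agent.S2820

open Cfsg.Agent.Helper17
open scoped commutatorElement
open Subgroup


/-- Let A and B be subnormal subgroups of the finite group H with A a p-group and B = O^p(B) (B generated by its elements of order prime to p). Then A normalizes B and B = O^p(AB), the subgroup of ⟨A, B⟩ generated by its elements of order prime to p. -/
theorem result {H : Type*} [Group H] [Finite H] {p : ℕ} [Fact p.Prime] (A B : Subgroup H) (hA : A.IsSubnormal) (hB : B.IsSubnormal) (hAp : IsPGroup p ↥A) (hBres : (Cfsg.pResidual p ↥B).map B.subtype = B) : A ≤ Subgroup.normalizer (B : Set H) ∧ (Cfsg.pResidual p ↥(A ⊔ B)).map (A ⊔ B).subtype = B := by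
  have hAD : A ≤ Cfsg.pCore p H :=
    le_pCore_of_normal_in_subnormal hA A le_rfl Subgroup.le_normalizer hAp
  have hDn : (Cfsg.pCore p H).Normal := Subgroup.sSup_normal _ (fun _ h => h.1)
  have hDp := pCore_isPGroup p H
  have key := mem_of_coprime_of_mem_sup_subnormal (Cfsg.pCore p H) hDp hB
  have hBgen : B = Subgroup.closure {x : H | x ∈ B ∧ (orderOf x).Coprime p} := by
    rw [← map_pResidual_eq]; exact hBres.symm
  constructor
  · intro a ha
    apply mem_normalizer_of_cj_le
    rw [Subgroup.map_le_iff_le_comap]
    conv_lhs => rw [hBgen]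
    rw [Subgroup.closure_le]
    rintro x ⟨hxB, hxc⟩
    show a * x * a⁻¹ ∈ B
    apply key
    · have e : a * x * a⁻¹ = x * (x⁻¹ * a * x * a⁻¹) := by group
      rw [e]
      refine mul_mem (Subgroup.mem_sup_left hxB) (Subgroup.mem_sup_right ?_)
      have h1 : x⁻¹ * a * x ∈ Cfsg.pCore p H := by
        have := hDn.conj_mem a (hAD ha) x⁻¹
        simpa using this
      exact mul_mem h1 (inv_mem (hAD ha))
    · rw [orderOf_conj_eq]; exact hxc
  · rw [map_pResidual_eq]
    apply le_antisymm
    · rw [Subgroup.closure_le]
      rintro x ⟨hx, hxc⟩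
      exact key x (sup_le (hAD.trans le_sup_right) le_sup_left hx) hxc
    · conv_lhs => rw [hBgen]
      apply Subgroup.closure_mono
      rintro x ⟨hx, hxc⟩
      exact ⟨Subgroup.mem_sup_right hx, hxc⟩

end Cfsg.Agent.S2820
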