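import Cfsg.Statements.S2825
import Cfsg.Agent.Helper17.YL3
-- import your own Cfsg.Agent.* helpers here

set_option autoImplicit false
open Cfsg

namespace Cfsg.Agent.S2825

open Cfsg.Agent.Helper17
open scoped commutatorElement
open Subgroup


/-- Let L be a subnormal subgroup of the finite group H, p a prime, Y_H and Y_L the largest p-reduced normal subgroups. Then Y_H ∩ L = Y_H ∩ Y_L and this subgroup is a p-reduced normal subgroup of L; C_L(Y_L) = C_L(Y_H) = C_L(Y_H ∩ L); and if O^p(H) ≤ L, then [Y_L, L] = 1 if and only if [Y_H, H] = 1. -/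
theorem result {H : Type*} [Group H] [Finite H] {p : ℕ} [Fact p.Prime] (L : Subgroup H) (hL : L.IsSubnormal) : Cfsg.largestPReduced p H ⊓ L = Cfsg.largestPReduced p H ⊓ (Cfsg.largestPReducedOf p L) ∧ Cfsg.IsPReducedNormal p ((Cfsg.largestPReduced p H ⊓ L).subgroupOf L) ∧ L ⊓ Subgroup.centralizer ((Cfsg.largestPReducedOf p L : Subgroup H) : Set H) = L ⊓ Subgroup.centralizer (Cfsg.largestPReduced p H : Set H) ∧ L ⊓ Subgroup.centralizer (Cfsg.largestPReduced p H : Set H) = L ⊓ Subgroup.centralizer ((Cfsg.largestPReduced p H ⊓ L : Subgroup H) : Set H) ∧ (Cfsg.pResidual p H ≤ L → (⁅(Cfsg.largestPReducedOf p L), L⁆ = ⊥ ↔ ⁅Cfsg.largestPReduced p H, (⊤ : Subgroup H)⁆ = ⊥)) := by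
  classical
  have h3b := inf_centralizer_largest_le_of_subnormal (p := p) hL
  have hYH := largestPReduced_isPReducedNormal (G := H) p
  obtain ⟨hYn, hYe, hYr⟩ := (isPReducedNormal_iff _).mp hYH
  obtain ⟨Y, hY⟩ : ∃ Y : Subgroup H, Y = Cfsg.largestPReduced p H := ⟨_, rfl⟩
  rw [← hY] at hYH hYn hYe hYr h3b ⊢
  have hYp := isPGroup_of_isElementaryAbelian hYe
  obtain ⟨hLYL, hYLe, hYLr⟩ := largestPReducedOf_spec p L
  obtain ⟨YL, hYL⟩ : ∃ YL : Subgroup H, YL = Cfsg.largestPReducedOf p L := ⟨_, rfl⟩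
  have hYLL : YL ≤ L := hYL ▸ largestPReducedOf_le p L
  rw [← hYL] at hLYL hYLe hYLr h3b ⊢
  have hLW : L ≤ normalizer ((Y ⊓ L : Subgroup H) : Set H) :=
    le_normalizer_inf' (le_normalizer_of_normal L Y) Subgroup.le_normalizer
  have claimA : ∀ D : Subgroup H, D ≤ L → L ≤ normalizer (D : Set H) →
      (∀ d ∈ D, ∃ k : ℕ, d ^ p ^ k ∈ centralizer ((Y ⊓ L : Subgroup H) : Set H)) →
        D ≤ centralizer (Y : Set H) := by
    intro D hDL hLD hD
    have hO := commutator_pResidual_le hYn hYp hL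
    have hp' : ∀ x ∈ D, (orderOf x).Coprime p → x ∈ centralizer (Y : Set H) := by
      intro x hx hc
      have hxO : x ∈ (Cfsg.pResidual p ↥L).map L.subtype := mem_map_pResidual (hDL hx) hc
      have hxW : x ∈ centralizer ((Y ⊓ L : Subgroup H) : Set H) := by
        obtain ⟨k, hk⟩ := hD x hx
        obtain ⟨c, hc'⟩ := exists_pow_eq_self_of_coprime ((Nat.Coprime.pow_right k hc).symm)
        rw [← hc']; exact pow_mem hk c
      have hvx : ∀ v ∈ Y, ⁅v, x⁆ ∈ Y ⊓ L := by
        intro v hv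
        have h1 : ⁅v, x⁆ ∈ ⁅Y, (Cfsg.pResidual p ↥L).map L.subtype⁆ :=
          Subgroup.commutator_mem_commutator hv hxO
        exact ⟨(Subgroup.commutator_le_left Y _) h1, (map_pResidual_le p L) (hO h1)⟩
      apply mem_centralizer_of_quadratic_coprime hYp hc
      · intro v hv; exact (hvx v hv).1
      · intro v hv; exact Subgroup.mem_centralizer_iff.mp hxW _ (hvx v hv)
    have hD' : ∀ d ∈ D, ∃ k : ℕ, d ^ p ^ k ∈ centralizer (Y : Set H) := by
      intro d hd
      obtain ⟨a, ha⟩ := exists_pow_coprime_order p d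
      exact ⟨a, hp' _ (pow_mem hd _) ha⟩
    exact pr_subnormal hYH hL hDL hLD hD'
  have hCYW : centralizer (Y : Set H) ≤ centralizer ((Y ⊓ L : Subgroup H) : Set H) :=
    Subgroup.centralizer_le (SetLike.coe_subset_coe.mpr inf_le_left)
  have h2 : Cfsg.IsPReducedNormal p ((Y ⊓ L).subgroupOf L) := by
    rw [isPReducedNormal_subgroupOf_iff inf_le_right]
    exact ⟨hLW, isElementaryAbelian_of_le hYe inf_le_left,
      fun D hDL hLD hD => (claimA D hDL hLD hD).trans hCYW⟩
  have hWYL : Y ⊓ L ≤ YL := hYL ▸ le_largestPReducedOf inf_le_right h2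
  have h1 : Y ⊓ L = Y ⊓ YL := le_antisymm (le_inf inf_le_left hWYL) (inf_le_inf_left _ hYLL)
  have h4 : L ⊓ centralizer (Y : Set H) = L ⊓ centralizer ((Y ⊓ L : Subgroup H) : Set H) := by
    apply le_antisymm (inf_le_inf_left _ hCYW)
    refine le_inf inf_le_left ?_
    apply claimA _ inf_le_left (le_normalizer_inf' Subgroup.le_normalizer
      (hLW.trans (normalizer_le_normalizer_centralizer _)))
    intro d hd
    exact ⟨0, by rw [pow_zero, pow_one]; exact hd.2⟩
  have h3a : L ⊓ centralizer (YL : Set H) ≤ L ⊓ centralizer (Y : Set H) := by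
    rw [h4]
    exact inf_le_inf_left _ (Subgroup.centralizer_le (SetLike.coe_subset_coe.mpr hWYL))
  refine ⟨h1, h2, le_antisymm h3a (le_inf inf_le_left h3b), h4, ?_⟩
  intro hOL
  constructor
  · intro h
    have hL1 : L ≤ centralizer (YL : Set H) :=
      Subgroup.le_centralizer_iff.mp (Subgroup.commutator_eq_bot_iff_le_centralizer.mp h)
    have hL2 : L ≤ centralizer (Y : Set H) := fun l hl => (h3a ⟨hl, hL1 hl⟩).2
    have hall : (⊤ : Subgroup H) ≤ centralizer (Y : Set H) := by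
      apply hYr ⊤ Subgroup.normal_top
      intro d _
      obtain ⟨a, ha⟩ := exists_pow_coprime_order p d
      exact ⟨a, hL2 (hOL (mem_pResidual_of_coprime ha))⟩
    exact Subgroup.commutator_eq_bot_iff_le_centralizer.mpr (Subgroup.le_centralizer_iff.mp hall)
  · intro h
    have hall : (⊤ : Subgroup H) ≤ centralizer (Y : Set H) :=
      Subgroup.le_centralizer_iff.mp (Subgroup.commutator_eq_bot_iff_le_centralizer.mp h)
    have hL1 : L ≤ centralizer (YL : Set H) := fun l hl => h3b ⟨hl, hall (Subgroup.mem_top l)⟩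
    exact Subgroup.commutator_eq_bot_iff_le_centralizer.mpr (Subgroup.le_centralizer_iff.mp hL1)

end Cfsg.Agent.S2825
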