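import Cfsg.Statements.S2826
import Cfsg.Agent.Helper17.Norm
-- import your own Cfsg.Agent.* helpers here

set_option autoImplicit false
open Cfsg

namespace Cfsg.Agent.S2826

open Cfsg.Agent.Helper17
open scoped commutatorElement
open Subgroup


/-- Let H be a finite group of characteristic p, T a Sylow p-subgroup, and V a normal elementary abelian p-subgroup of H containing Ω₁(Z(T)). Then C_H(Ω₁(Z(T))) = C_H([V, O^p(H)] ∩ Ω₁(Z(T))), O^p(H) being generated by the elements of order prime to p. -/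
theorem result {H : Type*} [Group H] [Finite H] {p : ℕ} [Fact p.Prime] (hH : Subgroup.centralizer (Cfsg.pCore p H : Set H) ≤ Cfsg.pCore p H) (T : Sylow p H) (V : Subgroup H) [V.Normal] (hV : Cfsg.IsElementaryAbelian p V) (hZV : (Cfsg.omegaOne p ((T : Subgroup H) ⊓ Subgroup.centralizer (((T : Subgroup H) : Subgroup H) : Set H))) ≤ V) : Subgroup.centralizer ((Cfsg.omegaOne p ((T : Subgroup H) ⊓ Subgroup.centralizer (((T : Subgroup H) : Subgroup H) : Set H))) : Set H) = Subgroup.centralizer (((⁅V, Cfsg.pResidual p H⁆ ⊓ (Cfsg.omegaOne p ((T : Subgroup H) ⊓ Subgroup.centralizer (((T : Subgroup H) : Subgroup H) : Set H)))) : Subgroup H) : Set H) := by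
  classical
  obtain ⟨Z, hZ⟩ : ∃ Z : Subgroup H, Z = Cfsg.omegaOne p ((T : Subgroup H) ⊓
      centralizer ((T : Subgroup H) : Set H)) := ⟨_, rfl⟩
  rw [← hZ] at hZV ⊢
  obtain ⟨O, hO⟩ : ∃ O : Subgroup H, O = Cfsg.pResidual p H := ⟨_, rfl⟩
  rw [← hO]
  apply le_antisymm
  · exact Subgroup.centralizer_le (SetLike.coe_subset_coe.mpr inf_le_right)
  · intro x hx
    have hVe := (isElementaryAbelian_iff V).mp hV
    haveI : IsMulCommutative ↥V := hV.1
    have hVp : IsPGroup p V := isPGroup_of_isElementaryAbelian hV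
    have hVT : V ≤ T := le_sylow_of_le_normalizer T hVp (le_normalizer_of_normal _ V)
    haveI hOn : O.Normal := hO ▸ pResidual_normal' p H
    have hOT : O ⊔ (T : Subgroup H) = ⊤ := hO ▸ pResidual_sup_sylow T
    have hn : ¬ p ∣ (T : Subgroup H).relIndex ⊤ := by
      rw [Subgroup.relIndex_top_right]; exact T.not_dvd_index
    have key : ∀ z, z ∈ (T : Subgroup H) ⊓ centralizer ((T : Subgroup H) : Set H) → z ^ p = 1 →
        z * x = x * z := by
      intro z hz hzp
      have hzZ : z ∈ Z := hZ ▸ Subgroup.subset_closure ⟨hz, hzp⟩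
      have hzV : z ∈ V := hZV hzZ
      have hzT : ∀ s ∈ (T : Subgroup H), s * z = z * s :=
        fun s hs => Subgroup.mem_centralizer_iff.mp hz.2 s hs
      have hW : ∀ d ∈ (⊤ : Subgroup H), d * z * d⁻¹ * z⁻¹ ∈ ⁅V, O⁆ := by
        intro d _
        have hd : d ∈ ((O ⊔ (T : Subgroup H) : Subgroup H) : Set H) := by
          rw [hOT]; exact Subgroup.mem_top d
        rw [Subgroup.normal_mul] at hd
        obtain ⟨o, ho, t, ht, rfl⟩ := Set.mem_mul.mp hd
        have ho : o ∈ O := ho
        have ht : t ∈ (T : Subgroup H) := ht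
        have e : o * t * z * (o * t)⁻¹ * z⁻¹ = o * z * o⁻¹ * z⁻¹ := by
          have := hzT t ht
          calc o * t * z * (o * t)⁻¹ * z⁻¹ = o * (t * z) * t⁻¹ * o⁻¹ * z⁻¹ := by group
            _ = o * (z * t) * t⁻¹ * o⁻¹ * z⁻¹ := by rw [this]
            _ = o * z * o⁻¹ * z⁻¹ := by group
        rw [e]
        have : ⁅o, z⁆ ∈ ⁅O, V⁆ := Subgroup.commutator_mem_commutator ho hzV
        rw [Subgroup.commutator_comm] at this
        exact this
      obtain ⟨w, hwV, hwc, hwW⟩ := exists_norm_subgroup (A := V) (L := ⊤)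
        (S := (T : Subgroup H)) (le_normalizer_of_normal _ V) hzV hzT ⁅V, O⁆ hW
      obtain ⟨n, hn'⟩ : ∃ n : ℕ, n = (T : Subgroup H).relIndex ⊤ := ⟨_, rfl⟩
      rw [← hn'] at hn hwW
      have hu1 : z ^ n * w⁻¹ ∈ ⁅V, O⁆ := by
        have := inv_mem hwW
        rwa [mul_inv_rev, inv_inv] at this
      have hu2 : z ^ n * w⁻¹ ∈ Z := by
        have g1 : z ^ n * w⁻¹ ∈ (T : Subgroup H) :=
          mul_mem (pow_mem hz.1 n) (inv_mem (hVT hwV))
        have g2 : z ^ n * w⁻¹ ∈ centralizer ((T : Subgroup H) : Set H) := by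
          rw [Subgroup.mem_centralizer_iff]
          intro s hs
          have hc1 : Commute s z := hzT s hs
          have hc2 : Commute s w := hwc s (Subgroup.mem_top s)
          exact ((hc1.pow_right n).mul_right hc2.inv_right).eq
        have g3 : (z ^ n * w⁻¹) ^ p = 1 := hVe.2 _ (mul_mem (pow_mem hzV n) (inv_mem hwV))
        rw [hZ]
        exact Subgroup.subset_closure ⟨⟨g1, g2⟩, g3⟩
      have hxu : (z ^ n * w⁻¹) * x = x * (z ^ n * w⁻¹) :=
        Subgroup.mem_centralizer_iff.mp hx _ ⟨hu1, hu2⟩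
      have hxw : x * w = w * x := hwc x (Subgroup.mem_top x)
      have hxzn : x * z ^ n = z ^ n * x := by
        calc x * z ^ n = x * (z ^ n * w⁻¹) * w := by group
          _ = (z ^ n * w⁻¹) * x * w := by rw [hxu]
          _ = (z ^ n * w⁻¹) * (x * w) := by group
          _ = (z ^ n * w⁻¹) * (w * x) := by rw [hxw]
          _ = z ^ n * x := by group
      have hcop : n.Coprime (orderOf z) := by
        have h1 : orderOf z ∣ p := orderOf_dvd_of_pow_eq_one hzp
        have h2 : n.Coprime p := ((Nat.Prime.coprime_iff_not_dvd Fact.out).mpr hn).symm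
        exact Nat.Coprime.coprime_dvd_right h1 h2
      obtain ⟨m, hm⟩ := exists_pow_eq_self_of_coprime hcop
      have hcz : Commute x ((z ^ n) ^ m) := (show Commute x (z ^ n) from hxzn).pow_right m
      rw [hm] at hcz
      exact hcz.symm.eq
    have hle : Z ≤ centralizer ({x} : Set H) := by
      rw [hZ]
      show Subgroup.closure _ ≤ _
      rw [Subgroup.closure_le]
      rintro z ⟨hz, hzp⟩
      exact Subgroup.mem_centralizer_singleton_iff.mpr (key z hz hzp)
    rw [Subgroup.mem_centralizer_iff]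
    intro h hh
    exact Subgroup.mem_centralizer_singleton_iff.mp (hle hh)

end Cfsg.Agent.S2826
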