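import Cfsg.Statements.S2827
import Cfsg.Agent.Helper17.PClosed
-- import your own Cfsg.Agent.* helpers here

set_option autoImplicit false
open Cfsg

namespace Cfsg.Agent.S2827

open Cfsg.Agent.Helper17
open scoped commutatorElement
open Subgroup


/-- Let H be a finite p-irreducible group (not p-closed, and O^p(H) lies in every normal subgroup that is not p-closed) and T a Sylow p-subgroup. Then H is generated by the conjugates of T and H = H'·T; O^p(H) ≤ H'; and for every normal subgroup Y of T not contained in O_p(H), O^p(H) = [O^p(H), Y] and O^p(H) is contained in the normal closure of Y in H. -/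
theorem result {H : Type*} [Group H] [Finite H] {p : ℕ} [Fact p.Prime] (hH : Cfsg.IsPIrreducible p H) (T : Sylow p H) : Subgroup.normalClosure ((T : Subgroup H) : Set H) = ⊤ ∧ commutator H ⊔ (T : Subgroup H) = ⊤ ∧ Cfsg.pResidual p H ≤ commutator H ∧ ∀ Y : Subgroup H, Y ≤ (T : Subgroup H) → (T : Subgroup H) ≤ Subgroup.normalizer (Y : Set H) → ¬ Y ≤ Cfsg.pCore p H → ⁅Cfsg.pResidual p H, Y⁆ = Cfsg.pResidual p H ∧ Cfsg.pResidual p H ≤ Subgroup.normalClosure (Y : Set H) := by
  obtain ⟨hnc, hirr⟩ := hH
  have hRn : (Cfsg.pResidual p H).Normal := pResidual_normal' p H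
  have hOn : (Cfsg.pCore p H).Normal := Subgroup.sSup_normal _ (fun _ h => h.1)
  have key : ∀ N : Subgroup H, N.Normal → ∀ Y : Subgroup H, IsPGroup p Y → Y ≤ N →
      ¬ Y ≤ Cfsg.pCore p H → Cfsg.pResidual p H ≤ N := by
    intro N hN Y hY hYN hYO
    apply hirr N hN
    intro hcl
    exact hYO (le_pCore_of_isPClosed hcl hY hYN)
  have hTO : ¬ (T : Subgroup H) ≤ Cfsg.pCore p H := by
    intro h
    apply hnc
    have : (T : Subgroup H) = Cfsg.pCore p H := le_antisymm h (pCore_le_sylow T)
    apply isPClosed_of_normal_sylow T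
    rw [this]; exact hOn
  have hRT : Cfsg.pResidual p H ⊔ (T : Subgroup H) = ⊤ := pResidual_sup_sylow T
  have h1 : Subgroup.normalClosure ((T : Subgroup H) : Set H) = ⊤ := by
    have hR := key _ Subgroup.normalClosure_normal T T.isPGroup' Subgroup.le_normalClosure hTO
    rw [eq_top_iff, ← hRT]
    exact sup_le hR Subgroup.le_normalClosure
  have hcn : ∀ K : Subgroup H, commutator H ≤ K → K.Normal := by
    intro K hK
    constructor
    intro k hk g
    have e : g * k * g⁻¹ = ⁅g, k⁆ * k := by rw [commutatorElement_def]; group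
    rw [e]
    have hc : ⁅g, k⁆ ∈ commutator H := by
      rw [commutator_def]
      exact Subgroup.commutator_mem_commutator (Subgroup.mem_top g) (Subgroup.mem_top k)
    exact mul_mem (hK hc) hk
  have h2 : commutator H ⊔ (T : Subgroup H) = ⊤ := by
    have hn := hcn (commutator H ⊔ (T : Subgroup H)) le_sup_left
    rw [eq_top_iff, ← h1]
    exact Subgroup.normalClosure_le_normal (SetLike.coe_subset_coe.mpr le_sup_right)
  have h3 : Cfsg.pResidual p H ≤ commutator H := by
    show Subgroup.closure _ ≤ _
    rw [Subgroup.closure_le]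
    intro g hg
    have hg' : (orderOf g).Coprime p := hg
    exact mem_of_coprime_of_mem_sup T.isPGroup' (by rw [h2]; exact Subgroup.mem_top g) hg'
  refine ⟨h1, h2, h3, ?_⟩
  intro Y hYT hTY hYO
  have hYp : IsPGroup p Y := T.isPGroup'.to_le hYT
  constructor
  · apply le_antisymm (Subgroup.commutator_le_left (Cfsg.pResidual p H) Y)
    obtain ⟨K, hK⟩ : ∃ K : Subgroup H, K = ⁅Cfsg.pResidual p H, Y⁆ := ⟨_, rfl⟩
    rw [← hK]
    have hTK : (T : Subgroup H) ≤ normalizer (K : Set H) := by
      intro t ht
      apply mem_normalizer_of_cj_eq_self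
      rw [hK, cj_commutator, cj_eq_of_normal t (Cfsg.pResidual p H),
        cj_eq_self_of_mem_normalizer (hTY ht)]
    have hKn : K.Normal := by
      rw [← Subgroup.normalizer_eq_top_iff, eq_top_iff, ← hRT]
      refine sup_le ?_ hTK
      rw [hK]
      exact le_normalizer_commutator_left (Cfsg.pResidual p H) Y
    have hKYn : (K ⊔ Y).Normal := by
      rw [← Subgroup.normalizer_eq_top_iff, eq_top_iff, ← hRT]
      apply sup_le
      · intro r hr
        apply mem_normalizer_of_cj_le
        rw [cj_sup, cj_eq_of_normal r K]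
        apply sup_le le_sup_left
        intro z hz
        obtain ⟨y, hy, rfl⟩ := mem_cj'.mp hz
        have e : r * y * r⁻¹ = ⁅r, y⁆ * y := by rw [commutatorElement_def]; group
        rw [e]
        have hc : ⁅r, y⁆ ∈ K := by rw [hK]; exact Subgroup.commutator_mem_commutator hr hy
        exact mul_mem (Subgroup.mem_sup_left hc) (Subgroup.mem_sup_right hy)
      · intro t ht
        apply mem_normalizer_of_cj_le
        rw [cj_sup, cj_eq_of_normal t K, cj_eq_self_of_mem_normalizer (hTY ht)]
    have hRKY : Cfsg.pResidual p H ≤ K ⊔ Y := key _ hKYn Y hYp le_sup_right hYO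
    show Subgroup.closure _ ≤ K
    rw [Subgroup.closure_le]
    intro g hg
    have hg' : (orderOf g).Coprime p := hg
    exact mem_of_coprime_of_mem_sup hYp (hRKY (mem_pResidual_of_coprime hg')) hg'
  · exact key _ Subgroup.normalClosure_normal Y hYp Subgroup.le_normalClosure hYO

end Cfsg.Agent.S2827
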