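import Cfsg.Statements.S2828
import Cfsg.Agent.Helper17.PClosed
-- import your own Cfsg.Agent.* helpers here

set_option autoImplicit false
open Cfsg

namespace Cfsg.Agent.S2828

open Cfsg.Agent.Helper17
open scoped commutatorElement
open Subgroup


/-- Let H be a finite group, p a prime and D a normal p-subgroup of H. Then H is p-irreducible if and only if H/D is p-irreducible, and H is strongly p-irreducible if and only if H/D is strongly p-irreducible. -/
theorem result {H : Type*} [Group H] [Finite H] {p : ℕ} [Fact p.Prime] (D : Subgroup H) [D.Normal] (hD : IsPGroup p ↥D) : (Cfsg.IsPIrreducible p H ↔ Cfsg.IsPIrreducible p (H ⧸ D)) ∧ (Cfsg.IsStronglyPIrreducible p H ↔ Cfsg.IsStronglyPIrreducible p (H ⧸ D)) := by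
  obtain ⟨π, hπ⟩ : ∃ π : H →* H ⧸ D, π = QuotientGroup.mk' D := ⟨_, rfl⟩
  have hsurj : Function.Surjective π := by rw [hπ]; exact QuotientGroup.mk'_surjective D
  have hker : π.ker = D := by rw [hπ]; exact QuotientGroup.ker_mk' D
  have hkerp : IsPGroup p π.ker := by rw [hker]; exact hD
  have hcl := isPClosed_quotient_iff D hD
  have hOn : (Cfsg.pCore p H).Normal := Subgroup.sSup_normal _ (fun _ h => h.1)
  have hOn' : (Cfsg.pCore p (H ⧸ D)).Normal := Subgroup.sSup_normal _ (fun _ h => h.1)
  have hmapO : (Cfsg.pCore p H).map π ≤ Cfsg.pCore p (H ⧸ D) :=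
    le_pCore (hOn.map π hsurj) ((pCore_isPGroup p H).map π)
  have hcomapO : (Cfsg.pCore p (H ⧸ D)).comap π ≤ Cfsg.pCore p H :=
    le_pCore (hOn'.comap π) ((pCore_isPGroup p (H ⧸ D)).comap_of_ker_isPGroup π hkerp)
  refine ⟨⟨?_, ?_⟩, ⟨?_, ?_⟩⟩
  · rintro ⟨hnc, hirr⟩
    refine ⟨fun h => hnc (hcl.mpr h), ?_⟩
    intro N' hN' hN'cl
    apply pResidual_le_of_le_comap π hsurj
    apply hirr _ (hN'.comap π)
    intro h
    apply hN'cl
    have := isPClosed_map π _ h
    rwa [Subgroup.map_comap_eq_self_of_surjective hsurj] at this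
  · rintro ⟨hnc, hirr⟩
    refine ⟨fun h => hnc (hcl.mp h), ?_⟩
    intro N hN hNcl
    haveI := hN
    apply pResidual_le_of_le_map π hkerp
    apply hirr _ (hN.map π hsurj)
    intro h
    exact hNcl (isPClosed_of_map π hkerp N h)
  · rintro ⟨hnc, hirr⟩
    refine ⟨fun h => hnc (hcl.mpr h), ?_⟩
    intro N' hN' hN'c
    apply pResidual_le_of_le_comap π hsurj
    apply hirr _ (hN'.comap π)
    intro h
    apply hN'c
    have h1 := Subgroup.map_mono (f := π) h
    rw [Subgroup.map_commutator, Subgroup.map_comap_eq_self_of_surjective hsurj,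
      Subgroup.map_top_of_surjective π hsurj] at h1
    exact h1.trans hmapO
  · rintro ⟨hnc, hirr⟩
    refine ⟨fun h => hnc (hcl.mp h), ?_⟩
    intro N hN hNc
    haveI := hN
    apply pResidual_le_of_le_map π hkerp
    apply hirr _ (hN.map π hsurj)
    intro h
    apply hNc
    have h1 : (⁅N, (⊤ : Subgroup H)⁆).map π ≤ Cfsg.pCore p (H ⧸ D) := by
      rw [Subgroup.map_commutator, Subgroup.map_top_of_surjective π hsurj]
      exact h
    exact (Subgroup.map_le_iff_le_comap.mp h1).trans hcomapO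

end Cfsg.Agent.S2828
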