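import Cfsg.Statements.S2829
import Cfsg.Agent.Helper17.Basic
-- import your own Cfsg.Agent.* helpers here

set_option autoImplicit false
open Cfsg

namespace Cfsg.Agent.S2829

open Cfsg.Agent.Helper17
open scoped commutatorElement


/-- Every strongly p-irreducible finite group is p-irreducible. -/
theorem result {H : Type*} [Group H] [Finite H] {p : ℕ} [Fact p.Prime] (hH : Cfsg.IsStronglyPIrreducible p H) : Cfsg.IsPIrreducible p H := by
  refine ⟨hH.1, fun N hN hNc => hH.2 N hN ?_⟩
  intro hle
  apply hNc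
  intro P
  have hD : IsPGroup p ((Cfsg.pCore p H).subgroupOf N) := (pCore_isPGroup p H).comap_subtype
  haveI : ((Cfsg.pCore p H).subgroupOf N).Normal :=
    (inferInstance : (Cfsg.pCore p H).Normal).subgroupOf N
  have hDP : (Cfsg.pCore p H).subgroupOf N ≤ (P : Subgroup N) := hD.le_sylow_of_normal P
  constructor
  intro x hx n
  have h1 : (n : H) * (x : H) * (n : H)⁻¹ * (x : H)⁻¹ ∈ Cfsg.pCore p H := by
    apply hle
    have := Subgroup.commutator_mem_commutator n.2 (Subgroup.mem_top (x : H))
    rwa [commutatorElement_def] at this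
  have h2 : n * x * n⁻¹ * x⁻¹ ∈ (Cfsg.pCore p H).subgroupOf N := by
    rw [Subgroup.mem_subgroupOf]
    simpa using h1
  have h3 := hDP h2
  have : n * x * n⁻¹ = (n * x * n⁻¹ * x⁻¹) * x := by group
  rw [this]
  exact mul_mem h3 hx

end Cfsg.Agent.S2829
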