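import Cfsg.Statements.S2830
import Cfsg.Agent.Helper17.PClosed
-- import your own Cfsg.Agent.* helpers here

set_option autoImplicit false
open Cfsg

namespace Cfsg.Agent.S2830

open Cfsg.Agent.Helper17
open scoped commutatorElement
open Subgroup


/-- Let H act by conjugation on the elementary abelian p-subgroup V of a finite group G (H ≤ N(V)), with H p-irreducible and O^p(H) not centralizing V. Then C_H(V) is p-closed and C_T(V) ≤ O_p(H) for every p-subgroup T of H. If in addition O_p(H) centralizes V, then C_T(V) = T ∩ O_p(H) for every p-subgroup T of H, and V is p-reduced for H: O_p(H/C_H(V)) = 1. -/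
theorem result {G : Type*} [Group G] [Finite G] {p : ℕ} [Fact p.Prime] (V H : Subgroup G) (hV : Cfsg.IsElementaryAbelian p V) (hHV : H ≤ Subgroup.normalizer (V : Set G)) (hH : Cfsg.IsPIrreducible p ↥H) (hnc : ¬ (Cfsg.pResidual p ↥H).map H.subtype ≤ Subgroup.centralizer (V : Set G)) [hn : ((Subgroup.centralizer (V : Set G)).subgroupOf H).Normal] : Cfsg.IsPClosed p ↥(H ⊓ Subgroup.centralizer (V : Set G)) ∧ (∀ T : Subgroup G, T ≤ H → IsPGroup p ↥T → T ⊓ Subgroup.centralizer (V : Set G) ≤ Cfsg.pCoreOf p H) ∧ (Cfsg.pCoreOf p H ≤ Subgroup.centralizer (V : Set G) → (∀ T : Subgroup G, T ≤ H → IsPGroup p ↥T → T ⊓ Subgroup.centralizer (V : Set G) = T ⊓ Cfsg.pCoreOf p H) ∧ Cfsg.pCore p (↥H ⧸ (Subgroup.centralizer (V : Set G)).subgroupOf H) = ⊥) := by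
  obtain ⟨hncl, hirr⟩ := hH
  have main : ∀ (C : Subgroup ↥H) [C.Normal], ¬ Cfsg.pResidual p ↥H ≤ C →
      Cfsg.IsPClosed p ↥C ∧ (Cfsg.pCore p ↥H ≤ C → Cfsg.pCore p (↥H ⧸ C) = ⊥) := by
    intro C hCn hRC
    have h1 : Cfsg.IsPClosed p ↥C := by
      by_contra h
      exact hRC (hirr C hCn h)
    refine ⟨h1, ?_⟩
    intro hOC'
    obtain ⟨π, hπ⟩ : ∃ π : ↥H →* ↥H ⧸ C, π = QuotientGroup.mk' C := ⟨_, rfl⟩
    obtain ⟨Q, hQ⟩ : ∃ Q : Subgroup ↥H, Q = (Cfsg.pCore p (↥H ⧸ C)).comap π := ⟨_, rfl⟩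
    have hOn' : (Cfsg.pCore p (↥H ⧸ C)).Normal := Subgroup.sSup_normal _ (fun _ h => h.1)
    have hQn : Q.Normal := by rw [hQ]; exact hOn'.comap π
    have hπ1 : ∀ q : ↥H, π q = 1 ↔ q ∈ C := by
      intro q; rw [hπ]; exact QuotientGroup.eq_one_iff q
    have hp' : ∀ q ∈ Q, ∀ m : ℕ, m.Coprime p → q ^ m ∈ C → q ∈ C := by
      intro q hq m hm hqm
      have h2 : π q ∈ Cfsg.pCore p (↥H ⧸ C) := by rw [hQ] at hq; exact hq
      have h3 : π q = 1 :=
        eq_one_of_pow_eq_one_of_coprime (exists_pow_of_isPGroup (pCore_isPGroup p (↥H ⧸ C)) h2)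
          (by rw [← map_pow]; exact (hπ1 _).mpr hqm) hm
      exact (hπ1 q).mp h3
    have hQcl : Cfsg.IsPClosed p ↥Q := by
      by_contra h
      apply hRC
      have hRQ := hirr Q hQn h
      show Subgroup.closure _ ≤ C
      rw [Subgroup.closure_le]
      intro g hg
      have hg' : (orderOf g).Coprime p := hg
      exact hp' g (hRQ (mem_pResidual_of_coprime hg')) (orderOf g) hg'
        (by rw [pow_orderOf_eq_one]; exact one_mem _)
    have hQC : Q ≤ C := by
      intro q hq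
      obtain ⟨m, hm, a, ha⟩ := exists_coprime_pow_pElement p q
      apply hp' q hq m hm
      have h4 : zpowers (q ^ m) ≤ Cfsg.pCore p ↥H := by
        apply le_pCore_of_isPClosed hQcl (isPGroup_zpowers_of_pow ⟨a, ha⟩)
        rw [Subgroup.zpowers_le]
        exact pow_mem hq m
      exact hOC' (h4 (Subgroup.mem_zpowers _))
    rw [eq_bot_iff]
    intro y hy
    obtain ⟨x, rfl⟩ : ∃ x, π x = y := by rw [hπ]; exact QuotientGroup.mk'_surjective C y
    have hxQ : x ∈ Q := by rw [hQ]; exact hy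
    rw [Subgroup.mem_bot]
    exact (hπ1 x).mpr (hQC hxQ)
  have hRC : ¬ Cfsg.pResidual p ↥H ≤ (Subgroup.centralizer (V : Set G)).subgroupOf H := by
    intro h
    apply hnc
    rintro _ ⟨x, hx, rfl⟩
    have := h hx
    rw [Subgroup.mem_subgroupOf] at this
    exact this
  obtain ⟨h1, h3⟩ := main ((Subgroup.centralizer (V : Set G)).subgroupOf H) hRC
  have part1 : Cfsg.IsPClosed p ↥(H ⊓ Subgroup.centralizer (V : Set G)) := by
    obtain ⟨S, hS, hall⟩ := (isPClosed_subgroup_iff _).mp h1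
    rw [isPClosed_subgroup_iff]
    refine ⟨S.map H.subtype, hS.map _, ?_⟩
    rintro x ⟨hxH, hxC⟩ ⟨k, hk⟩
    refine ⟨⟨x, hxH⟩, hall ⟨x, hxH⟩ ?_ ⟨k, Subtype.ext (by simpa using hk)⟩, rfl⟩
    rw [Subgroup.mem_subgroupOf]
    exact hxC
  have part2 : ∀ T : Subgroup G, T ≤ H → IsPGroup p ↥T →
      T ⊓ Subgroup.centralizer (V : Set G) ≤ Cfsg.pCoreOf p H := by
    intro T hTH hTp x hx
    have hxH : x ∈ H := hTH hx.1
    have h2 : (T.subgroupOf H ⊓ (Subgroup.centralizer (V : Set G)).subgroupOf H) ≤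
        Cfsg.pCore p ↥H :=
      le_pCore_of_isPClosed h1 ((hTp.comap_subtype (K := H)).to_le inf_le_left) inf_le_right
    have h3 : (⟨x, hxH⟩ : ↥H) ∈
        T.subgroupOf H ⊓ (Subgroup.centralizer (V : Set G)).subgroupOf H :=
      ⟨Subgroup.mem_subgroupOf.mpr hx.1, Subgroup.mem_subgroupOf.mpr hx.2⟩
    exact ⟨⟨x, hxH⟩, h2 h3, rfl⟩
  refine ⟨part1, part2, ?_⟩
  intro hOC
  constructor
  · intro T hTH hTp
    apply le_antisymm
    · exact le_inf inf_le_left (part2 T hTH hTp)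
    · exact le_inf inf_le_left (inf_le_right.trans hOC)
  · apply h3
    intro x hx
    rw [Subgroup.mem_subgroupOf]
    exact hOC ⟨x, hx, rfl⟩

end Cfsg.Agent.S2830
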