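import Cfsg.Statements.S2831
import Cfsg.Agent.Helper17.PClosed
-- import your own Cfsg.Agent.* helpers here

set_option autoImplicit false
open Cfsg

namespace Cfsg.Agent.S2831

open Cfsg.Agent.Helper17
open scoped commutatorElement
open Subgroup


/-- Let H be a finite group with Sylow p-subgroup T such that H is T-minimal (H is generated by the conjugates of T and T lies in exactly one maximal subgroup of H). Then H is p-irreducible: H is not p-closed and O^p(H) lies in every normal subgroup of H that is not p-closed. -/
theorem result {H : Type*} [Group H] [Finite H] {p : ℕ} [Fact p.Prime] (T : Sylow p H) (hmin : Cfsg.IsMinimalOver (T : Subgroup H)) : Cfsg.IsPIrreducible p H := by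
  obtain ⟨hncl, M, ⟨hM, hTM⟩, huniq⟩ := hmin
  have hle : ∀ K : Subgroup H, (T : Subgroup H) ≤ K → K ≠ ⊤ → K ≤ M :=
    fun K hYK hK => minimalOver_le_coatom huniq hYK hK
  constructor
  · intro hcl
    have hTn : (T : Subgroup H).Normal := hcl T
    have : (T : Subgroup H) = ⊤ := by
      rw [← hncl]; exact (Subgroup.normalClosure_eq_self _).symm
    rw [this] at hTM
    exact hM.1 (top_le_iff.mp hTM)
  · intro N hN hNcl
    haveI := hN
    have hNT : N ⊔ (T : Subgroup H) = ⊤ := by
      by_contra hne
      have hNM : N ⊔ (T : Subgroup H) ≤ M := hle _ le_sup_right hne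
      obtain ⟨P⟩ : Nonempty (Sylow p ↥N) := inferInstance
      obtain ⟨A, hA⟩ : ∃ A : Subgroup H, A = sylowImage P := ⟨_, rfl⟩
      have hfr : normalizer (A : Set H) ⊔ N = ⊤ := by
        rw [hA]; exact Sylow.normalizer_sup_eq_top P
      have hAp : IsPGroup p A := by rw [hA]; exact sylowImage_isPGroup P
      have hAN : A ≤ N := by rw [hA]; exact sylowImage_le P
      obtain ⟨h, hh⟩ := exists_le_cj_sylow hAp T
      obtain ⟨A', hA'⟩ : ∃ A' : Subgroup H, A' = cj h⁻¹ A := ⟨_, rfl⟩
      have hAA' : A = cj h A' := by rw [hA', cj_cj_inv]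
      have hA'eq : A' = (T : Subgroup H) ⊓ N := by
        have h1 : sylowImage P ≤ cj h ((T : Subgroup H) ⊓ N) := by
          rw [cj_inf, cj_eq_of_normal h N, ← hA]; exact le_inf hh hAN
        have h2 : cj h ((T : Subgroup H) ⊓ N) = sylowImage P :=
          eq_sylowImage_of_le P (isPGroup_cj (T.isPGroup'.to_le inf_le_left))
            (by rw [cj_inf, cj_eq_of_normal h N]; exact inf_le_right) h1
        rw [hA', hA, ← h2, cj_inv_cj]
      have hTA' : (T : Subgroup H) ≤ normalizer (A' : Set H) := by
        intro t ht
        apply mem_normalizer_of_cj_eq_self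
        rw [hA'eq, cj_inf, cj_eq_of_normal t N, cj_eq_self_of_mem ht]
      have hNA'top : normalizer (A' : Set H) ⊔ N = ⊤ := by
        have := congrArg (cj h⁻¹) hfr
        rwa [cj_sup, cj_eq_of_normal h⁻¹ N, cj_top, ← normalizer_cj, ← hA'] at this
      have hNA'ne : normalizer (A' : Set H) ≠ ⊤ := by
        intro htop
        apply hNcl
        have hA'n : A'.Normal := Subgroup.normalizer_eq_top_iff.mp htop
        have hPA' : sylowImage P = A' := by
          rw [← hA, hAA', cj_eq_of_normal h A']
        apply isPClosed_of_normal_sylow P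
        have : (P : Subgroup ↥N) = A'.subgroupOf N := by
          rw [← hPA']
          ext x
          rw [Subgroup.mem_subgroupOf]
          constructor
          · intro hx; exact ⟨x, hx, rfl⟩
          · rintro ⟨y, hy, hyx⟩
            have : y = x := Subtype.ext hyx
            rwa [← this]
        rw [this]; exact Subgroup.normal_subgroupOf
      have h5 : normalizer (A' : Set H) ≤ M := hle _ hTA' hNA'ne
      apply hM.1
      rw [eq_top_iff, ← hNA'top]
      exact sup_le h5 (le_sup_left.trans hNM)
    show Subgroup.closure _ ≤ N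
    rw [Subgroup.closure_le]
    intro g hg
    have hg' : (orderOf g).Coprime p := hg
    exact mem_of_coprime_of_mem_sup T.isPGroup' (by rw [hNT]; exact Subgroup.mem_top g) hg'

end Cfsg.Agent.S2831
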