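import Cfsg.Statements.S2832
import Cfsg.Agent.Helper17.PClosed
-- import your own Cfsg.Agent.* helpers here

set_option autoImplicit false
open Cfsg

namespace Cfsg.Agent.S2832

open Cfsg.Agent.Helper17
open scoped commutatorElement
open Subgroup


/-- Let H be a finite group with Sylow p-subgroup T such that H is T-minimal (generated by the conjugates of T, with T in exactly one maximal subgroup), and let N be a normal subgroup of H. Then either H/N is a p-group or H/N is minimal over the image of T in the same sense. -/
theorem result {H : Type*} [Group H] [Finite H] {p : ℕ} [Fact p.Prime] (T : Sylow p H) (hmin : Cfsg.IsMinimalOver (T : Subgroup H)) (N : Subgroup H) [N.Normal] : IsPGroup p (H ⧸ N) ∨ Cfsg.IsMinimalOver ((T : Subgroup H).map (QuotientGroup.mk' N)) := by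
  obtain ⟨hncl, M, ⟨hM, hTM⟩, huniq⟩ := hmin
  have hle : ∀ K : Subgroup H, (T : Subgroup H) ≤ K → K ≠ ⊤ → K ≤ M :=
    fun K hYK hK => minimalOver_le_coatom huniq hYK hK
  obtain ⟨π, hπ⟩ : ∃ π : H →* H ⧸ N, π = QuotientGroup.mk' N := ⟨_, rfl⟩
  rw [← hπ]
  have hsurj : Function.Surjective π := by rw [hπ]; exact QuotientGroup.mk'_surjective N
  have hker : π.ker = N := by rw [hπ]; exact QuotientGroup.ker_mk' N
  by_cases hNT : N ⊔ (T : Subgroup H) = ⊤
  · left
    have hmap : (T : Subgroup H).map π = ⊤ := by
      have hN0 : N.map π = ⊥ := by rw [Subgroup.map_eq_bot_iff, hker]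
      rw [eq_top_iff, ← Subgroup.map_top_of_surjective π hsurj, ← hNT, Subgroup.map_sup, hN0,
        bot_sup_eq]
    have hp : IsPGroup p ↥((T : Subgroup H).map π) := T.isPGroup'.map π
    rw [hmap] at hp
    intro x
    obtain ⟨k, hk⟩ := hp ⟨x, Subgroup.mem_top x⟩
    exact ⟨k, by simpa using congrArg Subtype.val hk⟩
  · right
    have hNTM : N ⊔ (T : Subgroup H) ≤ M := hle _ le_sup_right hNT
    have hNM : N ≤ M := le_sup_left.trans hNTM
    have hMc : (M.map π).comap π = M := by
      rw [Subgroup.comap_map_eq, hker, sup_eq_left.mpr hNM]
    constructor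
    · have := Subgroup.map_normalClosure ((T : Subgroup H) : Set H) π hsurj
      rw [hncl, Subgroup.map_top_of_surjective π hsurj] at this
      rw [Subgroup.coe_map]; exact this.symm
    · refine ⟨M.map π, ⟨?_, Subgroup.map_mono hTM⟩, ?_⟩
      · constructor
        · intro h
          apply hM.1
          rw [← hMc, h, Subgroup.comap_top]
        · intro K hK
          have h1 : M < K.comap π := by
            rw [← hMc]
            exact (Subgroup.comap_lt_comap_of_surjective hsurj).mpr hK
          have h2 := hM.2 _ h1
          rw [← Subgroup.map_comap_eq_self_of_surjective hsurj K, h2,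
            Subgroup.map_top_of_surjective π hsurj]
      · rintro M' ⟨hM', hTM'⟩
        have hc : IsCoatom (M'.comap π) := by
          constructor
          · intro h
            apply hM'.1
            rw [← Subgroup.map_comap_eq_self_of_surjective hsurj M', h,
              Subgroup.map_top_of_surjective π hsurj]
          · intro K hK
            have hNK : N ≤ K := by
              have : N ≤ M'.comap π := (le_of_eq hker.symm).trans (MonoidHom.ker_le_comap π M')
              exact this.trans hK.le
            have hKc : (K.map π).comap π = K := by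
              rw [Subgroup.comap_map_eq, hker, sup_eq_left.mpr hNK]
            have h1 : M' < K.map π := by
              rw [← hKc] at hK
              exact (Subgroup.comap_lt_comap_of_surjective hsurj).mp hK
            have h2 := hM'.2 _ h1
            rw [← hKc, h2, Subgroup.comap_top]
        have hT' : (T : Subgroup H) ≤ M'.comap π := Subgroup.map_le_iff_le_comap.mp hTM'
        have := huniq _ ⟨hc, hT'⟩
        rw [← this, Subgroup.map_comap_eq_self_of_surjective hsurj]

end Cfsg.Agent.S2832
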