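import Cfsg.Statements.S2833
import Cfsg.Agent.Helper17.WeakClosed
-- import your own Cfsg.Agent.* helpers here

set_option autoImplicit false
open Cfsg

namespace Cfsg.Agent.S2833

open Cfsg.Agent.Helper17
open scoped commutatorElement
open Subgroup


/-- Let V be a subgroup of a finite group G normalized by the subgroup L, let X ≤ L and g ∈ L with [V, X, X] = 1 and L generated by X and gXg⁻¹. Put W = [V, L]. Then W = [V, X]·[V, gXg⁻¹], C_W(X) = [V, X], and C_W(L) = [V, X] ∩ [V, gXg⁻¹]. -/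
theorem result {G : Type*} [Group G] [Finite G] (V L : Subgroup G) (hLV : L ≤ Subgroup.normalizer (V : Set G)) (X : Subgroup G) (hX : X ≤ L) (g : G) (hg : g ∈ L) (hq : ⁅⁅V, X⁆, X⁆ = ⊥) (hgen : X ⊔ X.map (MulAut.conj g).toMonoidHom = L) (W : Subgroup G) (hW : W = ⁅V, L⁆) : ⁅V, X⁆ ⊔ ⁅V, X.map (MulAut.conj g).toMonoidHom⁆ = W ∧ W ⊓ Subgroup.centralizer (X : Set G) = ⁅V, X⁆ ∧ W ⊓ Subgroup.centralizer (L : Set G) = ⁅V, X⁆ ⊓ ⁅V, X.map (MulAut.conj g).toMonoidHom⁆ := by
  subst hW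
  obtain ⟨Xg, hXg⟩ : ∃ Xg : Subgroup G, Xg = cj g X := ⟨_, rfl⟩
  have hXg' : X.map (MulAut.conj g).toMonoidHom = Xg := hXg.symm
  rw [hXg'] at hgen ⊢
  have hXgL : Xg ≤ L := by rw [hXg]; exact cj_le_of_le_of_mem hX hg
  have hgV : cj g V = V := cj_eq_self_of_mem_normalizer (hLV hg)
  have hcjVX : cj g ⁅V, X⁆ = ⁅V, Xg⁆ := by rw [cj_commutator, hgV, hXg]
  have hVL : ⁅V, L⁆ ≤ V := commutator_le_left_of_le_normalizer hLV
  have hVX : ⁅V, X⁆ ≤ V := (Subgroup.commutator_mono le_rfl hX).trans hVL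
  have hVXg : ⁅V, Xg⁆ ≤ V := (Subgroup.commutator_mono le_rfl hXgL).trans hVL
  have hqX : ⁅V, X⁆ ≤ centralizer (X : Set G) :=
    Subgroup.commutator_eq_bot_iff_le_centralizer.mp hq
  have hqXg : ⁅V, Xg⁆ ≤ centralizer (Xg : Set G) := by
    rw [← hcjVX, hXg, centralizer_cj]
    exact cj_mono hqX
  have hnorm : ∀ A B : Subgroup G, ⁅V, B⁆ ≤ V →
      A ≤ normalizer ((⁅V, A⁆ ⊔ ⁅V, B⁆ : Subgroup G) : Set G) := by
    intro A B hB a ha
    apply mem_normalizer_of_cj_le
    rw [cj_sup]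
    apply sup_le
    · rw [cj_eq_self_of_mem_normalizer (le_normalizer_commutator_right V A ha)]
      exact le_sup_left
    · intro z hz
      obtain ⟨b, hb, rfl⟩ := mem_cj'.mp hz
      have e : a * b * a⁻¹ = ⁅a, b⁆ * b := by rw [commutatorElement_def]; group
      rw [e]
      have h1 : ⁅a, b⁆ ∈ ⁅V, A⁆ := by
        rw [Subgroup.commutator_comm]
        exact Subgroup.commutator_mem_commutator ha (hB hb)
      exact mul_mem (Subgroup.mem_sup_left h1) (Subgroup.mem_sup_right hb)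
  obtain ⟨U, hU⟩ : ∃ U : Subgroup G, U = ⁅V, X⁆ ⊔ ⁅V, Xg⁆ := ⟨_, rfl⟩
  rw [← hU]
  have hXU : X ≤ normalizer (U : Set G) := by rw [hU]; exact hnorm X Xg hVXg
  have hXgU : Xg ≤ normalizer (U : Set G) := by
    have := hnorm Xg X hVX
    rw [hU, sup_comm]
    exact this
  have hUW : U = ⁅V, L⁆ := by
    apply le_antisymm
    · rw [hU]
      exact sup_le (Subgroup.commutator_mono le_rfl hX) (Subgroup.commutator_mono le_rfl hXgL)
    let C : Subgroup G :=
      { carrier := {l | l ∈ normalizer (U : Set G) ∧ ∀ v ∈ V, ⁅v, l⁆ ∈ U}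
        mul_mem' := by
          rintro a b ⟨ha1, ha2⟩ ⟨hb1, hb2⟩
          refine ⟨mul_mem ha1 hb1, ?_⟩
          intro v hv
          have e : ⁅v, a * b⁆ = ⁅v, a⁆ * (a * ⁅v, b⁆ * a⁻¹) := by
            simp only [commutatorElement_def]; group
          rw [e]
          exact mul_mem (ha2 v hv) ((Subgroup.mem_normalizer_iff.mp ha1 _).mp (hb2 v hv))
        one_mem' := by
          refine ⟨one_mem _, ?_⟩
          intro v _
          rw [commutatorElement_one_right]
          exact one_mem _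
        inv_mem' := by
          rintro a ⟨ha1, ha2⟩
          refine ⟨inv_mem ha1, ?_⟩
          intro v hv
          have e : ⁅v, a⁻¹⁆ = a⁻¹ * (⁅v, a⁆)⁻¹ * a⁻¹⁻¹ := by
            simp only [commutatorElement_def]; group
          rw [e]
          exact (Subgroup.mem_normalizer_iff.mp (inv_mem ha1) _).mp (inv_mem (ha2 v hv)) }
    have hXC : X ≤ C := fun x hx => ⟨hXU hx, fun v hv => by
      rw [hU]; exact Subgroup.mem_sup_left (Subgroup.commutator_mem_commutator hv hx)⟩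
    have hXgC : Xg ≤ C := fun x hx => ⟨hXgU hx, fun v hv => by
      rw [hU]; exact Subgroup.mem_sup_right (Subgroup.commutator_mem_commutator hv hx)⟩
    have hLC : L ≤ C := by rw [← hgen]; exact sup_le hXC hXgC
    rw [Subgroup.commutator_le]
    intro v hv l hl
    exact (hLC hl).2 v hv
  rw [← hUW]
  have hcent : ∀ b : G, b ∈ centralizer (X : Set G) → b ∈ centralizer (Xg : Set G) →
      b ∈ centralizer (L : Set G) := by
    intro b h1 h2
    have h3 : X ≤ centralizer ({b} : Set G) := by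
      intro x hx
      rw [Subgroup.mem_centralizer_singleton_iff]
      exact ((Subgroup.mem_centralizer_iff.mp h1) x hx)
    have h4 : Xg ≤ centralizer ({b} : Set G) := by
      intro x hx
      rw [Subgroup.mem_centralizer_singleton_iff]
      exact ((Subgroup.mem_centralizer_iff.mp h2) x hx)
    have h5 : L ≤ centralizer ({b} : Set G) := by rw [← hgen]; exact sup_le h3 h4
    rw [Subgroup.mem_centralizer_iff]
    intro l hl
    exact Subgroup.mem_centralizer_singleton_iff.mp (h5 hl)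
  have hswap1 : ∀ b : G, b ∈ ⁅V, Xg⁆ → b ∈ centralizer (L : Set G) → b ∈ ⁅V, X⁆ := by
    intro b hb hbL
    rw [← hcjVX, mem_cj] at hb
    have e : g⁻¹ * b * g = b := by
      have : g * b = b * g := (Subgroup.mem_centralizer_iff.mp hbL) g hg
      rw [mul_assoc, ← this, inv_mul_cancel_left]
    rwa [e] at hb
  have hswap2 : ∀ a : G, a ∈ ⁅V, X⁆ → a ∈ centralizer (L : Set G) → a ∈ ⁅V, Xg⁆ := by
    intro a ha haL
    rw [← hcjVX, mem_cj]
    have e : g⁻¹ * a * g = a := by
      have : g * a = a * g := (Subgroup.mem_centralizer_iff.mp haL) g hg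
      rw [mul_assoc, ← this, inv_mul_cancel_left]
    rwa [e]
  have h2 : U ⊓ centralizer (X : Set G) = ⁅V, X⁆ := by
    apply le_antisymm
    · rintro w ⟨hwU, hwX⟩
      have hwU' : w ∈ ((⁅V, X⁆ ⊔ ⁅V, Xg⁆ : Subgroup G) : Set G) := by rw [← hU]; exact hwU
      rw [Subgroup.coe_mul_of_left_le_normalizer_right _ _
        (hVX.trans (le_normalizer_commutator_left V Xg))] at hwU'
      obtain ⟨a, ha, b, hb, rfl⟩ := Set.mem_mul.mp hwU'
      have ha : a ∈ ⁅V, X⁆ := ha
      have hb : b ∈ ⁅V, Xg⁆ := hb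
      have hwX : a * b ∈ centralizer (X : Set G) := hwX
      have hbX : b ∈ centralizer (X : Set G) := by
        have : b = a⁻¹ * (a * b) := by group
        rw [this]
        exact mul_mem (inv_mem (hqX ha)) hwX
      exact mul_mem ha (hswap1 b hb (hcent b hbX (hqXg hb)))
    · refine le_inf ?_ hqX
      rw [hU]; exact le_sup_left
  refine ⟨rfl, h2, ?_⟩
  apply le_antisymm
  · rintro w ⟨hwU, hwL⟩
    have hwL : w ∈ centralizer (L : Set G) := hwL
    have hwX : w ∈ centralizer (X : Set G) :=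
      Subgroup.centralizer_le (SetLike.coe_subset_coe.mpr hX) hwL
    have hw1 : w ∈ ⁅V, X⁆ := by rw [← h2]; exact ⟨hwU, hwX⟩
    exact ⟨hw1, hswap2 w hw1 hwL⟩
  · rintro w ⟨hw1, hw2⟩
    have hw1 : w ∈ ⁅V, X⁆ := hw1
    have hw2 : w ∈ ⁅V, Xg⁆ := hw2
    refine ⟨?_, hcent w (hqX hw1) (hqXg hw2)⟩
    show w ∈ U
    rw [hU]; exact Subgroup.mem_sup_left hw1

end Cfsg.Agent.S2833
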