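import Cfsg.Statements.S2835
import Cfsg.Agent.Helper17.PClosed
-- import your own Cfsg.Agent.* helpers here

set_option autoImplicit false
open Cfsg

namespace Cfsg.Agent.S2835

open Cfsg.Agent.Helper17
open scoped commutatorElement
open Subgroup


/-- Let L be a finite group, L₀ a maximal subgroup, T a Sylow p-subgroup of L₀ and Y ≤ T, and suppose L is Y-minimal (generated by the conjugates of Y, with Y in exactly one maximal subgroup, necessarily L₀). Then N_L(T) ≤ L₀, O_p(L) ≤ L₀ and T is a Sylow p-subgroup of L; N_L(L₀) = L₀; L = ⟨Y, gYg⁻¹⟩ for each g ∈ L outside L₀; and if Y is abelian then Y ∩ gYg⁻¹ = C_Y(L) for each such g. -/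
theorem result {L : Type*} [Group L] [Finite L] {p : ℕ} [Fact p.Prime] (L₀ : Subgroup L) (hL₀ : IsCoatom L₀) (T : Sylow p ↥L₀) (Y : Subgroup L) (hYT : Y ≤ (T : Subgroup ↥L₀).map L₀.subtype) (hmin : Cfsg.IsMinimalOver Y) : Subgroup.normalizer (((T : Subgroup ↥L₀).map L₀.subtype : Subgroup L) : Set L) ≤ L₀ ∧ Cfsg.pCore p L ≤ L₀ ∧ (∃ P : Sylow p L, (P : Subgroup L) = (T : Subgroup ↥L₀).map L₀.subtype) ∧ Subgroup.normalizer (L₀ : Set L) = L₀ ∧ (∀ g : L, g ∉ L₀ → Y ⊔ Y.map (MulAut.conj g).toMonoidHom = ⊤) ∧ (IsMulCommutative ↥Y → ∀ g : L, g ∉ L₀ → Y ⊓ Y.map (MulAut.conj g).toMonoidHom = Y ⊓ Subgroup.center L) := by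
  obtain ⟨hncl, M, ⟨hM, hYM⟩, huniq⟩ := hmin
  obtain ⟨T', hT'⟩ : ∃ T' : Subgroup L, T' = (T : Subgroup ↥L₀).map L₀.subtype := ⟨_, rfl⟩
  rw [← hT'] at hYT ⊢
  have hT'L₀ : T' ≤ L₀ := by rw [hT']; exact Subgroup.map_subtype_le _
  have hT'p : IsPGroup p T' := by rw [hT']; exact sylowImage_isPGroup T
  have hYL₀ : Y ≤ L₀ := hYT.trans hT'L₀
  have hML₀ : ∀ M' : Subgroup L, IsCoatom M' → Y ≤ M' → M' = L₀ := by
    intro M' hM' hYM'
    rw [huniq M' ⟨hM', hYM'⟩, huniq L₀ ⟨hL₀, hYL₀⟩]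
  have h4 : normalizer (L₀ : Set L) = L₀ := by
    rcases hL₀.le_iff.mp (Subgroup.le_normalizer : L₀ ≤ normalizer (L₀ : Set L)) with h | h
    · exfalso
      have hn : L₀.Normal := Subgroup.normalizer_eq_top_iff.mp h
      have : Subgroup.normalClosure (Y : Set L) ≤ L₀ :=
        Subgroup.normalClosure_le_normal (SetLike.coe_subset_coe.mpr hYL₀)
      rw [hncl] at this
      exact hL₀.1 (top_le_iff.mp this)
    · exact h
  have key : ∀ g : L, cj g Y ≤ L₀ → g ∈ L₀ := by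
    intro g hg
    have h1 : Y ≤ cj g⁻¹ L₀ := cj_le_iff.mp hg
    have h2 : cj g⁻¹ L₀ = L₀ := hML₀ _ (isCoatom_cj hL₀ g⁻¹) h1
    have h3 : g⁻¹ ∈ L₀ := by rw [← h4]; exact mem_normalizer_of_cj_eq_self h2
    exact inv_mem_iff.mp h3
  have h1 : normalizer (T' : Set L) ≤ L₀ := by
    intro g hg
    apply key
    have := cj_mono (g := g) hYT
    rw [cj_eq_self_of_mem_normalizer hg] at this
    exact this.trans hT'L₀
  have h3 : ∃ P : Sylow p L, (P : Subgroup L) = T' := by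
    obtain ⟨P, hP⟩ := hT'p.exists_le_sylow
    refine ⟨P, ?_⟩
    by_contra hne
    have hlt : T' < P := lt_of_le_of_ne hP (Ne.symm hne)
    have h5 := lt_normalizer_inf_of_lt P.isPGroup' hlt
    have h6 : normalizer (T' : Set L) ⊓ P = sylowImage T :=
      eq_sylowImage_of_le T (P.isPGroup'.to_le inf_le_right) (inf_le_left.trans h1)
        ((le_of_eq hT'.symm).trans h5.le)
    exact h5.ne (hT'.trans h6.symm)
  have h2 : Cfsg.pCore p L ≤ L₀ := by
    obtain ⟨P, hP⟩ := h3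
    have := pCore_le_sylow P
    rw [hP] at this
    exact this.trans hT'L₀
  have h5 : ∀ g : L, g ∉ L₀ → Y ⊔ cj g Y = ⊤ := by
    intro g hg
    by_contra hne
    rcases IsCoatomic.eq_top_or_exists_le_coatom (Y ⊔ cj g Y) with h | ⟨M', hM', hle⟩
    · exact hne h
    · have := hML₀ M' hM' (le_sup_left.trans hle)
      rw [this] at hle
      exact hg (key g (le_sup_right.trans hle))
  refine ⟨h1, h2, h3, h4, h5, ?_⟩
  intro hcomm g hg
  have hYc : ∀ a ∈ Y, ∀ b ∈ Y, a * b = b * a := by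
    intro a ha b hb
    exact congrArg Subtype.val (hcomm.is_comm.comm ⟨a, ha⟩ ⟨b, hb⟩)
  apply le_antisymm
  · rintro x ⟨hxY, hxg⟩
    refine ⟨hxY, ?_⟩
    have hxg' : g⁻¹ * x * g ∈ Y := mem_cj.mp hxg
    have hY1 : Y ≤ centralizer ({x} : Set L) := by
      intro y hy
      rw [Subgroup.mem_centralizer_singleton_iff]
      exact hYc y hy x hxY
    have hY2 : cj g Y ≤ centralizer ({x} : Set L) := by
      intro z hz
      obtain ⟨y, hy, rfl⟩ := mem_cj'.mp hz
      rw [Subgroup.mem_centralizer_singleton_iff]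
      have e1 := hYc y hy _ hxg'
      calc g * y * g⁻¹ * x = g * (y * (g⁻¹ * x * g)) * g⁻¹ := by group
        _ = g * ((g⁻¹ * x * g) * y) * g⁻¹ := by rw [e1]
        _ = x * (g * y * g⁻¹) := by group
    have htop : (⊤ : Subgroup L) ≤ centralizer ({x} : Set L) := by
      rw [← h5 g hg]; exact sup_le hY1 hY2
    show x ∈ Subgroup.center L
    rw [Subgroup.mem_center_iff]
    intro z
    exact Subgroup.mem_centralizer_singleton_iff.mp (htop (Subgroup.mem_top z))
  · rintro x ⟨hxY, hxZ⟩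
    refine ⟨hxY, ?_⟩
    show x ∈ cj g Y
    rw [mem_cj]
    have hxZ' : x ∈ Subgroup.center L := hxZ
    have e : g⁻¹ * x * g = x := by
      have := (Subgroup.mem_center_iff.mp hxZ') g
      rw [mul_assoc, ← this, inv_mul_cancel_left]
    rw [e]; exact hxY

end Cfsg.Agent.S2835
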