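import Cfsg.Statements.S2836
import Cfsg.Agent.Helper17.YMin2
-- import your own Cfsg.Agent.* helpers here

set_option autoImplicit false
open Cfsg

namespace Cfsg.Agent.S2836

open Cfsg.Agent.Helper17
open scoped commutatorElement
open Subgroup


/-- Let L be a finite group, L₀ a maximal subgroup, T a Sylow p-subgroup of L₀, Y ≤ T, and suppose L is Y-minimal. Let D be the intersection of the conjugates of L₀ (the core of L₀). Then D contains O_p(L) and D/O_p(L) is the Frattini subgroup of L/O_p(L), so D is p-closed; and every normal subgroup N of L contained in L₀ is p-closed with N/O_p(N) a nilpotent group of order prime to p. -/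
theorem result {L : Type*} [Group L] [Finite L] {p : ℕ} [Fact p.Prime] (L₀ : Subgroup L) (hL₀ : IsCoatom L₀) (T : Sylow p ↥L₀) (Y : Subgroup L) (hYT : Y ≤ (T : Subgroup ↥L₀).map L₀.subtype) (hmin : Cfsg.IsMinimalOver Y) : (Cfsg.pCore p L ≤ L₀.normalCore ∧ (L₀.normalCore).map (QuotientGroup.mk' (Cfsg.pCore p L)) = frattini (L ⧸ Cfsg.pCore p L) ∧ Cfsg.IsPClosed p ↥(L₀.normalCore)) ∧ ∀ (N : Subgroup L) [N.Normal], N ≤ L₀ → Cfsg.IsPClosed p ↥N ∧ Group.IsNilpotent (↥N ⧸ Cfsg.pCore p ↥N) ∧ (Nat.card (↥N ⧸ Cfsg.pCore p ↥N)).Coprime p := by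
  have hYT' : Y ≤ sylowImage T := hYT
  have hYL₀ : Y ≤ L₀ := hYT'.trans (sylowImage_le T)
  have hYp : IsPGroup p Y := (sylowImage_isPGroup T).to_le hYT'
  refine ⟨⟨?_, minimalOver_map_normalCore hL₀ T hYT' hmin, ?_⟩, ?_⟩
  · exact Subgroup.normal_le_normalCore.mpr (minimalOver_pCore_le hL₀ hYp hYL₀ hmin)
  · exact (minimalOver_normal_le_coatom hL₀ T hYT' hmin L₀.normalCore
      (Subgroup.normalCore_le L₀)).1
  · intro N hN hNL
    obtain ⟨h1, -, h3⟩ := minimalOver_normal_le_coatom hL₀ T hYT' hmin N hNL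
    exact ⟨h1, minimalOver_quot_nilpotent hL₀ T hYT' hmin N hNL, h3⟩

end Cfsg.Agent.S2836
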