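import Cfsg.Statements.S2838
import Cfsg.Agent.Helper17.WeakClosed
-- import your own Cfsg.Agent.* helpers here

set_option autoImplicit false
open Cfsg

namespace Cfsg.Agent.S2838

open Cfsg.Agent.Helper17
open scoped commutatorElement
open Subgroup


/-- For a nontrivial p-subgroup Q of a finite group H the following are equivalent: Q is a weakly closed subgroup (it is the only H-conjugate of itself inside some Sylow p-subgroup containing it); Q = P for every conjugate P of Q with [Q, P] ≤ Q ∩ P; Q is normal in N_H(R) for every p-subgroup R of H containing Q. -/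
theorem result {H : Type*} [Group H] [Finite H] {p : ℕ} [Fact p.Prime] (Q : Subgroup H) (hQp : IsPGroup p ↥Q) (hQ1 : Q ≠ ⊥) : (Cfsg.IsWeaklyClosedSubgroup p Q ↔ ∀ g : H, ⁅Q, ((Q : Subgroup H).map (MulAut.conj (g : H)).toMonoidHom)⁆ ≤ Q ⊓ ((Q : Subgroup H).map (MulAut.conj (g : H)).toMonoidHom) → ((Q : Subgroup H).map (MulAut.conj (g : H)).toMonoidHom) = Q) ∧ (Cfsg.IsWeaklyClosedSubgroup p Q ↔ ∀ R : Subgroup H, IsPGroup p ↥R → Q ≤ R → Subgroup.normalizer ((R : Subgroup H) : Set H) ≤ Subgroup.normalizer ((Q : Subgroup H) : Set H)) := by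
  refine ⟨⟨?_, ?_⟩, wc_iff_normalizers hQp⟩
  · intro hwc g hg
    have h1 : Q ≤ normalizer ((cj g Q : Subgroup H) : Set H) :=
      le_normalizer_of_commutator_le_right (hg.trans inf_le_right)
    have hR : IsPGroup p ↥(Q ⊔ cj g Q) := IsPGroup.to_sup_of_normal_right' hQp (isPGroup_cj hQp) h1
    exact wc_cj_eq_of_le hwc hR le_sup_left le_sup_right
  · intro h
    have h' : ∀ a b : H, ⁅cj a Q, cj b Q⁆ ≤ cj a Q ⊓ cj b Q → cj a Q = cj b Q := by
      intro a b hab
      have h1 : ⁅Q, cj (a⁻¹ * b) Q⁆ ≤ Q ⊓ cj (a⁻¹ * b) Q := by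
        have := cj_mono (g := a⁻¹) hab
        rw [cj_commutator, cj_inf, cj_inv_cj, ← cj_mul] at this
        exact this
      have h2 : cj (a⁻¹ * b) Q = Q := h _ h1
      rw [cj_mul] at h2
      have := congrArg (cj a) h2
      rw [cj_cj_inv] at this
      exact this.symm
    obtain ⟨T, hQT⟩ := hQp.exists_le_sylow
    have key : ∀ a : H, cj a Q ≤ T → (T : Subgroup H) ≤ normalizer ((cj a Q : Subgroup H) : Set H) := by
      intro a ha
      by_contra hcon
      set P : Subgroup H := cj a Q with hP
      set M : Subgroup H := normalizer (P : Set H) ⊓ T with hM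
      have hMT : M < T := by
        refine lt_of_le_of_ne inf_le_right ?_
        intro heq
        apply hcon
        rw [← heq]
        exact inf_le_left
      have hlt := lt_normalizer_inf_of_lt T.isPGroup' hMT
      obtain ⟨x, hx, hxM⟩ := SetLike.exists_of_lt hlt
      have hxN : x ∈ normalizer (M : Set H) := hx.1
      have hxT : x ∈ (T : Subgroup H) := hx.2
      have hPM : P ≤ M := le_inf Subgroup.le_normalizer ha
      have h1 : cj x P ≤ M := by
        have := cj_mono (g := x) hPM
        rwa [cj_eq_self_of_mem_normalizer hxN] at this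
      have h2 : ⁅P, cj x P⁆ ≤ P := commutator_le_left_of_le_normalizer (h1.trans inf_le_left)
      have h3 : P ≤ normalizer ((cj x P : Subgroup H) : Set H) := by
        rw [normalizer_cj]
        have h4 : M ≤ cj x (normalizer (P : Set H)) := by
          have h5 : cj x M ≤ cj x (normalizer (P : Set H)) := cj_mono inf_le_left
          rwa [cj_eq_self_of_mem_normalizer hxN] at h5
        exact hPM.trans h4
      have h4 : ⁅P, cj x P⁆ ≤ cj x P := commutator_le_right_of_le_normalizer h3
      have h5 : cj a Q = cj (x * a) Q := by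
        apply h'
        rw [cj_mul]
        exact le_inf h2 h4
      rw [cj_mul] at h5
      apply hxM
      exact ⟨mem_normalizer_of_cj_eq_self h5.symm, hxT⟩
    refine ⟨T, hQT, ?_⟩
    intro g hg
    apply h
    have hT1 : (T : Subgroup H) ≤ normalizer (Q : Set H) := by
      have := key 1 (by rw [cj_one]; exact hQT)
      rwa [cj_one] at this
    have hT2 := key g hg
    exact le_inf (commutator_le_left_of_le_normalizer (hg.trans hT1))
      (commutator_le_right_of_le_normalizer (hQT.trans hT2))

end Cfsg.Agent.S2838
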