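import Cfsg.Statements.S2840
import Cfsg.Agent.Helper17.WeakClosed
-- import your own Cfsg.Agent.* helpers here

set_option autoImplicit false
open Cfsg

namespace Cfsg.Agent.S2840

open Cfsg.Agent.Helper17
open scoped commutatorElement
open Subgroup


/-- Let Q be a nontrivial p-subgroup of the finite group H that is a weakly closed subgroup and K a subgroup containing Q; let K° be the weak closure of Q in K (generated by the H-conjugates of Q inside K). Then K° is generated by the K-conjugates of Q, and K° is the subnormal closure of Q in K. -/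
theorem result {H : Type*} [Group H] [Finite H] {p : ℕ} [Fact p.Prime] (Q : Subgroup H) (hQp : IsPGroup p ↥Q) (hQ1 : Q ≠ ⊥) (hwc : Cfsg.IsWeaklyClosedSubgroup p Q) (K : Subgroup H) (hQK : Q ≤ K) (Kc : Subgroup H) (hKc : Kc = Cfsg.weakClosure Q K) : Kc = ⨆ k : ↥K, ((Q : Subgroup H).map (MulAut.conj ((k : H) : H)).toMonoidHom) ∧ Kc = (Cfsg.subnormalClosure (Q.subgroupOf K)).map K.subtype := by
  subst hKc
  have hW : Cfsg.weakClosure Q K = ⨆ k : ↥K, cj (k : H) Q := by
    apply le_antisymm
    · show (⨆ g : {g : H // cj g Q ≤ K}, cj (g : H) Q) ≤ _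
      apply iSup_le
      rintro ⟨g, hg⟩
      obtain ⟨k, hk, hkQ⟩ := wc_conj_in_subgroup hQp hwc hQK hg
      show cj g Q ≤ _
      rw [hkQ]
      exact le_iSup (fun k : ↥K => cj (k : H) Q) ⟨k, hk⟩
    · apply iSup_le
      intro k
      show cj (k : H) Q ≤ ⨆ g : {g : H // cj g Q ≤ K}, cj (g : H) Q
      exact le_iSup (fun g : {g : H // cj g Q ≤ K} => cj (g : H) Q)
        ⟨k, cj_le_of_le_of_mem hQK k.2⟩
  refine ⟨hW, ?_⟩
  rw [hW]
  set W : Subgroup H := ⨆ k : ↥K, cj (k : H) Q with hWdef
  have hWK : W ≤ K := iSup_le (fun k => cj_le_of_le_of_mem hQK k.2)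
  have hQW : Q ≤ W := by
    have h1 : cj ((1 : ↥K) : H) Q ≤ W := le_iSup (fun k : ↥K => cj (k : H) Q) 1
    rwa [show ((1 : ↥K) : H) = 1 from rfl, cj_one] at h1
  have hKN : K ≤ normalizer (W : Set H) := by
    intro k' hk'
    apply mem_normalizer_of_cj_le
    show W.map _ ≤ W
    rw [hWdef, Subgroup.map_iSup]
    apply iSup_le
    intro k
    show cj k' (cj (k : H) Q) ≤ _
    rw [← cj_mul]
    exact le_iSup (fun k : ↥K => cj (k : H) Q) (⟨k', hk'⟩ * k)
  have hnorm : (W.subgroupOf K).Normal :=
    (Subgroup.normal_subgroupOf_iff_le_normalizer hWK).mpr hKN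
  apply le_antisymm
  · have hwcK := wc_subgroupOf hQp hwc hQK
    have hQpK : IsPGroup p ↥(Q.subgroupOf K) := hQp.comap_subtype
    have key : ∀ S : Subgroup ↥K, S.IsSubnormal → Q.subgroupOf K ≤ S →
        ∀ k : ↥K, cj k (Q.subgroupOf K) ≤ S := by
      intro S hS
      induction hS with
      | top => intro _ k; exact le_top
      | step S S' hle hS' hN ih =>
        intro hQS k
        have h1 := ih (hQS.trans hle) k
        obtain ⟨s, hs, hsQ⟩ := wc_conj_in_subgroup hQpK hwcK (hQS.trans hle) h1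
        rw [hsQ]
        have hsN : s ∈ normalizer (S : Set ↥K) :=
          ((Subgroup.normal_subgroupOf_iff_le_normalizer hle).mp hN) hs
        have := cj_mono (g := s) hQS
        rwa [cj_eq_self_of_mem_normalizer hsN] at this
    apply iSup_le
    intro k
    have h2 : cj k (Q.subgroupOf K) ≤ Cfsg.subnormalClosure (Q.subgroupOf K) := by
      apply le_sInf
      rintro S ⟨hQS, hS⟩
      exact key S hS hQS k
    have h3 := Subgroup.map_mono (f := K.subtype) h2
    rw [map_subtype_cj, Subgroup.map_subgroupOf_eq_of_le hQK] at h3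
    exact h3
  · rw [Subgroup.map_le_iff_le_comap]
    apply sInf_le
    exact ⟨Subgroup.comap_mono hQW, hnorm.isSubnormal⟩

end Cfsg.Agent.S2840
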