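import Cfsg.Statements.S2841
import Cfsg.Agent.Helper17.WeakClosed
-- import your own Cfsg.Agent.* helpers here

set_option autoImplicit false
open Cfsg

namespace Cfsg.Agent.S2841

open Cfsg.Agent.Helper17
open scoped commutatorElement
open Subgroup


/-- Let Q be a nontrivial p-subgroup of the finite group H that is a weakly closed subgroup and N a normal subgroup of H. Then N = N_N(Q)·[N, Q] and [N, Q] = (Q ∩ [N, Q])·[N, Q, Q]. -/
theorem result {H : Type*} [Group H] [Finite H] {p : ℕ} [Fact p.Prime] (Q : Subgroup H) (hQp : IsPGroup p ↥Q) (hQ1 : Q ≠ ⊥) (hwc : Cfsg.IsWeaklyClosedSubgroup p Q) (N' : Subgroup H) [N'.Normal] : (∀ n : H, n ∈ N' → ∃ a ∈ N' ⊓ Subgroup.normalizer ((Q : Subgroup H) : Set H), ∃ b ∈ ⁅N', Q⁆, n = a * b) ∧ (∀ c : H, c ∈ ⁅N', Q⁆ → ∃ a ∈ Q ⊓ ⁅N', Q⁆, ∃ b ∈ ⁅⁅N', Q⁆, Q⁆, c = a * b) := by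
  have hD1 : Q ≤ normalizer ((⁅N', Q⁆ : Subgroup H) : Set H) := le_normalizer_commutator_right N' Q
  have hDN : ⁅N', Q⁆ ≤ N' := Subgroup.commutator_le_left N' Q
  have step : ∀ n ∈ N', ∃ d ∈ ⁅N', Q⁆, cj n Q = cj d Q := by
    intro n hn
    have h1 : cj n Q ≤ ⁅N', Q⁆ ⊔ Q := by
      intro x hx
      obtain ⟨q, hq, rfl⟩ := mem_cj'.mp hx
      have e : n * q * n⁻¹ = ⁅n, q⁆ * q := by rw [commutatorElement_def]; group
      rw [e]
      exact mul_mem (Subgroup.mem_sup_left (Subgroup.commutator_mem_commutator hn hq))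
        (Subgroup.mem_sup_right hq)
    obtain ⟨k, hk, hkQ⟩ := wc_conj_in_subgroup hQp hwc le_sup_right h1
    have hk' : k ∈ ((⁅N', Q⁆ ⊔ Q : Subgroup H) : Set H) := hk
    rw [Subgroup.coe_mul_of_right_le_normalizer_left _ _ hD1] at hk'
    obtain ⟨d, hd, q, hq, rfl⟩ := Set.mem_mul.mp hk'
    have hd : d ∈ ⁅N', Q⁆ := hd
    have hq : q ∈ Q := hq
    refine ⟨d, hd, ?_⟩
    rw [hkQ, cj_mul, cj_eq_self_of_mem hq]
  constructor
  · intro n hn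
    obtain ⟨d, hd, hdQ⟩ := step n⁻¹ (inv_mem hn)
    refine ⟨n * d, ⟨mul_mem hn (hDN hd), ?_⟩, d⁻¹, inv_mem hd, by group⟩
    have h2 : cj (d⁻¹ * n⁻¹) Q = Q := by
      rw [cj_mul, hdQ, cj_inv_cj]
    have h3 := mem_normalizer_of_cj_eq_self h2
    have h4 := inv_mem h3
    have e : (d⁻¹ * n⁻¹)⁻¹ = n * d := by group
    rwa [e] at h4
  · have hE1 : Q ≤ normalizer ((⁅⁅N', Q⁆, Q⁆ : Subgroup H) : Set H) :=
      le_normalizer_commutator_right _ Q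
    have hED : ⁅⁅N', Q⁆, Q⁆ ≤ ⁅N', Q⁆ := commutator_le_left_of_le_normalizer hD1
    have hle : ⁅N', Q⁆ ≤ Q ⊔ ⁅⁅N', Q⁆, Q⁆ := by
      rw [Subgroup.commutator_le]
      intro n hn q hq
      obtain ⟨d, hd, hdQ⟩ := step n hn
      have h1 : n * q * n⁻¹ ∈ cj d Q := by rw [← hdQ]; exact conj_mem_cj hq
      obtain ⟨q', hq', e1⟩ := mem_cj'.mp h1
      have e : ⁅n, q⁆ = ⁅d, q'⁆ * (q' * q⁻¹) := by
        rw [commutatorElement_def, commutatorElement_def, e1]; group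
      rw [e]
      have hqq : q' * q⁻¹ ∈ Q := mul_mem hq' (inv_mem hq)
      have hdd : ⁅d, q'⁆ ∈ ⁅⁅N', Q⁆, Q⁆ := Subgroup.commutator_mem_commutator hd hq'
      exact mul_mem (Subgroup.mem_sup_right hdd) (Subgroup.mem_sup_left hqq)
    intro c hc
    have hc' : c ∈ ((Q ⊔ ⁅⁅N', Q⁆, Q⁆ : Subgroup H) : Set H) := hle hc
    rw [Subgroup.coe_mul_of_left_le_normalizer_right _ _ hE1] at hc'
    obtain ⟨q, hq, e, he, rfl⟩ := Set.mem_mul.mp hc'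
    have hq : q ∈ Q := hq
    have he : e ∈ ⁅⁅N', Q⁆, Q⁆ := he
    have hqD : q ∈ ⁅N', Q⁆ := by
      have : q = (q * e) * e⁻¹ := by group
      rw [this]
      exact mul_mem hc (inv_mem (hED he))
    exact ⟨q, ⟨hq, hqD⟩, e, he, rfl⟩

end Cfsg.Agent.S2841
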