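import Cfsg.Statements.S2844
import Cfsg.Agent.Helper17.WeakClosed
-- import your own Cfsg.Agent.* helpers here

set_option autoImplicit false
open Cfsg

namespace Cfsg.Agent.S2844

open Cfsg.Agent.Helper17
open scoped commutatorElement
open Subgroup


/-- Let Q be a nontrivial large p-subgroup of the finite group H and Q• = O_p(N_H(Q)). Then for every g ∈ H outside N_H(Q): C_H(Q) ∩ C_H(gQg⁻¹) = 1, C_H(Q•) ∩ C_H(gQ•g⁻¹) = 1, Z(Q) ∩ Z(gQg⁻¹) = 1 and Z(Q•) ∩ Z(gQ•g⁻¹) = 1; moreover N_H(Q) = N_H(Q•) and Q• is large in H. -/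
theorem result {H : Type*} [Group H] [Finite H] {p : ℕ} [Fact p.Prime] (Q : Subgroup H) (hQp : IsPGroup p ↥Q) (hQ1 : Q ≠ ⊥) (hL : Cfsg.IsLarge Q) (Qb : Subgroup H) (hQb : Qb = Cfsg.largeBullet p Q) : (∀ g : H, g ∉ Subgroup.normalizer ((Q : Subgroup H) : Set H) → Subgroup.centralizer ((Q : Subgroup H) : Set H) ⊓ Subgroup.centralizer ((((Q : Subgroup H).map (MulAut.conj (g : H)).toMonoidHom) : Subgroup H) : Set H) = ⊥ ∧ Subgroup.centralizer ((Qb : Subgroup H) : Set H) ⊓ Subgroup.centralizer ((((Qb : Subgroup H).map (MulAut.conj (g : H)).toMonoidHom) : Subgroup H) : Set H) = ⊥ ∧ (Q ⊓ Subgroup.centralizer ((Q : Subgroup H) : Set H)) ⊓ (((Q : Subgroup H).map (MulAut.conj (g : H)).toMonoidHom) ⊓ Subgroup.centralizer ((((Q : Subgroup H).map (MulAut.conj (g : H)).toMonoidHom) : Subgroup H) : Set H)) = ⊥ ∧ (Qb ⊓ Subgroup.centralizer ((Qb : Subgroup H) : Set H)) ⊓ (((Qb : Subgroup H).map (MulAut.conj (g : H)).toMonoidHom) ⊓ Subgroup.centralizer ((((Qb : Subgroup H).map (MulAut.conj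 (g : H)).toMonoidHom) : Subgroup H) : Set H)) = ⊥) ∧ Subgroup.normalizer ((Q : Subgroup H) : Set H) = Subgroup.normalizer ((Qb : Subgroup H) : Set H) ∧ Cfsg.IsLarge Qb := by
  subst hQb
  obtain ⟨hL1, hL2⟩ := hL
  have hwc : Cfsg.IsWeaklyClosedSubgroup p Q := by
    apply wc_of_normalizers hQp
    intro R hR hQR
    have hRne : R ≠ ⊥ := by
      intro h
      apply hQ1
      rw [h] at hQR
      exact le_bot_iff.mp hQR
    obtain ⟨x, hxR, hxo, hxc⟩ :=
      exists_orderOf_eq_prime_central hR le_rfl Subgroup.le_normalizer hRne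
    set U : Subgroup H := R ⊓ centralizer (R : Set H) with hU
    have hU1 : U ≤ centralizer (Q : Set H) :=
      inf_le_right.trans (Subgroup.centralizer_le (SetLike.coe_subset_coe.mpr hQR))
    have hU2 : U ≠ ⊥ := by
      intro h
      have hxC : x ∈ centralizer (R : Set H) :=
        Subgroup.mem_centralizer_iff.mpr (fun y hy => hxc y hy)
      have hxU : x ∈ U := ⟨hxR, hxC⟩
      rw [h, Subgroup.mem_bot] at hxU
      rw [hxU, orderOf_one] at hxo
      exact (Fact.out : p.Prime).one_lt.ne hxo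
    have hNU : normalizer (R : Set H) ≤ normalizer (U : Set H) := by
      intro g hg
      apply mem_normalizer_of_cj_eq_self
      rw [hU, cj_inf, ← centralizer_cj, cj_eq_self_of_mem_normalizer hg]
    exact hNU.trans (hL2 U hU1 hU2)
  have keyA : ∀ g : H, g ∉ normalizer (Q : Set H) →
      centralizer (Q : Set H) ⊓ centralizer ((cj g Q : Subgroup H) : Set H) = ⊥ := by
    intro g hg
    by_contra hne
    set U : Subgroup H := centralizer (Q : Set H) ⊓ centralizer ((cj g Q : Subgroup H) : Set H)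
      with hU
    have h1 : normalizer (U : Set H) ≤ normalizer (Q : Set H) := hL2 U inf_le_left hne
    have h2 : normalizer (U : Set H) ≤ normalizer ((cj g Q : Subgroup H) : Set H) := by
      have h3 : cj g⁻¹ U ≤ centralizer (Q : Set H) := by
        rw [cj_le_iff, inv_inv, ← centralizer_cj]; exact inf_le_right
      have h4 := hL2 (cj g⁻¹ U) h3 (cj_ne_bot hne)
      rw [normalizer_cj, cj_le_iff, inv_inv] at h4
      rw [normalizer_cj]
      exact h4
    have hQU : Q ≤ normalizer (U : Set H) := by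
      have : Q ≤ centralizer (U : Set H) := by
        rw [Subgroup.le_centralizer_iff]; exact inf_le_left
      exact this.trans (Subgroup.centralizer_le_normalizer _)
    have hR : IsPGroup p ↥(Q ⊔ cj g Q) :=
      IsPGroup.to_sup_of_normal_right' hQp (isPGroup_cj hQp) (hQU.trans h2)
    exact hg (mem_normalizer_of_cj_eq_self (wc_cj_eq_of_le hwc hR le_sup_left le_sup_right))
  set M : Subgroup H := normalizer (Q : Set H) with hM
  have hQbp : IsPGroup p ↥(Cfsg.largeBullet p Q) := (pCore_isPGroup p ↥M).map _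
  have hQQb : Q ≤ Cfsg.largeBullet p Q := by
    have hn : (Q.subgroupOf M).Normal := Subgroup.normal_in_normalizer
    have h1 : Q.subgroupOf M ≤ Cfsg.pCore p ↥M := le_pCore hn hQp.comap_subtype
    have h2 := Subgroup.map_mono (f := M.subtype) h1
    rwa [Subgroup.map_subgroupOf_eq_of_le Subgroup.le_normalizer] at h2
  have hN1 : M ≤ normalizer ((Cfsg.largeBullet p Q : Subgroup H) : Set H) := by
    have hn : (Cfsg.pCore p ↥M).Normal := Subgroup.sSup_normal _ (fun _ h => h.1)
    have h1 := Subgroup.le_normalizer_map (H := Cfsg.pCore p ↥M) M.subtype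
    rw [Subgroup.normalizer_eq_top, ← MonoidHom.range_eq_map, Subgroup.range_subtype] at h1
    exact h1
  have hN : M = normalizer ((Cfsg.largeBullet p Q : Subgroup H) : Set H) :=
    le_antisymm hN1 (wc_normalizer_le hwc hQbp hQQb)
  have hcQ : centralizer ((Cfsg.largeBullet p Q : Subgroup H) : Set H) ≤ centralizer (Q : Set H) :=
    Subgroup.centralizer_le (SetLike.coe_subset_coe.mpr hQQb)
  have keyB : ∀ g : H, g ∉ M → centralizer ((Cfsg.largeBullet p Q : Subgroup H) : Set H) ⊓
      centralizer ((cj g (Cfsg.largeBullet p Q) : Subgroup H) : Set H) = ⊥ := by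
    intro g hg
    rw [eq_bot_iff, ← keyA g hg]
    exact inf_le_inf hcQ
      (Subgroup.centralizer_le (SetLike.coe_subset_coe.mpr (cj_mono hQQb)))
  refine ⟨fun g hg => ⟨keyA g hg, keyB g hg, ?_, ?_⟩, hN, ?_, ?_⟩
  · rw [eq_bot_iff, ← keyA g hg]; exact inf_le_inf inf_le_right inf_le_right
  · rw [eq_bot_iff, ← keyB g hg]; exact inf_le_inf inf_le_right inf_le_right
  · exact hcQ.trans (hL1.trans hQQb)
  · intro U hU hne
    rw [← hN]
    exact hL2 U (hU.trans hcQ) hne

end Cfsg.Agent.S2844
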