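import Cfsg.Statements.S2848
import Cfsg.Agent.Helper17.LocChar
import Cfsg.Agent.Helper10.Coprime
-- import your own Cfsg.Agent.* helpers here

set_option autoImplicit false
open Cfsg

namespace Cfsg.Agent.S2848

open Cfsg.Agent.Helper17
open scoped commutatorElement
open Subgroup


/-- Standing hypotheses: G a finite group, S a Sylow p-subgroup, Q a nontrivial large p-subgroup of G contained in S (C_G(Q) ≤ Q and N_G(U) ≤ N_G(Q) for all nontrivial U ≤ C_G(Q)), and M a subgroup containing S with the basic property (M ∈ 𝔐_G(S)); Y_M denotes the largest p-reduced normal subgroup of M and M† = M·C_G(Y_M). Then O_p(M) is a weakly closed subgroup of M† (for p): it is the only M†-conjugate of itself inside some Sylow p-subgroup of M† containing it. -/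
theorem result {G : Type*} [Group G] [Finite G] {p : ℕ} [Fact p.Prime] (S : Sylow p G) (Q : Subgroup G) (hQp : IsPGroup p ↥Q) (hQ1 : Q ≠ ⊥) (hQS : Q ≤ (S : Subgroup G)) (hQ : Cfsg.IsLarge Q) (M : Subgroup G) (hSM : (S : Subgroup G) ≤ M) (hM : Cfsg.IsInFrakM p M) : Cfsg.IsWeaklyClosedSubgroup p (((Cfsg.pCoreOf p M)).subgroupOf (M ⊔ Subgroup.centralizer (((Cfsg.largestPReducedOf p M) : Subgroup G) : Set G))) := by
  obtain ⟨Y, hYdef⟩ : ∃ Y, Y = Cfsg.largestPReducedOf p M := ⟨_, rfl⟩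
  obtain ⟨hML, -, -, -, hcl, -⟩ := hM
  rw [← hYdef] at hcl ⊢
  have hOY : Cfsg.pCoreOf p M ≤ centralizer (Y : Set G) := by
    rw [hYdef]; exact pCoreOf_le_centralizer_largest M
  have hMnY : M ≤ normalizer (Y : Set G) := by
    rw [hYdef]; exact (largestPReducedOf_spec p M).1
  have hMnC : M ≤ normalizer ((centralizer (Y : Set G) : Subgroup G) : Set G) :=
    hMnY.trans (normalizer_le_normalizer_centralizer Y)
  have hOS : Cfsg.pCoreOf p M ≤ S := by
    have h1 : Cfsg.pCore p ↥M ≤ (S.subtype hSM : Subgroup ↥M) := pCore_le_sylow _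
    intro x hx
    obtain ⟨y, hy, rfl⟩ := hx
    have := h1 hy
    rw [Sylow.coe_subtype] at this
    exact Subgroup.mem_subgroupOf.mp this
  obtain ⟨Md, hMd⟩ : ∃ Md : Subgroup G, Md = M ⊔ centralizer (Y : Set G) := ⟨_, rfl⟩
  rw [← hMd]
  have hMle : M ≤ Md := hMd ▸ le_sup_left
  have hSMd : (S : Subgroup G) ≤ Md := hSM.trans hMle
  refine ⟨S.subtype hSMd, ?_, ?_⟩
  · intro x hx
    rw [Sylow.coe_subtype]
    rw [Subgroup.mem_subgroupOf] at hx ⊢
    exact hOS hx
  · intro g hg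
    change cj g ((Cfsg.pCoreOf p M).subgroupOf Md) ≤ _ at hg
    change cj g ((Cfsg.pCoreOf p M).subgroupOf Md) = _
    rw [cj_subgroupOf] at hg ⊢
    have hg' : cj (g : G) (Cfsg.pCoreOf p M) ≤ S := by
      intro x hx
      have hxMd : x ∈ Md := cj_le_of_le_of_mem ((pCoreOf_le' p M).trans hMle) g.2 hx
      have := hg (show (⟨x, hxMd⟩ : ↥Md) ∈ (cj (g : G) (Cfsg.pCoreOf p M)).subgroupOf Md from
        Subgroup.mem_subgroupOf.mpr hx)
      rw [Sylow.coe_subtype] at this
      exact Subgroup.mem_subgroupOf.mp this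
    suffices h : cj (g : G) (Cfsg.pCoreOf p M) = Cfsg.pCoreOf p M by rw [h]
    obtain ⟨c, hc, m, hm, hgcm⟩ := Cfsg.Agent.Helper10.mem_sup_of_le_normalizer hMnC
      (show (g : G) ∈ centralizer (Y : Set G) ⊔ M from by rw [sup_comm, ← hMd]; exact g.2)
    rw [hgcm, cj_mul, cj_eq_self_iff.mpr (le_normalizer_pCoreOf p M hm)] at hg' ⊢
    apply cj_eq_self_iff.mpr
    apply mem_normalizer_of_cj_le
    obtain ⟨S₀, hS₀, hall⟩ := (isPClosed_subgroup_iff _).mp hcl
    have hD : S₀ ⊓ (M ⊓ centralizer (Y : Set G)) ≤ Cfsg.pCoreOf p M := by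
      apply le_pCoreOf' (inf_le_right.trans inf_le_left) ?_ (hS₀.to_le inf_le_left)
      intro m hm
      apply mem_normalizer_of_cj_le
      intro x hx
      obtain ⟨y, hy, rfl⟩ := mem_cj'.mp hx
      have hyD : m * y * m⁻¹ ∈ M ⊓ centralizer (Y : Set G) := by
        refine ⟨M.mul_mem (M.mul_mem hm hy.2.1) (M.inv_mem hm), ?_⟩
        have h1 := cj_eq_self_iff.mpr (hMnC hm)
        rw [← h1]
        exact conj_mem_cj hy.2.2
      refine ⟨hall _ hyD ?_, hyD⟩
      obtain ⟨k, hk⟩ := exists_pow_of_isPGroup hS₀ hy.1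
      refine ⟨k, ?_⟩
      rw [conj_pow, hk]; simp
    intro x hx
    apply hD
    have hxS : x ∈ (S : Subgroup G) := hg' hx
    have hxC : x ∈ centralizer (Y : Set G) := by
      obtain ⟨y, hy, rfl⟩ := mem_cj'.mp hx
      exact (centralizer _).mul_mem ((centralizer _).mul_mem hc (hOY hy)) ((centralizer _).inv_mem hc)
    have hxD : x ∈ M ⊓ centralizer (Y : Set G) := ⟨hSM hxS, hxC⟩
    refine ⟨hall x hxD ?_, hxD⟩
    exact exists_pow_of_isPGroup S.isPGroup' hxS

end Cfsg.Agent.S2848
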