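import Cfsg.Statements.S2849
import Cfsg.Agent.Helper17.LocChar
import Cfsg.Agent.Helper10.Coprime
-- import your own Cfsg.Agent.* helpers here

set_option autoImplicit false
open Cfsg

namespace Cfsg.Agent.S2849

open Cfsg.Agent.Helper17
open scoped commutatorElement
open Subgroup


/-- Standing hypotheses: G a finite group, S a Sylow p-subgroup, Q a nontrivial large p-subgroup of G contained in S (C_G(Q) ≤ Q and N_G(U) ≤ N_G(Q) for all nontrivial U ≤ C_G(Q)), and M a subgroup containing S with the basic property (M ∈ 𝔐_G(S)); Y_M denotes the largest p-reduced normal subgroup of M and M† = M·C_G(Y_M). Suppose Y_M is asymmetric in G. Then for every subgroup R with Y_M ≤ R ≤ M†, the normal closure of Y_M in N_G(R) is elementary abelian. -/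
theorem result {G : Type*} [Group G] [Finite G] {p : ℕ} [Fact p.Prime] (S : Sylow p G) (Q : Subgroup G) (hQp : IsPGroup p ↥Q) (hQ1 : Q ≠ ⊥) (hQS : Q ≤ (S : Subgroup G)) (hQ : Cfsg.IsLarge Q) (M : Subgroup G) (hSM : (S : Subgroup G) ≤ M) (hM : Cfsg.IsInFrakM p M) (hasym : ¬ Cfsg.IsSymmetricIn (Cfsg.largestPReducedOf p M)) (R : Subgroup G) (hYR : (Cfsg.largestPReducedOf p M) ≤ R) (hRM : R ≤ (M ⊔ Subgroup.centralizer (((Cfsg.largestPReducedOf p M) : Subgroup G) : Set G))) : Cfsg.IsElementaryAbelian p ((Subgroup.normalClosure ((((Cfsg.largestPReducedOf p M)).subgroupOf (Subgroup.normalizer ((R : Subgroup G) : Set G)) : Subgroup ↥(Subgroup.normalizer ((R : Subgroup G) : Set G))) : Set ↥(Subgroup.normalizer ((R : Subgroup G) : Set G)))).map (Subgroup.normalizer ((R : Subgroup G) : Set G)).subtype) := by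
  obtain ⟨Y, hYdef⟩ : ∃ Y, Y = Cfsg.largestPReducedOf p M := ⟨_, rfl⟩
  rw [← hYdef] at hasym hYR hRM ⊢
  obtain ⟨N, hNdef⟩ : ∃ N, N = normalizer ((R : Subgroup G) : Set G) := ⟨_, rfl⟩
  rw [← hNdef]
  have hMnY : M ≤ normalizer (Y : Set G) := by
    rw [hYdef]; exact (largestPReducedOf_spec p M).1
  have hYe : Cfsg.IsElementaryAbelian p Y := by
    rw [hYdef]; exact (largestPReducedOf_spec p M).2.1
  have hRnY : R ≤ normalizer (Y : Set G) :=
    hRM.trans (sup_le hMnY (Subgroup.centralizer_le_normalizer _))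
  -- `Y` commutes with its `N`-conjugates
  have hcomm : ∀ g ∈ N, ⁅Y, cj g Y⁆ = ⊥ := by
    intro g hg
    have hgR : g ∈ normalizer ((R : Subgroup G) : Set G) := hNdef ▸ hg
    by_contra hne
    apply hasym
    refine ⟨g, hne, le_inf ?_ ?_⟩
    · apply commutator_le_left_of_le_normalizer
      have h1 : cj g Y ≤ cj g R := cj_mono hYR
      rw [cj_eq_self_iff.mpr hgR] at h1
      exact h1.trans hRnY
    · apply commutator_le_right_of_le_normalizer
      rw [normalizer_cj]
      have h1 : cj g R ≤ cj g (normalizer (Y : Set G)) := cj_mono hRnY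
      rw [cj_eq_self_iff.mpr hgR] at h1
      exact hYR.trans h1
  obtain ⟨T, hT⟩ : ∃ T : Set G, T = {x : G | ∃ g ∈ N, x ∈ cj g Y} := ⟨_, rfl⟩
  have hTcomm : ∀ x ∈ T, ∀ y ∈ T, x * y = y * x := by
    intro x hx y hy
    rw [hT] at hx hy
    obtain ⟨g, hg, hxg⟩ := hx
    obtain ⟨h, hh, hyh⟩ := hy
    obtain ⟨a, ha, rfl⟩ := mem_cj'.mp hxg
    obtain ⟨b, hb, rfl⟩ := mem_cj'.mp hyh
    have h1 : g⁻¹ * h * b * (g⁻¹ * h)⁻¹ ∈ cj (g⁻¹ * h) Y := conj_mem_cj hb
    have h2 := Subgroup.commutator_mem_commutator ha h1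
    rw [hcomm _ (N.mul_mem (N.inv_mem hg) hh), Subgroup.mem_bot,
      commutatorElement_eq_one_iff_commute] at h2
    have h3 := h2.eq
    have e1 : g * a * g⁻¹ * (h * b * h⁻¹) = g * (a * (g⁻¹ * h * b * (g⁻¹ * h)⁻¹)) * g⁻¹ := by group
    have e2 : h * b * h⁻¹ * (g * a * g⁻¹) = g * ((g⁻¹ * h * b * (g⁻¹ * h)⁻¹) * a) * g⁻¹ := by group
    rw [e1, e2, h3]
  have hTp : ∀ x ∈ T, x ^ p = 1 := by
    intro x hx
    rw [hT] at hx
    obtain ⟨g, hg, hxg⟩ := hx
    obtain ⟨a, ha, rfl⟩ := mem_cj'.mp hxg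
    rw [conj_pow, hYe.2 a ha]; simp
  have hKc : closure T ≤ centralizer ((closure T : Subgroup G) : Set G) := by
    rw [Subgroup.centralizer_closure]
    rw [Subgroup.closure_le]
    intro x hx
    rw [SetLike.mem_coe, Subgroup.mem_centralizer_iff]
    intro y hy
    exact hTcomm y hy x hx
  have hKe : Cfsg.IsElementaryAbelian p (closure T) := by
    rw [isElementaryAbelian_iff]
    refine ⟨hKc, ?_⟩
    intro a ha
    induction ha using Subgroup.closure_induction with
    | mem x hx => exact hTp x hx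
    | one => exact one_pow _
    | mul x y hx hy ihx ihy =>
      have hc : Commute x y := ((Subgroup.mem_centralizer_iff.mp (hKc hy)) x hx)
      rw [hc.mul_pow, ihx, ihy, one_mul]
    | inv x hx ihx => rw [inv_pow, ihx, inv_one]
  apply isElementaryAbelian_of_le hKe
  rw [Subgroup.map_le_iff_le_comap]
  unfold Subgroup.normalClosure
  rw [Subgroup.closure_le]
  intro a ha
  rw [Group.mem_conjugatesOfSet_iff] at ha
  obtain ⟨b, hb, hba⟩ := ha
  rw [isConj_iff] at hba
  obtain ⟨c, hc⟩ := hba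
  rw [SetLike.mem_coe, Subgroup.mem_comap]
  apply Subgroup.subset_closure
  rw [hT]
  refine ⟨(c : G), c.2, ?_⟩
  rw [mem_cj']
  refine ⟨(b : G), Subgroup.mem_subgroupOf.mp hb, ?_⟩
  rw [← hc]
  rfl

end Cfsg.Agent.S2849
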