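import Cfsg.Statements.S2873
import Cfsg.Agent.Helper17.WeakClosed
-- import your own Cfsg.Agent.* helpers here

set_option autoImplicit false
open Cfsg

namespace Cfsg.Agent.S2873

open Cfsg.Agent.Helper17
open scoped commutatorElement
open Subgroup


/-- Let G be a finite group and r an odd prime such that G ⧸ O₂(G) is dihedral of order 2r, and let R be a Sylow r-subgroup of G with C_{O₂(G)}(R) = 1. Then N_G(R) is dihedral of order 2r; for any involution a of N_G(R), every involution of G outside O₂(G) is conjugate to a; and |C_{O₂(G)}(a)|² = |O₂(G)|. -/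
theorem result {G : Type*} [Group G] [Finite G] {r : ℕ} [Fact r.Prime] (hr : r ≠ 2) [hN : (Cfsg.pCore 2 G).Normal] (hquot : Nonempty (G ⧸ Cfsg.pCore 2 G ≃* DihedralGroup r)) (R : Sylow r G) (hC : Cfsg.pCore 2 G ⊓ Subgroup.centralizer ((R : Subgroup G) : Set G) = ⊥) : Nonempty (↥(Subgroup.normalizer ((R : Subgroup G) : Set G)) ≃* DihedralGroup r) ∧ ∀ a : G, a ∈ Subgroup.normalizer ((R : Subgroup G) : Set G) → orderOf a = 2 → (∀ b : G, orderOf b = 2 → b ∉ Cfsg.pCore 2 G → ∃ g : G, g * a * g⁻¹ = b) ∧ Nat.card ↥(Cfsg.pCore 2 G ⊓ Subgroup.centralizer ({a} : Set G)) ^ 2 = Nat.card ↥(Cfsg.pCore 2 G) := by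
  classical
  obtain ⟨e⟩ := hquot
  have hrp : r.Prime := Fact.out
  have hr3 : 3 ≤ r := by have := hrp.two_le; omega
  have hrodd : Odd r := hrp.odd_of_ne_two hr
  haveI : NeZero r := ⟨hrp.ne_zero⟩
  have hcop : r.Coprime 2 := (Nat.coprime_primes hrp Nat.prime_two).mpr hr
  obtain ⟨Q, hQ⟩ : ∃ Q : Subgroup G, Q = Cfsg.pCore 2 G := ⟨_, rfl⟩
  haveI hQn : Q.Normal := by rw [hQ]; exact hN
  obtain ⟨φ, hφ⟩ : ∃ φ : G →* DihedralGroup r,
      φ = e.toMonoidHom.comp (QuotientGroup.mk' (Cfsg.pCore 2 G)) := ⟨_, rfl⟩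
  have hφsurj : Function.Surjective φ := by
    rw [hφ]; exact e.surjective.comp (QuotientGroup.mk'_surjective _)
  have hφker : ∀ g : G, φ g = 1 ↔ g ∈ Q := by
    intro g
    rw [hφ, hQ]
    show e (QuotientGroup.mk' _ g) = 1 ↔ _
    rw [MulEquiv.map_eq_one_iff, QuotientGroup.mk'_apply, QuotientGroup.eq_one_iff]
  have hφeq : ∀ g h : G, φ g = φ h → g⁻¹ * h ∈ Q := by
    intro g h hgh
    rw [← hφker, map_mul, map_inv, hgh, inv_mul_cancel]
  have hQ2 : IsPGroup 2 Q := by rw [hQ]; exact pCore_isPGroup 2 G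
  have hRr : IsPGroup r (R : Subgroup G) := R.isPGroup'
  obtain ⟨N, hNdef⟩ : ∃ N : Subgroup G, N = Subgroup.normalizer ((R : Subgroup G) : Set G) :=
    ⟨_, rfl⟩
  rw [← hNdef, ← hQ]
  have hRN : (R : Subgroup G) ≤ N := by rw [hNdef]; exact Subgroup.le_normalizer
  have hcases : ∀ d : DihedralGroup r,
      (∃ i, d = DihedralGroup.r i) ∨ (∃ i, d = DihedralGroup.sr i) := by
    intro d
    cases d with
    | r i => exact Or.inl ⟨i, rfl⟩
    | sr i => exact Or.inr ⟨i, rfl⟩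
  have hRrot : ∀ y ∈ (R : Subgroup G), ∃ j, φ y = DihedralGroup.r j := by
    intro y hy
    rcases hcases (φ y) with h | ⟨i, hi⟩
    · exact h
    · exfalso
      obtain ⟨m, hm⟩ := exists_pow_of_isPGroup hRr hy
      have h1 : (DihedralGroup.sr i : DihedralGroup r) ^ r ^ m = 1 := by
        rw [← hi, ← map_pow, hm, map_one]
      have h2 : 2 ∣ r ^ m := by
        rw [← DihedralGroup.orderOf_sr i]; exact orderOf_dvd_of_pow_eq_one h1
      have h3 : 2 ∣ r := Nat.Prime.dvd_of_dvd_pow Nat.prime_two h2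
      have h4 := (Nat.prime_dvd_prime_iff_eq Nat.prime_two hrp).mp h3
      omega
  have hRQ : ∀ y ∈ (R : Subgroup G), y ∈ Q → y = 1 := by
    intro y hy hyQ
    obtain ⟨m, hm⟩ := exists_pow_of_isPGroup hRr hy
    exact eq_one_of_pow_eq_one_of_coprime (exists_pow_of_isPGroup hQ2 hyQ) hm
      (Nat.Coprime.pow_left m hcop)
  have hNQ : ∀ v ∈ N, v ∈ Q → v = 1 := by
    intro v hvN hvQ
    have hvC : v ∈ Q ⊓ Subgroup.centralizer ((R : Subgroup G) : Set G) := by
      rw [Subgroup.mem_inf]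
      refine ⟨hvQ, ?_⟩
      rw [Subgroup.mem_centralizer_iff]
      intro y hy
      have h1 : v * y * v⁻¹ ∈ (R : Subgroup G) := by
        rw [hNdef, Subgroup.mem_normalizer_iff] at hvN
        exact (hvN y).mp hy
      have h2 : v * y * v⁻¹ * y⁻¹ ∈ (R : Subgroup G) :=
        Subgroup.mul_mem _ h1 (Subgroup.inv_mem _ hy)
      have h3 : v * y * v⁻¹ * y⁻¹ ∈ Q := by
        have : v * y * v⁻¹ * y⁻¹ = v * (y * v⁻¹ * y⁻¹) := by group
        rw [this]
        exact Q.mul_mem hvQ (hQn.conj_mem _ (Q.inv_mem hvQ) y)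
      have h4 := hRQ _ h2 h3
      have h5 : v * y * v⁻¹ * y⁻¹ * (y * v) = v * y := by group
      rw [h4, one_mul] at h5
      exact h5
    rw [hQ, hC] at hvC
    exact Subgroup.mem_bot.mp hvC
  have hinjN : ∀ n₁ ∈ N, ∀ n₂ ∈ N, φ n₁ = φ n₂ → n₁ = n₂ := by
    intro n₁ h1 n₂ h2 h
    have h3 := hNQ (n₁⁻¹ * n₂) (N.mul_mem (N.inv_mem h1) h2) (hφeq _ _ h)
    exact inv_mul_eq_one.mp h3
  have hcardG : Nat.card G = Nat.card Q * (2 * r) := by
    rw [hQ, Subgroup.card_eq_card_quotient_mul_card_subgroup (Cfsg.pCore 2 G),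
      Nat.card_congr e.toEquiv, DihedralGroup.nat_card, mul_comm]
  have hRne : (R : Subgroup G) ≠ ⊥ :=
    R.ne_bot_of_dvd_card (by rw [hcardG]; exact Dvd.dvd.mul_left (Dvd.intro_left 2 rfl) _)
  obtain ⟨y₀, hy₀R, hy₀1⟩ : ∃ y ∈ (R : Subgroup G), y ≠ 1 := by
    by_contra hcon
    apply hRne
    rw [eq_bot_iff]
    intro y hy
    by_contra hy1
    exact hcon ⟨y, hy, fun h => hy1 (Subgroup.mem_bot.mpr h)⟩
  obtain ⟨j₀, hj₀⟩ := hRrot y₀ hy₀R
  have hj₀ne : j₀ ≠ 0 := by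
    rintro rfl
    apply hy₀1
    apply hRQ y₀ hy₀R
    rw [← hφker, hj₀, DihedralGroup.r_zero]
  obtain ⟨x, hxR, hx⟩ : ∃ x ∈ (R : Subgroup G), φ x = DihedralGroup.r 1 := by
    refine ⟨y₀ ^ (j₀⁻¹).val, Subgroup.pow_mem _ hy₀R _, ?_⟩
    rw [map_pow, hj₀, DihedralGroup.r_pow, ZMod.natCast_zmod_val, mul_inv_cancel₀ hj₀ne]
  have hφpow : ∀ k : ℕ, φ (x ^ k) = DihedralGroup.r (k : ZMod r) := by
    intro k; rw [map_pow, hx, DihedralGroup.r_one_pow]
  have hRx : ∀ y ∈ (R : Subgroup G), ∃ k : ℕ, y = x ^ k := by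
    intro y hy
    obtain ⟨j, hj⟩ := hRrot y hy
    refine ⟨j.val, hinjN _ (hRN hy) _ (hRN (Subgroup.pow_mem _ hxR _)) ?_⟩
    rw [hj, hφpow, ZMod.natCast_zmod_val]
  have hRz : (R : Subgroup G) = Subgroup.zpowers x := by
    apply le_antisymm
    · intro y hy
      obtain ⟨k, rfl⟩ := hRx y hy
      exact Subgroup.pow_mem _ (Subgroup.mem_zpowers x) k
    · rw [Subgroup.zpowers_le]; exact hxR
  have hxr : x ^ r = 1 := by
    apply hRQ _ (Subgroup.pow_mem _ hxR _)
    rw [← hφker, hφpow, ZMod.natCast_self, DihedralGroup.r_zero]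
  have hCx : ∀ v ∈ Q, v * x = x * v → v = 1 := by
    intro v hvQ hvx
    have hvC : v ∈ Q ⊓ Subgroup.centralizer ((R : Subgroup G) : Set G) := by
      rw [Subgroup.mem_inf]
      refine ⟨hvQ, ?_⟩
      rw [Subgroup.mem_centralizer_iff]
      intro y hy
      obtain ⟨k, rfl⟩ := hRx y hy
      exact ((Commute.pow_right (show Commute v x from hvx) k).eq).symm
    rw [hQ, hC] at hvC
    exact Subgroup.mem_bot.mp hvC
  have hinvN : ∀ g : G, g * x * g⁻¹ = x⁻¹ → g ∈ N := by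
    intro g hg
    rw [hNdef]
    apply mem_normalizer_of_cj_le
    rw [hRz]
    show Subgroup.map (MulAut.conj g).toMonoidHom (Subgroup.zpowers x) ≤ _
    rw [MonoidHom.map_zpowers, Subgroup.zpowers_le]
    show g * x * g⁻¹ ∈ _
    rw [hg]
    exact Subgroup.inv_mem _ (Subgroup.mem_zpowers x)
  have hsup : N ⊔ Q = ⊤ := by
    obtain ⟨rot, hrot⟩ : ∃ rot : Subgroup (DihedralGroup r),
        rot = Subgroup.zpowers (DihedralGroup.r (1 : ZMod r)) := ⟨_, rfl⟩
    have hmemrot : ∀ j : ZMod r, DihedralGroup.r j ∈ rot := by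
      intro j
      rw [hrot, Subgroup.mem_zpowers_iff]
      exact ⟨(j.val : ℤ), by rw [zpow_natCast, DihedralGroup.r_one_pow, ZMod.natCast_zmod_val]⟩
    have hrotmem : ∀ d ∈ rot, ∃ j : ZMod r, d = DihedralGroup.r j := by
      intro d hd
      rw [hrot, Subgroup.mem_zpowers_iff] at hd
      obtain ⟨k, rfl⟩ := hd
      exact ⟨_, DihedralGroup.r_one_zpow k⟩
    haveI hrotn : rot.Normal := by
      constructor
      intro d hd g
      obtain ⟨j, rfl⟩ := hrotmem d hd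
      rcases hcases g with ⟨i, rfl⟩ | ⟨i, rfl⟩
      · rw [DihedralGroup.inv_r, DihedralGroup.r_mul_r, DihedralGroup.r_mul_r]; exact hmemrot _
      · rw [DihedralGroup.inv_sr, DihedralGroup.sr_mul_r, DihedralGroup.sr_mul_sr]
        exact hmemrot _
    obtain ⟨K, hK⟩ : ∃ K : Subgroup G, K = rot.comap φ := ⟨_, rfl⟩
    haveI hKn : K.Normal := by rw [hK]; exact Subgroup.Normal.comap hrotn φ
    have hRK : (R : Subgroup G) ≤ K := by
      intro y hy
      obtain ⟨j, hj⟩ := hRrot y hy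
      rw [hK, Subgroup.mem_comap, hj]; exact hmemrot j
    have h1 := Sylow.normalizer_sup_eq_top' R hRK
    have hKle : K ≤ N ⊔ Q := by
      intro k hk
      rw [hK, Subgroup.mem_comap] at hk
      obtain ⟨j, hj⟩ := hrotmem _ hk
      have h2 : (x ^ j.val)⁻¹ * k ∈ Q :=
        hφeq _ _ (by rw [hφpow, ZMod.natCast_zmod_val, hj])
      have e : k = x ^ j.val * ((x ^ j.val)⁻¹ * k) := by group
      rw [e]
      exact Subgroup.mul_mem _ (Subgroup.mem_sup_left (hRN (Subgroup.pow_mem _ hxR _)))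
        (Subgroup.mem_sup_right h2)
    have h1' : N ⊔ K = ⊤ := by rw [hNdef]; exact h1
    rw [eq_top_iff, ← h1']
    exact sup_le le_sup_left hKle
  have hsurjN : ∀ d : DihedralGroup r, ∃ n ∈ N, φ n = d := by
    intro d
    obtain ⟨g, rfl⟩ := hφsurj d
    have hg : g ∈ N ⊔ Q := by rw [hsup]; exact Subgroup.mem_top g
    obtain ⟨n, hn, q, hq, rfl⟩ := Subgroup.mem_sup_of_normal_right.mp hg
    exact ⟨n, hn, by rw [map_mul, (hφker q).mpr hq, mul_one]⟩
  refine ⟨⟨MulEquiv.ofBijective (φ.comp N.subtype) ⟨?_, ?_⟩⟩, ?_⟩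
  · intro n₁ n₂ h
    exact Subtype.ext (hinjN _ n₁.2 _ n₂.2 h)
  · intro d
    obtain ⟨n, hn, rfl⟩ := hsurjN d
    exact ⟨⟨n, hn⟩, rfl⟩
  intro a haN ha2
  have haa : a * a = 1 := by rw [← pow_two, ← ha2, pow_orderOf_eq_one]
  have hainv : a⁻¹ = a := inv_eq_of_mul_eq_one_right haa
  have ha1 : a ≠ 1 := by
    rintro rfl; rw [orderOf_one] at ha2; omega
  have haQ : a ∉ Q := fun h => ha1 (hNQ a haN h)
  have hsrOf : ∀ t : G, t * t = 1 → t ∉ Q → ∃ i, φ t = DihedralGroup.sr i := by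
    intro t htt htQ
    rcases hcases (φ t) with ⟨j, hj⟩ | h
    · exfalso
      have h1 : (DihedralGroup.r j : DihedralGroup r) ^ 2 = 1 := by
        rw [← hj, ← map_pow, pow_two, htt, map_one]
      have h2 : (DihedralGroup.r j : DihedralGroup r) ^ r = 1 := by
        rw [DihedralGroup.r_pow, ZMod.natCast_self, mul_zero, DihedralGroup.r_zero]
      have h3 : φ t = 1 := by
        rw [hj]
        exact eq_one_of_pow_eq_one_of_coprime ⟨1, by rw [pow_one]; exact h1⟩ h2 hcop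
      exact htQ ((hφker t).mp h3)
    · exact h
  obtain ⟨i, hi⟩ := hsrOf a haa haQ
  have hax : a * x * a⁻¹ = x⁻¹ := by
    have h1 : a * x * a⁻¹ ∈ (R : Subgroup G) := by
      have := haN
      rw [hNdef, Subgroup.mem_normalizer_iff] at this
      exact (this x).mp hxR
    apply hinjN _ (hRN h1) _ (hRN (Subgroup.inv_mem _ hxR))
    rw [map_mul, map_mul, map_inv, map_inv, hi, hx, DihedralGroup.inv_sr, DihedralGroup.inv_r,
      DihedralGroup.sr_mul_r, DihedralGroup.sr_mul_sr]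
    congr 1
    ring
  obtain ⟨a', ha'⟩ : ∃ a' : G, a' = a * x := ⟨_, rfl⟩
  have ha'a' : a' * a' = 1 := by
    rw [ha']
    have : a * x * (a * x) = (a * x * a⁻¹) * (a * a) * x := by group
    rw [this, hax, haa, mul_one, inv_mul_cancel]
  have ha'inv : a'⁻¹ = a' := inv_eq_of_mul_eq_one_right ha'a'
  have ha'N : a' ∈ N := by rw [ha']; exact N.mul_mem haN (hRN hxR)
  have hφa' : φ a' = DihedralGroup.sr (i + 1) := by
    rw [ha', map_mul, hi, hx, DihedralGroup.sr_mul_r]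
  have key : ∀ t : G, t * t = 1 → φ t = φ a →
      ∃ u ∈ Q, u * a' * u⁻¹ = a' ∧ t = u * a * u⁻¹ := by
    intro t htt hφt
    have htinv : t⁻¹ = t := inv_eq_of_mul_eq_one_right htt
    have hfmem : ∀ v : Q, (v : G) * x * (v : G)⁻¹ * x⁻¹ ∈ Q := by
      intro v
      have : (v : G) * x * (v : G)⁻¹ * x⁻¹ = (v : G) * (x * (v : G)⁻¹ * x⁻¹) := by group
      rw [this]
      exact Q.mul_mem v.2 (hQn.conj_mem _ (Q.inv_mem v.2) x)
    have hfinj : Function.Injective
        (fun v : Q => (⟨(v : G) * x * (v : G)⁻¹ * x⁻¹, hfmem v⟩ : Q)) := by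
      intro v w hvw
      have h1 : (v : G) * x * (v : G)⁻¹ * x⁻¹ = (w : G) * x * (w : G)⁻¹ * x⁻¹ :=
        congrArg Subtype.val hvw
      have h3 : (v : G) * x * (v : G)⁻¹ = (w : G) * x * (w : G)⁻¹ := mul_right_cancel h1
      have h2 : ((w : G)⁻¹ * (v : G)) * x = x * ((w : G)⁻¹ * (v : G)) := by
        calc ((w : G)⁻¹ * (v : G)) * x
            = (w : G)⁻¹ * ((v : G) * x * (v : G)⁻¹) * (v : G) := by group
          _ = (w : G)⁻¹ * ((w : G) * x * (w : G)⁻¹) * (v : G) := by rw [h3]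
          _ = x * ((w : G)⁻¹ * (v : G)) := by group
      have h4 := hCx _ (Q.mul_mem (Q.inv_mem w.2) v.2) h2
      exact Subtype.ext (inv_mul_eq_one.mp h4).symm
    have hfsurj := Finite.injective_iff_surjective.mp hfinj
    have hq₀ : t * a' * x⁻¹ ∈ Q := by
      rw [← hφker, map_mul, map_mul, map_inv, hφt, hi, hφa', hx, DihedralGroup.sr_mul_sr,
        DihedralGroup.inv_r, DihedralGroup.r_mul_r, ← DihedralGroup.r_zero]
      congr 1
      ring
    obtain ⟨u, hu⟩ := hfsurj ⟨t * a' * x⁻¹, hq₀⟩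
    have hu5 : (u : G) * x * (u : G)⁻¹ * x⁻¹ = t * a' * x⁻¹ := congrArg Subtype.val hu
    have hu' : (u : G) * x * (u : G)⁻¹ = t * a' := mul_right_cancel hu5
    have hty : t * (t * a') * t⁻¹ = (t * a')⁻¹ := by
      rw [mul_inv_rev, ha'inv, htinv, ← mul_assoc, htt, one_mul]
    have ha'y : a' * (t * a') * a'⁻¹ = (t * a')⁻¹ := by
      rw [mul_inv_rev, ha'inv, htinv, mul_assoc, mul_assoc, ha'a', mul_one]
    have hconj : ∀ g : G, g * (t * a') * g⁻¹ = (t * a')⁻¹ → (u : G)⁻¹ * g * (u : G) ∈ N := by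
      intro g hg
      apply hinvN
      have : (u : G)⁻¹ * g * (u : G) * x * ((u : G)⁻¹ * g * (u : G))⁻¹
          = (u : G)⁻¹ * (g * ((u : G) * x * (u : G)⁻¹) * g⁻¹) * (u : G) := by group
      rw [this, hu', hg, ← hu']
      group
    have hn₂ : (u : G)⁻¹ * t * (u : G) ∈ N := hconj t hty
    have hn₁ : (u : G)⁻¹ * a' * (u : G) ∈ N := hconj a' ha'y
    have hφu : φ (u : G) = 1 := (hφker _).mpr u.2
    have e₁ : (u : G)⁻¹ * a' * (u : G) = a' := by
      apply hinjN _ hn₁ _ ha'N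
      rw [map_mul, map_mul, map_inv, hφu, inv_one, one_mul, mul_one]
    have e₂ : (u : G)⁻¹ * t * (u : G) = a := by
      apply hinjN _ hn₂ _ haN
      rw [map_mul, map_mul, map_inv, hφu, inv_one, one_mul, mul_one, hφt]
    refine ⟨u, u.2, ?_, ?_⟩
    · calc (u : G) * a' * (u : G)⁻¹ = (u : G) * ((u : G)⁻¹ * a' * (u : G)) * (u : G)⁻¹ := by
            rw [e₁]
        _ = a' := by group
    · calc t = (u : G) * ((u : G)⁻¹ * t * (u : G)) * (u : G)⁻¹ := by group
        _ = (u : G) * a * (u : G)⁻¹ := by rw [e₂]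
  have h2ne : (2 : ZMod r) ≠ 0 := by
    intro h
    have h' : ((2 : ℕ) : ZMod r) = 0 := by exact_mod_cast h
    rw [ZMod.natCast_eq_zero_iff] at h'
    have := Nat.le_of_dvd (by norm_num) h'
    omega
  refine ⟨?_, ?_⟩
  · intro b hb2 hbQ
    have hbb : b * b = 1 := by rw [← pow_two, ← hb2, pow_orderOf_eq_one]
    obtain ⟨i', hi'⟩ := hsrOf b hbb hbQ
    obtain ⟨g₀, hg₀⟩ := hφsurj (DihedralGroup.r ((i - i') * 2⁻¹))
    obtain ⟨u, huQ, -, hu⟩ := key (g₀⁻¹ * b * g₀) (by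
        have : g₀⁻¹ * b * g₀ * (g₀⁻¹ * b * g₀) = g₀⁻¹ * (b * b) * g₀ := by group
        rw [this, hbb, mul_one, inv_mul_cancel]) (by
        rw [map_mul, map_mul, map_inv, hg₀, hi', hi, DihedralGroup.inv_r, DihedralGroup.r_mul_sr,
          DihedralGroup.sr_mul_r]
        congr 1
        field_simp
        ring)
    refine ⟨g₀ * u, ?_⟩
    have hb : b = g₀ * (g₀⁻¹ * b * g₀) * g₀⁻¹ := by group
    rw [hb, hu]
    group
  · obtain ⟨C₁, hC₁⟩ : ∃ C₁ : Subgroup G, C₁ = Q ⊓ Subgroup.centralizer ({a'} : Set G) :=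
      ⟨_, rfl⟩
    obtain ⟨C₂, hC₂⟩ : ∃ C₂ : Subgroup G, C₂ = Q ⊓ Subgroup.centralizer ({a} : Set G) :=
      ⟨_, rfl⟩
    rw [← hC₂]
    have hmemC : ∀ (c : G) (w : G),
        w ∈ Q ⊓ Subgroup.centralizer ({c} : Set G) ↔ w ∈ Q ∧ c * w = w * c := by
      intro c w
      rw [Subgroup.mem_inf, Subgroup.mem_centralizer_iff]
      constructor
      · rintro ⟨h1, h2⟩; exact ⟨h1, h2 c rfl⟩
      · rintro ⟨h1, h2⟩
        exact ⟨h1, fun h hh => by rw [Set.mem_singleton_iff.mp hh]; exact h2⟩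
    have hxeq : x = a⁻¹ * a' := by rw [ha']; group
    have hC₁m : ∀ w : G, w ∈ C₁ ↔ w ∈ Q ∧ a' * w = w * a' := by
      intro w; rw [hC₁, hmemC]
    have hC₂m : ∀ w : G, w ∈ C₂ ↔ w ∈ Q ∧ a * w = w * a := by
      intro w; rw [hC₂, hmemC]
    have hprod : Nat.card Q = Nat.card C₁ * Nat.card C₂ := by
      rw [← Nat.card_prod]
      symm
      apply Nat.card_congr
      refine Equiv.ofBijective (fun p : C₁ × C₂ => (⟨(p.1 : G) * (p.2 : G), ?_⟩ : Q)) ⟨?_, ?_⟩
      · have h1 := (hC₁m _).mp p.1.2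
        have h2 := (hC₂m _).mp p.2.2
        exact Q.mul_mem h1.1 h2.1
      · rintro ⟨c, d⟩ ⟨c', d'⟩ h
        have h0 : (c : G) * (d : G) = (c' : G) * (d' : G) := congrArg Subtype.val h
        have hc := (hC₁m _).mp c.2
        have hc' := (hC₁m _).mp c'.2
        have hd := (hC₂m _).mp d.2
        have hd' := (hC₂m _).mp d'.2
        have hw : (c' : G)⁻¹ * (c : G) = (d' : G) * (d : G)⁻¹ := by
          calc (c' : G)⁻¹ * (c : G) = (c' : G)⁻¹ * ((c : G) * (d : G)) * (d : G)⁻¹ := by group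
            _ = (c' : G)⁻¹ * ((c' : G) * (d' : G)) * (d : G)⁻¹ := by rw [h0]
            _ = (d' : G) * (d : G)⁻¹ := by group
        have hwQ : (c' : G)⁻¹ * (c : G) ∈ Q := Q.mul_mem (Q.inv_mem hc'.1) hc.1
        have k1 : Commute a' ((c' : G)⁻¹ * (c : G)) :=
          (show Commute a' (c' : G) from hc'.2).inv_right.mul_right
            (show Commute a' (c : G) from hc.2)
        have k2 : Commute a ((c' : G)⁻¹ * (c : G)) := by
          rw [hw]
          exact (show Commute a (d' : G) from hd'.2).mul_right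
            (show Commute a (d : G) from hd.2).inv_right
        have k3 : Commute x ((c' : G)⁻¹ * (c : G)) := by
          rw [hxeq]; exact k2.inv_left.mul_left k1
        have h1 := hCx _ hwQ k3.eq.symm
        have hcc : (c : G) = (c' : G) := (inv_mul_eq_one.mp h1).symm
        have hdd : (d : G) = (d' : G) := by
          rw [hcc] at h0; exact mul_left_cancel h0
        exact Prod.ext (Subtype.ext hcc) (Subtype.ext hdd)
      · rintro ⟨u, hu⟩
        obtain ⟨u', hu'Q, hu'a', hu't⟩ := key (u * a * u⁻¹) (by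
            have : u * a * u⁻¹ * (u * a * u⁻¹) = u * (a * a) * u⁻¹ := by group
            rw [this, haa, mul_one, mul_inv_cancel]) (by
            rw [map_mul, map_mul, map_inv, (hφker u).mpr hu, one_mul, inv_one, mul_one])
        refine ⟨(⟨u', ?_⟩, ⟨u'⁻¹ * u, ?_⟩), ?_⟩
        · rw [hC₁m]
          refine ⟨hu'Q, ?_⟩
          calc a' * u' = (u' * a' * u'⁻¹) * u' := by rw [hu'a']
            _ = u' * a' := by group
        · rw [hC₂m]
          refine ⟨Q.mul_mem (Q.inv_mem hu'Q) hu, ?_⟩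
          have h7 : a = u'⁻¹ * (u * a * u⁻¹) * u' := by rw [hu't]; group
          calc a * (u'⁻¹ * u) = u'⁻¹ * (u * a * u⁻¹) * u' * (u'⁻¹ * u) := by rw [← h7]
            _ = u'⁻¹ * u * a := by group
        · apply Subtype.ext
          show u' * (u'⁻¹ * u) = u
          group
    have hcard : Nat.card C₁ = Nat.card C₂ := by
      obtain ⟨xj, hxj⟩ : ∃ xj : G, xj = x ^ ((r + 1) / 2) := ⟨_, rfl⟩
      have hj : (r + 1) / 2 + (r + 1) / 2 = r + 1 := by
        obtain ⟨k, hk⟩ := hrodd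
        omega
      have hpow : a * xj * a⁻¹ = xj⁻¹ := by rw [hxj, ← conj_pow, hax, inv_pow]
      have hxjxj : xj * xj = x := by
        rw [hxj, ← pow_add, hj, pow_succ, hxr, one_mul]
      have hma : xj⁻¹ * a * xj⁻¹⁻¹ = a' := by
        rw [inv_inv, ha']
        calc xj⁻¹ * a * xj = (a * xj * a⁻¹) * a * xj := by rw [hpow]
          _ = a * (xj * xj) := by group
          _ = a * x := by rw [hxjxj]
      have hC : C₁ = cj xj⁻¹ C₂ := by
        ext w
        rw [mem_cj, hC₁m, hC₂m, inv_inv]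
        constructor
        · rintro ⟨h1, h2⟩
          refine ⟨?_, ?_⟩
          · have := hQn.conj_mem w h1 xj
            have e : xj * w * xj⁻¹ = xj * w * xj⁻¹ := rfl
            exact this
          · have e1 : a * (xj * w * xj⁻¹) = xj * ((xj⁻¹ * a * xj⁻¹⁻¹) * w) * xj⁻¹ := by group
            have e2 : xj * w * xj⁻¹ * a = xj * (w * (xj⁻¹ * a * xj⁻¹⁻¹)) * xj⁻¹ := by group
            rw [e1, e2, hma, h2]
        · rintro ⟨h1, h2⟩
          refine ⟨?_, ?_⟩
          · have := hQn.conj_mem _ h1 xj⁻¹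
            have e : xj⁻¹ * (xj * w * xj⁻¹) * xj⁻¹⁻¹ = w := by group
            rw [e] at this
            exact this
          · rw [← hma]
            have e1 : xj⁻¹ * a * xj⁻¹⁻¹ * w = xj⁻¹ * (a * (xj * w * xj⁻¹)) * xj := by group
            have e2 : w * (xj⁻¹ * a * xj⁻¹⁻¹) = xj⁻¹ * (xj * w * xj⁻¹ * a) * xj := by group
            rw [e1, e2, h2]
      rw [hC, card_cj]
    rw [hprod, hcard, pow_two]

end Cfsg.Agent.S2873
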