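import Cfsg.Statements.S2881
import Cfsg.Agent.Helper17.Extra
-- import your own Cfsg.Agent.* helpers here

set_option autoImplicit false
open Cfsg

namespace Cfsg.Agent.S2881

open Cfsg.Agent.Helper17
open scoped commutatorElement
open Subgroup


/-- Let E be an extraspecial 2-group of order 2^(2m+1) of plus type (containing an elementary abelian subgroup of order 2^(m+1)), and let ω be an automorphism of E of order 5 whose fixed points are exactly the centre of E. Then m is divisible by 4. -/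
theorem result {E : Type*} [Group E] [Finite E] (m : ℕ) (hm : 1 ≤ m) (hE : Cfsg.IsExtraspecial 2 E) (hcard : Nat.card E = 2 ^ (2 * m + 1)) (hplus : ∃ A : Subgroup E, Cfsg.IsElementaryAbelian 2 A ∧ Nat.card A = 2 ^ (m + 1)) (ω : E ≃* E) (hω : orderOf ω = 5) (hfix : ∀ x : E, ω x = x ↔ x ∈ Subgroup.center E) : 4 ∣ m := by
  classical
  obtain ⟨A, hA, hAc⟩ := hplus
  have hcount := extraspecial_plus_count m hE hcard A hA hAc
  have hZ2 : Nat.card (Subgroup.center E) = 2 := hE.2
  letI : Fintype E := Fintype.ofFinite E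
  have hω5 : ω ^ 5 = 1 := by rw [← hω]; exact pow_orderOf_eq_one ω
  let σ : Equiv.Perm {x : E // orderOf x = 4} :=
    ω.toEquiv.subtypeEquiv (fun x => by
      show orderOf x = 4 ↔ orderOf (ω x) = 4
      rw [MulEquiv.orderOf_eq])
  have hσk : ∀ (k : ℕ) (x : {x : E // orderOf x = 4}), ((σ ^ k) x : E) = (ω ^ k) (x : E) := by
    intro k
    induction k with
    | zero => intro x; simp
    | succ k ih =>
      intro x
      rw [pow_succ, pow_succ, Equiv.Perm.mul_apply, ih]
      rfl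
  have hσ5 : σ ^ 5 ^ 1 = 1 := by
    rw [pow_one]
    ext x
    rw [hσk, hω5]
    rfl
  haveI : Fact (Nat.Prime 5) := ⟨by norm_num⟩
  have h5 : 5 ∣ Fintype.card {x : E // orderOf x = 4} := by
    by_contra hnd
    obtain ⟨x, hx⟩ := Equiv.Perm.exists_fixed_point_of_prime hnd hσ5
    have hx' : ω (x : E) = x := congrArg Subtype.val hx
    have hxc : (x : E) ∈ Subgroup.center E := (hfix _).mp hx'
    have h1 : (⟨(x : E), hxc⟩ : Subgroup.center E) ^ Nat.card (Subgroup.center E) = 1 :=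
      pow_card_eq_one'
    rw [hZ2] at h1
    have h2 : (x : E) ^ 2 = 1 := congrArg Subtype.val h1
    have h3 : orderOf (x : E) ∣ 2 := orderOf_dvd_of_pow_eq_one h2
    rw [x.2] at h3
    norm_num at h3
  rw [← Nat.card_eq_fintype_card, hcount] at h5
  have e1 : 2 ^ (2 * m) - 2 ^ m = 2 ^ m * (2 ^ m - 1) := by
    rw [Nat.mul_sub, mul_one, ← pow_add]; congr 2; ring
  rw [e1] at h5
  have hcop : Nat.Coprime 5 (2 ^ m) := Nat.Coprime.pow_right m (by norm_num)
  have h6 : 5 ∣ 2 ^ m - 1 := hcop.dvd_of_dvd_mul_left h5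
  have hpos : 1 ≤ 2 ^ m := Nat.one_le_two_pow
  have h7 : 2 ^ m % 5 = 1 := by omega
  have h16 : ∀ q : ℕ, 2 ^ (4 * q) % 5 = 1 := by
    intro q
    rw [pow_mul, Nat.pow_mod]
    norm_num
  have hm4 : m = 4 * (m / 4) + m % 4 := (Nat.div_add_mod m 4).symm
  have h8 : 2 ^ m % 5 = 2 ^ (m % 4) % 5 := by
    conv_lhs => rw [hm4, pow_add, Nat.mul_mod, h16, one_mul, Nat.mod_mod]
  rw [h8] at h7
  have hlt : m % 4 < 4 := Nat.mod_lt m (by norm_num)
  have h9 : m % 4 = 0 := by
    obtain ⟨r, hr⟩ : ∃ r, r = m % 4 := ⟨_, rfl⟩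
    rw [← hr] at h7 hlt ⊢
    interval_cases r
    · rfl
    · norm_num at h7
    · norm_num at h7
    · norm_num at h7
  exact Nat.dvd_of_mod_eq_zero h9

end Cfsg.Agent.S2881
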