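import Cfsg.Statements.S2896
import Cfsg.Agent.Helper17.LocChar
-- import your own Cfsg.Agent.* helpers here

set_option autoImplicit false
open Cfsg

namespace Cfsg.Agent.S2896

open Cfsg.Agent.Helper17
open scoped commutatorElement
open Subgroup


/-- Let p be a prime dividing the order of the finite group G, S a Sylow p-subgroup of G and X a subgroup of S. (i) If some nontrivial element z of the centre of X has F*(C_G(z)) = O_p(C_G(z)), then F*(N_G(X)) = O_p(N_G(X)). (ii) G has parabolic characteristic p if and only if F*(C_G(z)) = O_p(C_G(z)) for every nontrivial z ∈ Ω₁(Z(S)). (iii) If F*(C_G(z)) = O_p(C_G(z)) for every element z of S of order p, then G has local characteristic p. -/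
theorem result {G : Type*} [Group G] [Finite G] {p : ℕ} [Fact p.Prime] (hdiv : p ∣ Nat.card G) (S : Sylow p G) (X : Subgroup G) (hX : X ≤ (S : Subgroup G)) : (∀ z : G, z ≠ 1 → z ∈ X → (∀ x ∈ X, x * z = z * x) → Cfsg.generalizedFittingSubgroup ↥(Subgroup.centralizer ({z} : Set G)) = Cfsg.pCore p ↥(Subgroup.centralizer ({z} : Set G)) → Cfsg.generalizedFittingSubgroup ↥(Subgroup.normalizer (X : Set G)) = Cfsg.pCore p ↥(Subgroup.normalizer (X : Set G))) ∧ (Cfsg.IsOfParabolicCharacteristic p G ↔ ∀ z : G, z ≠ 1 → z ∈ Cfsg.omegaOne p ((S : Subgroup G) ⊓ Subgroup.centralizer ((S : Subgroup G) : Set G)) → Cfsg.generalizedFittingSubgroup ↥(Subgroup.centralizer ({z} : Set G)) = Cfsg.pCore p ↥(Subgroup.centralizer ({z} : Set G))) ∧ ((∀ z : G, z ∈ (S : Subgroup G) → orderOf z = p → Cfsg.generalizedFittingSubgroup ↥(Subgroup.centralizer ({z} : Set G)) = Cfsg.pCore p ↥(Subgroup.centralizer ({z} : Set G))) → Cfsg.IsOfLocalCharacteristic p G) := by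
  have hp : p.Prime := Fact.out
  refine ⟨?_, ⟨?_, ?_⟩, ?_⟩
  · intro z _ hzX hzc hF
    rw [← CP_iff_gfitting] at hF ⊢
    exact CP_normalizer (S.isPGroup'.to_le hX) hzX hzc hF
  · intro hG z hz1 hzΩ
    have hzSC : z ∈ (S : Subgroup G) ⊓ centralizer ((S : Subgroup G) : Set G) := by
      have hle : Cfsg.omegaOne p ((S : Subgroup G) ⊓ centralizer ((S : Subgroup G) : Set G)) ≤
          (S : Subgroup G) ⊓ centralizer ((S : Subgroup G) : Set G) :=
        (Subgroup.closure_le _).mpr (fun x hx => hx.1)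
      exact hle hzΩ
    have hzS : z ∈ (S : Subgroup G) := hzSC.1
    have hzC : z ∈ centralizer ((S : Subgroup G) : Set G) := hzSC.2
    rw [← CP_iff_gfitting]
    have hR : IsPGroup p (zpowers z) := S.isPGroup'.to_le (Subgroup.zpowers_le.mpr hzS)
    have hRne : zpowers z ≠ ⊥ := by rw [Ne, Subgroup.zpowers_eq_bot]; exact hz1
    have hSC : (S : Subgroup G) ≤ centralizer ({z} : Set G) := by
      intro s hs
      rw [Subgroup.mem_centralizer_singleton_iff]
      exact Subgroup.mem_centralizer_iff.mp hzC s hs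
    have hpar : Cfsg.IsParabolic p (normalizer ((zpowers z : Subgroup G) : Set G)) :=
      ⟨S, hSC.trans (centralizer_singleton_le_normalizer_zpowers z)⟩
    have h1 := hG (zpowers z) hR hRne hpar
    have h2 : Cfsg.Agent.Helper18.CP p (normalizer ((zpowers z : Subgroup G) : Set G)) :=
      (CP_iff_charP _).mpr h1
    apply CP_of_normal (centralizer_singleton_le_normalizer_zpowers z) ?_ h2
    rw [← centralizer_zpowers_eq]
    exact normalizer_le_normalizer_centralizer _
  · intro hC R hR hRne hpar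
    obtain ⟨T, hT⟩ := hpar
    rw [← CP_iff_charP]
    have hRT : R ≤ T := le_sylow_of_le_normalizer T hR hT
    obtain ⟨z, hzR, hzo, hzc⟩ := exists_orderOf_eq_prime_central T.isPGroup' hRT hT hRne
    obtain ⟨g, hg⟩ := sylow_conj S T
    have hzT : z ∈ cj g (S : Subgroup G) := hg ▸ hRT hzR
    obtain ⟨z₀, hz₀S, rfl⟩ := mem_cj'.mp hzT
    rw [orderOf_conj_eq] at hzo
    have hz₀1 : z₀ ≠ 1 := by
      rintro rfl
      rw [orderOf_one] at hzo
      exact hp.one_lt.ne hzo
    have hz₀c : z₀ ∈ centralizer ((S : Subgroup G) : Set G) := by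
      rw [Subgroup.mem_centralizer_iff]
      intro s hs
      have hs' : g * s * g⁻¹ ∈ (T : Subgroup G) := by rw [hg]; exact conj_mem_cj hs
      have := hzc (g * s * g⁻¹) hs'
      calc s * z₀ = g⁻¹ * ((g * s * g⁻¹) * (g * z₀ * g⁻¹)) * g := by group
        _ = g⁻¹ * ((g * z₀ * g⁻¹) * (g * s * g⁻¹)) * g := by rw [this]
        _ = z₀ * s := by group
    have hz₀Ω : z₀ ∈ Cfsg.omegaOne p ((S : Subgroup G) ⊓ centralizer ((S : Subgroup G) : Set G)) := by
      apply Subgroup.subset_closure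
      exact ⟨Subgroup.mem_inf.mpr ⟨hz₀S, hz₀c⟩, by rw [← hzo]; exact pow_orderOf_eq_one z₀⟩
    have h1 := hC z₀ hz₀1 hz₀Ω
    rw [← CP_iff_gfitting] at h1
    have h2 := CP_cj h1 g
    rw [← centralizer_singleton_conj] at h2
    exact CP_normalizer hR hzR (fun x hx => hzc x (hRT hx)) h2
  · intro hC
    refine ⟨hdiv, ?_⟩
    intro T hT hTne
    rw [← CP_iff_charP]
    obtain ⟨g, hg⟩ := exists_le_cj_sylow hT S
    obtain ⟨z, hzT, hzo, hzc⟩ := exists_orderOf_eq_prime_central hT le_rfl Subgroup.le_normalizer hTne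
    obtain ⟨z₀, hz₀S, rfl⟩ := mem_cj'.mp (hg hzT)
    rw [orderOf_conj_eq] at hzo
    have h1 := hC z₀ hz₀S hzo
    rw [← CP_iff_gfitting] at h1
    have h2 := CP_cj h1 g
    rw [← centralizer_singleton_conj] at h2
    exact CP_normalizer hT hzT hzc h2

end Cfsg.Agent.S2896
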