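import Cfsg.Statements.S2897
import Cfsg.Agent.Helper17.LocChar
-- import your own Cfsg.Agent.* helpers here

set_option autoImplicit false
open Cfsg

namespace Cfsg.Agent.S2897

open Cfsg.Agent.Helper17
open scoped commutatorElement
open Subgroup


/-- Let p be a prime dividing the order of the finite group G, suppose G has parabolic characteristic p, let S be a Sylow p-subgroup of G and G₁ a normal subgroup of G. If Ω₁(Z(S ∩ G₁)) is nontrivial and contained in Ω₁(Z(S)), then G₁ has parabolic characteristic p. -/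
theorem result {G : Type*} [Group G] [Finite G] {p : ℕ} [Fact p.Prime] (hdiv : p ∣ Nat.card G) (hG : Cfsg.IsOfParabolicCharacteristic p G) (S : Sylow p G) (G₁ : Subgroup G) [G₁.Normal] (hne : Cfsg.omegaOne p (((S : Subgroup G) ⊓ G₁) ⊓ Subgroup.centralizer (((S : Subgroup G) ⊓ G₁ : Subgroup G) : Set G)) ≠ ⊥) (hle : Cfsg.omegaOne p (((S : Subgroup G) ⊓ G₁) ⊓ Subgroup.centralizer (((S : Subgroup G) ⊓ G₁ : Subgroup G) : Set G)) ≤ Cfsg.omegaOne p ((S : Subgroup G) ⊓ Subgroup.centralizer ((S : Subgroup G) : Set G))) : Cfsg.IsOfParabolicCharacteristic p ↥G₁ := by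
  have hp : p.Prime := Fact.out
  intro R hR hRne hpar
  obtain ⟨T₁, hT₁⟩ := hpar
  obtain ⟨R', hR'⟩ : ∃ R' : Subgroup G, R' = R.map G₁.subtype := ⟨_, rfl⟩
  have hR'p : IsPGroup p R' := hR' ▸ hR.map _
  have hR'G : R' ≤ G₁ := by
    rw [hR']; rintro _ ⟨x, -, rfl⟩; exact x.2
  have hRT : R ≤ T₁ := le_sylow_of_le_normalizer T₁ hR hT₁
  obtain ⟨z, hzR, hzo, hzc⟩ := exists_orderOf_eq_prime_central T₁.isPGroup' hRT hT₁ hRne
  obtain ⟨S₁, hS₁⟩ := exists_sylow_inf_of_le_normalizer G₁ S (le_normalizer_of_normal _ _)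
  obtain ⟨g, hg⟩ := sylow_conj S₁ T₁
  have hzT : z ∈ cj g (S₁ : Subgroup ↥G₁) := hg ▸ hRT hzR
  obtain ⟨z₀, hz₀S, rfl⟩ := mem_cj'.mp hzT
  rw [orderOf_conj_eq] at hzo
  have hz₀' : (z₀ : G) ∈ (S : Subgroup G) ⊓ G₁ := by
    rw [← hS₁]; exact ⟨z₀, hz₀S, rfl⟩
  have hz₀c : ∀ s ∈ (S : Subgroup G) ⊓ G₁, s * (z₀ : G) = z₀ * s := by
    intro s hs
    rw [← hS₁] at hs
    obtain ⟨s', hs', rfl⟩ := hs
    have hs'' : g * s' * g⁻¹ ∈ (T₁ : Subgroup ↥G₁) := by rw [hg]; exact conj_mem_cj hs'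
    have := hzc _ hs''
    have h3 : s' * z₀ = z₀ * s' := by
      calc s' * z₀ = g⁻¹ * ((g * s' * g⁻¹) * (g * z₀ * g⁻¹)) * g := by group
        _ = g⁻¹ * ((g * z₀ * g⁻¹) * (g * s' * g⁻¹)) * g := by rw [this]
        _ = z₀ * s' := by group
    exact congrArg Subtype.val h3
  have hz₀o : orderOf (z₀ : G) = p := by rw [Subgroup.orderOf_coe]; exact hzo
  have hz₀cc : (z₀ : G) ∈ centralizer (((S : Subgroup G) ⊓ G₁ : Subgroup G) : Set G) :=
    Subgroup.mem_centralizer_iff.mpr hz₀c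
  have hz₀Ω : (z₀ : G) ∈ Cfsg.omegaOne p (((S : Subgroup G) ⊓ G₁) ⊓
      Subgroup.centralizer (((S : Subgroup G) ⊓ G₁ : Subgroup G) : Set G)) := by
    apply Subgroup.subset_closure
    exact ⟨Subgroup.mem_inf.mpr ⟨hz₀', hz₀cc⟩, by rw [← hz₀o]; exact pow_orderOf_eq_one _⟩
  have hz₀Ω' := hle hz₀Ω
  have hz₀SC : (z₀ : G) ∈ (S : Subgroup G) ⊓ centralizer ((S : Subgroup G) : Set G) := by
    have hle' : Cfsg.omegaOne p ((S : Subgroup G) ⊓ centralizer ((S : Subgroup G) : Set G)) ≤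
        (S : Subgroup G) ⊓ centralizer ((S : Subgroup G) : Set G) :=
      (Subgroup.closure_le _).mpr (fun x hx => hx.1)
    exact hle' hz₀Ω'
  have hz₀1 : (z₀ : G) ≠ 1 := by
    intro h
    rw [h, orderOf_one] at hz₀o
    exact hp.one_lt.ne hz₀o
  have h1 := CP_centralizer_of_parabolic hG S hz₀1 hz₀SC.1 hz₀SC.2
  have h2 := CP_cj h1 (g : G)
  rw [← centralizer_singleton_conj] at h2
  have hz'R : (g : G) * z₀ * (g : G)⁻¹ ∈ R' := by
    rw [hR']; exact ⟨g * z₀ * g⁻¹, hzR, rfl⟩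
  have hz'c : ∀ x ∈ R', x * ((g : G) * z₀ * (g : G)⁻¹) = (g : G) * z₀ * (g : G)⁻¹ * x := by
    rw [hR']
    rintro _ ⟨x, hx, rfl⟩
    exact congrArg Subtype.val (hzc x (hRT hx))
  have h3 := CP_normalizer hR'p hz'R hz'c h2
  have h4 : Cfsg.Agent.Helper18.CP p (normalizer (R' : Set G) ⊓ G₁) :=
    CP_of_normal inf_le_left (le_normalizer_inf' Subgroup.le_normalizer (le_normalizer_of_normal _ _)) h3
  have heq : (normalizer (R : Set ↥G₁)).map G₁.subtype = normalizer (R' : Set G) ⊓ G₁ := by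
    have e1 : R'.subgroupOf G₁ = R := by
      rw [hR']; exact Subgroup.comap_map_eq_self_of_injective G₁.subtype_injective R
    rw [← e1, ← Subgroup.subgroupOf_normalizer_eq hR'G, Subgroup.subgroupOf_map_subtype]
  rw [← heq] at h4
  exact charP_of_equiv (Subgroup.equivMapOfInjective _ G₁.subtype G₁.subtype_injective).symm
    ((CP_iff_charP _).mp h4)

end Cfsg.Agent.S2897
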