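import Cfsg.Statements.S2898
import Cfsg.Agent.Helper17.LocChar
-- import your own Cfsg.Agent.* helpers here

set_option autoImplicit false
open Cfsg

namespace Cfsg.Agent.S2898

open Cfsg.Agent.Helper17
open scoped commutatorElement
open Subgroup


/-- Let G be a finite group of even order with parabolic characteristic 2. If the centre of G ⧸ O(G) is trivial, then O(G) = 1. -/
theorem result {G : Type*} [Group G] [Finite G] (h2 : 2 ∣ Nat.card G) (hG : Cfsg.IsOfParabolicCharacteristic 2 G) [hN : (Cfsg.oddCore G).Normal] (hZ : Subgroup.center (G ⧸ Cfsg.oddCore G) = ⊥) : Cfsg.oddCore G = ⊥ := by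
  have : Fact (Nat.Prime 2) := ⟨Nat.prime_two⟩
  obtain ⟨W, hW⟩ : ∃ W : Subgroup G, W = Cfsg.oddCore G := ⟨_, rfl⟩
  have hWn : W.Normal := hW ▸ hN
  have hWc : (Nat.card W).Coprime 2 := hW ▸ pPrimeCore_card_coprime (G := G) 2
  obtain ⟨S⟩ : Nonempty (Sylow 2 G) := inferInstance
  have hSne : (S : Subgroup G) ≠ ⊥ := S.ne_bot_of_dvd_card h2
  have hodd : ∀ w ∈ W, w * w = 1 → w = 1 := by
    intro w hw hww
    exact eq_one_of_pow_eq_one_of_coprime (p := 2) ⟨1, by rw [pow_one, pow_two]; exact hww⟩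
      (pow_card_eq_one_of_mem hw) hWc
  have hinv : ∀ t ∈ (S : Subgroup G), orderOf t = 2 → (∀ s ∈ (S : Subgroup G), s * t = t * s) →
      ∀ w ∈ W, t * w * t⁻¹ = w⁻¹ := by
    intro t htS hto htc
    have ht1 : t ≠ 1 := by
      rintro rfl
      simp at hto
    have hCP := CP_centralizer_of_parabolic hG S ht1 htS (Subgroup.mem_centralizer_iff.mpr htc)
    have hbot := inf_eq_bot_of_CP hCP W (le_normalizer_of_normal _ W) hWc
    have htt : t * t = 1 := by
      have := pow_orderOf_eq_one t
      rwa [hto, pow_two] at this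
    apply inverts_of_fixedPointFree (le_normalizer_of_normal ⊤ W (Subgroup.mem_top t)) htt
    intro w hw hcomm
    have hmem : w ∈ W ⊓ centralizer ({t} : Set G) :=
      Subgroup.mem_inf.mpr ⟨hw, Subgroup.mem_centralizer_singleton_iff.mpr hcomm.symm⟩
    rw [hbot] at hmem
    exact Subgroup.mem_bot.mp hmem
  obtain ⟨z, hzS, hzo, hzc⟩ :=
    exists_orderOf_eq_prime_central S.isPGroup' le_rfl Subgroup.le_normalizer hSne
  have hzinv := hinv z hzS hzo hzc
  by_cases hK : (S : Subgroup G) ⊓ centralizer (W : Set G) = ⊥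
  · exfalso
    have hKn : (centralizer (W : Set G)).Normal := by
      rw [← Subgroup.normalizer_eq_top_iff, eq_top_iff]
      exact (le_normalizer_of_normal ⊤ W).trans (normalizer_le_normalizer_centralizer W)
    obtain ⟨S₁, hS₁⟩ := exists_sylow_inf_of_le_normalizer (centralizer (W : Set G)) S
      (le_normalizer_of_normal _ _)
    have hKodd : (Nat.card (centralizer (W : Set G))).Coprime 2 := by
      rw [hK] at hS₁
      have hbot : (S₁ : Subgroup ↥(centralizer (W : Set G))) = ⊥ :=
        (Subgroup.map_eq_bot_iff_of_injective _ (Subgroup.subtype_injective _)).mp hS₁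
      by_contra hnc
      have hd : 2 ∣ Nat.card (centralizer (W : Set G)) := by
        rw [Nat.coprime_comm, Nat.prime_two.coprime_iff_not_dvd, not_not] at hnc
        exact hnc
      exact S₁.ne_bot_of_dvd_card hd hbot
    have hKW : centralizer (W : Set G) ≤ W := by
      have h0 : centralizer (W : Set G) ≤ Cfsg.pPrimeCore 2 G := le_sSup ⟨hKn, hKodd⟩
      exact h0.trans (le_of_eq hW.symm)
    have hzcen : (QuotientGroup.mk z : G ⧸ Cfsg.oddCore G) ∈ Subgroup.center (G ⧸ Cfsg.oddCore G) := by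
      rw [Subgroup.mem_center_iff]
      intro q
      obtain ⟨g, rfl⟩ := QuotientGroup.mk_surjective q
      rw [← QuotientGroup.mk_mul, ← QuotientGroup.mk_mul, QuotientGroup.eq]
      rw [← hW]
      apply hKW
      rw [Subgroup.mem_centralizer_iff]
      intro w hw
      have e1 : z * (g * w * g⁻¹) * z⁻¹ = (g * w * g⁻¹)⁻¹ := hzinv _ (hWn.conj_mem w hw g)
      have e2 : z⁻¹ * w⁻¹ * z = w := by
        have := hzinv w hw
        rw [← this]; group
      have e3 : ((g * z)⁻¹ * (z * g)) * w * ((g * z)⁻¹ * (z * g))⁻¹ = w := by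
        calc ((g * z)⁻¹ * (z * g)) * w * ((g * z)⁻¹ * (z * g))⁻¹
            = z⁻¹ * (g⁻¹ * (z * (g * w * g⁻¹) * z⁻¹) * g) * z := by group
          _ = z⁻¹ * (g⁻¹ * (g * w * g⁻¹)⁻¹ * g) * z := by rw [e1]
          _ = z⁻¹ * w⁻¹ * z := by group
          _ = w := e2
      calc w * ((g * z)⁻¹ * (z * g))
          = (((g * z)⁻¹ * (z * g)) * w * ((g * z)⁻¹ * (z * g))⁻¹) * ((g * z)⁻¹ * (z * g)) := by rw [e3]
        _ = (g * z)⁻¹ * (z * g) * w := by group
    rw [hZ, Subgroup.mem_bot, QuotientGroup.eq_one_iff, ← hW] at hzcen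
    have hzz : z * z = 1 := by
      have := pow_orderOf_eq_one z
      rwa [hzo, pow_two] at this
    have hz1 := hodd z hzcen hzz
    rw [hz1, orderOf_one] at hzo
    omega
  · obtain ⟨t, htA, hto, htc⟩ := exists_orderOf_eq_prime_central S.isPGroup' inf_le_left
      (le_normalizer_inf' Subgroup.le_normalizer (le_normalizer_of_normal _ _)) hK
    have htS : t ∈ (S : Subgroup G) := (Subgroup.mem_inf.mp htA).1
    have htK : t ∈ centralizer (W : Set G) := (Subgroup.mem_inf.mp htA).2
    have htinv := hinv t htS hto htc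
    rw [← hW, eq_bot_iff]
    intro w hw
    have h1 := htinv w hw
    have h2 : w * t = t * w := Subgroup.mem_centralizer_iff.mp htK w hw
    have h3 : w⁻¹ = w := by
      rw [← h1, ← h2]; group
    have h4 : w * w = 1 := by
      nth_rewrite 1 [← h3]; group
    exact Subgroup.mem_bot.mpr (hodd w hw h4)

end Cfsg.Agent.S2898
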