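import Cfsg.Statements.S2910
import Cfsg.Agent.Helper17.Basic
import Cfsg.Agent.Helper10.CopGen
import Cfsg.Agent.S0071
import Cfsg.Agent.S0120
-- import your own Cfsg.Agent.* helpers here

set_option autoImplicit false
open Cfsg

namespace Cfsg.Agent.S2910

open Cfsg.Agent.Helper17
open scoped commutatorElement
open Subgroup


/-- Let p be an odd prime dividing the order of the finite group G and P a Sylow p-subgroup of G. If Ω₁(P) (generated by the elements of order dividing p) is contained in the centre of G, then G has a normal p-complement. In particular, if G is quasisimple then Ω₁(P) is not central in G. -/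
theorem result {G : Type*} [Group G] [Finite G] {p : ℕ} [Fact p.Prime] (hp : p ≠ 2) (hdiv : p ∣ Nat.card G) (P : Sylow p G) (hZ : Cfsg.omegaOne p (P : Subgroup G) ≤ Subgroup.center G) : Cfsg.HasNormalPComplement p G ∧ ¬ Cfsg.IsQuasisimple G := by
  have hkey : ∀ Q : Subgroup G, Q ≤ (P : Subgroup G) → ∀ g ∈ Subgroup.normalizer (Q : Set G),
      Nat.Coprime (orderOf g) p → g ∈ Subgroup.centralizer (Q : Set G) := by
    intro Q hQP g hg hgo
    have hQp : IsPGroup p ↥Q := P.isPGroup'.to_le hQP
    have ha : Nat.Coprime (orderOf (Cfsg.Agent.Helper10.conjNormalizer Q g hg : MulAut ↥Q)) p := by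
      apply Nat.Coprime.coprime_dvd_left _ hgo
      apply orderOf_dvd_of_pow_eq_one
      ext x
      rw [Cfsg.Agent.Helper10.conjNormalizer_pow_coe, pow_orderOf_eq_one]
      simp
    have h : ∀ x : ↥Q, x ^ p = 1 → (Cfsg.Agent.Helper10.conjNormalizer Q g hg : MulAut ↥Q) x = x := by
      intro x hx
      apply Subtype.ext
      rw [Cfsg.Agent.Helper10.conjNormalizer_coe]
      have hxO : (x : G) ∈ Cfsg.omegaOne p (P : Subgroup G) := by
        unfold Cfsg.omegaOne
        apply Subgroup.subset_closure
        refine ⟨hQP x.2, ?_⟩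
        have := congrArg Subtype.val hx
        simpa using this
      have hxc := Subgroup.mem_center_iff.mp (hZ hxO) g
      rw [hxc, mul_inv_cancel_right]
    have h1 := Cfsg.Agent.S0120.result hp hQp _ ha h
    rw [Subgroup.mem_centralizer_iff]
    intro x hx
    have h2 := congrArg (fun f : MulAut ↥Q => ((f ⟨x, hx⟩ : ↥Q) : G)) h1
    simp only [Cfsg.Agent.Helper10.conjNormalizer_coe, MulAut.one_apply] at h2
    calc x * g = (g * x * g⁻¹) * g := by rw [h2]
      _ = g * x := by group
  obtain ⟨N, hN, hc⟩ := (Cfsg.Agent.S0071.result P).mpr hkey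
  refine ⟨⟨P, N, hN, hc⟩, ?_⟩
  rintro ⟨hperf, -⟩
  have hPne : (P : Subgroup G) ≠ ⊥ := P.ne_bot_of_dvd_card hdiv
  have hcard : Nat.card N * Nat.card (P : Subgroup G) = Nat.card G := hc.card_mul_card
  have hidx : N.index = Nat.card (P : Subgroup G) := by
    have h3 := N.card_mul_index
    rw [← hcard] at h3
    have hNpos : 0 < Nat.card N := Nat.card_pos
    exact Nat.eq_of_mul_eq_mul_left hNpos h3
  have hQp : IsPGroup p (G ⧸ N) := by
    obtain ⟨n, hn⟩ := IsPGroup.iff_card.mp P.isPGroup'
    apply IsPGroup.of_card (n := n)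
    rw [← Subgroup.index_eq_card, hidx, hn]
  have hnt : Nontrivial (G ⧸ N) := by
    rw [← Finite.one_lt_card_iff_nontrivial, ← Subgroup.index_eq_card, hidx]
    by_contra hle
    have h1 : Nat.card (P : Subgroup G) = 1 := by
      have hpos : 0 < Nat.card (P : Subgroup G) := Nat.card_pos
      omega
    exact hPne (Subgroup.card_eq_one.mp h1)
  exact Group.IsPerfect.not_isNilpotent (G ⧸ N) hQp.isNilpotent

end Cfsg.Agent.S2910
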