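import Mathlib
import Cfsg.Statements.S2968
import Cfsg.Agent.Helper18.Isolated

set_option autoImplicit false
open Cfsg

namespace Cfsg.Agent.S2968

open Cfsg.Agent.Helper18

/-- Let G be a finite group, p a prime, P a Sylow p-subgroup of G and x ∈ P an element of p-power order which is isolated in G (the only conjugate of x commuting with x is x itself). Then x lies in the centre of P, and the subgroup generated by x is both strongly closed and weakly closed in P with respect to G. -/
theorem result {G : Type*} [Group G] [Finite G] {p : ℕ} [Fact p.Prime] (P : Sylow p G) (x : G) (hxP : x ∈ (P : Subgroup G)) (hx : ∃ k : ℕ, orderOf x = p ^ k) (hiso : Cfsg.IsIsolated x) : x ∈ (P : Subgroup G) ⊓ Subgroup.centralizer ((P : Subgroup G) : Set G) ∧ Cfsg.IsStronglyClosed (Subgroup.zpowers x) (P : Subgroup G) ∧ Cfsg.IsWeaklyClosed (Subgroup.zpowers x) (P : Subgroup G) := by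
  have hcen : ∀ r ∈ (P : Subgroup G), r * x = x * r :=
    isolated_central hiso (P : Subgroup G) P.isPGroup' hxP
  have hle : Subgroup.zpowers x ≤ (P : Subgroup G) := Subgroup.zpowers_le.mpr hxP
  refine ⟨Subgroup.mem_inf.mpr ⟨hxP, ?_⟩, ⟨hle, ?_⟩, ⟨hle, ?_⟩⟩
  · rw [Subgroup.mem_centralizer_iff]
    intro r hr
    exact hcen r hr
  · intro y hy g hg
    obtain ⟨k, rfl⟩ := Subgroup.mem_zpowers_iff.mp hy
    -- u = g x^k g⁻¹ ∈ P, commutes with x
    set u := g * x ^ k * g⁻¹ with hu
    have hu2 : u = (g * x * g⁻¹) ^ k := by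
      rw [hu]; simp [conj_zpow]
    have h1 : x ∈ Subgroup.centralizer ({u} : Set G) := by
      rw [Subgroup.mem_centralizer_iff]
      intro y hy
      rw [Set.mem_singleton_iff] at hy
      rw [hy]
      exact hcen u hg
    have h2 : g * x * g⁻¹ ∈ Subgroup.centralizer ({u} : Set G) := by
      rw [Subgroup.mem_centralizer_iff]
      intro y hy
      rw [Set.mem_singleton_iff] at hy
      rw [hy, hu2]
      exact ((Commute.refl (g * x * g⁻¹)).zpow_left k).eq
    obtain ⟨n, hn, hn2⟩ := isolated_conj_in hx hiso _ h1 g h2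
    have h3 : n * u * n⁻¹ = u := by
      have := Subgroup.mem_centralizer_iff.mp hn u rfl
      calc n * u * n⁻¹ = (u * n) * n⁻¹ := by rw [this]
        _ = u := by group
    have h4 : n * u * n⁻¹ = x ^ k := by
      have h5 : n * u * n⁻¹ = (n * (g * x * g⁻¹) * n⁻¹) ^ k := by
        rw [conj_zpow, ← hu2]
      rw [h5, hn2]
    rw [← h3, h4]
    exact Subgroup.zpow_mem_zpowers x k
  · intro g hg
    have h1 : g * x * g⁻¹ ∈ (P : Subgroup G) := by
      apply hg
      exact ⟨x, Subgroup.mem_zpowers x, by simp⟩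
    have h2 := hcen _ h1
    have h3 := hiso g h2.symm
    rw [MonoidHom.map_zpowers]
    have : (MulAut.conj g).toMonoidHom x = g * x * g⁻¹ := by simp
    rw [this, h3]

end Cfsg.Agent.S2968
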