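import Mathlib
import Cfsg.Statements.S2970
import Cfsg.Agent.Helper18.Isolated
import Cfsg.Agent.Helper18.CharP
import Cfsg.Agent.S2969

set_option autoImplicit false
open Cfsg

namespace Cfsg.Agent.S2970

open Cfsg.Agent.Helper18

/-- In a cyclic group, the elements of order dividing `p` lie in any subgroup that contains
an element of order `p`. -/
theorem omega_le_of_cyclic {C : Type*} [Group C] [Finite C] [IsCyclic C] {p : ℕ} [Fact p.Prime]
    (y : C) (hy : orderOf y = p) (d : C) (hd : d ^ p = 1) : d ∈ Subgroup.zpowers y := by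
  classical
  have : Fintype C := Fintype.ofFinite C
  have hp : 0 < p := (Fact.out : p.Prime).pos
  have h1 := IsCyclic.card_pow_eq_one_le (α := C) hp
  set A : Finset C := Finset.univ.filter (fun a : C => a ^ p = 1) with hA
  set Z : Finset C := (Finset.univ.filter (fun a : C => a ∈ Subgroup.zpowers y)) with hZ
  have hZA : Z ⊆ A := by
    intro a ha
    rw [hZ, Finset.mem_filter] at ha
    rw [hA, Finset.mem_filter]
    refine ⟨Finset.mem_univ _, ?_⟩
    obtain ⟨i, rfl⟩ := Subgroup.mem_zpowers_iff.mp ha.2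
    rw [← zpow_natCast, ← zpow_mul, mul_comm, zpow_mul, zpow_natCast, ← hy, pow_orderOf_eq_one,
      one_zpow]
  have hZc : Z.card = p := by
    have : Z.card = Nat.card (Subgroup.zpowers y) := by
      rw [Nat.card_eq_fintype_card, Fintype.card_subtype]
    rw [this, Nat.card_zpowers, hy]
  have hAZ : A = Z := (Finset.eq_of_subset_of_card_le hZA (by rw [hZc]; exact h1)).symm
  have hdA : d ∈ A := by
    rw [hA, Finset.mem_filter]
    exact ⟨Finset.mem_univ _, hd⟩
  rw [hAZ, hZ, Finset.mem_filter] at hdA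
  exact hdA.2

/-- Subgroup version. -/
theorem omega_le_of_cyclic' {G : Type*} [Group G] [Finite G] {p : ℕ} [Fact p.Prime]
    (P : Subgroup G) [IsCyclic ↥P] (x : G) (hxP : x ∈ P) (hx1 : x ≠ 1)
    (hx : ∃ k : ℕ, orderOf x = p ^ k) (d : G) (hdP : d ∈ P) (hd : d ^ p = 1) :
    d ∈ Subgroup.zpowers x := by
  obtain ⟨k, hk⟩ := hx
  have hk0 : k ≠ 0 := by
    rintro rfl
    rw [pow_zero, orderOf_eq_one_iff] at hk
    exact hx1 hk
  obtain ⟨j, rfl⟩ := Nat.exists_eq_succ_of_ne_zero hk0
  have hord : orderOf (x ^ p ^ j) = p := by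
    rw [orderOf_pow' x (pow_ne_zero j (Fact.out : p.Prime).ne_zero), hk]
    rw [Nat.gcd_eq_right (pow_dvd_pow p (Nat.le_succ j)), pow_succ,
      Nat.mul_div_cancel_left _ (pow_pos (Fact.out : p.Prime).pos j)]
  have hyP : x ^ p ^ j ∈ P := P.pow_mem hxP _
  have h1 := omega_le_of_cyclic (C := ↥P) (p := p) ⟨x ^ p ^ j, hyP⟩
    (by rw [Subgroup.orderOf_mk]; exact hord) ⟨d, hdP⟩ (by
      apply Subtype.ext; simpa using hd)
  obtain ⟨i, hi⟩ := Subgroup.mem_zpowers_iff.mp h1
  have h2 := congrArg Subtype.val hi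
  simp only [Subgroup.coe_zpow] at h2
  rw [← h2]
  exact Subgroup.zpow_mem _ (Subgroup.pow_mem _ (Subgroup.mem_zpowers x) _) _

/-- Let G be a finite group, p a prime and x ∈ G an element of p-power order which is isolated in G. Then the image of x in any quotient G ⧸ N is isolated in G ⧸ N; and if x ≠ 1 and the Sylow p-subgroups of G are cyclic, then G has a normal p-complement. -/
theorem result {G : Type*} [Group G] [Finite G] {p : ℕ} [Fact p.Prime] (x : G) (hx : ∃ k : ℕ, orderOf x = p ^ k) (hiso : Cfsg.IsIsolated x) : (∀ (N : Subgroup G) [N.Normal], Cfsg.IsIsolated (QuotientGroup.mk x : G ⧸ N)) ∧ (x ≠ 1 → (∀ P : Sylow p G, IsCyclic ↥(P : Subgroup G)) → Cfsg.HasNormalPComplement p G) := by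
  refine ⟨?_, ?_⟩
  · intro N _ gbar hcomm
    obtain ⟨g, rfl⟩ := QuotientGroup.mk_surjective gbar
    set y := g * x * g⁻¹ with hy
    have hcomm' : (QuotientGroup.mk x : G ⧸ N) * (QuotientGroup.mk y : G ⧸ N)
        = (QuotientGroup.mk y : G ⧸ N) * (QuotientGroup.mk x : G ⧸ N) := by
      have := hcomm.eq
      simpa [hy] using this
    set M : Subgroup G := (Subgroup.centralizer
      ({(QuotientGroup.mk y : G ⧸ N)} : Set (G ⧸ N))).comap (QuotientGroup.mk' N) with hM
    have hxM : x ∈ M := by
      rw [hM, Subgroup.mem_comap, Subgroup.mem_centralizer_iff]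
      intro z hz
      rw [Set.mem_singleton_iff] at hz
      rw [hz]
      exact hcomm'.symm
    have hyM : g * x * g⁻¹ ∈ M := by
      rw [hM, Subgroup.mem_comap, Subgroup.mem_centralizer_iff]
      intro z hz
      rw [Set.mem_singleton_iff] at hz
      rw [hz]
      rfl
    obtain ⟨n, hn, hn2⟩ := isolated_conj_in hx hiso M hxM g hyM
    rw [hM, Subgroup.mem_comap, Subgroup.mem_centralizer_iff] at hn
    have h1 := hn _ rfl
    have h2 : (QuotientGroup.mk x : G ⧸ N) = (QuotientGroup.mk' N n) * (QuotientGroup.mk y : G ⧸ N)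
        * (QuotientGroup.mk' N n)⁻¹ := by
      rw [← hn2]
      simp [hy]
    rw [← h1] at h2
    have h3 : (QuotientGroup.mk g : G ⧸ N) * (QuotientGroup.mk x : G ⧸ N)
        * (QuotientGroup.mk g : G ⧸ N)⁻¹ = (QuotientGroup.mk y : G ⧸ N) := by
      simp [hy]
    rw [h3, h2]
    group
  · intro hx1 hcyc
    obtain ⟨k, hk⟩ := hx
    have hpx : IsPGroup p ↥(Subgroup.zpowers x) := by
      apply IsPGroup.of_card (n := k)
      rw [Nat.card_zpowers, hk]
    obtain ⟨P, hP⟩ := hpx.exists_le_sylow
    have hxP : x ∈ (P : Subgroup G) := hP (Subgroup.mem_zpowers x)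
    have := hcyc P
    have hPcomm : ∀ a ∈ (P : Subgroup G), ∀ b ∈ (P : Subgroup G), a * b = b * a := by
      intro a ha b hb
      obtain ⟨c, hc⟩ := IsCyclic.exists_generator (α := ↥(P : Subgroup G))
      obtain ⟨i, hi⟩ := Subgroup.mem_zpowers_iff.mp (hc ⟨a, ha⟩)
      obtain ⟨j, hj⟩ := Subgroup.mem_zpowers_iff.mp (hc ⟨b, hb⟩)
      have hi' : (c : G) ^ i = a := by
        have := congrArg Subtype.val hi; simpa using this
      have hj' : (c : G) ^ j = b := by
        have := congrArg Subtype.val hj; simpa using this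
      rw [← hi', ← hj', ← zpow_add, ← zpow_add, add_comm]
    have hNC := (Cfsg.Agent.S2969.result (p := p) x ⟨k, hk⟩ hiso).1 (P : Subgroup G) P.isPGroup' hxP
    have hPn : ∀ g ∈ Subgroup.normalizer ((P : Subgroup G) : Set G), ∀ u ∈ (P : Subgroup G),
        g * u * g⁻¹ ∈ (P : Subgroup G) := by
      intro g hg u hu
      exact (Subgroup.mem_normalizer_iff.mp hg u).mp hu
    -- p'-elements of N(P) centralize P
    have key : ∀ h ∈ Subgroup.normalizer ((P : Subgroup G) : Set G), (orderOf h).Coprime p →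
        ∀ j : ℕ, ∀ u ∈ (P : Subgroup G), u ^ p ^ j = 1 → h * u * h⁻¹ = u := by
      intro h hh hcop j
      have hhx : h * x = x * h := by
        have := Subgroup.mem_centralizer_iff.mp (hNC hh) x rfl
        exact this.symm
      induction j with
      | zero =>
        intro u _ hu1
        rw [pow_zero, pow_one] at hu1
        rw [hu1]; group
      | succ j ih =>
        intro u hu hu1
        have h1 : h * u ^ p * h⁻¹ = u ^ p := by
          apply ih _ (Subgroup.pow_mem _ hu _)
          rw [← pow_mul, ← pow_succ']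
          exact hu1
        set d := u⁻¹ * (h * u * h⁻¹) with hd
        have hconj : h * u * h⁻¹ ∈ (P : Subgroup G) := hPn h hh u hu
        have hdP : d ∈ (P : Subgroup G) := Subgroup.mul_mem _ (Subgroup.inv_mem _ hu) hconj
        have hdp : d ^ p = 1 := by
          have hc : Commute u⁻¹ (h * u * h⁻¹) :=
            hPcomm _ (Subgroup.inv_mem _ hu) _ hconj
          rw [hd, hc.mul_pow, conj_pow, h1, inv_pow, inv_mul_cancel]
        have hdz : d ∈ Subgroup.zpowers x :=
          omega_le_of_cyclic' (p := p) (P : Subgroup G) x hxP hx1 ⟨k, hk⟩ d hdP hdp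
        have hhd : h * d = d * h := by
          obtain ⟨i, hi⟩ := Subgroup.mem_zpowers_iff.mp hdz
          rw [← hi]
          have hc : Commute h x := hhx
          exact (hc.zpow_right i).eq
        have h2 : h * u * h⁻¹ = u * d := by
          rw [hd]; group
        have h3 : d = 1 := eq_one_of_conj_eq_mul (p := p) hcop hhd ⟨1, by rw [pow_one]; exact hdp⟩ h2
        rw [h2, h3, mul_one]
    have hPp : ∀ u ∈ (P : Subgroup G), ∃ j : ℕ, u ^ p ^ j = 1 := by
      intro u hu
      obtain ⟨j, hj⟩ := P.isPGroup' ⟨u, hu⟩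
      refine ⟨j, ?_⟩
      have := congrArg Subtype.val hj
      simpa using this
    have hmain : Subgroup.normalizer ((P : Subgroup G) : Set G) ≤
        Subgroup.centralizer ((P : Subgroup G) : Set G) := by
      intro g hg
      -- decompose the order of g
      have hpp : p.Prime := Fact.out
      have hord_pos : 0 < orderOf g := orderOf_pos g
      obtain ⟨a, m, hpm, hgm⟩ := Nat.exists_eq_pow_mul_and_not_dvd hord_pos.ne' p hpp.ne_one
      have hcop : Nat.Coprime (p ^ a) m := Nat.Coprime.pow_left a ((Nat.Prime.coprime_iff_not_dvd hpp).mpr hpm)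
      -- p'-part
      have hh : g ^ p ^ a ∈ Subgroup.normalizer ((P : Subgroup G) : Set G) := Subgroup.pow_mem _ hg _
      have hhord : (orderOf (g ^ p ^ a)).Coprime p := by
        have : orderOf (g ^ p ^ a) ∣ m := by
          apply orderOf_dvd_of_pow_eq_one
          rw [← pow_mul, ← hgm, pow_orderOf_eq_one]
        exact Nat.Coprime.coprime_dvd_left this ((Nat.Prime.coprime_iff_not_dvd hpp).mpr hpm).symm
      -- p-part lies in P
      have hw : g ^ m ∈ Subgroup.normalizer ((P : Subgroup G) : Set G) := Subgroup.pow_mem _ hg _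
      have hwP : g ^ m ∈ (P : Subgroup G) := by
        have hpw : IsPGroup p ↥(Subgroup.zpowers (g ^ m)) := by
          have : orderOf (g ^ m) ∣ p ^ a := by
            apply orderOf_dvd_of_pow_eq_one
            rw [← pow_mul, mul_comm, ← hgm, pow_orderOf_eq_one]
          obtain ⟨b, _, hb⟩ := (Nat.dvd_prime_pow hpp).mp this
          apply IsPGroup.of_card (n := b)
          rw [Nat.card_zpowers, hb]
        have hle : Subgroup.zpowers (g ^ m) ≤ Subgroup.normalizer ((P : Subgroup G) : Set G) :=
          Subgroup.zpowers_le.mpr hw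
        have hsup := IsPGroup.to_sup_of_normal_right' hpw P.isPGroup' hle
        have := P.is_maximal' hsup le_sup_right
        have h2 : Subgroup.zpowers (g ^ m) ≤ (P : Subgroup G) := by
          rw [← this]; exact le_sup_left
        exact h2 (Subgroup.mem_zpowers _)
      -- Bezout
      have hbez : g = (g ^ p ^ a) ^ (Nat.gcdA (p ^ a) m) * (g ^ m) ^ (Nat.gcdB (p ^ a) m) := by
        have h1 := Nat.gcd_eq_gcd_ab (p ^ a) m
        rw [hcop] at h1
        rw [← zpow_natCast g (p ^ a), ← zpow_natCast g m, ← zpow_mul, ← zpow_mul, ← zpow_add, ← h1]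
        simp
      rw [Subgroup.mem_centralizer_iff]
      intro u hu
      have e1 : ∀ i : ℤ, (g ^ p ^ a) ^ i * u = u * (g ^ p ^ a) ^ i := by
        intro i
        have hc : Commute (g ^ p ^ a) u := by
          obtain ⟨j, hj⟩ := hPp u hu
          have := key _ hh hhord j u hu hj
          show g ^ p ^ a * u = u * g ^ p ^ a
          calc g ^ p ^ a * u = (g ^ p ^ a * u * (g ^ p ^ a)⁻¹) * g ^ p ^ a := by group
            _ = u * g ^ p ^ a := by rw [this]
        exact (hc.zpow_left i).eq
      have e2 : ∀ i : ℤ, (g ^ m) ^ i * u = u * (g ^ m) ^ i := by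
        intro i
        have hc : Commute (g ^ m) u := hPcomm _ hwP _ hu
        exact (hc.zpow_left i).eq
      have hA := e1 (Nat.gcdA (p ^ a) m)
      have hB := e2 (Nat.gcdB (p ^ a) m)
      have hfin : u * ((g ^ p ^ a) ^ (Nat.gcdA (p ^ a) m) * (g ^ m) ^ (Nat.gcdB (p ^ a) m))
          = ((g ^ p ^ a) ^ (Nat.gcdA (p ^ a) m) * (g ^ m) ^ (Nat.gcdB (p ^ a) m)) * u := by
        rw [← mul_assoc, ← hA, mul_assoc, ← hB, mul_assoc]
      rw [← hbez] at hfin
      exact hfin
    refine ⟨P, (MonoidHom.transferSylow P hmain).ker, inferInstance, ?_⟩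
    exact MonoidHom.ker_transferSylow_isComplement' P hmain

end Cfsg.Agent.S2970
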