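import Mathlib
import Cfsg.Statements.S2972
import Cfsg.Prelude.Def_CaseTheorems
import Cfsg.Agent.Helper18.Isolated
import Cfsg.Agent.Helper10.PComp
import Cfsg.Agent.S0542
import Cfsg.Agent.S2969

set_option autoImplicit false
open Cfsg

namespace Cfsg.Agent.S2972

open Cfsg.Agent.Helper18 Cfsg.Agent.Helper10

/-- A subnormal subgroup meeting a Sylow `p`-subgroup trivially has order prime to `p`. -/
theorem coprime_of_sylow_inf_eq_bot {G : Type*} [Group G] [Finite G] {p : ℕ} [Fact p.Prime]
    (P : Sylow p G) (T : Subgroup G) (hT : T.IsSubnormal) (h : (P : Subgroup G) ⊓ T = ⊥) :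
    (Nat.card T).Coprime p := by
  obtain ⟨Q, hQ⟩ := Cfsg.Agent.S0542.result p T hT P
  have h1 : (Q : Subgroup T) = ⊥ := by
    rw [hQ, Subgroup.subgroupOf_eq_bot, disjoint_iff]; exact h
  have h2 : ¬ p ∣ (Q : Subgroup T).index := Q.not_dvd_index
  rw [h1, Subgroup.index_bot] at h2
  exact ((Nat.Prime.coprime_iff_not_dvd Fact.out).mpr h2).symm

/-- Let G be a finite group, p a prime and x ∈ G an isolated element of order p (the only conjugate of x commuting with x is x) which is not central modulo the largest normal subgroup of order prime to p, while x is central modulo the largest normal subgroup of order prime to p in every proper subgroup containing x, and the image of x is so in every quotient of G by a nontrivial normal subgroup (a minimal counterexample to the Z*_p statement). Then the derived subgroup G' is a non-abelian simple group and G = G'⟨x⟩. -/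
theorem result {G : Type*} [Group G] [Finite G] {p : ℕ} [Fact p.Prime] (x : G) (hx : orderOf x = p) (hiso : Cfsg.IsIsolated x) (hnz : ¬ Cfsg.InZStar p x) (hmin : ∀ (H : Subgroup G) (hxH : x ∈ H), H ≠ ⊤ → Cfsg.InZStar p (⟨x, hxH⟩ : ↥H)) (hquot : ∀ (N : Subgroup G) [N.Normal], N ≠ ⊥ → Cfsg.InZStar p (QuotientGroup.mk x : G ⧸ N)) : IsSimpleGroup ↥(commutator G) ∧ ¬ IsMulCommutative ↥(commutator G) ∧ commutator G ⊔ Subgroup.zpowers x = ⊤ := by
  have hpp : p.Prime := Fact.out
  have hxk : ∃ k : ℕ, orderOf x = p ^ k := ⟨1, by rw [hx, pow_one]⟩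
  -- (A)
  have hO : pPrimeCore p G = ⊥ := by
    by_contra hne
    have h1 := hquot (pPrimeCore p G) hne
    apply hnz
    intro g
    have h2 := h1 (QuotientGroup.mk g)
    rw [pPrimeCore_quotient, Subgroup.mem_bot] at h2
    apply (QuotientGroup.eq_one_iff _).mp
    simpa using h2
  -- (B)
  have hB : ¬ ∀ g : G, g * x * g⁻¹ = x := by
    intro hc
    apply hnz
    intro g
    rw [hc g, mul_inv_cancel]
    exact Subgroup.one_mem _
  have hB' : ∀ (Y : Subgroup G), (∀ g : G, g * x * g⁻¹ * x⁻¹ ∈ Y) → (∀ y ∈ Y, y * x = x * y) →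
      False := by
    intro Y h1 h2
    apply hB
    intro g
    apply hiso
    have := h2 _ (h1 g)
    show x * (g * x * g⁻¹) = g * x * g⁻¹ * x
    calc x * (g * x * g⁻¹) = x * (g * x * g⁻¹ * x⁻¹) * x := by group
      _ = (g * x * g⁻¹ * x⁻¹) * x * x := by rw [this]
      _ = g * x * g⁻¹ * x := by group
  -- Claim 1
  have claim1 : ∀ (N : Subgroup G), N.Normal → N ⊔ Subgroup.zpowers x ≠ ⊤ →
      ∀ n ∈ N, n * x = x * n := by
    intro N hN hne n hn
    set H := N ⊔ Subgroup.zpowers x with hH
    have hxH : x ∈ H := Subgroup.mem_sup_right (Subgroup.mem_zpowers x)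
    have hNH : N ≤ H := le_sup_left
    have h1 := hmin H hxH hne ⟨n, hNH hn⟩
    set Y := (pPrimeCore p ↥H).map H.subtype with hY
    have h2 : n * x * n⁻¹ * x⁻¹ ∈ Y := ⟨_, h1, by simp⟩
    have h3 : n * x * n⁻¹ * x⁻¹ ∈ N := by
      have : n * x * n⁻¹ * x⁻¹ = n * (x * n⁻¹ * x⁻¹) := by group
      rw [this]
      exact N.mul_mem hn (hN.conj_mem _ (N.inv_mem hn) x)
    have h4 : (N ⊓ Y).IsSubnormal := by
      apply Subgroup.IsSubnormal.step (N ⊓ Y) N inf_le_left hN.isSubnormal
      constructor
      intro a ha b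
      rw [Subgroup.mem_subgroupOf] at ha ⊢
      obtain ⟨ha1, ha2⟩ := Subgroup.mem_inf.mp ha
      refine Subgroup.mem_inf.mpr ⟨?_, ?_⟩
      · simpa using N.mul_mem (N.mul_mem b.2 ha1) (N.inv_mem b.2)
      · obtain ⟨c, hc, hc2⟩ := ha2
        refine ⟨⟨b, hNH b.2⟩ * c * ⟨b, hNH b.2⟩⁻¹, (pPrimeCore_normal p ↥H).conj_mem c hc _, ?_⟩
        have hc3 : (c : G) = (a : G) := hc2
        simp [hc3]
    have h5 : (Nat.card ↥(N ⊓ Y)).Coprime p := by
      have h6 : (Nat.card Y).Coprime p := by
        rw [hY, Subgroup.card_map_of_injective H.subtype_injective]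
        exact pPrimeCore_coprime p ↥H
      exact Nat.Coprime.coprime_dvd_left (Subgroup.card_dvd_of_le inf_le_right) h6
    have h7 := subnormal_coprime_le_pPrimeCore p (N ⊓ Y) h4 h5
    rw [hO] at h7
    have h8 : n * x * n⁻¹ * x⁻¹ = 1 := by
      have := h7 (Subgroup.mem_inf.mpr ⟨h3, h2⟩)
      simpa using this
    calc n * x = (n * x * n⁻¹ * x⁻¹) * x * n := by group
      _ = x * n := by rw [h8, one_mul]
  -- a Sylow subgroup containing x
  obtain ⟨P, hP⟩ := (IsPGroup.of_card (n := 1) (by rw [Nat.card_zpowers, hx, pow_one]) :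
    IsPGroup p ↥(Subgroup.zpowers x)).exists_le_sylow
  have hxP : x ∈ (P : Subgroup G) := hP (Subgroup.mem_zpowers x)
  have hxZP := isolated_central hiso (P : Subgroup G) P.isPGroup' hxP
  -- Claim 2
  have claim2 : Subgroup.center G = ⊥ := by
    by_contra hZ
    have h1 := hquot (Subgroup.center G) hZ
    set Y := (pPrimeCore p (G ⧸ Subgroup.center G)).comap
      (QuotientGroup.mk' (Subgroup.center G)) with hY
    have hYn : Y.Normal := Subgroup.Normal.comap (pPrimeCore_normal p _) _
    have h2 : ∀ g : G, g * x * g⁻¹ * x⁻¹ ∈ Y := by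
      intro g
      rw [hY, Subgroup.mem_comap]
      have := h1 (QuotientGroup.mk g)
      simpa using this
    by_cases hc : Y ⊔ Subgroup.zpowers x = ⊤
    · have h3 : ∀ y ∈ Y, (∃ j : ℕ, y ^ p ^ j = 1) → y ∈ Subgroup.center G := by
        rintro y hy ⟨j, hj⟩
        rw [hY, Subgroup.mem_comap] at hy
        have ho1 : orderOf (QuotientGroup.mk' (Subgroup.center G) y) ∣ p ^ j := by
          apply orderOf_dvd_of_pow_eq_one
          rw [← map_pow, hj, map_one]
        have ho2 : orderOf (QuotientGroup.mk' (Subgroup.center G) y) ∣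
            Nat.card (pPrimeCore p (G ⧸ Subgroup.center G)) := by
          have := orderOf_dvd_natCard (⟨_, hy⟩ : ↥(pPrimeCore p (G ⧸ Subgroup.center G)))
          rwa [Subgroup.orderOf_mk] at this
        have hcop : (Nat.card (pPrimeCore p (G ⧸ Subgroup.center G))).Coprime (p ^ j) :=
          (pPrimeCore_coprime p _).pow_right j
        have ho3 : orderOf (QuotientGroup.mk' (Subgroup.center G) y) = 1 :=
          Nat.eq_one_of_dvd_coprimes hcop ho2 ho1
        rw [orderOf_eq_one_iff] at ho3
        exact (QuotientGroup.eq_one_iff y).mp ho3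
      have h4 : ∀ u ∈ (P : Subgroup G), ∃ z ∈ Subgroup.center G, ∃ i : ℤ, u = z * x ^ i := by
        intro u hu
        have hu' : u ∈ (↑(Y ⊔ Subgroup.zpowers x) : Set G) := by rw [hc]; trivial
        rw [Subgroup.normal_mul] at hu'
        obtain ⟨y, hy, w, hw, rfl⟩ := Set.mem_mul.mp hu'
        obtain ⟨i, rfl⟩ := Subgroup.mem_zpowers_iff.mp hw
        refine ⟨y, h3 y hy ?_, i, rfl⟩
        have hyP : y ∈ (P : Subgroup G) := by
          have : y = (y * x ^ i) * (x ^ i)⁻¹ := by group
          rw [this]
          exact Subgroup.mul_mem _ hu (Subgroup.inv_mem _ (Subgroup.zpow_mem _ hxP i))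
        obtain ⟨j, hj⟩ := P.isPGroup' ⟨y, hyP⟩
        exact ⟨j, by simpa using congrArg Subtype.val hj⟩
      have hNx := (Cfsg.Agent.S2969.result (p := p) x hxk hiso).1 (P : Subgroup G) P.isPGroup' hxP
      have hmain : Subgroup.normalizer ((P : Subgroup G) : Set G) ≤
          Subgroup.centralizer ((P : Subgroup G) : Set G) := by
        intro n hn
        rw [Subgroup.mem_centralizer_iff]
        intro u hu
        obtain ⟨z, hz, i, rfl⟩ := h4 u hu
        have hnx : Commute n x := (Subgroup.mem_centralizer_iff.mp (hNx hn) x rfl).symm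
        have hnz : Commute n z := (Subgroup.mem_center_iff.mp hz n)
        exact ((hnz.mul_right (hnx.zpow_right i)).eq).symm
      have hK := MonoidHom.ker_transferSylow_isComplement' P hmain
      set K := (MonoidHom.transferSylow P hmain).ker with hKdef
      have hKc : (Nat.card K).Coprime p := by
        have h5 : Nat.card K = (P : Subgroup G).index := by
          have h6 := hK.card_mul_card
          have h7 := (P : Subgroup G).card_mul_index
          have hpos : 0 < Nat.card (P : Subgroup G) := Nat.card_pos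
          rw [← h7, mul_comm] at h6
          exact Nat.eq_of_mul_eq_mul_left hpos h6
        rw [h5]
        exact ((Nat.Prime.coprime_iff_not_dvd hpp).mpr P.not_dvd_index).symm
      have hK1 : K ≤ pPrimeCore p G := le_pPrimeCore p (MonoidHom.normal_ker _) hKc
      rw [hO] at hK1
      have hK2 : K = ⊥ := le_bot_iff.mp hK1
      have hPtop : (P : Subgroup G) = ⊤ := by
        rw [hK2] at hK
        exact Subgroup.isComplement'_bot_left.mp hK
      apply hB
      intro g
      have hg : g ∈ (P : Subgroup G) := by rw [hPtop]; trivial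
      have := hxZP g hg
      rw [this]; group
    · exact hB' Y h2 (fun y hy => claim1 Y hYn hc y hy)
  -- Claim 4
  have claim4 : ∀ (M : Subgroup G), M.Normal → M ⊔ Subgroup.zpowers x ≠ ⊤ → M = ⊥ := by
    intro M hM hne
    have h1 := claim1 M hM hne
    have := hM
    set C := Subgroup.centralizer (M : Set G) with hC
    have hCn : C.Normal := Subgroup.normal_centralizer
    have hxC : x ∈ C := by
      rw [hC, Subgroup.mem_centralizer_iff]
      intro m hm
      exact h1 m hm
    have hCtop : C = ⊤ := by
      by_contra hCne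
      have h2 : C ⊔ Subgroup.zpowers x ≠ ⊤ := by
        rw [sup_eq_left.mpr (Subgroup.zpowers_le.mpr hxC)]; exact hCne
      have h3 := claim1 C hCn h2
      apply hB
      intro g
      apply hiso
      exact (h3 _ (hCn.conj_mem x hxC g)).symm
    have h4 : M ≤ Subgroup.center G := by
      intro m hm
      rw [Subgroup.mem_center_iff]
      intro g
      have hg : g ∈ C := by rw [hCtop]; trivial
      exact (Subgroup.mem_centralizer_iff.mp hg m hm).symm
    rw [claim2] at h4
    exact le_bot_iff.mp h4
  -- G' ≠ 1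
  have hNne : commutator G ≠ ⊥ := by
    intro h1
    apply hB
    intro g
    have : g * x * g⁻¹ * x⁻¹ ∈ commutator G := by
      rw [commutator_def]
      exact Subgroup.commutator_mem_commutator (Subgroup.mem_top g) (Subgroup.mem_top x)
    rw [h1, Subgroup.mem_bot] at this
    calc g * x * g⁻¹ = (g * x * g⁻¹ * x⁻¹) * x := by group
      _ = x := by rw [this, one_mul]
  -- Claim 3
  have claim3 : commutator G ⊔ Subgroup.zpowers x = ⊤ := by
    by_contra hne
    exact hNne (claim4 (commutator G) inferInstance hne)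
  have hdec : ∀ g : G, ∃ n ∈ commutator G, ∃ i : ℤ, g = n * x ^ i := by
    intro g
    have hg : g ∈ (↑(commutator G ⊔ Subgroup.zpowers x) : Set G) := by rw [claim3]; trivial
    rw [Subgroup.normal_mul] at hg
    obtain ⟨n, hn, w, hw, rfl⟩ := Set.mem_mul.mp hg
    obtain ⟨i, rfl⟩ := Subgroup.mem_zpowers_iff.mp hw
    exact ⟨n, hn, i, rfl⟩
  have hnonab : ¬ IsMulCommutative ↥(commutator G) := by
    intro hab
    have h1 : (P : Subgroup G) ⊓ commutator G ≤ Subgroup.center G := by
      intro u hu
      obtain ⟨hu1, hu2⟩ := Subgroup.mem_inf.mp hu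
      rw [Subgroup.mem_center_iff]
      intro g
      obtain ⟨n, hn, i, rfl⟩ := hdec g
      have c1 : Commute n u := by
        have := hab.is_comm.comm ⟨n, hn⟩ ⟨u, hu2⟩
        exact congrArg Subtype.val this
      have c2 : Commute x u := (hxZP u hu1).symm
      exact (c1.mul_left (c2.zpow_left i)).eq
    rw [claim2] at h1
    have h2 := coprime_of_sylow_inf_eq_bot P (commutator G)
      (Subgroup.Normal.isSubnormal inferInstance) (le_bot_iff.mp h1)
    have h3 := le_pPrimeCore p (inferInstance : (commutator G).Normal) h2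
    rw [hO] at h3
    exact hNne (le_bot_iff.mp h3)
  have hsimple : IsSimpleGroup ↥(commutator G) := by
    have : Nontrivial ↥(commutator G) := (Subgroup.nontrivial_iff_ne_bot _).mpr hNne
    refine ⟨fun T hT => ?_⟩
    by_contra hcon
    obtain ⟨hTb, hTt⟩ := not_or.mp hcon
    set T' : Subgroup G := T.map (commutator G).subtype with hT'
    have hT'le : T' ≤ commutator G := Subgroup.map_subtype_le T
    have hcm : T'.subgroupOf (commutator G) = T := by
      rw [hT']
      exact Subgroup.comap_map_eq_self_of_injective (Subgroup.subtype_injective _) T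
    have hT'ne : T' ≠ commutator G := by
      intro h
      apply hTt
      rw [← hcm, h]
      exact Subgroup.subgroupOf_self _
    have hTn : ∀ n ∈ commutator G, ∀ t ∈ T', n * t * n⁻¹ ∈ T' := by
      intro n hn t ht
      obtain ⟨s, hs, rfl⟩ := ht
      exact ⟨⟨n, hn⟩ * s * ⟨n, hn⟩⁻¹, hT.conj_mem s hs _, by simp⟩
    set D := T'.normalCore with hD
    have hDle : D ≤ T' := Subgroup.normalCore_le T'
    have hDne : D ⊔ Subgroup.zpowers x ≠ ⊤ := by
      intro htop
      have := Subgroup.Normal.commutator_le_of_self_sup_commutative_eq_top htop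
        (inferInstance : IsMulCommutative (Subgroup.zpowers x))
      exact hT'ne (le_antisymm hT'le (this.trans hDle))
    have hD0 : D = ⊥ := claim4 D inferInstance hDne
    have h1 : (P : Subgroup G) ⊓ T' ≤ D := by
      intro u hu
      obtain ⟨hu1, hu2⟩ := Subgroup.mem_inf.mp hu
      show ∀ g : G, g * u * g⁻¹ ∈ T'
      intro g
      obtain ⟨n, hn, i, rfl⟩ := hdec g
      have c2 : x ^ i * u * (x ^ i)⁻¹ = u := by
        have hxu : Commute x u := (hxZP u hu1).symm
        have : Commute (x ^ i) u := hxu.zpow_left i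
        rw [this.eq]; group
      have : n * x ^ i * u * (n * x ^ i)⁻¹ = n * (x ^ i * u * (x ^ i)⁻¹) * n⁻¹ := by group
      rw [this, c2]
      exact hTn n hn u hu2
    rw [hD0] at h1
    have hsub : T'.IsSubnormal := by
      apply Subgroup.IsSubnormal.step T' (commutator G) hT'le
        (Subgroup.Normal.isSubnormal inferInstance)
      rw [hcm]
      exact hT
    have h2 := coprime_of_sylow_inf_eq_bot P T' hsub (le_bot_iff.mp h1)
    have h3 := subnormal_coprime_le_pPrimeCore p T' hsub h2
    rw [hO] at h3
    apply hTb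
    rw [← hcm, le_bot_iff.mp h3]
    exact Subgroup.bot_subgroupOf _
  exact ⟨hsimple, hnonab, claim3⟩

end Cfsg.Agent.S2972
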