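import Mathlib
import Cfsg.Statements.S3014

set_option autoImplicit false
open Cfsg

namespace Cfsg.Agent.S3014

open Subgroup

theorem mem_conj {G : Type*} [Group G] {H : Subgroup G} {g y : G} :
    y ∈ H.map (MulAut.conj g).toMonoidHom ↔ g⁻¹ * y * g ∈ H := by
  constructor
  · rintro ⟨h, hh, rfl⟩
    simpa [MulAut.conj_apply, mul_assoc] using hh
  · intro h
    exact ⟨g⁻¹ * y * g, h, by simp [MulAut.conj_apply, mul_assoc]⟩

theorem between_coatom {G : Type*} [Group G] {H M L : Subgroup G}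
    (hmaxH : IsCoatom (H.subgroupOf M)) (hHL : H ≤ L) (hLM : L ≤ M) : L = H ∨ L = M := by
  have h1 : H.subgroupOf M ≤ L.subgroupOf M := Subgroup.comap_mono hHL
  rcases hmaxH.le_iff.mp h1 with h | h
  · right
    exact le_antisymm hLM (Subgroup.subgroupOf_eq_top.mp h)
  · left
    have h2 := Subgroup.subgroupOf_inj.mp h
    rw [inf_eq_left.mpr hLM, inf_eq_left.mpr (hHL.trans hLM)] at h2
    exact h2

theorem map_conj_eq_of_forall {G : Type*} [Group G] [Finite G] (H : Subgroup G) (x : G)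
    (h : ∀ n ∈ H, x * n * x⁻¹ ∈ H) : H.map (MulAut.conj x).toMonoidHom = H := by
  have hx : x ∈ Subgroup.normalizer (H : Set G) := Subgroup.mem_normalizer_fintype h
  exact Subgroup.mem_normalizer_iff_map_conj_eq.mp hx

/-- `H` is normalised by `M`. -/
theorem normal_in {G : Type*} [Group G] (H M : Subgroup G) (hHM : H ≤ M)
    (hcl : ∀ g : G, (H ⊔ H.map (MulAut.conj g).toMonoidHom) ⊓ M = H) :
    ∀ m ∈ M, ∀ h ∈ H, m * h * m⁻¹ ∈ H := by
  intro m hm h hh
  have h1 : H ⊔ H.map (MulAut.conj m).toMonoidHom ≤ M := by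
    refine sup_le hHM ?_
    rintro _ ⟨y, hy, rfl⟩
    simp only [MulEquiv.toMonoidHom_eq_coe, MonoidHom.coe_coe, MulAut.conj_apply]
    exact M.mul_mem (M.mul_mem hm (hHM hy)) (M.inv_mem hm)
  have h2 := hcl m
  rw [inf_eq_left.mpr h1] at h2
  have : m * h * m⁻¹ ∈ H ⊔ H.map (MulAut.conj m).toMonoidHom :=
    (le_sup_right : _ ≤ H ⊔ H.map (MulAut.conj m).toMonoidHom) ⟨h, hh, by simp [MulAut.conj_apply]⟩
  rwa [h2] at this

theorem sup_zpowers_eq {G : Type*} [Group G] {H M : Subgroup G} (hHM : H ≤ M)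
    (hmaxH : IsCoatom (H.subgroupOf M)) {x : G} (hxM : x ∈ M) (hxH : x ∉ H) :
    H ⊔ Subgroup.zpowers x = M := by
  have h1 : H ⊔ Subgroup.zpowers x ≤ M := sup_le hHM (by rw [Subgroup.zpowers_le]; exact hxM)
  rcases between_coatom hmaxH (le_sup_left : H ≤ H ⊔ Subgroup.zpowers x) h1 with h | h
  · exfalso
    apply hxH
    rw [← h]
    exact (le_sup_right : Subgroup.zpowers x ≤ H ⊔ Subgroup.zpowers x) (Subgroup.mem_zpowers x)
  · exact h

theorem case_one {G : Type*} [Group G] [Finite G] (H M : Subgroup G) (hHM : H ≤ M)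
    (hcl : ∀ g : G, (H ⊔ H.map (MulAut.conj g).toMonoidHom) ⊓ M = H)
    (hmaxH : IsCoatom (H.subgroupOf M)) (hmaxM : IsCoatom M)
    (hMN : ∀ g : G, (∀ m ∈ M, g * m * g⁻¹ ∈ M) → g ∈ M)
    (x g : G) (hxM : x ∈ M) (hxH : x ∉ H) (hg : g ∉ M) (hxMg : g⁻¹ * x * g ∈ M)
    (hxHg : g⁻¹ * x * g ∉ H) :
    ∃ K : Subgroup G, K.Normal ∧ K ⊓ M = H ∧ K ⊔ M = ⊤ := by
  have hHn := normal_in H M hHM hcl
  have e1 : H ⊔ Subgroup.zpowers x = M := sup_zpowers_eq hHM hmaxH hxM hxH
  have e2 : H ⊔ Subgroup.zpowers (g⁻¹ * x * g) = M := sup_zpowers_eq hHM hmaxH hxMg hxHg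
  have e3 : H.map (MulAut.conj g).toMonoidHom ⊔ Subgroup.zpowers x =
      M.map (MulAut.conj g).toMonoidHom := by
    rw [← e2, Subgroup.map_sup, MonoidHom.map_zpowers]
    congr 2
    simp [MulAut.conj_apply, mul_assoc]
  have e4 : M ⊔ M.map (MulAut.conj g).toMonoidHom = ⊤ := by
    rcases hmaxM.le_iff.mp (le_sup_left : M ≤ M ⊔ M.map (MulAut.conj g).toMonoidHom) with h | h
    · exact h
    · exfalso
      apply hg
      apply hMN
      intro m hm
      have : g * m * g⁻¹ ∈ M ⊔ M.map (MulAut.conj g).toMonoidHom :=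
        (le_sup_right : _ ≤ M ⊔ M.map (MulAut.conj g).toMonoidHom)
          ⟨m, hm, by simp [MulAut.conj_apply]⟩
      rwa [h] at this
  refine ⟨H ⊔ H.map (MulAut.conj g).toMonoidHom, ?_, hcl g, ?_⟩
  · -- normality
    rw [← Subgroup.normalizer_eq_top_iff, eq_top_iff, ← e4]
    have hx : Subgroup.zpowers x ≤
        Subgroup.normalizer ((H ⊔ H.map (MulAut.conj g).toMonoidHom : Subgroup G) : Set G) := by
      rw [Subgroup.zpowers_le, Subgroup.mem_normalizer_iff_map_conj_eq]
      have a1 : H.map (MulAut.conj x).toMonoidHom = H := map_conj_eq_of_forall H x (hHn x hxM)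
      have a2 : (H.map (MulAut.conj g).toMonoidHom).map (MulAut.conj x).toMonoidHom =
          H.map (MulAut.conj g).toMonoidHom := by
        apply map_conj_eq_of_forall
        rintro _ ⟨h, hh, rfl⟩
        refine ⟨(g⁻¹ * x * g) * h * (g⁻¹ * x * g)⁻¹, hHn _ hxMg h hh, ?_⟩
        simp [MulAut.conj_apply, mul_assoc]
      have := Subgroup.map_sup H (H.map (MulAut.conj g).toMonoidHom) (MulAut.conj x).toMonoidHom
      rw [a1, a2] at this
      exact this
    have hK : H ⊔ H.map (MulAut.conj g).toMonoidHom ≤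
        Subgroup.normalizer ((H ⊔ H.map (MulAut.conj g).toMonoidHom : Subgroup G) : Set G) :=
      Subgroup.le_normalizer
    refine sup_le ?_ ?_
    · rw [← e1]
      exact sup_le (le_sup_left.trans hK) hx
    · rw [← e3]
      exact sup_le (le_sup_right.trans hK) hx
  · rw [eq_top_iff, ← e4]
    refine sup_le le_sup_right ?_
    rw [← e3]
    refine sup_le (le_sup_right.trans le_sup_left) ?_
    rw [Subgroup.zpowers_le]
    exact (le_sup_right : M ≤ _) hxM

theorem case_two {G : Type*} [Group G] [Finite G] (H M : Subgroup G) (hHM : H ≤ M)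
    (hcl : ∀ g : G, (H ⊔ H.map (MulAut.conj g).toMonoidHom) ⊓ M = H)
    (hmaxH : IsCoatom (H.subgroupOf M))
    (hcase : ∀ x g : G, x ∈ M → x ∉ H → g ∉ M → g⁻¹ * x * g ∈ M → g⁻¹ * x * g ∈ H) :
    ∃ K : Subgroup G, K.Normal ∧ K ⊓ M = H ∧ K ⊔ M = ⊤ := by
  classical
  have hHn := normal_in H M hHM hcl
  haveI hN : (H.subgroupOf M).Normal := ⟨fun n hn g => by
    rw [Subgroup.mem_subgroupOf] at hn ⊢
    simpa using hHn g g.2 n hn⟩
  have hcomm : ∀ a b : ↥M ⧸ H.subgroupOf M, a * b = b * a := by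
    intro a b
    by_cases ha : a = 1
    · simp [ha]
    · obtain ⟨a', rfl⟩ := QuotientGroup.mk_surjective a
      have ha' : a' ∉ H.subgroupOf M := fun h => ha ((QuotientGroup.eq_one_iff a').mpr h)
      have hlt : H.subgroupOf M < H.subgroupOf M ⊔ Subgroup.zpowers a' := by
        refine lt_of_le_of_ne le_sup_left ?_
        intro h
        apply ha'
        rw [h]
        exact (le_sup_right : Subgroup.zpowers a' ≤ _) (Subgroup.mem_zpowers a')
      have htop : H.subgroupOf M ⊔ Subgroup.zpowers a' = ⊤ := hmaxH.lt_iff.mp hlt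
      have hz : Subgroup.zpowers (QuotientGroup.mk a' : ↥M ⧸ H.subgroupOf M) = ⊤ := by
        have h1 := congrArg (Subgroup.map (QuotientGroup.mk' (H.subgroupOf M))) htop
        rw [Subgroup.map_sup, MonoidHom.map_zpowers,
          Subgroup.map_top_of_surjective _ (QuotientGroup.mk'_surjective _)] at h1
        have h2 : Subgroup.map (QuotientGroup.mk' (H.subgroupOf M)) (H.subgroupOf M) = ⊥ := by
          rw [eq_bot_iff]
          rintro _ ⟨y, hy, rfl⟩
          exact (QuotientGroup.eq_one_iff y).mpr hy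
        rw [h2, bot_sup_eq] at h1
        exact h1
      have hb : b ∈ Subgroup.zpowers (QuotientGroup.mk a' : ↥M ⧸ H.subgroupOf M) := by
        rw [hz]; trivial
      obtain ⟨k, rfl⟩ := Subgroup.mem_zpowers_iff.mp hb
      exact ((Commute.refl _).zpow_right k).eq
  letI : CommGroup (↥M ⧸ H.subgroupOf M) :=
    { (inferInstance : Group (↥M ⧸ H.subgroupOf M)) with mul_comm := hcomm }
  let ϕ : ↥M →* (↥M ⧸ H.subgroupOf M) := QuotientGroup.mk' (H.subgroupOf M)
  have hϕ1 : ∀ (y : G) (hy : y ∈ M), y ∈ H → ϕ ⟨y, hy⟩ = 1 := by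
    intro y hy hyH
    exact (QuotientGroup.eq_one_iff _).mpr (Subgroup.mem_subgroupOf.mpr hyH)
  have hϕ2 : ∀ (y : G) (hy : y ∈ M), ϕ ⟨y, hy⟩ = 1 → y ∈ H := by
    intro y hy h
    exact Subgroup.mem_subgroupOf.mp ((QuotientGroup.eq_one_iff _).mp h)
  have hV : ∀ (x : G) (hx : x ∈ M), MonoidHom.transfer ϕ x = ϕ ⟨x, hx⟩ := by
    intro x hx
    letI : Fintype (Quotient (MulAction.orbitRel (Subgroup.zpowers x) (G ⧸ M))) :=
      Fintype.ofFinite _
    rw [MonoidHom.transfer_eq_prod_quotient_orbitRel_zpowers_quot]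
    have hfix : ∀ c : G ⧸ M, c = QuotientGroup.mk (1 : G) → x • c = c := by
      rintro c rfl
      rw [MulAction.Quotient.smul_mk, QuotientGroup.eq]
      simpa using hx
    set q₀ : Quotient (MulAction.orbitRel (Subgroup.zpowers x) (G ⧸ M)) :=
      Quotient.mk'' (QuotientGroup.mk (1 : G)) with hq₀
    have hout : q₀.out = QuotientGroup.mk (1 : G) := by
      have h1 : Quotient.mk'' q₀.out = q₀ := Quotient.out_eq' q₀
      rw [hq₀, Quotient.eq''] at h1
      have h2 : q₀.out ∈ MulAction.orbit (Subgroup.zpowers x) (QuotientGroup.mk (1 : G) : G ⧸ M) :=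
        h1
      obtain ⟨⟨z, hz⟩, hz2⟩ := h2
      rw [← hz2]
      obtain ⟨k, rfl⟩ := Subgroup.mem_zpowers_iff.mp hz
      change (x ^ k) • (QuotientGroup.mk (1 : G) : G ⧸ M) = _
      rw [MulAction.Quotient.smul_mk, QuotientGroup.eq]
      simpa using M.zpow_mem hx k
    rw [Finset.prod_eq_single q₀]
    · have hm₀ : q₀.out.out ∈ M := by
        have h1 : (QuotientGroup.mk q₀.out.out : G ⧸ M) = QuotientGroup.mk (1 : G) := by
          rw [QuotientGroup.out_eq', hout]
        rw [QuotientGroup.eq] at h1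
        simpa using M.inv_mem h1
      have hper : Function.minimalPeriod (x • ·) q₀.out = 1 := by
        rw [Function.minimalPeriod_eq_one_iff_isFixedPt]
        exact hfix _ hout
      have hxx : (⟨q₀.out.out⁻¹ * x ^ Function.minimalPeriod (x • ·) q₀.out * q₀.out.out,
          QuotientGroup.out_conj_pow_minimalPeriod_mem M x q₀.out⟩ : ↥M) =
          (⟨q₀.out.out, hm₀⟩ : ↥M)⁻¹ * ⟨x, hx⟩ * ⟨q₀.out.out, hm₀⟩ := by
        apply Subtype.ext
        simp [hper]
      rw [hxx, map_mul, map_mul, map_inv, mul_comm, mul_inv_cancel_left]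
    · intro q _ hq
      have hgM : q.out.out ∉ M := by
        intro hg
        apply hq
        have h1 : (QuotientGroup.mk q.out.out : G ⧸ M) = QuotientGroup.mk (1 : G) := by
          rw [QuotientGroup.eq]
          simpa using M.inv_mem hg
        rw [QuotientGroup.out_eq'] at h1
        rw [← Quotient.out_eq' q, h1]
      have hyM := QuotientGroup.out_conj_pow_minimalPeriod_mem M x q.out
      apply hϕ1
      by_cases hz : x ^ Function.minimalPeriod (x • ·) q.out ∈ H
      · have h1 := hcl q.out.out⁻¹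
        rw [← h1]
        refine ⟨(le_sup_right : _ ≤ H ⊔ H.map (MulAut.conj q.out.out⁻¹).toMonoidHom)
          ⟨_, hz, ?_⟩, hyM⟩
        simp [MulAut.conj_apply]
      · exact hcase _ _ (M.pow_mem hx _) hz hgM hyM
    · intro h
      exact absurd (Finset.mem_univ _) h
  refine ⟨(MonoidHom.transfer ϕ).ker, MonoidHom.normal_ker _, ?_, ?_⟩
  · ext x
    constructor
    · rintro ⟨hxK, hxM⟩
      have h1 : MonoidHom.transfer ϕ x = 1 := hxK
      rw [hV x hxM] at h1
      exact hϕ2 x hxM h1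
    · intro hxH
      refine ⟨?_, hHM hxH⟩
      change MonoidHom.transfer ϕ x = 1
      rw [hV x (hHM hxH)]
      exact hϕ1 x (hHM hxH) hxH
  · rw [eq_top_iff]
    intro g _
    obtain ⟨m, hm⟩ := QuotientGroup.mk'_surjective (H.subgroupOf M) (MonoidHom.transfer ϕ g)
    have h1 : MonoidHom.transfer ϕ (g * (m : G)⁻¹) = 1 := by
      rw [map_mul, map_inv, hV (m : G) m.2]
      change _ * (ϕ m)⁻¹ = 1
      rw [show ϕ m = MonoidHom.transfer ϕ g from hm, mul_inv_cancel]
    have h2 : g = (g * (m : G)⁻¹) * (m : G) := by group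
    rw [h2]
    exact Subgroup.mul_mem_sup h1 m.2

/-- The key lemma: if `M` is a self-normalizing maximal subgroup, there is a normal subgroup
`K` with `K ∩ M = H` and `K M = G`. -/
theorem key {G : Type*} [Group G] [Finite G] (H M : Subgroup G) (hHM : H ≤ M)
    (hcl : ∀ g : G, (H ⊔ H.map (MulAut.conj g).toMonoidHom) ⊓ M = H)
    (hmaxH : IsCoatom (H.subgroupOf M)) (hmaxM : IsCoatom M)
    (hMN : ∀ g : G, (∀ m ∈ M, g * m * g⁻¹ ∈ M) → g ∈ M) :
    ∃ K : Subgroup G, K.Normal ∧ K ⊓ M = H ∧ K ⊔ M = ⊤ := by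
  by_cases hc : ∀ x g : G, x ∈ M → x ∉ H → g ∉ M → g⁻¹ * x * g ∈ M → g⁻¹ * x * g ∈ H
  · exact case_two H M hHM hcl hmaxH hc
  · simp only [not_forall] at hc
    obtain ⟨x, g, hxM, hxH, hg, hxMg, hxHg⟩ := hc
    exact case_one H M hHM hcl hmaxH hmaxM hMN x g hxM hxH hg hxMg hxHg

/-- If H is maximal in M, M is maximal in G, and ⟨H, gHg⁻¹⟩ ∩ M = H for all g ∈ G, then the normal closure of H meets M in H. -/
theorem result {G : Type*} [Group G] [Finite G] (H M : Subgroup G) (hHM : H ≤ M) (hcl : ∀ g : G, (H ⊔ H.map (MulAut.conj g).toMonoidHom) ⊓ M = H) (hmaxH : IsCoatom (H.subgroupOf M)) (hmaxM : IsCoatom M) : Subgroup.normalClosure (H : Set G) ⊓ M = H := by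
  by_cases hMn : ∀ g : G, ∀ m ∈ M, g * m * g⁻¹ ∈ M
  · -- then H is normal in G
    haveI : H.Normal := ⟨fun n hn g => by
      have h1 : H ⊔ H.map (MulAut.conj g).toMonoidHom ≤ M := by
        refine sup_le hHM ?_
        rintro _ ⟨y, hy, rfl⟩
        simp only [MulEquiv.toMonoidHom_eq_coe, MonoidHom.coe_coe, MulAut.conj_apply]
        exact hMn g y (hHM hy)
      have h2 := hcl g
      rw [inf_eq_left.mpr h1] at h2
      have : g * n * g⁻¹ ∈ H ⊔ H.map (MulAut.conj g).toMonoidHom :=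
        (le_sup_right : _ ≤ H ⊔ H.map (MulAut.conj g).toMonoidHom)
          ⟨n, hn, by simp [MulAut.conj_apply]⟩
      rwa [h2] at this⟩
    rw [Subgroup.normalClosure_eq_self]
    exact inf_eq_left.mpr hHM
  · have hMN : ∀ g : G, (∀ m ∈ M, g * m * g⁻¹ ∈ M) → g ∈ M := by
      intro g hg
      by_contra hgM
      apply hMn
      have h1 : g ∈ Subgroup.normalizer (M : Set G) := Subgroup.mem_normalizer_fintype hg
      have h2 : M < Subgroup.normalizer (M : Set G) :=
        lt_of_le_of_ne Subgroup.le_normalizer (fun h => hgM (by rw [h]; exact h1))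
      have h3 : Subgroup.normalizer (M : Set G) = ⊤ := hmaxM.lt_iff.mp h2
      have h4 : M.Normal := Subgroup.normalizer_eq_top_iff.mp h3
      intro g' m hm
      exact h4.conj_mem m hm g'
    obtain ⟨K, hKn, hK1, hK2⟩ := key H M hHM hcl hmaxH hmaxM hMN
    apply le_antisymm
    · have hHK : H ≤ K := by rw [← hK1]; exact inf_le_left
      have h1 : Subgroup.normalClosure (H : Set G) ≤ K := Subgroup.normalClosure_le_normal hHK
      calc Subgroup.normalClosure (H : Set G) ⊓ M ≤ K ⊓ M := inf_le_inf_right M h1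
        _ = H := hK1
    · exact le_inf Subgroup.le_normalClosure hHM

end Cfsg.Agent.S3014
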