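import Mathlib
import Cfsg.Statements.S3015
import Cfsg.Agent.S3014

set_option autoImplicit false
open Cfsg

namespace Cfsg.Agent.S3015

open Subgroup

theorem coatom_of_prime_relIndex {G : Type*} [Group G] {H M : Subgroup G}
    (hidx : (H.relIndex M).Prime) : IsCoatom (H.subgroupOf M) := by
  have hi : (H.subgroupOf M).index = H.relIndex M := rfl
  refine ⟨?_, ?_⟩
  · intro h
    rw [h, Subgroup.index_top] at hi
    rw [← hi] at hidx
    exact Nat.not_prime_one hidx
  · intro L hL
    have h1 := Subgroup.relIndex_mul_index hL.le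
    rw [hi] at h1
    have h2 : L.index ∣ H.relIndex M := Dvd.intro_left _ h1
    rcases (Nat.dvd_prime hidx).mp h2 with h | h
    · exact Subgroup.index_eq_one.mp h
    · exfalso
      rw [h] at h1
      have h3 : (H.subgroupOf M).relIndex L = 1 := by
        have hp := hidx.pos
        have : (H.subgroupOf M).relIndex L * H.relIndex M = 1 * H.relIndex M := by rw [h1, one_mul]
        exact Nat.eq_of_mul_eq_mul_right hp this
      exact (not_le_of_gt hL) (Subgroup.relIndex_eq_one.mp h3)

theorem relIndex_mul_card' {G : Type*} [Group G] {A B : Subgroup G} (h : A ≤ B) :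
    Nat.card A * A.relIndex B = Nat.card B := by
  have := Subgroup.relIndex_mul_relIndex ⊥ A B bot_le h
  rwa [Subgroup.relIndex_bot_left, Subgroup.relIndex_bot_left] at this

/-- Burnside-type fusion for normal subgroups of a Sylow subgroup. -/
theorem burnside_normal {G : Type*} [Group G] [Finite G] {p : ℕ} [Fact p.Prime] (P : Sylow p G)
    (H : Subgroup G) (g : G) (hH : (P : Subgroup G) ≤ Subgroup.normalizer (H : Set G))
    (hHg : (P : Subgroup G) ≤
      Subgroup.normalizer ((H.map (MulAut.conj g).toMonoidHom : Subgroup G) : Set G)) :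
    ∃ n ∈ Subgroup.normalizer ((P : Subgroup G) : Set G),
      H.map (MulAut.conj n).toMonoidHom = H.map (MulAut.conj g).toMonoidHom := by
  have h2 : ((g • P : Sylow p G) : Subgroup G) ≤
      Subgroup.normalizer ((H.map (MulAut.conj g).toMonoidHom : Subgroup G) : Set G) := by
    intro y hy
    rw [Sylow.coe_subgroup_smul] at hy
    obtain ⟨z, hz, rfl⟩ := hy
    exact Subgroup.le_normalizer_map (MulAut.conj g).toMonoidHom ⟨z, hH hz, rfl⟩
  obtain ⟨h, hh⟩ := MulAction.exists_smul_eq
    (Subgroup.normalizer ((H.map (MulAut.conj g).toMonoidHom : Subgroup G) : Set G))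
    ((g • P).subtype h2) (P.subtype hHg)
  simp_rw [Sylow.smul_subtype, Subgroup.smul_def, smul_smul] at hh
  refine ⟨h * g, Sylow.smul_eq_iff_mem_normalizer.mp (Sylow.subtype_injective hh), ?_⟩
  have h3 := Subgroup.mem_normalizer_iff_map_conj_eq.mp h.2
  have h4 : H.map (MulAut.conj ((h : G) * g)).toMonoidHom =
      (H.map (MulAut.conj g).toMonoidHom).map (MulAut.conj (h : G)).toMonoidHom := by
    rw [Subgroup.map_map]
    congr 1
    ext x
    simp [MulAut.conj_apply, mul_assoc]
  rw [h4]
  exact h3

theorem no_other_conj {G : Type*} [Group G] [Finite G] [IsSimpleGroup G] (hG : ¬ IsMulCommutative G)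
    (M H : Subgroup G) (hmaxM : IsCoatom M) (hHM : H ≤ M) (hHn : (H.subgroupOf M).Normal)
    (hidx : (H.relIndex M).Prime) (hMN : ∀ g : G, (∀ m ∈ M, g * m * g⁻¹ ∈ M) → g ∈ M)
    (g : G) (hHgM : H.map (MulAut.conj g).toMonoidHom ≤ M) :
    H.map (MulAut.conj g).toMonoidHom = H := by
  classical
  by_contra hne
  haveI : Fact (H.relIndex M).Prime := ⟨hidx⟩
  have hHnM : ∀ m ∈ M, ∀ h ∈ H, m * h * m⁻¹ ∈ H := by
    intro m hm h hh
    have := hHn.conj_mem ⟨h, hHM hh⟩ (Subgroup.mem_subgroupOf.mpr hh) ⟨m, hm⟩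
    simpa [Subgroup.mem_subgroupOf] using this
  have hgM : g ∉ M := fun hg => hne (S3014.map_conj_eq_of_forall H g (hHnM g hg))
  -- (A) elements of M of order prime to p lie in H
  have hA : ∀ y ∈ M, (orderOf y).Coprime (H.relIndex M) → y ∈ H := by
    intro y hy hc
    have h1 := Subgroup.pow_index_mem (H.subgroupOf M) (⟨y, hy⟩ : ↥M)
    have h2 : y ^ (H.relIndex M) ∈ H :=
      (by simpa [Subgroup.mem_subgroupOf] using h1 : y ^ (H.subgroupOf M).index ∈ H)
    obtain ⟨m, hm⟩ := exists_pow_eq_self_of_coprime hc.symm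
    rw [← hm]
    exact H.pow_mem h2 m
  -- (B) the subgroup generated by them is trivial
  set S : Set G := {y | y ∈ M ∧ (orderOf y).Coprime (H.relIndex M)} with hS
  have hRH : Subgroup.closure S ≤ H := by
    rw [Subgroup.closure_le]
    rintro y ⟨hy, hc⟩
    exact hA y hy hc
  have hRM : M ≤ Subgroup.normalizer ((Subgroup.closure S : Subgroup G) : Set G) := by
    rw [Subgroup.le_normalizer_closure_iff]
    rintro m hm y ⟨hy, hc⟩
    apply Subgroup.subset_closure
    refine ⟨M.mul_mem (M.mul_mem hm hy) (M.inv_mem hm), ?_⟩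
    have : orderOf (m * y * m⁻¹) = orderOf y := by
      have := MulEquiv.orderOf_eq (MulAut.conj m) y
      simpa [MulAut.conj_apply] using this
    rw [this]; exact hc
  have hRg : g ∈ Subgroup.normalizer ((Subgroup.closure S : Subgroup G) : Set G) := by
    apply Subgroup.mem_normalizer_fintype
    intro n hn
    have hn' : n ∈ Subgroup.closure S := hn
    have hle : Subgroup.closure S ≤ (Subgroup.closure S).comap (MulAut.conj g).toMonoidHom := by
      rw [Subgroup.closure_le]
      rintro y ⟨hy, hc⟩
      change (MulAut.conj g) y ∈ Subgroup.closure S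
      apply Subgroup.subset_closure
      refine ⟨hHgM ⟨y, hA y hy hc, rfl⟩, ?_⟩
      rw [MulEquiv.orderOf_eq]; exact hc
    have := hle hn'
    simpa [MulAut.conj_apply] using this
  have hRtop : Subgroup.normalizer ((Subgroup.closure S : Subgroup G) : Set G) = ⊤ := by
    apply hmaxM.lt_iff.mp
    exact lt_of_le_of_ne hRM (fun h => hgM (by rw [h]; exact hRg))
  have hRn : (Subgroup.closure S).Normal := Subgroup.normalizer_eq_top_iff.mp hRtop
  have hRbot : Subgroup.closure S = ⊥ := by
    rcases hRn.eq_bot_or_eq_top with h | h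
    · exact h
    · exfalso
      apply hmaxM.1
      rw [eq_top_iff, ← h]
      exact hRH.trans hHM
  -- (C) M is a p-group
  have hMp : IsPGroup (H.relIndex M) ↥M := by
    intro y
    have hn : orderOf (y : G) ≠ 0 := (orderOf_pos (y : G)).ne'
    obtain ⟨e, n', hn', he⟩ := Nat.exists_eq_pow_mul_and_not_dvd hn (H.relIndex M) hidx.ne_one
    refine ⟨e, ?_⟩
    have hz : (y : G) ^ (H.relIndex M) ^ e ∈ S := by
      refine ⟨M.pow_mem y.2 _, ?_⟩
      have h1 : orderOf ((y : G) ^ (H.relIndex M) ^ e) ∣ n' := by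
        apply orderOf_dvd_of_pow_eq_one
        rw [← pow_mul, ← he, pow_orderOf_eq_one]
      have h2 : ¬ H.relIndex M ∣ orderOf ((y : G) ^ (H.relIndex M) ^ e) :=
        fun h => hn' (h.trans h1)
      exact ((Nat.Prime.coprime_iff_not_dvd hidx).mpr h2).symm
    have hz1 : (y : G) ^ (H.relIndex M) ^ e ∈ Subgroup.closure S := Subgroup.subset_closure hz
    rw [hRbot, Subgroup.mem_bot] at hz1
    exact Subtype.ext (by simpa using hz1)
  -- (D) M is a Sylow p-subgroup
  obtain ⟨P, hP⟩ := hMp.exists_le_sylow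
  have hPM : (P : Subgroup G) = M := by
    rcases hmaxM.le_iff.mp hP with h | h
    · exfalso
      have hGp : IsPGroup (H.relIndex M) G := by
        intro x
        have hx : x ∈ (P : Subgroup G) := by rw [h]; trivial
        obtain ⟨k, hk⟩ := P.2 ⟨x, hx⟩
        exact ⟨k, by simpa using congrArg Subtype.val hk⟩
      haveI : Nontrivial G := IsSimpleGroup.toNontrivial
      have hc := hGp.center_nontrivial
      have hcn : (Subgroup.center G) = ⊤ := by
        rcases (inferInstance : (Subgroup.center G).Normal).eq_bot_or_eq_top with h' | h'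
        · exfalso
          rw [Subgroup.nontrivial_iff_ne_bot] at hc
          exact hc h'
        · exact h'
      apply hG
      refine ⟨⟨fun a b => ?_⟩⟩
      have hb : b ∈ Subgroup.center G := by rw [hcn]; trivial
      exact (Subgroup.mem_center_iff.mp hb a)
    · exact h
  -- (E) H and its conjugate are both normal in M = P
  have hPH : (P : Subgroup G) ≤ Subgroup.normalizer (H : Set G) := by
    rw [hPM, Subgroup.le_normalizer_iff]
    exact hHnM
  have hcard1 := relIndex_mul_card' hHM
  have hcard2 := relIndex_mul_card' hHgM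
  have hcard3 : Nat.card ↥(H.map (MulAut.conj g).toMonoidHom) = Nat.card ↥H :=
    Subgroup.card_map_of_injective (MulAut.conj g).injective
  have hidx2 : (H.map (MulAut.conj g).toMonoidHom).relIndex M = H.relIndex M := by
    rw [hcard3, ← hcard1] at hcard2
    exact Nat.eq_of_mul_eq_mul_left Nat.card_pos hcard2
  have hminFac : (Nat.card ↥M).minFac = H.relIndex M := by
    obtain ⟨k, hk⟩ := hMp.exists_card_eq
    have hk0 : k ≠ 0 := by
      rintro rfl
      have hdvd : H.relIndex M ∣ Nat.card ↥M := Subgroup.relIndex_dvd_card H M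
      rw [hk, pow_zero] at hdvd
      exact hidx.ne_one (Nat.dvd_one.mp hdvd)
    rw [hk, Nat.Prime.pow_minFac hidx hk0]
  have hHgn : ((H.map (MulAut.conj g).toMonoidHom).subgroupOf M).Normal := by
    apply Subgroup.normal_of_index_eq_minFac_card
    rw [hminFac]
    exact hidx2
  have hPHg : (P : Subgroup G) ≤
      Subgroup.normalizer ((H.map (MulAut.conj g).toMonoidHom : Subgroup G) : Set G) := by
    rw [hPM, Subgroup.le_normalizer_iff]
    intro m hm h hh
    have := hHgn.conj_mem ⟨h, hHgM hh⟩ (Subgroup.mem_subgroupOf.mpr hh) ⟨m, hm⟩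
    simpa [Subgroup.mem_subgroupOf] using this
  obtain ⟨n, hn, hn2⟩ := burnside_normal P H g hPH hPHg
  have hnM : n ∈ M := by
    apply hMN
    rw [hPM] at hn
    have h1 := Subgroup.mem_normalizer_iff_map_conj_eq.mp hn
    intro m hm
    rw [← h1]
    exact ⟨m, hm, by simp [MulAut.conj_apply]⟩
  apply hne
  rw [← hn2]
  exact S3014.map_conj_eq_of_forall H n (hHnM n hnM)

/-- A finite non-abelian simple group is generated by two conjugates of any prime-index normal subgroup of a maximal subgroup. -/
theorem result {G : Type*} [Group G] [Finite G] [IsSimpleGroup G] (hG : ¬ IsMulCommutative G) (M H : Subgroup G) (hmaxM : IsCoatom M) (hHM : H ≤ M) (hHn : (H.subgroupOf M).Normal) (hidx : (H.relIndex M).Prime) : ∃ g : G, H ⊔ H.map (MulAut.conj g).toMonoidHom = ⊤ := by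
  classical
  by_contra hno
  have hno' : ∀ g : G, H ⊔ H.map (MulAut.conj g).toMonoidHom ≠ ⊤ := fun g hg => hno ⟨g, hg⟩
  have hmaxH : IsCoatom (H.subgroupOf M) := coatom_of_prime_relIndex hidx
  have hHne : H ≠ M := by
    intro h
    rw [h, Subgroup.relIndex_self] at hidx
    exact Nat.not_prime_one hidx
  have hMnn : ¬ M.Normal := by
    intro hn
    rcases hn.eq_bot_or_eq_top with h | h
    · apply hHne
      rw [h] at hHM ⊢
      exact le_bot_iff.mp hHM
    · exact hmaxM.1 h
  have hMN : ∀ g : G, (∀ m ∈ M, g * m * g⁻¹ ∈ M) → g ∈ M := by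
    intro g hg
    by_contra hgM
    apply hMnn
    have h1 : g ∈ Subgroup.normalizer (M : Set G) := Subgroup.mem_normalizer_fintype hg
    have h2 : M < Subgroup.normalizer (M : Set G) :=
      lt_of_le_of_ne Subgroup.le_normalizer (fun h => hgM (by rw [h]; exact h1))
    have h3 : Subgroup.normalizer (M : Set G) = ⊤ := hmaxM.lt_iff.mp h2
    exact Subgroup.normalizer_eq_top_iff.mp h3
  by_cases hcl : ∀ g : G, (H ⊔ H.map (MulAut.conj g).toMonoidHom) ⊓ M = H
  · obtain ⟨K, hKn, hK1, hK2⟩ := Cfsg.Agent.S3014.key H M hHM hcl hmaxH hmaxM hMN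
    rcases hKn.eq_bot_or_eq_top with h | h
    · rw [h, bot_sup_eq] at hK2
      exact hmaxM.1 hK2
    · rw [h, top_inf_eq] at hK1
      exact hHne hK1.symm
  · obtain ⟨g, hg⟩ := not_forall.mp hcl
    have h1 : (H ⊔ H.map (MulAut.conj g).toMonoidHom) ⊓ M = M := by
      rcases Cfsg.Agent.S3014.between_coatom hmaxH (le_inf le_sup_left hHM) inf_le_right with h | h
      · exact absurd h hg
      · exact h
    have h2 : M ≤ H ⊔ H.map (MulAut.conj g).toMonoidHom := inf_eq_right.mp h1
    have h3 : H ⊔ H.map (MulAut.conj g).toMonoidHom = M := by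
      rcases hmaxM.le_iff.mp h2 with h | h
      · exact absurd h (hno' g)
      · exact h
    have hHgM : H.map (MulAut.conj g).toMonoidHom ≤ M := by
      rw [← h3]; exact le_sup_right
    have hHgeq := no_other_conj hG M H hmaxM hHM hHn hidx hMN g hHgM
    rw [hHgeq, sup_idem] at h3
    exact hHne h3

end Cfsg.Agent.S3015
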