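import Mathlib
import Cfsg.Statements.S3003
import Cfsg.Agent.S1324
import Cfsg.Agent.S3015

set_option autoImplicit false
open Cfsg

namespace Cfsg.Agent.S3003

/-- First part, for an arbitrary `p`-subgroup `U`. -/
theorem part1 {G : Type*} [Group G] [Finite G] {p : ℕ} [Fact p.Prime] (Q : Subgroup G)
    (hQp : IsPGroup p ↥Q) (hlarge : Cfsg.IsLarge Q) (G₁ : Subgroup G) (hQG : Q ≤ G₁)
    (R : Subgroup G) (hR : (Nat.card ↥R).Coprime p)
    (hGR : G₁ ≤ Subgroup.normalizer (R : Set G)) (U : Subgroup G)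
    (h : ∃ x ∈ U, x ≠ 1 ∧ ∃ g ∈ G₁, g * x * g⁻¹ ∈ Q ⊓ Subgroup.centralizer (Q : Set G)) :
    R ⊓ Subgroup.centralizer (U : Set G) = ⊥ := by
  obtain ⟨x, hxU, hx1, g, hg, hz⟩ := h
  obtain ⟨hzQ, hzC⟩ := Subgroup.mem_inf.mp hz
  have hQR : Q ⊓ R = ⊥ := by
    obtain ⟨n, hn⟩ := hQp.exists_card_eq
    have hc : (Nat.card Q).Coprime (Nat.card R) := by
      rw [hn]; exact Nat.Coprime.pow_left n hR.symm
    exact (Subgroup.disjoint_of_coprime_natCard hc).eq_bot
  rw [eq_bot_iff]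
  intro c hc
  obtain ⟨hcR, hcU⟩ := Subgroup.mem_inf.mp hc
  rw [Subgroup.mem_bot]
  set z := g * x * g⁻¹ with hzdef
  set c' := g * c * g⁻¹ with hc'
  have hz1 : z ≠ 1 := by
    intro h1
    apply hx1
    have : x = g⁻¹ * z * g := by rw [hzdef]; group
    rw [this, h1]; group
  have hc'R : c' ∈ R := (Subgroup.mem_normalizer_iff.mp (hGR hg) c).mp hcR
  have hcx : x * c = c * x := Subgroup.mem_centralizer_iff.mp hcU x hxU
  have hc'z : z * c' = c' * z := by
    rw [hzdef, hc']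
    calc g * x * g⁻¹ * (g * c * g⁻¹) = g * (x * c) * g⁻¹ := by group
      _ = g * (c * x) * g⁻¹ := by rw [hcx]
      _ = g * c * g⁻¹ * (g * x * g⁻¹) := by group
  -- c' normalizes ⟨z⟩, hence Q
  have hc'N : c' ∈ Subgroup.normalizer ((Subgroup.zpowers z : Subgroup G) : Set G) := by
    rw [Subgroup.mem_normalizer_iff]
    intro y
    have hconj : ∀ i : ℤ, c' * z ^ i * c'⁻¹ = z ^ i := by
      intro i
      have hcm : Commute c' z := hc'z.symm
      rw [(hcm.zpow_right i).eq]; group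
    constructor
    · intro hy
      obtain ⟨i, rfl⟩ := Subgroup.mem_zpowers_iff.mp hy
      rw [hconj i]; exact hy
    · intro hy
      obtain ⟨i, hi⟩ := Subgroup.mem_zpowers_iff.mp hy
      have : y = z ^ i := by
        have hcm : Commute c' (z ^ i) := (show Commute c' z from hc'z.symm).zpow_right i
        calc y = c'⁻¹ * (c' * y * c'⁻¹) * c' := by group
          _ = c'⁻¹ * z ^ i * c' := by rw [hi]
          _ = c'⁻¹ * (z ^ i * c') := by group
          _ = c'⁻¹ * (c' * z ^ i) := by rw [hcm.eq]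
          _ = z ^ i := by group
      rw [this]; exact Subgroup.zpow_mem_zpowers z i
  have hzle : Subgroup.zpowers z ≤ Subgroup.centralizer (Q : Set G) :=
    Subgroup.zpowers_le.mpr hzC
  have hzne : Subgroup.zpowers z ≠ ⊥ := by
    intro h1
    apply hz1
    have : z ∈ (⊥ : Subgroup G) := by rw [← h1]; exact Subgroup.mem_zpowers z
    simpa using this
  have hc'NQ : c' ∈ Subgroup.normalizer (Q : Set G) := hlarge.2 _ hzle hzne hc'N
  -- c' centralizes Q
  have hc'C : c' ∈ Subgroup.centralizer (Q : Set G) := by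
    rw [Subgroup.mem_centralizer_iff]
    intro a ha
    have h1 : c' * a * c'⁻¹ * a⁻¹ ∈ Q :=
      Q.mul_mem ((Subgroup.mem_normalizer_iff.mp hc'NQ a).mp ha) (Q.inv_mem ha)
    have h2 : c' * a * c'⁻¹ * a⁻¹ ∈ R := by
      have h3 : a * c'⁻¹ * a⁻¹ ∈ R :=
        (Subgroup.mem_normalizer_iff.mp (hGR (hQG ha)) c'⁻¹).mp (R.inv_mem hc'R)
      have h4 : c' * a * c'⁻¹ * a⁻¹ = c' * (a * c'⁻¹ * a⁻¹) := by group
      rw [h4]; exact R.mul_mem hc'R h3
    have h5 : c' * a * c'⁻¹ * a⁻¹ ∈ Q ⊓ R := Subgroup.mem_inf.mpr ⟨h1, h2⟩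
    rw [hQR, Subgroup.mem_bot] at h5
    calc a * c' = (c' * a * c'⁻¹ * a⁻¹)⁻¹ * (c' * a) := by group
      _ = c' * a := by rw [h5]; group
  have hc'1 : c' = 1 := by
    have : c' ∈ Q ⊓ R := Subgroup.mem_inf.mpr ⟨hlarge.1 hc'C, hc'R⟩
    rw [hQR, Subgroup.mem_bot] at this
    exact this
  have : c = g⁻¹ * c' * g := by rw [hc']; group
  rw [this, hc'1]; group

/-- Let G be a finite group, p a prime and Q a large p-subgroup of G: C_G(Q) ≤ Q and N_G(U) ≤ N_G(Q) for every nontrivial subgroup U of C_G(Q). Let Q ≤ G₁ ≤ G, let R be a subgroup of order prime to p normalized by G₁, and let U ≤ G₁ be a p-subgroup. If U contains a nontrivial element which is G₁-conjugate to an element of Z(Q), then C_R(U) = 1. In particular, if U is elementary abelian of order at least p² and every maximal subgroup of U contains a nontrivial element G₁-conjugate into Z(Q), then R = 1. -/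
theorem result {G : Type*} [Group G] [Finite G] {p : ℕ} [Fact p.Prime] (Q : Subgroup G) (hQp : IsPGroup p ↥Q) (hlarge : Cfsg.IsLarge Q) (G₁ : Subgroup G) (hQG : Q ≤ G₁) (R : Subgroup G) (hR : (Nat.card ↥R).Coprime p) (hGR : G₁ ≤ Subgroup.normalizer (R : Set G)) (U : Subgroup G) (hUG : U ≤ G₁) (hUp : IsPGroup p ↥U) : ((∃ x ∈ U, x ≠ 1 ∧ ∃ g ∈ G₁, g * x * g⁻¹ ∈ Q ⊓ Subgroup.centralizer (Q : Set G)) → R ⊓ Subgroup.centralizer (U : Set G) = ⊥) ∧ (Cfsg.IsElementaryAbelian p U → p ^ 2 ≤ Nat.card ↥U → (∀ U₀ : Subgroup G, U₀ ≤ U → IsCoatom (U₀.subgroupOf U) → ∃ x ∈ U₀, x ≠ 1 ∧ ∃ g ∈ G₁, g * x * g⁻¹ ∈ Q ⊓ Subgroup.centralizer (Q : Set G)) → R = ⊥) := by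
  have hpp : p.Prime := Fact.out
  refine ⟨part1 Q hQp hlarge G₁ hQG R hR hGR U, ?_⟩
  intro hU hU2 hcoat
  have hgen := Cfsg.Agent.S1324.result p U R hU hU2
    ((Nat.Prime.coprime_iff_not_dvd hpp).mp hR.symm) (hUG.trans hGR)
  rw [hgen, eq_bot_iff]
  apply iSup_le
  rintro ⟨B, hBU, hBi⟩
  show R ⊓ Subgroup.centralizer (B : Set G) ≤ ⊥
  -- find a coatom U₀ ≤ B
  have hex : ∃ U₀ : Subgroup G, U₀ ≤ U ∧ IsCoatom (U₀.subgroupOf U) ∧ U₀ ≤ B := by
    obtain ⟨n, hn⟩ := hUp.exists_card_eq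
    have hdvd : B.relIndex U ∣ p ^ n := by
      rw [← hn]; exact Subgroup.relIndex_dvd_card B U
    obtain ⟨k, hk, hk2⟩ := (Nat.dvd_prime_pow hpp).mp hdvd
    have hk1 : k ≤ 1 := by
      by_contra hcon
      have h2 : 2 ≤ k := by omega
      have h3 : p ^ 2 ≤ p ^ k := Nat.pow_le_pow_right hpp.pos h2
      rw [hk2] at hBi
      have := hpp.two_le
      nlinarith
    have hk01 : k = 0 ∨ k = 1 := by omega
    rcases hk01 with rfl | rfl
    · -- B = U
      rw [pow_zero, Subgroup.relIndex_eq_one] at hk2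
      have hnt : (⊥ : Subgroup ↥U) ≠ ⊤ := by
        intro h
        have h1 : Nat.card (⊤ : Subgroup ↥U) = 1 := by rw [← h]; exact Subgroup.card_bot
        rw [Subgroup.card_top] at h1
        rw [h1] at hU2
        have := hpp.two_le
        nlinarith
      rcases eq_top_or_exists_le_coatom (⊥ : Subgroup ↥U) with h | ⟨a, ha, _⟩
      · exact absurd h hnt
      · refine ⟨a.map U.subtype, Subgroup.map_subtype_le a, ?_, (Subgroup.map_subtype_le a).trans hk2⟩
        have : (a.map U.subtype).subgroupOf U = a :=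
          Subgroup.comap_map_eq_self_of_injective (Subgroup.subtype_injective _) a
        rw [this]; exact ha
    · rw [pow_one] at hk2
      exact ⟨B, hBU, Cfsg.Agent.S3015.coatom_of_prime_relIndex (by rw [hk2]; exact hpp), le_rfl⟩
  obtain ⟨U₀, hU₀U, hU₀c, hU₀B⟩ := hex
  have h1 := part1 Q hQp hlarge G₁ hQG R hR hGR U₀ (hcoat U₀ hU₀U hU₀c)
  rw [← h1]
  exact inf_le_inf_left R (Subgroup.centralizer_le hU₀B)

end Cfsg.Agent.S3003
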