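import Mathlib
import Cfsg.Statements.S3023
import Cfsg.Agent.S0542
import Cfsg.Agent.Helper17.LocChar
import Cfsg.Agent.Lead.Quat
-- import your own Cfsg.Agent.* helpers here

set_option autoImplicit false
open Cfsg

namespace Cfsg.Agent.S3023

open Cfsg.Agent.Helper17

/-- Characteristic `p` passes to intersections with subnormal subgroups. -/
theorem CP_inf_subnormal {G : Type*} [Group G] [Finite G] {p : ℕ} [Fact p.Prime]
    {G₁ : Subgroup G} (h : G₁.IsSubnormal) :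
    ∀ C : Subgroup G, Helper18.CP p C → Helper18.CP p (C ⊓ G₁) := by
  induction h with
  | top => intro C hC; rw [inf_top_eq]; exact hC
  | step H K hHK hK hN ih =>
    intro C hC
    have hKH : K ≤ Subgroup.normalizer (H : Set G) :=
      (Subgroup.normal_subgroupOf_iff_le_normalizer hHK).mp hN
    apply CP_of_normal (inf_le_inf_left C hHK) ?_ (ih C hC)
    intro x hx
    obtain ⟨hxC, hxK⟩ := Subgroup.mem_inf.mp hx
    rw [Subgroup.mem_normalizer_iff]
    intro y
    have h1 := Subgroup.mem_normalizer_iff.mp (hKH hxK) y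
    constructor
    · intro hy
      obtain ⟨hyC, hyH⟩ := Subgroup.mem_inf.mp hy
      exact Subgroup.mem_inf.mpr ⟨mul_mem (mul_mem hxC hyC) (inv_mem hxC), h1.mp hyH⟩
    · intro hy
      obtain ⟨hyC, hyH⟩ := Subgroup.mem_inf.mp hy
      refine Subgroup.mem_inf.mpr ⟨?_, h1.mpr hyH⟩
      have e : y = x⁻¹ * (x * y * x⁻¹) * x := by group
      rw [e]; exact mul_mem (mul_mem (inv_mem hxC) hyC) hxC

/-- Characteristic `p` for a subgroup of a subgroup, from the ambient group. -/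
theorem CP_map_subtype {G : Type*} [Group G] [Finite G] {p : ℕ} [Fact p.Prime]
    (G₁ : Subgroup G) (K₁ : Subgroup ↥G₁) (h : Helper18.CP p (K₁.map G₁.subtype)) :
    Helper18.CP p K₁ := by
  rw [CP_iff_charP] at h ⊢
  exact charP_of_equiv (K₁.equivMapOfInjective G₁.subtype G₁.subtype_injective).symm h

/-- Let p be a prime, G a finite group of parabolic characteristic p (every p-local subgroup containing a Sylow p-subgroup of G has characteristic p), S a Sylow p-subgroup of G and G₁ a subnormal subgroup of G. If the centre of S ∩ G₁ is nontrivial and contained in the centre of S, then G₁ has parabolic characteristic p. -/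
theorem result {G : Type*} [Group G] [Finite G] {p : ℕ} [Fact p.Prime] (hG : Cfsg.IsOfParabolicCharacteristic p G) (S : Sylow p G) (G₁ : Subgroup G) (hsn : G₁.IsSubnormal) (hne : ((S : Subgroup G) ⊓ G₁) ⊓ Subgroup.centralizer (((S : Subgroup G) ⊓ G₁ : Subgroup G) : Set G) ≠ ⊥) (hle : ((S : Subgroup G) ⊓ G₁) ⊓ Subgroup.centralizer (((S : Subgroup G) ⊓ G₁ : Subgroup G) : Set G) ≤ (S : Subgroup G) ⊓ Subgroup.centralizer ((S : Subgroup G) : Set G)) : Cfsg.IsOfParabolicCharacteristic p ↥G₁ := by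
  intro R hR hR1 hpar
  obtain ⟨T', hT'⟩ := hpar
  rw [← CP_iff_charP]
  have hRT : R ≤ (T' : Subgroup ↥G₁) := by
    have h1 : IsPGroup p ↥(R ⊔ (T' : Subgroup ↥G₁)) :=
      IsPGroup.to_sup_of_normal_left' hR T'.isPGroup' hT'
    have h2 := T'.is_maximal' h1 le_sup_right
    exact le_sup_left.trans h2.le
  have hRn : (R.subgroupOf (T' : Subgroup ↥G₁)).Normal :=
    (Subgroup.normal_subgroupOf_iff_le_normalizer hRT).mpr hT'
  have hR1' : R.subgroupOf (T' : Subgroup ↥G₁) ≠ ⊥ := by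
    intro h
    apply hR1
    rw [eq_bot_iff]
    intro x hx
    have h3 : (⟨x, hRT hx⟩ : ↥(T' : Subgroup ↥G₁)) ∈ R.subgroupOf (T' : Subgroup ↥G₁) :=
      Subgroup.mem_subgroupOf.mpr hx
    rw [h, Subgroup.mem_bot] at h3
    rw [Subgroup.mem_bot]
    exact congrArg Subtype.val h3
  obtain ⟨b, hbR, hb1, hbc⟩ := Lead.normal_inf_center_ne_bot' p T'.isPGroup'
    (R.subgroupOf (T' : Subgroup ↥G₁)) hR1'
  obtain ⟨z, hz⟩ : ∃ z : ↥G₁, z = (b : ↥G₁) := ⟨_, rfl⟩
  have hzR : z ∈ R := by rw [hz]; exact Subgroup.mem_subgroupOf.mp hbR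
  have hz1 : z ≠ 1 := by
    rw [hz]
    intro h
    apply hb1
    exact Subtype.ext h
  have hzT : z ∈ (T' : Subgroup ↥G₁) := hRT hzR
  have hzc : ∀ t ∈ (T' : Subgroup ↥G₁), t * z = z * t := by
    intro t ht
    have h3 := Subgroup.mem_center_iff.mp hbc ⟨t, ht⟩
    rw [hz]
    exact congrArg Subtype.val h3
  apply CP_normalizer hR hzR (fun x hx => hzc x (hRT hx))
  apply CP_map_subtype
  have hmap : (Subgroup.centralizer ({z} : Set ↥G₁)).map G₁.subtype =
      Subgroup.centralizer ({(z : G)} : Set G) ⊓ G₁ := by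
    ext x
    constructor
    · rintro ⟨y, hy, rfl⟩
      have hy' : y ∈ Subgroup.centralizer ({z} : Set ↥G₁) := hy
      refine Subgroup.mem_inf.mpr ⟨?_, y.2⟩
      rw [Subgroup.mem_centralizer_singleton_iff] at hy' ⊢
      exact congrArg Subtype.val hy'
    · intro hx
      obtain ⟨hx1, hx2⟩ := Subgroup.mem_inf.mp hx
      have h3 : (⟨x, hx2⟩ : ↥G₁) ∈ Subgroup.centralizer ({z} : Set ↥G₁) := by
        rw [Subgroup.mem_centralizer_singleton_iff] at hx1 ⊢
        exact Subtype.ext hx1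
      exact ⟨⟨x, hx2⟩, h3, rfl⟩
  rw [hmap]
  apply CP_inf_subnormal hsn
  obtain ⟨Q, hQ⟩ := S0542.result p G₁ hsn S
  obtain ⟨g, hg⟩ := sylow_conj Q T'
  obtain ⟨S', hS'⟩ := exists_sylow_cj (g : G) S
  have hz0Q : g⁻¹ * z * g ∈ (Q : Subgroup ↥G₁) := by
    rw [hg] at hzT
    exact mem_cj.mp hzT
  have hz0S : ((g⁻¹ * z * g : ↥G₁) : G) ∈
      (S : Subgroup G) ⊓ Subgroup.centralizer ((S : Subgroup G) : Set G) := by
    apply hle
    refine Subgroup.mem_inf.mpr ⟨Subgroup.mem_inf.mpr ⟨?_, (g⁻¹ * z * g).2⟩, ?_⟩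
    · rw [hQ] at hz0Q
      exact Subgroup.mem_subgroupOf.mp hz0Q
    · rw [Subgroup.mem_centralizer_iff]
      intro y hy
      obtain ⟨hyS, hyG⟩ := Subgroup.mem_inf.mp hy
      have hyQ : (⟨y, hyG⟩ : ↥G₁) ∈ (Q : Subgroup ↥G₁) := by
        rw [hQ]; exact Subgroup.mem_subgroupOf.mpr hyS
      have hyT : g * ⟨y, hyG⟩ * g⁻¹ ∈ (T' : Subgroup ↥G₁) := by
        rw [hg]; exact conj_mem_cj hyQ
      have h3 := hzc _ hyT
      have h4 : (⟨y, hyG⟩ : ↥G₁) * (g⁻¹ * z * g) = (g⁻¹ * z * g) * ⟨y, hyG⟩ := by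
        calc (⟨y, hyG⟩ : ↥G₁) * (g⁻¹ * z * g)
            = g⁻¹ * ((g * ⟨y, hyG⟩ * g⁻¹) * z) * g := by group
          _ = g⁻¹ * (z * (g * ⟨y, hyG⟩ * g⁻¹)) * g := by rw [h3]
          _ = (g⁻¹ * z * g) * ⟨y, hyG⟩ := by group
      exact congrArg Subtype.val h4
  have e : (z : G) = (g : G) * ((g⁻¹ * z * g : ↥G₁) : G) * (g : G)⁻¹ := by
    have e1 : z = g * (g⁻¹ * z * g) * g⁻¹ := by group
    exact congrArg Subtype.val e1
  have hzS' : (z : G) ∈ (S' : Subgroup G) := by
    rw [hS', e]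
    exact conj_mem_cj (Subgroup.mem_inf.mp hz0S).1
  have hzC' : (z : G) ∈ Subgroup.centralizer ((S' : Subgroup G) : Set G) := by
    rw [hS', centralizer_cj, e]
    exact conj_mem_cj (Subgroup.mem_inf.mp hz0S).2
  exact CP_centralizer_of_parabolic hG S' (by
    intro h
    apply hz1
    exact Subtype.ext h) hzS' hzC'

end Cfsg.Agent.S3023
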