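import Mathlib
import Cfsg.Statements.S3048
import Cfsg.Agent.S0010
import Cfsg.Agent.Helper10.FStar
import Cfsg.Agent.Helper10.Layer
import Cfsg.Agent.Helper21.BaerSuzuki

set_option autoImplicit false
universe u
open Cfsg

namespace Cfsg.Agent.S3048

theorem exists_odd_pow {G : Type*} [Group G] [Finite G] (x : G) :
    ∃ j : ℕ, Odd (orderOf (x ^ (2 ^ j))) := by
  have hn : orderOf x ≠ 0 := (orderOf_pos x).ne'
  obtain ⟨k, m, hm, hkm⟩ := Nat.exists_eq_two_pow_mul_odd hn
  refine ⟨k, ?_⟩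
  have hd : 2 ^ k ∣ orderOf x := ⟨m, hkm⟩
  rw [orderOf_pow_of_dvd (by positivity) hd, hkm, Nat.mul_div_cancel_left _ (by positivity)]
  exact hm

theorem commute_of_pow_two {G : Type*} [Group G] (x y : G) (hx : Odd (orderOf x)) (j : ℕ)
    (h : Commute y (x ^ (2 ^ j))) : Commute y x := by
  have hc : Nat.Coprime (2 ^ j) (orderOf x) :=
    Nat.Coprime.pow_left j (Nat.coprime_two_left.mpr hx)
  obtain ⟨m, hm⟩ := exists_pow_eq_self_of_coprime hc
  have := h.pow_right m
  rwa [hm] at this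

theorem odd_orderOf_mul {G : Type*} [Group G] {a b : G} (h : Commute a b)
    (ha : Odd (orderOf a)) (hb : Odd (orderOf b)) : Odd (orderOf (a * b)) :=
  Odd.of_dvd_nat (ha.mul hb) h.orderOf_mul_dvd_mul_orderOf

theorem eq_one_of_odd_sq {G : Type*} [Group G] (g : G) (ho : Odd (orderOf g))
    (h2 : g * g = 1) : g = 1 := by
  have hd : orderOf g ∣ 2 := by
    apply orderOf_dvd_of_pow_eq_one
    rw [sq]; exact h2
  have h1 : orderOf g = 1 := by
    rcases (Nat.dvd_prime Nat.prime_two).mp hd with h | h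
    · exact h
    · rw [h] at ho
      exact absurd ho (by decide)
  exact orderOf_eq_one_iff.mp h1

/-- In a finite group, an element whose square lies in `K` and which has odd order lies in `K`. -/
theorem mem_of_sq_mem_of_odd {G : Type*} [Group G] (K : Subgroup G) (x : G)
    (ho : Odd (orderOf x)) (h2 : x * x ∈ K) : x ∈ K := by
  obtain ⟨n, hn⟩ := ho
  have h5 : (x * x) ^ (n + 1) = x := by
    rw [← sq, ← pow_mul]
    have : 2 * (n + 1) = (2 * n + 1) + 1 := by ring
    rw [this, pow_succ, ← hn, pow_orderOf_eq_one, one_mul]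
  rw [← h5]
  exact K.pow_mem h2 _

theorem mem_sup_normalizer {G : Type*} [Group G] {K C : Subgroup G}
    (hC : C ≤ Subgroup.normalizer (K : Set G)) {x : G} (hx : x ∈ K ⊔ C) :
    ∃ k ∈ K, ∃ c ∈ C, x = k * c := by
  let S : Subgroup G :=
    { carrier := {y | ∃ k ∈ K, ∃ c ∈ C, y = k * c}
      one_mem' := ⟨1, K.one_mem, 1, C.one_mem, by simp⟩
      mul_mem' := by
        rintro _ _ ⟨k, hk, c, hc, rfl⟩ ⟨k', hk', c', hc', rfl⟩
        refine ⟨k * (c * k' * c⁻¹), K.mul_mem hk ?_, c * c', C.mul_mem hc hc', by group⟩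
        exact ((Subgroup.mem_normalizer_iff.mp (hC hc)) k').mp hk'
      inv_mem' := by
        rintro _ ⟨k, hk, c, hc, rfl⟩
        refine ⟨c⁻¹ * k⁻¹ * c, ?_, c⁻¹, C.inv_mem hc, by group⟩
        have := ((Subgroup.mem_normalizer_iff.mp (hC (C.inv_mem hc))) k⁻¹).mp (K.inv_mem hk)
        simpa using this }
  have hle : K ⊔ C ≤ S := by
    apply sup_le
    · intro k hk
      exact ⟨k, hk, 1, C.one_mem, by simp⟩
    · intro c hc
      exact ⟨1, K.one_mem, c, hc, by simp⟩
  exact hle hx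

theorem mem_of_odd_of_sup {G : Type*} [Group G] {K C : Subgroup G}
    (hC : C ≤ Subgroup.normalizer (K : Set G)) (hC2 : ∀ c ∈ C, c * c = 1) {x : G}
    (hx : x ∈ K ⊔ C) (ho : Odd (orderOf x)) : x ∈ K := by
  obtain ⟨k, hk, c, hc, rfl⟩ := mem_sup_normalizer hC hx
  apply mem_of_sq_mem_of_odd K _ ho
  have e : k * c * (k * c) = k * (c * k * c⁻¹) * (c * c) := by group
  rw [e, hC2 c hc, mul_one]
  exact K.mul_mem hk (((Subgroup.mem_normalizer_iff.mp (hC hc)) k).mp hk)


theorem sidki_quotient {G : Type*} [Group G] [Finite G] (V N : Subgroup G) [N.Normal]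
    (hV2 : ∀ v ∈ V, v * v = 1) (hS : IsSidkiPair V) (hVN : V ⊓ N = ⊥) :
    IsSidkiPair (V.map (QuotientGroup.mk' N)) := by
  intro hb vb hvb hodd hinv
  obtain ⟨v, hv, rfl⟩ := hvb
  obtain ⟨h0, rfl⟩ := QuotientGroup.mk'_surjective N hb
  obtain ⟨f, hf⟩ : ∃ f : G →* G ⧸ N, f = QuotientGroup.mk' N := ⟨_, rfl⟩
  rw [← hf] at hodd hinv ⊢
  obtain ⟨j1, hj1⟩ := exists_odd_pow h0
  obtain ⟨h, hh⟩ : ∃ h, h = h0 ^ (2 ^ j1) := ⟨_, rfl⟩
  rw [← hh] at hj1
  obtain ⟨n, hn⟩ := hj1
  obtain ⟨g, hg⟩ : ∃ g, g = h ^ (n + 1) := ⟨_, rfl⟩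
  have hgg : g * g = h := by
    rw [hg, ← pow_add]
    have : n + 1 + (n + 1) = (2 * n + 1) + 1 := by ring
    rw [this, pow_succ, ← hn, pow_orderOf_eq_one, one_mul]
  obtain ⟨h', hh'⟩ : ∃ h', h' = v * g⁻¹ * v⁻¹ * g := ⟨_, rfl⟩
  have hvinv : v⁻¹ = v := inv_eq_of_mul_eq_one_left (hV2 v hv)
  have hinv' : v * h' * v⁻¹ = h'⁻¹ := by
    rw [hh']
    have e1 : v * (v * g⁻¹ * v⁻¹ * g) * v⁻¹ = (v * v) * g⁻¹ * v⁻¹ * g * v⁻¹ := by group
    have e2 : (v * g⁻¹ * v⁻¹ * g)⁻¹ = g⁻¹ * v * g * v⁻¹ := by group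
    rw [e1, e2, hV2 v hv, one_mul, hvinv]
  obtain ⟨j2, hj2⟩ := exists_odd_pow h'
  obtain ⟨h'', hh''⟩ : ∃ h'', h'' = h' ^ (2 ^ j2) := ⟨_, rfl⟩
  rw [← hh''] at hj2
  have hinv'' : v * h'' * v⁻¹ = h''⁻¹ := by
    rw [hh'', ← inv_pow, ← hinv', conj_pow]
  obtain ⟨w, hw, hw1, hwc⟩ := hS h'' v hv hj2 hinv''
  refine ⟨f w, Subgroup.mem_map_of_mem _ hw, ?_, ?_⟩
  · intro h1
    have hwN : w ∈ N := by
      rw [hf] at h1
      exact (QuotientGroup.eq_one_iff w).mp h1
    have hwVN : w ∈ V ⊓ N := ⟨hw, hwN⟩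
    rw [hVN] at hwVN
    exact hw1 ((Subgroup.mem_bot).mp hwVN)
  · have hfv : f v * f h0 * (f v)⁻¹ = (f h0)⁻¹ := hinv
    have hfg : f g = (f h0) ^ (2 ^ j1 * (n + 1)) := by rw [hg, hh, ← pow_mul, map_pow]
    have hfvg : f v * (f g)⁻¹ * (f v)⁻¹ = f g := by
      rw [hfg, ← inv_pow, ← conj_pow]
      have : f v * (f h0)⁻¹ * (f v)⁻¹ = f h0 := by
        have e : f v * (f h0)⁻¹ * (f v)⁻¹ = (f v * f h0 * (f v)⁻¹)⁻¹ := by group
        rw [e, hfv, inv_inv]
      rw [this]
    have hfh' : f h' = f h := by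
      rw [hh', map_mul, map_mul, map_mul, map_inv, map_inv, hfvg, ← map_mul, hgg]
    have hfh'' : f h'' = (f h0) ^ (2 ^ (j1 + j2)) := by
      rw [hh'', map_pow, hfh', hh, map_pow, ← pow_mul, ← pow_add]
    have hc : Commute (f w) ((f h0) ^ (2 ^ (j1 + j2))) := by
      rw [← hfh'']
      show f w * f h'' = f h'' * f w
      rw [← map_mul, ← map_mul, hwc]
    exact (commute_of_pow_two (f h0) (f w) hodd (j1 + j2) hc).eq

theorem pCore_quot_bot {G : Type*} [Group G] [Finite G] (Q : Subgroup G) [Q.Normal]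
    (hQ : Q = Cfsg.pCore 2 G) : Cfsg.pCore 2 (G ⧸ Q) = ⊥ := by
  have h2 : Fact (Nat.Prime 2) := ⟨Nat.prime_two⟩
  have hQp : IsPGroup 2 Q := by rw [hQ]; exact S0010.pCore_isPGroup 2
  have hPp : IsPGroup 2 (Cfsg.pCore 2 (G ⧸ Q)) := S0010.pCore_isPGroup 2
  have hPn : (Cfsg.pCore 2 (G ⧸ Q)).Normal := S0010.pCore_normal 2
  obtain ⟨T, hT⟩ : ∃ T, T = (Cfsg.pCore 2 (G ⧸ Q)).comap (QuotientGroup.mk' Q) := ⟨_, rfl⟩
  have hTn : T.Normal := by rw [hT]; exact Subgroup.Normal.comap hPn _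
  have hTp : IsPGroup 2 T := by
    rintro ⟨t, ht⟩
    have ht' : QuotientGroup.mk' Q t ∈ Cfsg.pCore 2 (G ⧸ Q) := by rw [hT] at ht; exact ht
    obtain ⟨k, hk⟩ := hPp ⟨_, ht'⟩
    have hk' : (QuotientGroup.mk' Q t) ^ (2 ^ k) = 1 := by
      have := congrArg Subtype.val hk
      simpa using this
    have htQ : t ^ (2 ^ k) ∈ Q := by
      rw [← map_pow] at hk'
      exact (QuotientGroup.eq_one_iff _).mp hk'
    obtain ⟨l, hl⟩ := hQp ⟨_, htQ⟩
    refine ⟨k + l, ?_⟩
    apply Subtype.ext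
    have hl' : (t ^ (2 ^ k)) ^ (2 ^ l) = 1 := by
      have := congrArg Subtype.val hl
      simpa using this
    show t ^ (2 ^ (k + l)) = 1
    rw [pow_add, pow_mul]
    exact hl'
  have hTQ : T ≤ Q := by rw [hQ]; exact S0010.le_pCore 2 T hTn hTp
  rw [eq_bot_iff]
  intro x hx
  obtain ⟨y, rfl⟩ := QuotientGroup.mk'_surjective Q x
  have hy : y ∈ T := by rw [hT]; exact hx
  exact (Subgroup.mem_bot).mpr ((QuotientGroup.eq_one_iff y).mpr (hTQ hy))

/-- The minimal-counterexample package, after the reduction to `O₂(G) = 1`. -/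
structure MC {G : Type u} [Group G] [Finite G] (V : Subgroup G) : Prop where
  ea : Cfsg.IsElementaryAbelian 2 V
  ne : V ≠ ⊥
  sid : Cfsg.IsSidkiPair V
  core : Cfsg.pCore 2 G = ⊥
  minG : ∀ (H : Type u) [Group H] [Finite H] (W : Subgroup H), Nat.card H < Nat.card G →
    Cfsg.IsElementaryAbelian 2 W → W ≠ ⊥ → Cfsg.IsSidkiPair W → W ⊓ Cfsg.pCore 2 H ≠ ⊥
  minV : ∀ W : Subgroup G, Nat.card W < Nat.card V → Cfsg.IsElementaryAbelian 2 W → W ≠ ⊥ →
    Cfsg.IsSidkiPair W → W ⊓ Cfsg.pCore 2 G ≠ ⊥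

theorem ea_sq {G : Type*} [Group G] {V : Subgroup G} (h : Cfsg.IsElementaryAbelian 2 V)
    {v : G} (hv : v ∈ V) : v * v = 1 := by
  rw [← sq]; exact h.2 v hv

theorem ea_comm {G : Type*} [Group G] {V : Subgroup G} (h : Cfsg.IsElementaryAbelian 2 V)
    {a b : G} (ha : a ∈ V) (hb : b ∈ V) : a * b = b * a := by
  have := h.1.is_comm.comm ⟨a, ha⟩ ⟨b, hb⟩
  exact congrArg Subtype.val this

theorem ea_of_le {G : Type*} [Group G] {V W : Subgroup G} (h : Cfsg.IsElementaryAbelian 2 V)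
    (hW : W ≤ V) : Cfsg.IsElementaryAbelian 2 W :=
  ⟨⟨⟨fun a b => Subtype.ext (ea_comm h (hW a.2) (hW b.2))⟩⟩, fun a ha => h.2 a (hW ha)⟩

theorem ea_subgroupOf {G : Type*} [Group G] {V W H : Subgroup G}
    (h : Cfsg.IsElementaryAbelian 2 V) (hW : W ≤ V) :
    Cfsg.IsElementaryAbelian 2 (W.subgroupOf H) := by
  refine ⟨⟨⟨fun a b => ?_⟩⟩, fun a ha => ?_⟩
  · apply Subtype.ext
    apply Subtype.ext
    exact ea_comm h (hW a.2) (hW b.2)
  · apply Subtype.ext
    have := h.2 a.1 (hW ha)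
    simpa using this

theorem ea_map {G G' : Type*} [Group G] [Group G'] {V : Subgroup G} (f : G →* G')
    (h : Cfsg.IsElementaryAbelian 2 V) : Cfsg.IsElementaryAbelian 2 (V.map f) := by
  refine ⟨⟨⟨fun a b => ?_⟩⟩, fun a ha => ?_⟩
  · apply Subtype.ext
    obtain ⟨x, hx, hxa⟩ := a.2
    obtain ⟨y, hy, hyb⟩ := b.2
    show a.1 * b.1 = b.1 * a.1
    rw [← hxa, ← hyb, ← map_mul, ← map_mul, ea_comm h hx hy]
  · obtain ⟨x, hx, rfl⟩ := ha
    rw [← map_pow, h.2 x hx, map_one]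

section
variable {G : Type u} [Group G] [Finite G] {V : Subgroup G}

theorem MC.sub_pair (mc : MC V) (H W : Subgroup G) (hWH : W ≤ H) (hWV : W ≤ V) (hW1 : W ≠ ⊥)
    (hH : H ≠ ⊤) :
    (∃ h ∈ H, Odd (orderOf h) ∧ ∃ v ∈ W, v * h * v⁻¹ = h⁻¹ ∧
        ∀ w ∈ W, w ≠ 1 → w * h ≠ h * w) ∨
    (∃ w ∈ W, w ≠ 1 ∧ ∃ Q : Subgroup G, Q ≤ H ∧ IsPGroup 2 Q ∧
        H ≤ Subgroup.normalizer (Q : Set G) ∧ w ∈ Q) := by
  have h2 : Fact (Nat.Prime 2) := ⟨Nat.prime_two⟩
  by_cases hcase : ∃ h ∈ H, Odd (orderOf h) ∧ ∃ v ∈ W, v * h * v⁻¹ = h⁻¹ ∧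
        ∀ w ∈ W, w ≠ 1 → w * h ≠ h * w
  · exact Or.inl hcase
  · right
    have hsid : IsSidkiPair (W.subgroupOf H) := by
      intro h v hv hodd hinv
      by_contra hno
      apply hcase
      refine ⟨h.1, h.2, ?_, v.1, hv, ?_, ?_⟩
      · rwa [Subgroup.orderOf_coe]
      · have := congrArg Subtype.val hinv
        simpa using this
      · intro w hw hw1 hc
        apply hno
        refine ⟨⟨w, hWH hw⟩, hw, ?_, Subtype.ext hc⟩
        intro h1
        exact hw1 (congrArg Subtype.val h1)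
    have hea : IsElementaryAbelian 2 (W.subgroupOf H) := ea_subgroupOf mc.ea hWV
    have hne : W.subgroupOf H ≠ ⊥ := by
      intro hb
      apply hW1
      rw [Subgroup.eq_bot_iff_forall]
      intro x hx
      have : (⟨x, hWH hx⟩ : H) ∈ W.subgroupOf H := hx
      rw [hb] at this
      exact congrArg Subtype.val ((Subgroup.mem_bot).mp this)
    have hlt : Nat.card H < Nat.card G := Helper10.card_lt_of_ne_top hH
    have hmin := mc.minG H (W.subgroupOf H) hlt hea hne hsid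
    obtain ⟨x, hx, hx1⟩ : ∃ x ∈ W.subgroupOf H ⊓ pCore 2 H, x ≠ 1 := by
      by_contra hno
      apply hmin
      rw [Subgroup.eq_bot_iff_forall]
      intro x hx
      by_contra hx1
      exact hno ⟨x, hx, hx1⟩
    have hPn : (pCore 2 H).Normal := S0010.pCore_normal 2
    refine ⟨x.1, hx.1, fun h1 => hx1 (Subtype.ext h1), (pCore 2 H).map H.subtype, ?_, ?_, ?_, ?_⟩
    · exact Subgroup.map_subtype_le _
    · exact (S0010.pCore_isPGroup 2).map _
    · intro g hg
      rw [Subgroup.mem_normalizer_iff]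
      intro y
      constructor
      · rintro ⟨z, hz, rfl⟩
        exact ⟨⟨g, hg⟩ * z * ⟨g, hg⟩⁻¹, hPn.conj_mem z hz ⟨g, hg⟩, rfl⟩
      · rintro ⟨z, hz, hzy⟩
        refine ⟨⟨g, hg⟩⁻¹ * z * ⟨g, hg⟩, ?_, ?_⟩
        · have := hPn.conj_mem z hz (⟨g, hg⟩⁻¹)
          simpa using this
        · show g⁻¹ * z.1 * g = y
          have hzy' : z.1 = g * y * g⁻¹ := hzy
          rw [hzy']
          group
    · exact ⟨x, hx.2, rfl⟩

theorem MC.normal_two_bot (mc : MC V) (Q : Subgroup G) (hQ : Q.Normal) (h2 : IsPGroup 2 Q) :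
    Q = ⊥ := by
  have := S0010.le_pCore 2 Q hQ h2
  rw [mc.core] at this
  exact eq_bot_iff.mpr this

theorem MC.sub_two_bot (mc : MC V) (N : Subgroup G) (hN : N.Normal) (Q : Subgroup G)
    (hQN : Q ≤ N) (h2 : IsPGroup 2 Q) (hn : N ≤ Subgroup.normalizer (Q : Set G)) : Q = ⊥ := by
  have hNinst := hN
  have h2' : Fact (Nat.Prime 2) := ⟨Nat.prime_two⟩
  have hQn : (Q.subgroupOf N).Normal := by
    constructor
    intro x hx g
    rw [Subgroup.mem_subgroupOf] at hx ⊢
    exact ((Subgroup.mem_normalizer_iff.mp (hn g.2)) x.1).mp hx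
  have hQp : IsPGroup 2 (Q.subgroupOf N) := h2.comap_subtype
  have hle : Q.subgroupOf N ≤ pCore 2 N := S0010.le_pCore 2 _ hQn hQp
  have hchar : ∀ φ : N ≃* N, (pCore 2 N).map (φ : N →* N) ≤ pCore 2 N := by
    intro φ
    apply S0010.le_pCore 2
    · exact Subgroup.Normal.map (S0010.pCore_normal 2) _ φ.surjective
    · exact (S0010.pCore_isPGroup 2).map _
  have hnorm : ((pCore 2 N).map N.subtype).Normal :=
    Helper10.map_subtype_normal_of_char N _ hchar
  have hbot := mc.normal_two_bot _ hnorm ((S0010.pCore_isPGroup 2).map _)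
  rw [eq_bot_iff]
  intro q hq
  have h1 : (⟨q, hQN hq⟩ : N) ∈ pCore 2 N := hle (by rw [Subgroup.mem_subgroupOf]; exact hq)
  have h3 : q ∈ (pCore 2 N).map N.subtype := ⟨_, h1, rfl⟩
  rw [hbot] at h3
  exact h3


theorem MC.no_invol (mc : MC V) (A : Subgroup G) (hA : A.Normal)
    (hab : ∀ a ∈ A, ∀ b ∈ A, a * b = b * a) : ∀ z ∈ A, z * z = 1 → z = 1 := by
  intro z hz hz2
  let Ω : Subgroup G :=
    { carrier := {y | y ∈ A ∧ y * y = 1}
      one_mem' := ⟨A.one_mem, by simp⟩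
      mul_mem' := by
        rintro a b ⟨ha, ha2⟩ ⟨hb, hb2⟩
        refine ⟨A.mul_mem ha hb, ?_⟩
        have e : a * b * (a * b) = a * (b * a) * b := by group
        rw [e, hab b hb a ha]
        have e2 : a * (a * b) * b = (a * a) * (b * b) := by group
        rw [e2, ha2, hb2, one_mul]
      inv_mem' := by
        rintro a ⟨ha, ha2⟩
        refine ⟨A.inv_mem ha, ?_⟩
        rw [← mul_inv_rev, ha2, inv_one] }
  have hΩn : Ω.Normal := by
    constructor
    rintro a ⟨ha, ha2⟩ g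
    refine ⟨hA.conj_mem a ha g, ?_⟩
    have e : g * a * g⁻¹ * (g * a * g⁻¹) = g * (a * a) * g⁻¹ := by group
    rw [e, ha2]; group
  have hΩp : IsPGroup 2 Ω := by
    rintro ⟨a, ha, ha2⟩
    refine ⟨1, ?_⟩
    apply Subtype.ext
    show a ^ (2 ^ 1) = 1
    rw [pow_one, sq]; exact ha2
  have hbot := mc.normal_two_bot Ω hΩn hΩp
  have hzΩ : z ∈ Ω := ⟨hz, hz2⟩
  rw [hbot] at hzΩ
  exact (Subgroup.mem_bot).mp hzΩ

/-- An element of a `2`-subgroup `Q` normalized by `H ≥ N` centralizes the normal subgroup `N`. -/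
theorem MC.cent_of_mem (mc : MC V) (N : Subgroup G) (hN : N.Normal) (H Q : Subgroup G)
    (hNH : N ≤ H) (hQ2 : IsPGroup 2 Q) (hQn : H ≤ Subgroup.normalizer (Q : Set G)) {w : G}
    (hwQ : w ∈ Q) : w ∈ Subgroup.centralizer (N : Set G) := by
  have hQN : Q ⊓ N = ⊥ := by
    apply mc.sub_two_bot N hN (Q ⊓ N) inf_le_right (hQ2.to_le inf_le_left)
    intro n hn
    have hnQ := Subgroup.mem_normalizer_iff.mp (hQn (hNH hn))
    rw [Subgroup.mem_normalizer_iff]
    intro y
    constructor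
    · rintro ⟨h1, h2⟩
      exact ⟨(hnQ y).mp h1, hN.conj_mem y h2 n⟩
    · rintro ⟨h1, h2⟩
      refine ⟨(hnQ y).mpr h1, ?_⟩
      have := hN.conj_mem _ h2 n⁻¹
      simpa [mul_assoc] using this
  rw [Subgroup.mem_centralizer_iff]
  intro n hn
  have hcm : w * n * w⁻¹ * n⁻¹ ∈ Q ⊓ N := by
    refine ⟨?_, ?_⟩
    · have h1 : n * w⁻¹ * n⁻¹ ∈ Q :=
        ((Subgroup.mem_normalizer_iff.mp (hQn (hNH hn))) w⁻¹).mp (Q.inv_mem hwQ)
      have e : w * n * w⁻¹ * n⁻¹ = w * (n * w⁻¹ * n⁻¹) := by group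
      rw [e]; exact Q.mul_mem hwQ h1
    · exact N.mul_mem (hN.conj_mem n hn w) (N.inv_mem hn)
  rw [hQN] at hcm
  have h1 := (Subgroup.mem_bot).mp hcm
  calc n * w = (w * n * w⁻¹ * n⁻¹)⁻¹ * (w * n) := by group
    _ = w * n := by rw [h1]; group

theorem MC.cent_inf_bot (mc : MC V) (N : Subgroup G) (hN : N.Normal) (hN1 : N ≠ ⊥)
    (hZ : N ⊓ Subgroup.centralizer (N : Set G) = ⊥) :
    V ⊓ Subgroup.centralizer (N : Set G) = ⊥ := by
  by_contra hne
  have hNinst := hN
  obtain ⟨X, hX⟩ : ∃ X, X = Subgroup.centralizer (N : Set G) := ⟨_, rfl⟩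
  rw [← hX] at hne hZ
  have hXn : X.Normal := by rw [hX]; infer_instance
  have hXtop : X ≠ ⊤ := by
    intro htop
    apply hN1
    rw [← hZ, htop, inf_top_eq]
  have hcomm : ∀ n ∈ N, ∀ x ∈ X, x * n = n * x := by
    intro n hn x hx
    rw [hX] at hx
    exact (Subgroup.mem_centralizer_iff.mp hx n hn).symm
  rcases mc.sub_pair X (V ⊓ X) inf_le_right inf_le_left hne hXtop with
    ⟨d, hdX, hdodd, v2, hv2, hv2d, hdC⟩ | ⟨w, hw, hw1, Q, hQX, hQ2, hQn, hwQ⟩
  swap
  · have := mc.sub_two_bot X hXn Q hQX hQ2 hQn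
    rw [this] at hwQ
    exact hw1 ((Subgroup.mem_bot).mp hwQ)
  obtain ⟨C0, hC0⟩ : ∃ C0, C0 = V ⊓ Subgroup.centralizer ({d} : Set G) := ⟨_, rfl⟩
  have hmemC0 : ∀ w, w ∈ C0 ↔ w ∈ V ∧ w * d = d * w := by
    intro w
    rw [hC0]
    constructor
    · rintro ⟨h1, h2⟩
      exact ⟨h1, (Subgroup.mem_centralizer_iff.mp h2 d rfl).symm⟩
    · rintro ⟨h1, h2⟩
      exact ⟨h1, Subgroup.mem_centralizer_iff.mpr (fun h hh => by
        rw [Set.mem_singleton_iff.mp hh]; exact h2.symm)⟩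
  obtain ⟨w1, hw1V, hw1ne, hw1d⟩ := mc.sid d v2 hv2.1 hdodd hv2d
  have hC0V : C0 ≤ V := fun w hw => ((hmemC0 w).mp hw).1
  have hC0ne : C0 ≠ ⊥ := by
    intro hb
    have : w1 ∈ C0 := (hmemC0 w1).mpr ⟨hw1V, hw1d⟩
    rw [hb] at this
    exact hw1ne ((Subgroup.mem_bot).mp this)
  have hNnorm : ∀ C : Subgroup G, C ≤ Subgroup.normalizer (N : Set G) := by
    intro C
    rw [Subgroup.normalizer_eq_top]; exact le_top
  have hH2top : C0 ⊔ N ≠ ⊤ := by
    intro htop
    have hX2 : ∀ x ∈ X, x * x = 1 := by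
      intro x hx
      have hx' : x ∈ N ⊔ C0 := by rw [sup_comm, htop]; trivial
      obtain ⟨n, hn, c, hc, rfl⟩ := mem_sup_normalizer (hNnorm C0) hx'
      have hsq : n * c * (n * c) ∈ N := by
        have e : n * c * (n * c) = n * (c * n * c⁻¹) * (c * c) := by group
        rw [e, ea_sq mc.ea (hC0V hc), mul_one]
        exact N.mul_mem hn (hN.conj_mem n hn c)
      have : n * c * (n * c) ∈ N ⊓ X := ⟨hsq, X.mul_mem hx hx⟩
      rw [hZ] at this
      exact (Subgroup.mem_bot).mp this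
    have hXp : IsPGroup 2 X := by
      rintro ⟨x, hx⟩
      refine ⟨1, Subtype.ext ?_⟩
      show x ^ (2 ^ 1) = 1
      rw [pow_one, sq]; exact hX2 x hx
    have := mc.normal_two_bot X hXn hXp
    apply hne; rw [this, inf_bot_eq]
  rcases mc.sub_pair (C0 ⊔ N) C0 le_sup_left hC0V hC0ne hH2top with
    ⟨n1, hn1H, hn1odd, v1, hv1, hv1n, hn1C⟩ | ⟨w, hw, hw1, Q, hQH, hQ2, hQn, hwQ⟩
  swap
  · have hwX : w ∈ X := by
      rw [hX]
      exact mc.cent_of_mem N hN (C0 ⊔ N) Q le_sup_right hQ2 hQn hwQ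
    exact hdC w ⟨hC0V hw, hwX⟩ hw1 (((hmemC0 w).mp hw).2)
  have hn1N : n1 ∈ N := by
    have : n1 ∈ N ⊔ C0 := by rw [sup_comm]; exact hn1H
    exact mem_of_odd_of_sup (hNnorm C0) (fun c hc => ea_sq mc.ea (hC0V hc)) this hn1odd
  have hcm : Commute n1 d := (hcomm n1 hn1N d hdX).symm
  have hodd : Odd (orderOf (n1 * d)) := odd_orderOf_mul hcm hn1odd hdodd
  have hv2n : v2 * n1 = n1 * v2 := hcomm n1 hn1N v2 hv2.2
  have hv1d : v1 * d = d * v1 := ((hmemC0 v1).mp hv1).2
  have hinv : (v1 * v2) * (n1 * d) * (v1 * v2)⁻¹ = (n1 * d)⁻¹ := by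
    have e : (v1 * v2) * (n1 * d) * (v1 * v2)⁻¹ =
        v1 * (v2 * n1 * v2⁻¹) * v1⁻¹ * (v1 * (v2 * d * v2⁻¹) * v1⁻¹) := by group
    have e1 : v2 * n1 * v2⁻¹ = n1 := by rw [hv2n]; group
    have e2 : v1 * d⁻¹ * v1⁻¹ = d⁻¹ := by
      have : v1 * d⁻¹ * v1⁻¹ = (v1 * d * v1⁻¹)⁻¹ := by group
      rw [this, hv1d]; group
    rw [e, e1, hv1n, hv2d, e2, hcm.eq, mul_inv_rev]
  obtain ⟨w, hwV, hw1, hwc⟩ :=
    mc.sid (n1 * d) (v1 * v2) (V.mul_mem (hC0V hv1) hv2.1) hodd hinv
  have hkey : n1⁻¹ * (w * n1 * w⁻¹) ∈ N ⊓ X := by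
    refine ⟨N.mul_mem (N.inv_mem hn1N) (hN.conj_mem n1 hn1N w), ?_⟩
    have e : n1⁻¹ * (w * n1 * w⁻¹) = d * (w * d * w⁻¹)⁻¹ := by
      have h1 : (w * n1 * w⁻¹) * (w * d * w⁻¹) = n1 * d := by
        have : (w * n1 * w⁻¹) * (w * d * w⁻¹) = (w * (n1 * d)) * w⁻¹ := by group
        rw [this, hwc]; group
      calc n1⁻¹ * (w * n1 * w⁻¹)
          = n1⁻¹ * ((w * n1 * w⁻¹) * (w * d * w⁻¹)) * (w * d * w⁻¹)⁻¹ := by group
        _ = d * (w * d * w⁻¹)⁻¹ := by rw [h1]; group
    rw [e]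
    exact X.mul_mem hdX (X.inv_mem (hXn.conj_mem d hdX w))
  rw [hZ] at hkey
  have hk1 := (Subgroup.mem_bot).mp hkey
  have hwn : w * n1 = n1 * w := by
    calc w * n1 = n1 * (n1⁻¹ * (w * n1 * w⁻¹)) * w := by group
      _ = n1 * w := by rw [hk1]; group
  have hwd : w * d = d * w := by
    have : n1 * (w * d) = n1 * (d * w) := by
      calc n1 * (w * d) = (n1 * w) * d := by group
        _ = (w * n1) * d := by rw [hwn]
        _ = w * (n1 * d) := by group
        _ = n1 * d * w := hwc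
        _ = n1 * (d * w) := by group
    exact mul_left_cancel this
  exact hn1C w ((hmemC0 w).mpr ⟨hwV, hwd⟩) hw1 hwn

theorem MC.sup_top (mc : MC V) (N : Subgroup G) (hN : N.Normal) (hN1 : N ≠ ⊥)
    (hZ : N ⊓ Subgroup.centralizer (N : Set G) = ⊥) : V ⊔ N = ⊤ := by
  by_contra htop
  rcases mc.sub_pair (V ⊔ N) V le_sup_left le_rfl mc.ne htop with
    ⟨h, hH, hodd, v, hv, hinv, hC⟩ | ⟨w, hw, hw1, Q, hQH, hQ2, hQn, hwQ⟩
  · obtain ⟨w, hw, hw1, hwc⟩ := mc.sid h v hv hodd hinv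
    exact hC w hw hw1 hwc
  · have hwX := mc.cent_of_mem N hN (V ⊔ N) Q le_sup_right hQ2 hQn hwQ
    have : w ∈ V ⊓ Subgroup.centralizer (N : Set G) := ⟨hw, hwX⟩
    rw [mc.cent_inf_bot N hN hN1 hZ] at this
    exact hw1 ((Subgroup.mem_bot).mp this)


theorem MC.no_abelian_min (mc : MC V) (M : Subgroup G) (hM : M.Normal) (hM1 : M ≠ ⊥)
    (hmin : ∀ M' : Subgroup G, M'.Normal → M' ≤ M → M' = ⊥ ∨ M' = M)
    (hab : ∀ a ∈ M, ∀ b ∈ M, a * b = b * a) : False := by
  have hMinst := hM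
  have hinvol := mc.no_invol M hM hab
  have hoddM : ∀ m ∈ M, Odd (orderOf m) := by
    intro m hm
    by_contra hno
    rw [Nat.not_odd_iff_even] at hno
    obtain ⟨k, hk⟩ := hno
    have h1 : m ^ k * m ^ k = 1 := by rw [← pow_add, ← hk, pow_orderOf_eq_one]
    have h2 := hinvol (m ^ k) (M.pow_mem hm k) h1
    have h3 : orderOf m ∣ k := orderOf_dvd_of_pow_eq_one h2
    have hpos := orderOf_pos m
    have : orderOf m ≤ k := Nat.le_of_dvd (by omega) h3
    omega
  obtain ⟨C, hC⟩ : ∃ C, C = Subgroup.centralizer (M : Set G) := ⟨_, rfl⟩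
  have hCn : C.Normal := by rw [hC]; infer_instance
  have hMC : M ≤ C := by
    intro m hm; rw [hC, Subgroup.mem_centralizer_iff]; intro h hh; exact hab h hh m hm
  have hCc : ∀ c ∈ C, ∀ m ∈ M, c * m = m * c := by
    intro c hc m hm
    rw [hC] at hc
    exact (Subgroup.mem_centralizer_iff.mp hc m hm).symm
  have hCnorm : ∀ D : Subgroup G, D ≤ Subgroup.normalizer (C : Set G) := by
    intro D
    rw [Subgroup.normalizer_eq_top]; exact le_top
  have hVC : V ⊔ C = ⊤ := by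
    by_contra htop
    rcases mc.sub_pair (V ⊔ C) V le_sup_left le_rfl mc.ne htop with
      ⟨h, hH, hodd, v, hv, hinv, hC'⟩ | ⟨w, hw, hw1, Q, hQH, hQ2, hQn, hwQ⟩
    · obtain ⟨w, hw, hw1, hwc⟩ := mc.sid h v hv hodd hinv
      exact hC' w hw hw1 hwc
    · have hwX := mc.cent_of_mem C hCn (V ⊔ C) Q le_sup_right hQ2 hQn hwQ
      have hwC : w ∈ C := by
        rw [hC, Subgroup.mem_centralizer_iff]
        intro m hm
        exact Subgroup.mem_centralizer_iff.mp hwX m (hMC hm)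
      have hA : (C ⊓ Subgroup.centralizer (C : Set G)).Normal := by
        have := hCn
        infer_instance
      have := mc.no_invol (C ⊓ Subgroup.centralizer (C : Set G)) hA (by
        rintro a ⟨ha1, ha2⟩ b ⟨hb1, hb2⟩
        exact Subgroup.mem_centralizer_iff.mp hb2 a ha1) w ⟨hwC, hwX⟩ (ea_sq mc.ea hw)
      exact hw1 this
  have hoddC : ∀ h : G, Odd (orderOf h) → h ∈ C := by
    intro h hodd
    have : h ∈ C ⊔ V := by rw [sup_comm, hVC]; trivial
    exact mem_of_odd_of_sup (hCnorm V) (fun c hc => ea_sq mc.ea hc) this hodd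
  have hdich : ∀ v ∈ V, (∀ m ∈ M, v * m * v⁻¹ = m) ∨ (∀ m ∈ M, v * m * v⁻¹ = m⁻¹) := by
    intro v hv
    let I : Subgroup G :=
      { carrier := {m | m ∈ M ∧ v * m * v⁻¹ = m⁻¹}
        one_mem' := ⟨M.one_mem, by simp⟩
        mul_mem' := by
          rintro a b ⟨ha, ha2⟩ ⟨hb, hb2⟩
          refine ⟨M.mul_mem ha hb, ?_⟩
          have e : v * (a * b) * v⁻¹ = (v * a * v⁻¹) * (v * b * v⁻¹) := by group
          rw [e, ha2, hb2, mul_inv_rev, hab _ (M.inv_mem ha) _ (M.inv_mem hb)]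
        inv_mem' := by
          rintro a ⟨ha, ha2⟩
          refine ⟨M.inv_mem ha, ?_⟩
          have e : v * a⁻¹ * v⁻¹ = (v * a * v⁻¹)⁻¹ := by group
          rw [e, ha2] }
    have hIn : I.Normal := by
      constructor
      rintro a ⟨ha, ha2⟩ g
      refine ⟨hM.conj_mem a ha g, ?_⟩
      have hg : g ∈ C ⊔ V := by rw [sup_comm, hVC]; trivial
      obtain ⟨c, hc, v', hv', rfl⟩ := mem_sup_normalizer (hCnorm V) hg
      have hva : v' * a * v'⁻¹ ∈ M := hM.conj_mem a ha v'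
      have e1 : c * v' * a * (c * v')⁻¹ = v' * a * v'⁻¹ := by
        have : c * v' * a * (c * v')⁻¹ = c * (v' * a * v'⁻¹) * c⁻¹ := by group
        rw [this, hCc c hc _ hva]; group
      rw [e1]
      have hvv : v * v' = v' * v := ea_comm mc.ea hv hv'
      have e2 : v * (v' * a * v'⁻¹) * v⁻¹ = v' * (v * a * v⁻¹) * v'⁻¹ := by
        have : v * (v' * a * v'⁻¹) * v⁻¹ = (v * v') * a * (v * v')⁻¹ := by group
        rw [this, hvv]; group
      rw [e2, ha2]; group
    have hIM : I ≤ M := fun a ha => ha.1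
    rcases hmin I hIn hIM with hI | hI
    · left
      intro m hm
      have ha : m * (v * m⁻¹ * v⁻¹) ∈ I := by
        refine ⟨M.mul_mem hm (hM.conj_mem _ (M.inv_mem hm) v), ?_⟩
        have e : v * (m * (v * m⁻¹ * v⁻¹)) * v⁻¹ =
            (v * m * v⁻¹) * ((v * v) * m⁻¹ * (v * v)⁻¹) := by group
        have e' : (m * (v * m⁻¹ * v⁻¹))⁻¹ = (v * m * v⁻¹) * m⁻¹ := by group
        rw [e, e', ea_sq mc.ea hv]; group
      rw [hI] at ha
      have h1 := (Subgroup.mem_bot).mp ha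
      calc v * m * v⁻¹ = (m * (v * m⁻¹ * v⁻¹))⁻¹ * m := by group
        _ = m := by rw [h1]; group
    · right
      intro m hm
      have : m ∈ I := by rw [hI]; exact hm
      exact this.2
  have hVM : V ⊓ M = ⊥ := by
    rw [Subgroup.eq_bot_iff_forall]
    rintro x ⟨hxV, hxM⟩
    exact hinvol x hxM (ea_sq mc.ea hxV)
  have hsidq : IsSidkiPair (V.map (QuotientGroup.mk' M)) :=
    sidki_quotient V M (fun v hv => ea_sq mc.ea hv) mc.sid hVM
  have hltq : Nat.card (G ⧸ M) < Nat.card G := by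
    have h1 := Subgroup.card_eq_card_quotient_mul_card_subgroup M
    have h2 : 1 < Nat.card M := by
      rw [Subgroup.one_lt_card_iff_ne_bot]; exact hM1
    have h3 : 0 < Nat.card (G ⧸ M) := Nat.card_pos
    rw [h1]; nlinarith
  have hneq : V.map (QuotientGroup.mk' M) ≠ ⊥ := by
    intro hb
    apply mc.ne
    rw [Subgroup.eq_bot_iff_forall]
    intro x hx
    have : QuotientGroup.mk' M x ∈ V.map (QuotientGroup.mk' M) := Subgroup.mem_map_of_mem _ hx
    rw [hb] at this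
    have hxM : x ∈ M := (QuotientGroup.eq_one_iff x).mp ((Subgroup.mem_bot).mp this)
    exact hinvol x hxM (ea_sq mc.ea hx)
  have hminq := mc.minG (G ⧸ M) (V.map (QuotientGroup.mk' M)) hltq (ea_map _ mc.ea) hneq hsidq
  obtain ⟨ub, hub, hub1⟩ : ∃ x ∈ V.map (QuotientGroup.mk' M) ⊓ pCore 2 (G ⧸ M), x ≠ 1 := by
    by_contra hno
    apply hminq
    rw [Subgroup.eq_bot_iff_forall]
    intro x hx
    by_contra hx1
    exact hno ⟨x, hx, hx1⟩
  obtain ⟨⟨u, hu, rfl⟩, hubP⟩ := hub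
  have hu1 : u ≠ 1 := by
    intro h; apply hub1; rw [h, map_one]
  have h2 : Fact (Nat.Prime 2) := ⟨Nat.prime_two⟩
  have hPp : IsPGroup 2 (pCore 2 (G ⧸ M)) := S0010.pCore_isPGroup 2
  have hPn : (pCore 2 (G ⧸ M)).Normal := S0010.pCore_normal 2
  have hu2 : orderOf u = 2 := orderOf_eq_prime (by rw [sq]; exact ea_sq mc.ea hu) hu1
  obtain ⟨m0, hm01, hm0odd, hm0inv⟩ := Helper21.involution_inverts_odd u hu2 (by
    intro N hN hN2 huN
    rw [mc.normal_two_bot N hN hN2] at huN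
    exact hu1 ((Subgroup.mem_bot).mp huN))
  have hm0M : m0 ∈ M := by
    obtain ⟨f, hf⟩ : ∃ f : G →* G ⧸ M, f = QuotientGroup.mk' M := ⟨_, rfl⟩
    rw [← hf] at hubP
    have h1 : f u * (f m0 * (f u)⁻¹ * (f m0)⁻¹) ∈ pCore 2 (G ⧸ M) :=
      (pCore 2 (G ⧸ M)).mul_mem hubP (hPn.conj_mem _ ((pCore 2 (G ⧸ M)).inv_mem hubP) _)
    have e : f u * (f m0 * (f u)⁻¹ * (f m0)⁻¹) = (f m0)⁻¹ * (f m0)⁻¹ := by
      have : f u * (f m0 * (f u)⁻¹ * (f m0)⁻¹) = f (u * m0 * u⁻¹) * (f m0)⁻¹ := by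
        simp only [map_mul, map_inv]; group
      rw [this, hm0inv, map_inv]
    rw [e] at h1
    have h3 : f m0 * f m0 ∈ pCore 2 (G ⧸ M) := by
      have := (pCore 2 (G ⧸ M)).inv_mem h1
      simpa using this
    obtain ⟨k, hk⟩ := hPp ⟨_, h3⟩
    have hk' : (f m0) ^ (2 ^ (k + 1)) = 1 := by
      have := congrArg Subtype.val hk
      rw [pow_succ, mul_comm, pow_mul, sq]
      simpa using this
    have hord : (f m0) ^ (orderOf m0) = 1 := by rw [← map_pow, pow_orderOf_eq_one, map_one]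
    have hg := pow_gcd_eq_one.mpr ⟨hk', hord⟩
    have hcop : Nat.gcd (2 ^ (k + 1)) (orderOf m0) = 1 :=
      Nat.Coprime.pow_left _ (Nat.coprime_two_left.mpr hm0odd)
    rw [hcop, pow_one] at hg
    rw [hf] at hg
    exact (QuotientGroup.eq_one_iff m0).mp hg
  have huinv : ∀ m ∈ M, u * m * u⁻¹ = m⁻¹ := by
    rcases hdich u hu with h | h
    · exfalso
      have h1 := h m0 hm0M
      rw [hm0inv] at h1
      apply hm01
      apply hinvol m0 hm0M
      calc m0 * m0 = m0⁻¹ * m0 := by rw [h1]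
        _ = 1 := by group
    · exact h
  have hcentM : ∀ w ∈ V, ∀ m ∈ M, m ≠ 1 → w * m = m * w → ∀ m' ∈ M, w * m' * w⁻¹ = m' := by
    intro w hw m hm hm1 hwm
    rcases hdich w hw with h | h
    · exact h
    · exfalso
      have h1 := h m hm
      rw [hwm] at h1
      apply hm1
      apply hinvol m hm
      have h1' : m = m⁻¹ := by rw [← h1]; group
      calc m * m = m * m⁻¹ := by rw [← h1']
        _ = 1 := by group
  obtain ⟨W, hW⟩ : ∃ W, W = V ⊓ C := ⟨_, rfl⟩
  have hWV : W ≤ V := by rw [hW]; exact inf_le_left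
  have hmemW : ∀ w ∈ V, (∀ m' ∈ M, w * m' * w⁻¹ = m') → w ∈ W := by
    intro w hw h
    have hwC : w ∈ C := by
      rw [hC, Subgroup.mem_centralizer_iff]
      intro m hm
      have := h m hm
      calc m * w = (w * m * w⁻¹) * w := by rw [this]
        _ = w * m := by group
    rw [hW]
    exact ⟨hw, hwC⟩
  have hWC : ∀ w ∈ W, ∀ m ∈ M, w * m = m * w := by
    intro w hw m hm
    rw [hW] at hw
    exact hCc w hw.2 m hm
  have hW1 : W ≠ ⊥ := by
    obtain ⟨w, hwV, hw1, hwc⟩ := mc.sid m0 u hu hm0odd hm0inv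
    intro hb
    have : w ∈ W := hmemW w hwV (hcentM w hwV m0 hm0M hm01 hwc)
    rw [hb] at this
    exact hw1 ((Subgroup.mem_bot).mp this)
  have huW : u ∉ W := by
    intro h
    have h1 := hWC u h m0 hm0M
    have h2 : u * m0 * u⁻¹ = m0 := by rw [h1]; group
    rw [hm0inv] at h2
    apply hm01
    apply hinvol m0 hm0M
    calc m0 * m0 = m0⁻¹ * m0 := by rw [h2]
      _ = 1 := by group
  have hcard : Nat.card W < Nat.card V := by
    by_contra hle
    rw [not_lt] at hle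
    have := Subgroup.eq_of_le_of_card_ge hWV hle
    rw [this] at huW
    exact huW hu
  have hsidW : IsSidkiPair W := by
    intro h w0 hw0 hodd hinv
    obtain ⟨w', hw'V, hw'1, hw'c⟩ := mc.sid h w0 (hWV hw0) hodd hinv
    by_cases hw'W : w' ∈ W
    · exact ⟨w', hw'W, hw'1, hw'c⟩
    · have hw'inv : ∀ m ∈ M, w' * m * w'⁻¹ = m⁻¹ := by
        rcases hdich w' hw'V with h1 | h1
        · exact absurd (hmemW w' hw'V h1) hw'W
        · exact h1
      have hhC : h ∈ C := hoddC h hodd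
      have hhm : h * m0 = m0 * h := hCc h hhC m0 hm0M
      have hodd2 : Odd (orderOf (h * m0)) := odd_orderOf_mul hhm hodd hm0odd
      have hw0m : w0 * m0 = m0 * w0 := hWC w0 hw0 m0 hm0M
      have hinv2 : (w0 * w') * (h * m0) * (w0 * w')⁻¹ = (h * m0)⁻¹ := by
        have e : (w0 * w') * (h * m0) * (w0 * w')⁻¹ =
            w0 * (w' * h * w'⁻¹) * w0⁻¹ * (w0 * (w' * m0 * w'⁻¹) * w0⁻¹) := by group
        have e1 : w' * h * w'⁻¹ = h := by rw [hw'c]; group
        have e2 : w0 * m0⁻¹ * w0⁻¹ = m0⁻¹ := by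
          have : w0 * m0⁻¹ * w0⁻¹ = (w0 * m0 * w0⁻¹)⁻¹ := by group
          rw [this, hw0m]; group
        rw [e, e1, hinv, hw'inv m0 hm0M, e2, hhm, mul_inv_rev]
      obtain ⟨w'', hw''V, hw''1, hw''c⟩ :=
        mc.sid (h * m0) (w0 * w') (V.mul_mem (hWV hw0) hw'V) hodd2 hinv2
      rcases hdich w'' hw''V with h1 | h1
      · refine ⟨w'', hmemW w'' hw''V h1, hw''1, ?_⟩
        have h2 : w'' * m0 = m0 * w'' := by
          calc w'' * m0 = (w'' * m0 * w''⁻¹) * w'' := by group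
            _ = m0 * w'' := by rw [h1 m0 hm0M]
        have : (w'' * h) * m0 = (h * w'') * m0 := by
          calc (w'' * h) * m0 = w'' * (h * m0) := by group
            _ = h * m0 * w'' := hw''c
            _ = h * (m0 * w'') := by group
            _ = h * (w'' * m0) := by rw [h2]
            _ = (h * w'') * m0 := by group
        exact mul_right_cancel this
      · exfalso
        have hw''h : w'' * h * w''⁻¹ = h * (m0 * m0) := by
          have e : w'' * (h * m0) * w''⁻¹ = h * m0 := by rw [hw''c]; group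
          have e' : w'' * (h * m0) * w''⁻¹ = (w'' * h * w''⁻¹) * (w'' * m0 * w''⁻¹) := by group
          rw [e', h1 m0 hm0M] at e
          calc w'' * h * w''⁻¹ = (w'' * h * w''⁻¹ * m0⁻¹) * m0 := by group
            _ = h * m0 * m0 := by rw [e]
            _ = h * (m0 * m0) := by group
        obtain ⟨a, ha⟩ : ∃ a, a = w'' * w' := ⟨_, rfl⟩
        have haV : a ∈ V := by rw [ha]; exact V.mul_mem hw''V hw'V
        have hah : a * h * a⁻¹ = h * (m0 * m0) := by
          rw [ha]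
          have e : w'' * w' * h * (w'' * w')⁻¹ = w'' * (w' * h * w'⁻¹) * w''⁻¹ := by group
          have e1 : w' * h * w'⁻¹ = h := by rw [hw'c]; group
          rw [e, e1, hw''h]
        have ham : a * (m0 * m0) * a⁻¹ = m0 * m0 := by
          have e0 : a * m0 * a⁻¹ = m0 := by
            rw [ha]
            have e : w'' * w' * m0 * (w'' * w')⁻¹ = w'' * (w' * m0 * w'⁻¹) * w''⁻¹ := by group
            rw [e, hw'inv m0 hm0M, h1 _ (M.inv_mem hm0M), inv_inv]
          have : a * (m0 * m0) * a⁻¹ = (a * m0 * a⁻¹) * (a * m0 * a⁻¹) := by group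
          rw [this, e0]
        have haa : a * a = 1 := ea_sq mc.ea haV
        have h4 : h = h * (m0 * m0) * (m0 * m0) := by
          calc h = (a * a) * h * (a * a)⁻¹ := by rw [haa]; group
            _ = a * (a * h * a⁻¹) * a⁻¹ := by group
            _ = a * (h * (m0 * m0)) * a⁻¹ := by rw [hah]
            _ = (a * h * a⁻¹) * (a * (m0 * m0) * a⁻¹) := by group
            _ = h * (m0 * m0) * (m0 * m0) := by rw [hah, ham]
        have h5 : (m0 * m0) * (m0 * m0) = 1 := by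
          have : h * ((m0 * m0) * (m0 * m0)) = h * 1 := by
            rw [mul_one]
            calc h * ((m0 * m0) * (m0 * m0)) = h * (m0 * m0) * (m0 * m0) := by group
              _ = h := h4.symm
          exact mul_left_cancel this
        have h6 : m0 * m0 = 1 := hinvol (m0 * m0) (M.mul_mem hm0M hm0M) h5
        exact hm01 (hinvol m0 hm0M h6)
  have := mc.minV W hcard (ea_of_le mc.ea hWV) hW1 hsidW
  rw [mc.core, inf_bot_eq] at this
  exact this rfl

end

theorem exists_min_normal {G : Type*} [Group G] [Finite G] (S : Subgroup G) (hS : S.Normal)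
    (hS1 : S ≠ ⊥) :
    ∃ M : Subgroup G, M.Normal ∧ M ≠ ⊥ ∧ M ≤ S ∧
      ∀ M' : Subgroup G, M'.Normal → M' ≤ M → M' = ⊥ ∨ M' = M := by
  obtain ⟨n, hn⟩ : ∃ n, n = Nat.card S := ⟨_, rfl⟩
  induction n using Nat.strong_induction_on generalizing S with
  | _ n ih =>
    by_cases hex : ∃ M' : Subgroup G, M'.Normal ∧ M' ≤ S ∧ M' ≠ ⊥ ∧ M' ≠ S
    · obtain ⟨M', hM'n, hM'S, hM'1, hM'ne⟩ := hex
      have hlt : Nat.card M' < Nat.card S := by
        by_contra hle
        rw [not_lt] at hle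
        exact hM'ne (Subgroup.eq_of_le_of_card_ge hM'S hle)
      obtain ⟨M, h1, h2, h3, h4⟩ := ih (Nat.card M') (hn ▸ hlt) M' hM'n hM'1 rfl
      exact ⟨M, h1, h2, h3.trans hM'S, h4⟩
    · refine ⟨S, hS, hS1, le_rfl, ?_⟩
      intro M' hn' hle
      by_contra h
      rw [not_or] at h
      exact hex ⟨M', hn', hle, h.1, h.2⟩

section
variable {G : Type u} [Group G] [Finite G] {V : Subgroup G}

theorem MC.solvable_normal_bot (mc : MC V) (S : Subgroup G) (hS : S.Normal)
    (hsol : Group.IsSolvable S) : S = ⊥ := by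
  by_contra hS1
  obtain ⟨M, hMn, hM1, hMS, hmin⟩ := exists_min_normal S hS hS1
  have hMinst := hMn
  have hcn : (⁅M, M⁆ : Subgroup G).Normal := inferInstance
  have hcle : ⁅M, M⁆ ≤ M := Subgroup.commutator_le_right M M
  rcases hmin _ hcn hcle with h | h
  · apply mc.no_abelian_min M hMn hM1 hmin
    exact (Helper10.comm_bot_iff M M).mp h
  · have hMsol : Group.IsSolvable M :=
      Group.isSolvable_of_isSolvable_injective (Subgroup.inclusion_injective hMS)
    have hnt : Nontrivial M := (Subgroup.nontrivial_iff_ne_bot M).mpr hM1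
    have hlt := Group.IsSolvable.commutator_lt_top_of_nontrivial M
    apply hlt.ne
    have hmap : (commutator M).map M.subtype = ⁅M, M⁆ := by
      rw [commutator_def, Subgroup.map_commutator, ← MonoidHom.range_eq_map,
        Subgroup.range_subtype]
    apply Subgroup.map_injective M.subtype_injective
    rw [hmap, h, ← MonoidHom.range_eq_map, Subgroup.range_subtype]


theorem MC.center_bot (mc : MC V) (N : Subgroup G) (hN : N.Normal) :
    N ⊓ Subgroup.centralizer (N : Set G) = ⊥ := by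
  have hNinst := hN
  apply mc.solvable_normal_bot _ inferInstance
  apply Group.isSolvable_of_comm
  rintro ⟨a, ha1, ha2⟩ ⟨b, hb1, hb2⟩
  apply Subtype.ext
  exact Subgroup.mem_centralizer_iff.mp hb2 a ha1

/-- A subgroup all of whose elements have `2`-power order (witnessed by the odd-order test)
is a `2`-group. -/
theorem isPGroup_of_no_odd {G : Type*} [Group G] [Finite G] (K : Subgroup G)
    (h : ∀ x ∈ K, Odd (orderOf x) → x = 1) : IsPGroup 2 K := by
  rintro ⟨y, hy⟩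
  obtain ⟨j, hj⟩ := exists_odd_pow y
  refine ⟨j, Subtype.ext ?_⟩
  exact h _ (K.pow_mem hy _) hj

theorem comp_not_two {G : Type*} [Group G] [Finite G] {K : Subgroup G} (hK : IsComponent K) :
    ¬ IsPGroup 2 K := by
  intro h
  have h2 : Fact (Nat.Prime 2) := ⟨Nat.prime_two⟩
  have hnil : Group.IsNilpotent K := h.isNilpotent
  exact Helper10.comp_not_solvable hK inferInstance

theorem MC.final (mc : MC V) :
    IsSimpleGroup ↥(Cfsg.generalizedFittingSubgroup G) ∧
      ¬ IsMulCommutative ↥(Cfsg.generalizedFittingSubgroup G) ∧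
      V ⊔ Cfsg.generalizedFittingSubgroup G = ⊤ := by
  have hF : fittingSubgroup G = ⊥ :=
    mc.solvable_normal_bot _ (Helper10.fitting_normal G) (Helper10.fitting_solvable G)
  have hFL : generalizedFittingSubgroup G = layer G := by
    unfold generalizedFittingSubgroup
    rw [hF, sup_bot_eq]
  have hLn : (layer G).Normal := Helper10.layer_normal G
  have hL1 : layer G ≠ ⊥ := by
    intro hb
    have hc := Helper10.centralizer_gfitting_le G
    rw [hFL, hb] at hc
    apply mc.ne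
    rw [eq_bot_iff]
    intro v _
    apply hc
    rw [Subgroup.mem_centralizer_iff]
    intro h hh
    have : h = 1 := (Subgroup.mem_bot).mp hh
    rw [this]; group
  obtain ⟨K, hK⟩ : ∃ K : Subgroup G, IsComponent K := by
    by_contra hno
    apply hL1
    unfold layer
    rw [eq_bot_iff]
    apply sSup_le
    intro K' hK'
    exact absurd ⟨K', hK'⟩ hno
  have hKL : K ≤ layer G := Helper10.comp_le_layer hK
  -- central elements of `K` are trivial
  have hKZ : ∀ x ∈ K, (∀ y ∈ K, x * y = y * x) → x = 1 := by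
    intro x hx hxc
    have hle : layer G ≤ Subgroup.centralizer ({x} : Set G) := by
      unfold layer
      apply sSup_le
      intro K' hK'
      intro y hy
      rw [Subgroup.mem_centralizer_iff]
      intro h hh
      rw [Set.mem_singleton_iff.mp hh]
      rcases Helper10.comp_eq_or_comm hK' hK with h1 | h1
      · rw [h1] at hy
        exact hxc y hy
      · exact ((Helper10.comm_bot_iff K' K).mp h1 y hy x hx).symm
    have hxc' : x ∈ Subgroup.centralizer (layer G : Set G) := by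
      rw [Subgroup.mem_centralizer_iff]
      intro l hl
      exact (Subgroup.mem_centralizer_iff.mp (hle hl) x rfl).symm
    have : x ∈ layer G ⊓ Subgroup.centralizer (layer G : Set G) := ⟨hKL hx, hxc'⟩
    rw [mc.center_bot _ hLn] at this
    exact (Subgroup.mem_bot).mp this
  have hLK : layer G ≤ Subgroup.normalizer (K : Set G) := by
    unfold layer
    apply sSup_le
    intro K' hK'
    rcases Helper10.comp_eq_or_comm hK' hK with h1 | h1
    · rw [h1]; exact Subgroup.le_normalizer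
    · refine le_trans ?_ (Subgroup.centralizer_le_normalizer (K : Set G))
      intro y hy
      rw [Subgroup.mem_centralizer_iff]
      intro k hk
      exact ((Helper10.comm_bot_iff K' K).mp h1 y hy k hk).symm
  have hVL : V ⊔ layer G = ⊤ := mc.sup_top _ hLn hL1 (mc.center_bot _ hLn)
  -- conjugates of `K` by non-normalizing elements commute with `K`
  have hconj : ∀ a : G, a ∉ Subgroup.normalizer (K : Set G) →
      ∀ x ∈ K, ∀ y ∈ K, (a * x * a⁻¹) * y = y * (a * x * a⁻¹) := by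
    intro a ha x hx y hy
    have hK' := Helper10.comp_conj hK a
    rcases Helper10.comp_eq_or_comm hK' hK with h1 | h1
    · exfalso
      apply ha
      rw [Subgroup.mem_normalizer_iff]
      intro h
      constructor
      · intro hh
        rw [← h1]
        exact ⟨h, hh, rfl⟩
      · intro hh
        rw [← h1] at hh
        obtain ⟨z, hz, hzh⟩ := hh
        have hzh' : a * z * a⁻¹ = a * h * a⁻¹ := hzh
        have : z = h := by
          calc z = a⁻¹ * (a * z * a⁻¹) * a := by group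
            _ = h := by rw [hzh']; group
        rw [← this]; exact hz
    · exact (Helper10.comm_bot_iff _ K).mp h1 _ ⟨x, hx, rfl⟩ y hy
  -- `2`-subgroups of `K` normalized by `K` are trivial
  have hKQ : ∀ Q' : Subgroup G, Q' ≤ K → IsPGroup 2 Q' →
      K ≤ Subgroup.normalizer (Q' : Set G) → Q' = ⊥ := by
    intro Q' hQK hQ2 hQn
    have hQnorm : (Q'.subgroupOf K).Normal := by
      constructor
      intro x hx g
      rw [Subgroup.mem_subgroupOf] at hx ⊢
      exact ((Subgroup.mem_normalizer_iff.mp (hQn g.2)) x.1).mp hx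
    rcases Helper10.qs_normal hK.2 _ hQnorm with h1 | h1
    · exfalso
      apply comp_not_two hK
      have hKQ' : K ≤ Q' := by
        intro k hk
        have : (⟨k, hk⟩ : K) ∈ Q'.subgroupOf K := by rw [h1]; trivial
        exact this
      exact hQ2.to_le hKQ'
    · rw [eq_bot_iff]
      intro q hq
      have hqc : (⟨q, hQK hq⟩ : K) ∈ Subgroup.center K := h1 (by
        rw [Subgroup.mem_subgroupOf]; exact hq)
      rw [Subgroup.mem_center_iff] at hqc
      have := hKZ q (hQK hq) (fun y hy => by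
        have := hqc ⟨y, hy⟩
        exact (congrArg Subtype.val this).symm)
      exact (Subgroup.mem_bot).mpr this
  -- elements of `V` centralizing `K` are trivial
  have hCVK : ∀ w ∈ V, (∀ x ∈ K, w * x = x * w) → w = 1 := by
    intro w hw hwK
    have hN1n : (Subgroup.normalClosure (K : Set G)).Normal := inferInstance
    have hN1 : Subgroup.normalClosure (K : Set G) ≠ ⊥ := by
      intro hb
      apply Helper10.comp_ne_bot hK
      rw [eq_bot_iff, ← hb]
      exact Subgroup.le_normalClosure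
    have hle : Subgroup.normalClosure (K : Set G) ≤ Subgroup.centralizer ({w} : Set G) := by
      unfold Subgroup.normalClosure
      rw [Subgroup.closure_le]
      intro x hx
      rw [Group.mem_conjugatesOfSet_iff] at hx
      obtain ⟨k, hk, hkx⟩ := hx
      rw [isConj_iff] at hkx
      obtain ⟨c, rfl⟩ := hkx
      have hc : c⁻¹ ∈ layer G ⊔ V := by rw [sup_comm, hVL]; trivial
      obtain ⟨l, hl, v', hv', hcl⟩ :=
        mem_sup_normalizer (K := layer G) (C := V) (by
          rw [Subgroup.normalizer_eq_top]; exact le_top) hc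
      have hc' : c = v'⁻¹ * l⁻¹ := by
        calc c = (c⁻¹)⁻¹ := by group
          _ = v'⁻¹ * l⁻¹ := by rw [hcl]; group
      have hk' : l⁻¹ * k * (l⁻¹)⁻¹ ∈ K :=
        ((Subgroup.mem_normalizer_iff.mp (hLK ((layer G).inv_mem hl))) k).mp hk
      have e : c * k * c⁻¹ = v'⁻¹ * (l⁻¹ * k * (l⁻¹)⁻¹) * v' := by
        rw [hc']; group
      show c * k * c⁻¹ ∈ Subgroup.centralizer ({w} : Set G)
      rw [e, Subgroup.mem_centralizer_iff]
      intro h hh
      rw [Set.mem_singleton_iff.mp hh]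
      have h1 := hwK _ hk'
      have h2 : w * v' = v' * w := ea_comm mc.ea hw hv'
      have h3 : w * v'⁻¹ = v'⁻¹ * w := by
        calc w * v'⁻¹ = v'⁻¹ * (v' * w) * v'⁻¹ := by group
          _ = v'⁻¹ * (w * v') * v'⁻¹ := by rw [h2]
          _ = v'⁻¹ * w := by group
      calc w * (v'⁻¹ * (l⁻¹ * k * (l⁻¹)⁻¹) * v')
          = (w * v'⁻¹) * (l⁻¹ * k * (l⁻¹)⁻¹) * v' := by group
        _ = v'⁻¹ * (w * (l⁻¹ * k * (l⁻¹)⁻¹)) * v' := by rw [h3]; group
        _ = v'⁻¹ * ((l⁻¹ * k * (l⁻¹)⁻¹) * w) * v' := by rw [h1]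
        _ = v'⁻¹ * (l⁻¹ * k * (l⁻¹)⁻¹) * (w * v') := by group
        _ = v'⁻¹ * (l⁻¹ * k * (l⁻¹)⁻¹) * (v' * w) := by rw [h2]
        _ = v'⁻¹ * (l⁻¹ * k * (l⁻¹)⁻¹) * v' * w := by group
    have hwc : w ∈ Subgroup.centralizer (Subgroup.normalClosure (K : Set G) : Set G) := by
      rw [Subgroup.mem_centralizer_iff]
      intro n hn
      exact (Subgroup.mem_centralizer_iff.mp (hle hn) w rfl).symm
    have : w ∈ V ⊓ Subgroup.centralizer (Subgroup.normalClosure (K : Set G) : Set G) :=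
      ⟨hw, hwc⟩
    rw [mc.cent_inf_bot _ hN1n hN1 (mc.center_bot _ hN1n)] at this
    exact (Subgroup.mem_bot).mp this
  -- `V` normalizes `K`
  have hVK : V ≤ Subgroup.normalizer (K : Set G) := by
    by_contra hno
    obtain ⟨v, hv, hvK⟩ := SetLike.not_le_iff_exists.mp hno
    obtain ⟨V0, hV0⟩ : ∃ V0, V0 = V ⊓ Subgroup.normalizer (K : Set G) := ⟨_, rfl⟩
    have hV0V : V0 ≤ V := by rw [hV0]; exact inf_le_left
    have hV0K : V0 ≤ Subgroup.normalizer (K : Set G) := by rw [hV0]; exact inf_le_right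
    have hnotV0 : ∀ w ∈ V, w ∉ V0 → w ∉ Subgroup.normalizer (K : Set G) := by
      intro w hw hw0 hwn
      apply hw0
      rw [hV0]; exact ⟨hw, hwn⟩
    by_cases hV0b : V0 = ⊥
    · -- no nontrivial element of `V` normalizes `K`
      have hv1 : v ≠ 1 := by
        intro h; apply hvK; rw [h]; exact Subgroup.one_mem _
      obtain ⟨x, hx, hx1, hxodd⟩ : ∃ x ∈ K, x ≠ 1 ∧ Odd (orderOf x) := by
        by_contra hno2
        apply comp_not_two hK
        apply isPGroup_of_no_odd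
        intro x hx hodd
        by_contra hx1
        exact hno2 ⟨x, hx, hx1, hodd⟩
      have hvv : v * v = 1 := ea_sq mc.ea hv
      have hvinv : v⁻¹ = v := inv_eq_of_mul_eq_one_left hvv
      have hcm : Commute x⁻¹ (v * x * v⁻¹) := by
        have := hconj v hvK x hx x⁻¹ (K.inv_mem hx)
        exact this.symm
      have hodd : Odd (orderOf (x⁻¹ * (v * x * v⁻¹))) := by
        apply odd_orderOf_mul hcm
        · rw [orderOf_inv]; exact hxodd
        · have : orderOf (v * x * v⁻¹) = orderOf x :=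
            orderOf_injective (MulAut.conj v).toMonoidHom (MulAut.conj v).injective x
          rw [this]; exact hxodd
      have hinv : v * (x⁻¹ * (v * x * v⁻¹)) * v⁻¹ = (x⁻¹ * (v * x * v⁻¹))⁻¹ := by
        have e : v * (x⁻¹ * (v * x * v⁻¹)) * v⁻¹ = (v * x⁻¹ * v⁻¹) * ((v * v) * x * (v * v)⁻¹) := by
          group
        have e' : (x⁻¹ * (v * x * v⁻¹))⁻¹ = (v * x⁻¹ * v⁻¹) * x := by group
        rw [e, e', hvv]; group
      obtain ⟨w, hw, hw1, hwc⟩ := mc.sid _ v hv hodd hinv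
      have hmemV0 : ∀ a ∈ V, a ≠ 1 → a ∉ Subgroup.normalizer (K : Set G) := by
        intro a ha ha1
        apply hnotV0 a ha
        intro ha0
        rw [hV0b] at ha0
        exact ha1 ((Subgroup.mem_bot).mp ha0)
      by_cases hwv : w = v
      · -- `v` centralizes and inverts
        rw [hwv] at hwc
        have h1 : v * (x⁻¹ * (v * x * v⁻¹)) * v⁻¹ = x⁻¹ * (v * x * v⁻¹) := by
          rw [hwc]; group
        rw [hinv] at h1
        have h2 : (x⁻¹ * (v * x * v⁻¹)) * (x⁻¹ * (v * x * v⁻¹)) = 1 := by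
          calc (x⁻¹ * (v * x * v⁻¹)) * (x⁻¹ * (v * x * v⁻¹))
              = (x⁻¹ * (v * x * v⁻¹))⁻¹ * (x⁻¹ * (v * x * v⁻¹)) := by rw [h1]
            _ = 1 := by group
        have h3 := eq_one_of_odd_sq _ hodd h2
        have h4 : v * x * v⁻¹ = x := by
          calc v * x * v⁻¹ = x * (x⁻¹ * (v * x * v⁻¹)) := by group
            _ = x := by rw [h3, mul_one]
        apply hx1
        apply hKZ x hx
        intro y hy
        have := hconj v hvK x hx y hy
        rw [h4] at this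
        exact this
      · have hwv1 : w * v ≠ 1 := by
          intro h
          apply hwv
          calc w = (w * v) * v⁻¹ := by group
            _ = v := by rw [h, hvinv, one_mul]
        have hwK := hmemV0 w hw hw1
        have hwvK := hmemV0 (w * v) (V.mul_mem hw hv) hwv1
        -- x = (v x v⁻¹) * (w v x⁻¹ (w v)⁻¹) * (w x w⁻¹)
        have hx_eq : x = (v * x * v⁻¹) * ((w * v) * x⁻¹ * (w * v)⁻¹) * (w * x * w⁻¹) := by
          have h1 : w * (x⁻¹ * (v * x * v⁻¹)) * w⁻¹ = x⁻¹ * (v * x * v⁻¹) := by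
            rw [hwc]; group
          have h2 : w * (x⁻¹ * (v * x * v⁻¹)) * w⁻¹ =
              (w * x * w⁻¹)⁻¹ * ((w * v) * x * (w * v)⁻¹) := by group
          rw [h2] at h1
          -- (w x w⁻¹)⁻¹ * (wv x (wv)⁻¹) = x⁻¹ * (v x v⁻¹)
          have h3 : x⁻¹ = (w * x * w⁻¹)⁻¹ * ((w * v) * x * (w * v)⁻¹) * (v * x * v⁻¹)⁻¹ := by
            rw [h1]; group
          calc x = (x⁻¹)⁻¹ := by group
            _ = ((w * x * w⁻¹)⁻¹ * ((w * v) * x * (w * v)⁻¹) * (v * x * v⁻¹)⁻¹)⁻¹ := by rw [← h3]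
            _ = (v * x * v⁻¹) * ((w * v) * x⁻¹ * (w * v)⁻¹) * (w * x * w⁻¹) := by group
        apply hx1
        apply hKZ x hx
        intro y hy
        have c1 := hconj v hvK x hx y hy
        have c2 := hconj (w * v) hwvK x⁻¹ (K.inv_mem hx) y hy
        have c3 := hconj w hwK x hx y hy
        rw [hx_eq]
        calc (v * x * v⁻¹) * ((w * v) * x⁻¹ * (w * v)⁻¹) * (w * x * w⁻¹) * y
            = (v * x * v⁻¹) * ((w * v) * x⁻¹ * (w * v)⁻¹) * ((w * x * w⁻¹) * y) := by group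
          _ = (v * x * v⁻¹) * (((w * v) * x⁻¹ * (w * v)⁻¹) * y) * (w * x * w⁻¹) := by
              rw [c3]; group
          _ = ((v * x * v⁻¹) * y) * ((w * v) * x⁻¹ * (w * v)⁻¹) * (w * x * w⁻¹) := by
              rw [c2]; group
          _ = y * ((v * x * v⁻¹) * ((w * v) * x⁻¹ * (w * v)⁻¹) * (w * x * w⁻¹)) := by
              rw [c1]; group
    · -- `V0 ≠ ⊥`
      have hHtop : K ⊔ V0 ≠ ⊤ := by
        intro htop
        apply hvK
        have : K ⊔ V0 ≤ Subgroup.normalizer (K : Set G) := sup_le Subgroup.le_normalizer hV0K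
        rw [htop] at this
        exact this trivial
      rcases mc.sub_pair (K ⊔ V0) V0 le_sup_right hV0V hV0b hHtop with
        ⟨x, hxH, hxodd, v0, hv0, hv0x, hxC⟩ | ⟨w, hw, hw1, Q, hQH, hQ2, hQn, hwQ⟩
      · have hxK : x ∈ K :=
          mem_of_odd_of_sup hV0K (fun c hc => ea_sq mc.ea (hV0V hc)) hxH hxodd
        obtain ⟨w, hw, hw1, hwc⟩ := mc.sid x v0 (hV0V hv0) hxodd hv0x
        have hwV0 : w ∉ V0 := fun h => hxC w h hw1 hwc
        have hwK := hnotV0 w hw hwV0
        have hx1 : x = 1 := by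
          apply hKZ x hxK
          intro y hy
          have := hconj w hwK x hxK y hy
          have e : w * x * w⁻¹ = x := by rw [hwc]; group
          rw [e] at this
          exact this
        obtain ⟨w0, hw0, hw01⟩ : ∃ w0 ∈ V0, w0 ≠ 1 := by
          by_contra hno2
          apply hV0b
          rw [Subgroup.eq_bot_iff_forall]
          intro y hy
          by_contra hy1
          exact hno2 ⟨y, hy, hy1⟩
        apply hxC w0 hw0 hw01
        rw [hx1]; group
      · have hQK : Q ⊓ K = ⊥ := by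
          apply hKQ (Q ⊓ K) inf_le_right (hQ2.to_le inf_le_left)
          intro k hk
          have hkQ := Subgroup.mem_normalizer_iff.mp (hQn ((le_sup_left : K ≤ K ⊔ V0) hk))
          rw [Subgroup.mem_normalizer_iff]
          intro y
          constructor
          · rintro ⟨h1, h2⟩
            exact ⟨(hkQ y).mp h1, K.mul_mem (K.mul_mem hk h2) (K.inv_mem hk)⟩
          · rintro ⟨h1, h2⟩
            refine ⟨(hkQ y).mpr h1, ?_⟩
            have := K.mul_mem (K.mul_mem (K.inv_mem hk) h2) hk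
            simpa [mul_assoc] using this
        apply hw1
        apply hCVK w (hV0V hw)
        intro x hx
        have hcm : w * x * w⁻¹ * x⁻¹ ∈ Q ⊓ K := by
          refine ⟨?_, ?_⟩
          · have h1 : x * w⁻¹ * x⁻¹ ∈ Q :=
              ((Subgroup.mem_normalizer_iff.mp (hQn ((le_sup_left : K ≤ K ⊔ V0) hx))) w⁻¹).mp
                (Q.inv_mem hwQ)
            have e : w * x * w⁻¹ * x⁻¹ = w * (x * w⁻¹ * x⁻¹) := by group
            rw [e]; exact Q.mul_mem hwQ h1
          · have hwn := Subgroup.mem_normalizer_iff.mp (hV0K hw)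
            exact K.mul_mem ((hwn x).mp hx) (K.inv_mem hx)
        rw [hQK] at hcm
        have h1 := (Subgroup.mem_bot).mp hcm
        calc w * x = (w * x * w⁻¹ * x⁻¹) * (x * w) := by group
          _ = x * w := by rw [h1, one_mul]
  -- `K` is normal
  have hKn : K.Normal := by
    rw [← Subgroup.normalizer_eq_top_iff, eq_top_iff, ← hVL]
    exact sup_le hVK hLK
  have hKc : K ⊓ Subgroup.centralizer (K : Set G) = ⊥ := mc.center_bot K hKn
  have hVKtop : V ⊔ K = ⊤ := mc.sup_top K hKn (Helper10.comp_ne_bot hK) hKc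
  -- every component equals `K`
  have hall : ∀ K' : Subgroup G, IsComponent K' → K' = K := by
    intro K' hK'
    rcases Helper10.comp_eq_or_comm hK' hK with h1 | h1
    · exact h1
    · exfalso
      have hcomm := (Helper10.comm_bot_iff K' K).mp h1
      have hsq : ∀ a ∈ K', a * a = 1 := by
        intro a ha
        have haT : a ∈ K ⊔ V := by rw [sup_comm, hVKtop]; trivial
        obtain ⟨k, hk, v, hv, hakv⟩ := mem_sup_normalizer (K := K) (C := V) (by
          rw [Subgroup.normalizer_eq_top]; exact le_top) haT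
        have haK : a * a ∈ K := by
          rw [hakv]
          have e : k * v * (k * v) = k * (v * k * v⁻¹) * (v * v) := by group
          rw [e, ea_sq mc.ea hv, mul_one]
          exact K.mul_mem hk (hKn.conj_mem k hk v)
        exact hKZ (a * a) haK (fun y hy => hcomm (a * a) (K'.mul_mem ha ha) y hy)
      apply Helper10.qs_not_comm hK'.2
      rintro ⟨a, ha⟩ ⟨b, hb⟩
      apply Subtype.ext
      show a * b = b * a
      have h1 := hsq a ha
      have h2 := hsq b hb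
      have h3 := hsq (a * b) (K'.mul_mem ha hb)
      have hainv : a⁻¹ = a := inv_eq_of_mul_eq_one_left h1
      have hbinv : b⁻¹ = b := inv_eq_of_mul_eq_one_left h2
      have habinv : (a * b)⁻¹ = a * b := inv_eq_of_mul_eq_one_left h3
      calc a * b = (a * b)⁻¹ := habinv.symm
        _ = b⁻¹ * a⁻¹ := mul_inv_rev a b
        _ = b * a := by rw [hainv, hbinv]
  have hLeq : layer G = K := by
    apply le_antisymm
    · unfold layer
      apply sSup_le
      intro K' hK'
      rw [hall K' hK']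
    · exact hKL
  rw [hFL, hLeq]
  refine ⟨?_, ?_, hVKtop⟩
  · have hc : Subgroup.center K = ⊥ := by
      rw [eq_bot_iff]
      intro x hx
      rw [Subgroup.mem_center_iff] at hx
      have := hKZ x.1 x.2 (fun y hy => by
        have := hx ⟨y, hy⟩
        exact (congrArg Subtype.val this).symm)
      exact (Subgroup.mem_bot).mpr (Subtype.ext this)
    have hsimp : IsSimpleGroup (K ⧸ Subgroup.center K) := hK.2.2
    exact ((QuotientGroup.quotientBot).symm.trans
      (QuotientGroup.quotientMulEquivOfEq hc.symm)).isSimpleGroup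
  · intro hcomm
    apply Helper10.qs_not_comm hK.2
    intro a b
    exact hcomm.is_comm.comm a b

end

theorem result {G : Type u} [Group G] [Finite G] (V : Subgroup G) (hV : Cfsg.IsElementaryAbelian 2 V) (hV1 : V ≠ ⊥) (hS : Cfsg.IsSidkiPair V) (hVO : V ⊓ Cfsg.pCore 2 G = ⊥) (hminG : ∀ (H : Type u) [Group H] [Finite H] (W : Subgroup H), Nat.card H < Nat.card G → Cfsg.IsElementaryAbelian 2 W → W ≠ ⊥ → Cfsg.IsSidkiPair W → W ⊓ Cfsg.pCore 2 H ≠ ⊥) (hminV : ∀ W : Subgroup G, Nat.card W < Nat.card V → Cfsg.IsElementaryAbelian 2 W → W ≠ ⊥ → Cfsg.IsSidkiPair W → W ⊓ Cfsg.pCore 2 G ≠ ⊥) : IsSimpleGroup ↥(Cfsg.generalizedFittingSubgroup G) ∧ ¬ IsMulCommutative ↥(Cfsg.generalizedFittingSubgroup G) ∧ V ⊔ Cfsg.generalizedFittingSubgroup G = ⊤ := by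
  have hcore : Cfsg.pCore 2 G = ⊥ := by
    by_contra hne
    obtain ⟨Q, hQ⟩ : ∃ Q, Q = Cfsg.pCore 2 G := ⟨_, rfl⟩
    have hQn : Q.Normal := by rw [hQ]; exact S0010.pCore_normal 2
    rw [← hQ] at hne hVO
    have hsidq : IsSidkiPair (V.map (QuotientGroup.mk' Q)) :=
      sidki_quotient V Q (fun v hv => ea_sq hV hv) hS hVO
    have hltq : Nat.card (G ⧸ Q) < Nat.card G := by
      have h1 := Subgroup.card_eq_card_quotient_mul_card_subgroup Q
      have h2 : 1 < Nat.card Q := by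
        rw [Subgroup.one_lt_card_iff_ne_bot]; exact hne
      have h3 : 0 < Nat.card (G ⧸ Q) := Nat.card_pos
      rw [h1]; nlinarith
    have hneq : V.map (QuotientGroup.mk' Q) ≠ ⊥ := by
      intro hb
      apply hV1
      rw [Subgroup.eq_bot_iff_forall]
      intro x hx
      have : QuotientGroup.mk' Q x ∈ V.map (QuotientGroup.mk' Q) := Subgroup.mem_map_of_mem _ hx
      rw [hb] at this
      have hxQ : x ∈ Q := (QuotientGroup.eq_one_iff x).mp ((Subgroup.mem_bot).mp this)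
      have hxVQ : x ∈ V ⊓ Q := ⟨hx, hxQ⟩
      rw [hVO] at hxVQ
      exact (Subgroup.mem_bot).mp hxVQ
    have := hminG (G ⧸ Q) (V.map (QuotientGroup.mk' Q)) hltq (ea_map _ hV) hneq hsidq
    rw [pCore_quot_bot Q hQ, inf_bot_eq] at this
    exact this rfl
  exact MC.final ⟨hV, hV1, hS, hcore, hminG, hminV⟩

end Cfsg.Agent.S3048
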