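import Cfsg.Statements.S3073
import Cfsg.Agent.S1988

set_option autoImplicit false
universe u
open Cfsg

open Cfsg.Agent.Helper13 Cfsg.Agent.Helper17
open scoped commutatorElement
namespace Cfsg.Agent.S3073

/-- For an odd prime p, every finite p-group S has a characteristic subgroup K with C_S(K) ≤ K such that, whenever S is (isomorphic to) a Sylow p-subgroup of a finite group G, G has a normal p-complement if and only if N_G(K)/C_G(K) is a p-group, i.e. every element of N_G(K) of order prime to p centralizes K (K transported into G along the isomorphism). -/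
theorem result (p : ℕ) [Fact p.Prime] (hp : p ≠ 2)
    (S : Type u) [Group S] [Finite S] (hS : IsPGroup p S) :
    ∃ K : Subgroup S, K.Characteristic ∧ Subgroup.centralizer (K : Set S) ≤ K ∧
      ∀ (G : Type u) [Group G] [Finite G] (P : Sylow p G) (e : ↥(P : Subgroup G) ≃* S),
        Cfsg.HasNormalPComplement p G ↔
          ∀ g ∈ Subgroup.normalizer (((K.comap (e : ↥(P : Subgroup G) →* S)).map (P : Subgroup G).subtype : Subgroup G) : Set G),
            (orderOf g).Coprime p →
              g ∈ Subgroup.centralizer (((K.comap (e : ↥(P : Subgroup G) →* S)).map (P : Subgroup G).subtype : Subgroup G) : Set G) := by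
  refine ⟨kInfLower S, Subgroup.characteristic_iff_map_eq.mpr (fun φ => kInfLower_emap φ),
    (Cfsg.Agent.S1978.result hS).1, fun G _ _ P e => ?_⟩
  have hK : ((kInfLower S).comap (e : ↥(P : Subgroup G) →* S)).map (P : Subgroup G).subtype =
      inducedFunctor kInfLower (P : Subgroup G) := by
    have h1 : (kInfLower ↥(P : Subgroup G)).map e.toMonoidHom = kInfLower S := kInfLower_emap e
    have h2 : (kInfLower S).comap (e : ↥(P : Subgroup G) →* S) = kInfLower ↥(P : Subgroup G) := by
      rw [← h1]
      exact Subgroup.comap_map_eq_self_of_injective e.injective _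
    rw [h2]
    rfl
  rw [hK]
  constructor
  · intro hnpc g hgN hgc
    obtain ⟨D, hDn, hDc, k, hDi⟩ := npc_data hnpc
    have hgD : g ∈ D := by
      have h1 : g ^ p ^ k ∈ D := by
        rw [← hDi]
        haveI := hDn
        exact Subgroup.pow_index_mem D g
      have hcop : (p ^ k).Coprime (orderOf g) := (Nat.Coprime.pow_right k hgc).symm
      obtain ⟨c, hc⟩ := exists_pow_eq_self_of_coprime hcop
      rw [← hc]; exact pow_mem h1 c
    have hWp : IsPGroup p ↥(inducedFunctor kInfLower (P : Subgroup G)) :=
      P.2.to_le (inducedFunctor_le kInfLower _)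
    have hinf := pgroup_inf_coprime_eq_bot _ D hWp hDc
    rw [Subgroup.mem_centralizer_iff]
    intro w hw
    have h1 : g * w * g⁻¹ * w⁻¹ ∈ inducedFunctor kInfLower (P : Subgroup G) ⊓ D := by
      refine Subgroup.mem_inf.mpr ⟨?_, ?_⟩
      · exact Subgroup.mul_mem _ ((Subgroup.mem_normalizer_iff.mp hgN w).mp hw)
          (Subgroup.inv_mem _ hw)
      · have h2 := hDn.conj_mem g⁻¹ (D.inv_mem hgD) w
        have h3 := D.mul_mem hgD h2
        have h4 : g * (w * g⁻¹ * w⁻¹) = g * w * g⁻¹ * w⁻¹ := by group
        rwa [h4] at h3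
    rw [hinf, Subgroup.mem_bot] at h1
    calc w * g = (g * w * g⁻¹ * w⁻¹)⁻¹ * (g * w) := by group
      _ = g * w := by rw [h1, inv_one, one_mul]
  · intro h
    exact Cfsg.Agent.S1988.result hp P (Or.inr h)

end Cfsg.Agent.S3073
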