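import Cfsg.Statements.S3157
import Mathlib
import Cfsg.Agent.Helper19.Fpf3c
-- import your own Cfsg.Agent.* helpers here

set_option autoImplicit false
open Cfsg

namespace Cfsg.Agent.S3157

/-- Let T be a non-abelian group of order 64 admitting automorphisms ρ of order 3 and x of order 2 with x ρ x⁻¹ = ρ⁻¹ (so they generate a symmetric group of degree 3), where ρ fixes only the identity. Then T is isomorphic to a Sylow 2-subgroup of the projective special linear group of dimension 3 over the field with 4 elements, and the subgroup of fixed points of x is dihedral of order 8 or quaternion of order 8. -/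
theorem result {T : Type*} [Group T] [Finite T] (hT : Nat.card T = 64) (hna : ¬ IsMulCommutative T) (ρ x : MulAut T) (hρ : orderOf ρ = 3) (hx : orderOf x = 2)
    (hxr : x * ρ * x⁻¹ = ρ⁻¹) (hfp : ∀ y : T, ρ y = y → y = 1) (C : Subgroup T) (hC : ∀ y : T, y ∈ C ↔ x y = y) :
    (∃ (F : Type) (_ : Field F) (_ : Fintype F), Fintype.card F = 4 ∧
        ∃ S : Sylow 2 (Matrix.ProjectiveSpecialLinearGroup (Fin 3) F), Nonempty (T ≃* ↥(S : Subgroup (Matrix.ProjectiveSpecialLinearGroup (Fin 3) F)))) ∧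
      (Nonempty (↥C ≃* DihedralGroup 4) ∨ Nonempty (↥C ≃* QuaternionGroup 2)) := by
  have hρ3 : ρ ^ 3 = 1 := by rw [← hρ]; exact pow_orderOf_eq_one ρ
  have hx2' : x ^ 2 = 1 := by rw [← hx]; exact pow_orderOf_eq_one x
  have h3 : ∀ t, ρ (ρ (ρ t)) = t := fun t => by
    have h := DFunLike.congr_fun hρ3 t
    simpa [pow_succ] using h
  have hx2 : ∀ t, x (x t) = t := fun t => by
    have h := DFunLike.congr_fun hx2' t
    simpa [pow_succ] using h
  have hxr' : ∀ t, x (ρ t) = ρ (ρ (x t)) := fun t => by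
    have e : x * ρ = ρ⁻¹ * x := mul_inv_eq_iff_eq_mul.mp hxr
    have e2 : x (ρ t) = ρ⁻¹ (x t) := DFunLike.congr_fun e t
    rw [e2]
    exact ρ.injective ((MulAut.apply_inv_self T ρ _).trans (h3 _).symm)
  obtain ⟨hZ4, hsq, hz2⟩ := Cfsg.Agent.Helper19.Fpf3.struct64 ρ h3 hfp hT hna
  obtain ⟨a, ha, haa⟩ := Cfsg.Agent.Helper19.Fpf3.exists_inv ρ h3 hfp hsq hz2 x hx2 hxr' hna hZ4
  obtain ⟨b, hbb, hc1⟩ := Cfsg.Agent.Helper19.Fpf3.exists_b ρ h3 hfp hsq hz2 hZ4 a ha haa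
  obtain ⟨eT⟩ := Cfsg.Agent.Helper19.Fpf3.exists_iso ρ h3 hfp hsq hz2 hT a b haa hbb hc1
  obtain ⟨hC8, hCnc⟩ := Cfsg.Agent.Helper19.Fpf3.C_facts ρ h3 hfp hsq hz2 x hx2 hxr' hna hT C hC
  refine ⟨?_, Cfsg.Agent.Helper19.Fpf3.d8_or_q8 hC8 hCnc⟩
  obtain ⟨F, iF, iFt, hF, S, ⟨eS⟩⟩ := Cfsg.Agent.Helper19.Fpf3.model
  exact ⟨F, iF, iFt, hF, S, ⟨eT.symm.trans eS⟩⟩

end Cfsg.Agent.S3157
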