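import Cfsg.Statements.S3180
import Mathlib
-- import your own Cfsg.Agent.* helpers here

set_option autoImplicit false
open Cfsg

namespace Cfsg.Agent.S3180

theorem mem_normalizer_of_map_conj_eq {J : Type*} [Group J] (P₁ : Subgroup J) (c : J)
    (h : P₁.map (MulAut.conj c).toMonoidHom = P₁) : c ∈ Subgroup.normalizer (P₁ : Set J) := by
  rw [Subgroup.mem_normalizer_iff]
  intro a
  constructor
  · intro ha
    have : c * a * c⁻¹ ∈ P₁.map (MulAut.conj c).toMonoidHom := ⟨a, ha, by simp [MulAut.conj_apply]⟩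
    rwa [h] at this
  · intro ha
    have ha' : c * a * c⁻¹ ∈ P₁.map (MulAut.conj c).toMonoidHom := by rw [h]; exact ha
    obtain ⟨b, hb, hbe⟩ := ha'
    have hbe' : c * b * c⁻¹ = c * a * c⁻¹ := by simpa [MulAut.conj_apply] using hbe
    have : b = a := by simpa using hbe'
    rw [← this]; exact hb


/-- Let P be a Sylow p-subgroup of a finite group J and P₁ a subgroup of P that is weakly closed in P with respect to J. If J acts on a set and two points, each fixed by every element of P₁, lie in one J-orbit, then they lie in one orbit of the normalizer of P₁ in J. -/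
theorem result {J : Type*} [Group J] [Finite J]
    {p : ℕ} [Fact p.Prime] (P : Sylow p J) (P₁ : Subgroup J) (hW : Cfsg.IsWeaklyClosed P₁ (P : Subgroup J))
    {Ω : Type*} [MulAction J Ω] (x y : Ω) (hx : ∀ g ∈ P₁, g • x = x) (hy : ∀ g ∈ P₁, g • y = y)
    (hc : ∃ g : J, g • x = y) :
    ∃ g ∈ Subgroup.normalizer (P₁ : Set J), g • x = y := by
  obtain ⟨g, hg⟩ := hc
  obtain ⟨hP₁P, hwc⟩ := hW
  have hP₁p : IsPGroup p P₁ := P.isPGroup'.to_le hP₁P
  set K := MulAction.stabilizer J y with hK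
  have hAK : P₁ ≤ K := fun a ha => hy a ha
  set B := P₁.map (MulAut.conj g).toMonoidHom with hB
  have hBK : B ≤ K := by
    rintro _ ⟨a, ha, rfl⟩
    show (g * a * g⁻¹) • y = y
    rw [← hg, mul_smul, mul_smul, inv_smul_smul, hx a ha]
  have hBp : IsPGroup p B := hP₁p.map _
  obtain ⟨R, hR⟩ := (hP₁p.comap_subtype (K := K)).exists_le_sylow
  obtain ⟨R', hR'⟩ := (hBp.comap_subtype (K := K)).exists_le_sylow
  obtain ⟨k, hk⟩ := MulAction.exists_smul_eq K R R'
  obtain ⟨Q, hQ⟩ := (R.isPGroup'.map K.subtype).exists_le_sylow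
  obtain ⟨h, hh⟩ := MulAction.exists_smul_eq J P Q
  have hmemQ : ∀ q, q ∈ (Q : Subgroup J) → h⁻¹ * q * h ∈ (P : Subgroup J) := by
    intro q hq
    rw [← hh, Sylow.coe_subgroup_smul, Subgroup.mem_pointwise_smul_iff_inv_smul_mem] at hq
    simpa [MulAut.conj_apply] using hq
  have h1 : ∀ a ∈ P₁, a ∈ (Q : Subgroup J) := by
    intro a ha
    apply hQ
    exact ⟨⟨a, hAK ha⟩, hR (by simpa [Subgroup.mem_subgroupOf] using ha), rfl⟩
  have h2 : ∀ a ∈ P₁, (k : J)⁻¹ * (g * a * g⁻¹) * k ∈ (Q : Subgroup J) := by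
    intro a ha
    have hb : g * a * g⁻¹ ∈ B := ⟨a, ha, by simp [MulAut.conj_apply]⟩
    have hb' : (⟨g * a * g⁻¹, hBK hb⟩ : K) ∈ (R' : Subgroup K) :=
      hR' (by simpa [Subgroup.mem_subgroupOf] using hb)
    rw [← hk, Sylow.coe_subgroup_smul, Subgroup.mem_pointwise_smul_iff_inv_smul_mem] at hb'
    apply hQ
    refine ⟨_, hb', ?_⟩
    simp [MulAut.conj_apply]
  have hn1 : h⁻¹ ∈ Subgroup.normalizer (P₁ : Set J) := by
    apply mem_normalizer_of_map_conj_eq
    apply hwc
    rintro _ ⟨a, ha, rfl⟩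
    have := hmemQ a (h1 a ha)
    simpa [MulAut.conj_apply] using this
  have hn2 : h⁻¹ * (k : J)⁻¹ * g ∈ Subgroup.normalizer (P₁ : Set J) := by
    apply mem_normalizer_of_map_conj_eq
    apply hwc
    rintro _ ⟨a, ha, rfl⟩
    have := hmemQ _ (h2 a ha)
    simpa [MulAut.conj_apply, mul_assoc] using this
  refine ⟨(k : J)⁻¹ * g, ?_, ?_⟩
  · have := mul_mem (inv_mem hn1) hn2
    simpa [mul_assoc] using this
  · rw [mul_smul, hg]
    have hk' : (k : J) • y = y := k.2
    rw [inv_smul_eq_iff, hk']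

end Cfsg.Agent.S3180
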