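import Cfsg.Statements.S3209
import Mathlib
import Cfsg.Agent.Helper15.CP

set_option autoImplicit false
open Cfsg

namespace Cfsg.Agent.S3209


/-- Let L₁ ≅ SL₂(q₁) and L₂ ≅ SL₂(q₂), q₁ and q₂ odd, be elementwise-commuting subgroups of a finite group meeting in ⟨j⟩ for an involution j. Then L₁L₂ has exactly two conjugacy classes of involutions: the central involution j, and one further class (there is an involution x ≠ j in L₁L₂, and every involution of L₁L₂ other than j is conjugate to x by an element of L₁L₂). -/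
theorem result {G : Type*} [Group G] [Finite G]
    {F₁ : Type*} [Field F₁] [Fintype F₁] {F₂ : Type*} [Field F₂] [Fintype F₂]
    (hF₁ : Odd (Fintype.card F₁)) (hF₂ : Odd (Fintype.card F₂)) (L₁ L₂ : Subgroup G)
    (e₁ : ↥L₁ ≃* Matrix.SpecialLinearGroup (Fin 2) F₁) (e₂ : ↥L₂ ≃* Matrix.SpecialLinearGroup (Fin 2) F₂)
    (hc : ∀ x ∈ L₁, ∀ y ∈ L₂, x * y = y * x) (j : G) (hj : orderOf j = 2) (hm : L₁ ⊓ L₂ = Subgroup.zpowers j) :
    ∃ x ∈ L₁ ⊔ L₂, orderOf x = 2 ∧ x ≠ j ∧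
      ∀ y ∈ L₁ ⊔ L₂, orderOf y = 2 → y = j ∨ ∃ g ∈ L₁ ⊔ L₂, g * x * g⁻¹ = y := by
  obtain ⟨hjj, hj1⟩ := Cfsg.Agent.Helper15.CP.j_facts j hj
  obtain ⟨hjL₁, hjL₂⟩ := Cfsg.Agent.Helper15.CP.j_mem L₁ L₂ j hm
  have h1 := Cfsg.Agent.Helper15.CP.qs_of_iso hF₁ L₁ e₁ j hjL₁ hj1 hjj
  have h2 := Cfsg.Agent.Helper15.CP.qs_of_iso hF₂ L₂ e₂ j hjL₂ hj1 hjj
  exact Cfsg.Agent.Helper15.CP.two_classes L₁ L₂ j h1 h2 hc hj hm

end Cfsg.Agent.S3209
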