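import Cfsg.Statements.S3210
import Mathlib
import Cfsg.Agent.Helper15.CP

set_option autoImplicit false
open Cfsg

namespace Cfsg.Agent.S3210


/-- Let G be a finite group with subgroups L₁ ≅ SL₂(q₁) and L₂ ≅ SL₂(q₂), q₁ and q₂ odd prime powers, which commute elementwise and meet in ⟨j⟩ for an involution j, and suppose L₁L₂ has index 2 in C_G(j). Then every element n of C_G(j) outside L₁L₂ either normalizes both L₁ and L₂, or conjugates L₁ onto L₂; in the second case q₁ = q₂ and there is an element n′ of C_G(j) outside L₁L₂ conjugating L₁ onto L₂ with n′² ∈ ⟨j⟩. -/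
theorem result {G : Type*} [Group G] [Finite G]
    {F₁ : Type*} [Field F₁] [Fintype F₁] {F₂ : Type*} [Field F₂] [Fintype F₂]
    (hF₁ : Odd (Fintype.card F₁)) (hF₂ : Odd (Fintype.card F₂)) (L₁ L₂ : Subgroup G)
    (e₁ : ↥L₁ ≃* Matrix.SpecialLinearGroup (Fin 2) F₁) (e₂ : ↥L₂ ≃* Matrix.SpecialLinearGroup (Fin 2) F₂)
    (hc : ∀ x ∈ L₁, ∀ y ∈ L₂, x * y = y * x) (j : G) (hj : orderOf j = 2) (hm : L₁ ⊓ L₂ = Subgroup.zpowers j)
    (hle : L₁ ⊔ L₂ ≤ Subgroup.centralizer ({j} : Set G)) (hi : (L₁ ⊔ L₂).relIndex (Subgroup.centralizer ({j} : Set G)) = 2) (n : G) (hn : n ∈ Subgroup.centralizer ({j} : Set G)) (hn' : n ∉ L₁ ⊔ L₂) :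
    (L₁.map (MulAut.conj n).toMonoidHom = L₁ ∧ L₂.map (MulAut.conj n).toMonoidHom = L₂) ∨
      (L₁.map (MulAut.conj n).toMonoidHom = L₂ ∧ Fintype.card F₁ = Fintype.card F₂ ∧
        ∃ n' ∈ Subgroup.centralizer ({j} : Set G), n' ∉ L₁ ⊔ L₂ ∧ L₁.map (MulAut.conj n').toMonoidHom = L₂ ∧ n' ^ 2 ∈ Subgroup.zpowers j) := by
  obtain ⟨hjj, hj1⟩ := Cfsg.Agent.Helper15.CP.j_facts j hj
  obtain ⟨hjL₁, hjL₂⟩ := Cfsg.Agent.Helper15.CP.j_mem L₁ L₂ j hm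
  have h1 := Cfsg.Agent.Helper15.CP.qs_of_iso hF₁ L₁ e₁ j hjL₁ hj1 hjj
  have h2 := Cfsg.Agent.Helper15.CP.qs_of_iso hF₂ L₂ e₂ j hjL₂ hj1 hjj
  rcases Cfsg.Agent.Helper15.CP.swap_or_fix L₁ L₂ j h1 h2 hc hj hm hle hi n hn hn' with
    h | ⟨h, hcard, n', hn1, hn2, hn3, hn4⟩
  · left; exact h
  · right
    refine ⟨h, ?_, n', hn1, hn2, hn3, hn4⟩
    rw [Nat.card_congr e₁.toEquiv, Nat.card_congr e₂.toEquiv,
      Cfsg.Agent.S2430.card_SL2, Cfsg.Agent.S2430.card_SL2] at hcard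
    exact Cfsg.Agent.Helper15.CP.card_inj _ _ Fintype.one_lt_card Fintype.one_lt_card hcard

end Cfsg.Agent.S3210
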