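import Cfsg.Statements.S3224
import Mathlib
import Cfsg.Agent.Helper4.Suzuki2

set_option autoImplicit false
open Cfsg

namespace Cfsg.Agent.S3224

open Cfsg.Agent.Helper4.Suzuki2

/-- A finite 2-group containing an involution whose centralizer has order 4 is dihedral, quasi-dihedral (semidihedral), or of order 4. -/
theorem result {S : Type*} [Group S] [Finite S] (hS : IsPGroup 2 S)
    (x : S) (hx : orderOf x = 2) (hC : Nat.card ↥(Subgroup.centralizer ({x} : Set S)) = 4) :
    (∃ n : ℕ, Nonempty (S ≃* DihedralGroup n)) ∨ Cfsg.IsQuasiDihedral S ∨ Nat.card S = 4 := by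
  have hfact : Fact (Nat.Prime 2) := ⟨Nat.prime_two⟩
  have h1 := card_le_centralizer_mul_commutator x
  rw [hC] at h1
  obtain ⟨m, hm⟩ := IsPGroup.iff_card.mp hS
  have hci := (commutator S).card_mul_index
  obtain ⟨j, hj, hj2⟩ := (Nat.dvd_prime_pow Nat.prime_two).mp
    (show (commutator S).index ∣ 2 ^ m by rw [← hm, ← hci]; exact Dvd.intro_left _ rfl)
  have hpos : 0 < Nat.card (commutator S) := Nat.card_pos
  have hj4 : 2 ^ j ≤ 4 := by
    rw [← hci, hj2] at h1
    have h2 : Nat.card (commutator S) * 2 ^ j ≤ Nat.card (commutator S) * 4 := by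
      rw [mul_comm _ 4]; exact h1
    exact Nat.le_of_mul_le_mul_left h2 hpos
  have hj2' : j ≤ 2 := by
    by_contra hgt
    have : 2 ^ 3 ≤ 2 ^ j := Nat.pow_le_pow_right (by norm_num) (by omega)
    omega
  have hcentral : (∀ w : S, w * x = x * w) → Nat.card S = 4 := by
    intro hcen
    have htop : Subgroup.centralizer ({x} : Set S) = ⊤ := by
      rw [eq_top_iff]
      intro w _
      exact Subgroup.mem_centralizer_singleton_iff.mpr (hcen w)
    rw [htop, Subgroup.card_top] at hC
    exact hC
  by_cases hj3 : j = 2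
  · have hidx : (commutator S).index = 4 := by rw [hj2, hj3]; norm_num
    rcases dsq_of_index hS hidx with h | ⟨k, ⟨e⟩⟩ | ⟨k, hcard, a, b, ha, hb, hconj⟩ | ⟨k, ⟨e⟩⟩
    · exact Or.inr (Or.inr h)
    · exact Or.inl ⟨_, ⟨e⟩⟩
    · refine Or.inr (Or.inl ⟨k + 3, by omega, hcard, a, b, ha, hb, ?_⟩)
      rw [hconj]
      congr 1
    · exfalso
      have hord : orderOf (e x) = 2 := by rw [MulEquiv.orderOf_eq e x, hx]
      have h4 := hcentral (fun w => by
        apply e.injective
        rw [map_mul, map_mul]
        exact quaternion_involution_central (e x) hord (e w))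
      have h5 : Nat.card S = 4 * 2 ^ (k + 1) := by
        rw [Nat.card_congr e.toEquiv, Nat.card_eq_fintype_card, QuaternionGroup.card]
      have h6 : 2 ^ 1 ≤ 2 ^ (k + 1) := Nat.pow_le_pow_right (by norm_num) (by omega)
      omega
  · right; right
    apply hcentral
    have hcard : Nat.card (S ⧸ commutator S) = 2 ^ j := by
      rw [← hj2, Subgroup.index_eq_card]
    have hcyc : IsCyclic (S ⧸ commutator S) := by
      have hj01 : j = 0 ∨ j = 1 := by omega
      rcases hj01 with rfl | rfl
      · have hsub : Subsingleton (S ⧸ commutator S) :=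
          Finite.card_le_one_iff_subsingleton.mp (by rw [hcard]; norm_num)
        infer_instance
      · exact isCyclic_of_prime_card (p := 2) (by rw [hcard]; norm_num)
    have hbot := commutator_eq_bot_of_cyclic 2 m S hm hcyc
    rw [commutator_eq_bot_iff_center_eq_top] at hbot
    intro w
    have hxc : x ∈ Subgroup.center S := by rw [hbot]; exact Subgroup.mem_top x
    exact Subgroup.mem_center_iff.mp hxc w

end Cfsg.Agent.S3224
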