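import Cfsg.Statements.S3266
import Mathlib
import Cfsg.Agent.Helper15.IG

set_option autoImplicit false
open Cfsg

namespace Cfsg.Agent.S3266

open Cfsg.Agent.Helper15.IG

/-- Let F be a finite field with at least 4 elements and let X be a conjugacy class of involutions of PSL(2, F). The graph on X joining two distinct involutions whose product has odd order is connected and has diameter exactly 2. -/
theorem result {F : Type*} [Field F] [Fintype F] (hF : 4 ≤ Fintype.card F)
    (t : Matrix.ProjectiveSpecialLinearGroup (Fin 2) F) (ht : orderOf t = 2) :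
    (SimpleGraph.fromRel fun x y : {x : Matrix.ProjectiveSpecialLinearGroup (Fin 2) F // IsConj t x} =>
        Odd (orderOf (x.1 * y.1))).Connected ∧
      (SimpleGraph.fromRel fun x y : {x : Matrix.ProjectiveSpecialLinearGroup (Fin 2) F // IsConj t x} =>
        Odd (orderOf (x.1 * y.1))).diam = 2 := by
  have htt : t * t = 1 := by
    have := pow_orderOf_eq_one t
    rw [ht, sq] at this
    exact this
  have ord2 : ∀ x : Matrix.ProjectiveSpecialLinearGroup (Fin 2) F, IsConj t x → orderOf x = 2 := by
    intro x hx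
    obtain ⟨c, hc⟩ := isConj_iff.mp hx
    rw [← hc]
    exact ((MulAut.conj c).orderOf_eq t).trans ht
  have sq1 : ∀ x : Matrix.ProjectiveSpecialLinearGroup (Fin 2) F, orderOf x = 2 → x * x = 1 := by
    intro x hx
    have := pow_orderOf_eq_one x
    rw [hx, sq] at this
    exact this
  have all : ∀ y : Matrix.ProjectiveSpecialLinearGroup (Fin 2) F, orderOf y = 2 → IsConj t y := by
    intro y hy
    rcases common hF t y ht hy with h | ⟨z, hz, h1, h2⟩
    · exact conj_of_odd t y htt (sq1 y hy) h
    · exact (conj_of_odd t z htt hz h1).trans (conj_of_odd z y hz (sq1 y hy) h2)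
  obtain ⟨A, B, hA, hB, hAB, nA, nB, nAB⟩ := exists_pair (F := F) hF
  have ox : orderOf (QuotientGroup.mk A : Matrix.ProjectiveSpecialLinearGroup (Fin 2) F) = 2 :=
    orderOf_eq_prime (by rw [sq]; exact sq_of_tr0 A hA) nA
  have oy : orderOf (QuotientGroup.mk B : Matrix.ProjectiveSpecialLinearGroup (Fin 2) F) = 2 :=
    orderOf_eq_prime (by rw [sq]; exact sq_of_tr0 B hB) nB
  have oxy : orderOf ((QuotientGroup.mk A : Matrix.ProjectiveSpecialLinearGroup (Fin 2) F) *
      QuotientGroup.mk B) = 2 :=
    orderOf_eq_prime (by rw [sq]; exact sq_of_tr0 (A * B) hAB) nAB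
  have oyx : orderOf ((QuotientGroup.mk B : Matrix.ProjectiveSpecialLinearGroup (Fin 2) F) *
      QuotientGroup.mk A) = 2 := by
    have e : ((QuotientGroup.mk B : Matrix.ProjectiveSpecialLinearGroup (Fin 2) F) *
        QuotientGroup.mk A) = ((QuotientGroup.mk A : Matrix.ProjectiveSpecialLinearGroup (Fin 2) F) *
        QuotientGroup.mk B)⁻¹ := by
      rw [mul_inv_rev, inv_eq_of_mul_eq_one_left (sq_of_tr0 A hA),
        inv_eq_of_mul_eq_one_left (sq_of_tr0 B hB)]
    rw [e, orderOf_inv, oxy]
  apply diam_two _ ⟨QuotientGroup.mk A, all _ ox⟩ ⟨QuotientGroup.mk B, all _ oy⟩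
  · intro h
    have h' : (QuotientGroup.mk A : Matrix.ProjectiveSpecialLinearGroup (Fin 2) F) =
        QuotientGroup.mk B := congrArg Subtype.val h
    rw [h', sq_of_tr0 B hB, orderOf_one] at oxy
    omega
  · rw [SimpleGraph.fromRel_adj]
    rintro ⟨-, h | h⟩
    · rw [oxy] at h
      exact absurd h (by decide)
    · rw [oyx] at h
      exact absurd h (by decide)
  · intro u v huv
    have hu := ord2 u.1 u.2
    have hv := ord2 v.1 v.2
    rcases common hF u.1 v.1 hu hv with h | ⟨z, hz, h1, h2⟩
    · left
      rw [SimpleGraph.fromRel_adj]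
      exact ⟨huv, Or.inl h⟩
    · have hzc : IsConj t z := u.2.trans (conj_of_odd u.1 z (sq1 _ hu) hz h1)
      by_cases hzu : z = u.1
      · left
        rw [SimpleGraph.fromRel_adj]
        refine ⟨huv, Or.inl ?_⟩
        rw [← hzu]
        exact h2
      by_cases hzv : z = v.1
      · left
        rw [SimpleGraph.fromRel_adj]
        refine ⟨huv, Or.inl ?_⟩
        rw [← hzv]
        exact h1
      right
      refine ⟨⟨z, hzc⟩, ?_, ?_⟩
      · rw [SimpleGraph.fromRel_adj]
        exact ⟨fun h => hzu (congrArg Subtype.val h).symm, Or.inl h1⟩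
      · rw [SimpleGraph.fromRel_adj]
        exact ⟨fun h => hzv (congrArg Subtype.val h), Or.inl h2⟩

end Cfsg.Agent.S3266
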