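import Cfsg.Statements.S3389
import Mathlib
import Cfsg.Agent.S3180
-- import your own Cfsg.Agent.* helpers here

set_option autoImplicit false
open Cfsg

namespace Cfsg.Agent.S3389

theorem fix_mod {G : Type*} [Group G] [Finite G] {Ω : Type*} [Finite Ω] [MulAction G Ω] (p : ℕ)
    [Fact p.Prime] (x : G) (hx : orderOf x = p) :
    Nat.card Ω ≡ Nat.card (MulAction.fixedBy Ω x) [MOD p] := by
  have hQ : IsPGroup p (Subgroup.zpowers x) :=
    IsPGroup.of_card (n := 1) (by rw [Nat.card_zpowers, hx, pow_one])
  have h1 := hQ.card_modEq_card_fixedPoints Ω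
  have h2 : (MulAction.fixedPoints (Subgroup.zpowers x) Ω) = MulAction.fixedBy Ω x := by
    ext a
    constructor
    · intro ha
      exact ha ⟨x, Subgroup.mem_zpowers x⟩
    · intro ha z
      have hle : Subgroup.zpowers x ≤ MulAction.stabilizer G a := by
        rw [Subgroup.zpowers_le]; exact ha
      exact hle z.2
  rw [h2] at h1
  exact h1


/-- Let G be a finite group acting faithfully and transitively on a finite set Ω with fixity k ≥ 1: every non-identity element fixes at most k points and some non-identity element fixes exactly k points. Then |Z(G)| divides k; if k = 2 then |G| is even; and for every prime p > k dividing |G| and every point α, either p does not divide |G_α| or G_α contains a Sylow p-subgroup of G. -/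
theorem result {G : Type*} [Group G] [Finite G] {Ω : Type*} [Fintype Ω] [MulAction G Ω] [FaithfulSMul G Ω]
    (htr : MulAction.IsPretransitive G Ω) (k : ℕ) (hk : 1 ≤ k)
    (hfix : ∀ g : G, g ≠ 1 → Nat.card (MulAction.fixedBy Ω g) ≤ k) (hex : ∃ g : G, g ≠ 1 ∧ Nat.card (MulAction.fixedBy Ω g) = k) :
    Nat.card (Subgroup.center G) ∣ k ∧ (k = 2 → 2 ∣ Nat.card G) ∧
      ∀ (p : ℕ), p.Prime → k < p → p ∣ Nat.card G → ∀ α : Ω,
        ¬ p ∣ Nat.card (MulAction.stabilizer G α) ∨ ¬ p ∣ (MulAction.stabilizer G α).index := by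
  haveI : Finite Ω := Finite.of_fintype Ω
  refine ⟨?_, ?_, ?_⟩
  · obtain ⟨g, hg1, hgk⟩ := hex
    classical
    have hfree : ∀ z ∈ Subgroup.center G, ∀ a : Ω, z • a = a → z = 1 := by
      intro z hz a ha
      apply FaithfulSMul.eq_of_smul_eq_smul (α := Ω)
      intro b
      obtain ⟨h, rfl⟩ := MulAction.exists_smul_eq G a b
      rw [one_smul, smul_smul, ← Subgroup.mem_center_iff.mp hz h, mul_smul, ha]
    let Xs : SubMulAction (Subgroup.center G) Ω :=
      { carrier := MulAction.fixedBy Ω g
        smul_mem' := fun z x hx => by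
          show g • ((z : G) • x) = (z : G) • x
          rw [smul_smul, Subgroup.mem_center_iff.mp z.2 g, mul_smul]
          congr 1 }
    haveI : Fintype (Subgroup.center G) := Fintype.ofFinite _
    haveI : Fintype Xs := Fintype.ofFinite _
    haveI : ∀ z : Subgroup.center G, Fintype (MulAction.fixedBy Xs z) := fun z => Fintype.ofFinite _
    haveI : Fintype (Quotient (MulAction.orbitRel (Subgroup.center G) Xs)) := Fintype.ofFinite _
    have hB := MulAction.sum_card_fixedBy_eq_card_orbits_mul_card_group (Subgroup.center G) Xs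
    have hsum : ∑ z : Subgroup.center G, Fintype.card (MulAction.fixedBy Xs z) = k := by
      rw [Finset.sum_eq_single (1 : Subgroup.center G)]
      · rw [← hgk, ← Nat.card_eq_fintype_card]
        have e : (MulAction.fixedBy Xs (1 : Subgroup.center G)) ≃ Xs :=
          Equiv.subtypeUnivEquiv (fun x => by simp [MulAction.mem_fixedBy])
        exact Nat.card_congr e
      · intro z _ hz
        rw [Fintype.card_eq_zero_iff]
        constructor
        rintro ⟨x, hx⟩
        apply hz
        have h1 : (z : G) • (x : Ω) = x := congrArg Subtype.val hx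
        exact Subtype.ext (hfree z z.2 x h1)
      · intro h; exact absurd (Finset.mem_univ _) h
    rw [hsum] at hB
    rw [Nat.card_eq_fintype_card]
    exact Dvd.intro_left _ hB.symm
  · intro hk2
    subst hk2
    obtain ⟨g0, hg0, hg0fix⟩ := hex
    by_contra hodd
    have ho : orderOf g0 ≠ 1 := by rwa [Ne, orderOf_eq_one_iff]
    obtain ⟨p, hp, hpd⟩ := Nat.exists_prime_and_dvd ho
    haveI : Fact p.Prime := ⟨hp⟩
    have hp2 : p ≠ 2 := by
      rintro rfl
      exact hodd (hpd.trans (orderOf_dvd_natCard g0))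
    have hp3 : 3 ≤ p := by have := hp.two_le; omega
    set g := g0 ^ (orderOf g0 / p) with hg
    have hgo : orderOf g = p := orderOf_pow_orderOf_div (orderOf_pos g0).ne' hpd
    have hg1 : g ≠ 1 := by
      intro h; rw [h, orderOf_one] at hgo; exact hp.one_lt.ne hgo
    have hsub : MulAction.fixedBy Ω g0 ⊆ MulAction.fixedBy Ω g := by
      intro a ha
      have hle : Subgroup.zpowers g0 ≤ MulAction.stabilizer G a := by
        rw [Subgroup.zpowers_le]; exact ha
      exact hle (Subgroup.npow_mem_zpowers g0 _)
    have hgfix : Nat.card (MulAction.fixedBy Ω g) = 2 := by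
      apply le_antisymm (hfix g hg1)
      rw [← hg0fix]
      exact Nat.card_mono (Set.toFinite _) hsub
    obtain ⟨P, hP⟩ := (IsPGroup.of_card (n := 1) (by rw [Nat.card_zpowers, hgo, pow_one]) :
      IsPGroup p (Subgroup.zpowers g)).exists_le_sylow
    have hgP : g ∈ (P : Subgroup G) := hP (Subgroup.mem_zpowers g)
    have hFsub : MulAction.fixedPoints (P : Subgroup G) Ω ⊆ MulAction.fixedBy Ω g :=
      fun a ha => ha ⟨g, hgP⟩
    have hm1 := fix_mod p g hgo (Ω := Ω)
    have hm2 := P.isPGroup'.card_modEq_card_fixedPoints Ω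
    have hFle : Nat.card (MulAction.fixedPoints (P : Subgroup G) Ω) ≤ 2 := by
      rw [← hgfix]; exact Nat.card_mono (Set.toFinite _) hFsub
    have hF2 : Nat.card (MulAction.fixedPoints (P : Subgroup G) Ω) = 2 := by
      have h3 : Nat.card (MulAction.fixedPoints (P : Subgroup G) Ω) ≡ 2 [MOD p] := by
        rw [← hgfix]; exact hm2.symm.trans hm1
      exact Nat.ModEq.eq_of_lt_of_lt h3 (by omega) (by omega)
    have hFeq : MulAction.fixedPoints (P : Subgroup G) Ω = MulAction.fixedBy Ω g := by
      apply Set.eq_of_subset_of_ncard_le hFsub _ (Set.toFinite _)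
      rw [← Nat.card_coe_set_eq, ← Nat.card_coe_set_eq, hgfix, hF2]
    have hcard2 : (MulAction.fixedBy Ω g).ncard = 2 := by rw [← Nat.card_coe_set_eq]; exact hgfix
    obtain ⟨α, β, hαβ, hset⟩ := Set.ncard_eq_two.mp hcard2
    have hα : α ∈ MulAction.fixedPoints (P : Subgroup G) Ω := by rw [hFeq, hset]; simp
    have hβ : β ∈ MulAction.fixedPoints (P : Subgroup G) Ω := by rw [hFeq, hset]; simp
    have hW : Cfsg.IsWeaklyClosed (P : Subgroup G) (P : Subgroup G) := by
      refine ⟨le_rfl, fun x hx => ?_⟩
      exact Subgroup.eq_of_le_of_card_ge hx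
        (by rw [Subgroup.card_map_of_injective (MulEquiv.injective _)])
    obtain ⟨n, hnN, hnα⟩ := Cfsg.Agent.S3180.result P (P : Subgroup G) hW α β
      (fun q hq => hα ⟨q, hq⟩) (fun q hq => hβ ⟨q, hq⟩) (MulAction.exists_smul_eq G α β)
    have hnβ : n • β ∈ MulAction.fixedPoints (P : Subgroup G) Ω := by
      intro q
      have hq' : n⁻¹ * (q : G) * n ∈ (P : Subgroup G) := by
        have := (Subgroup.mem_normalizer_iff.mp (inv_mem hnN) (q : G)).mp q.2
        simpa using this
      have h4 : (n⁻¹ * (q : G) * n) • β = β := hβ ⟨_, hq'⟩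
      show (q : G) • n • β = n • β
      calc (q : G) • n • β = n • (n⁻¹ * (q : G) * n) • β := by simp [smul_smul, mul_assoc]
        _ = n • β := by rw [h4]
    rw [hFeq, hset] at hnβ
    have hnβα : n • β = α := by
      rcases hnβ with h | h
      · exact h
      · exfalso
        have h5 : n • β = n • α := by rw [hnα]; exact h
        exact hαβ (smul_left_cancel n h5).symm
    have hn2 : (n ^ 2) • α = α := by rw [pow_two, mul_smul, hnα, hnβα]
    have heven : Even (orderOf n) := by
      by_contra hne
      rw [Nat.not_even_iff_odd] at hne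
      obtain ⟨j, hj⟩ := hne
      have h5 : n = (n ^ 2) ^ (j + 1) := by
        rw [← pow_mul, show 2 * (j + 1) = orderOf n + 1 by omega, pow_succ, pow_orderOf_eq_one,
          one_mul]
      have h6 : n • α = α := by
        have hle : Subgroup.zpowers (n ^ 2) ≤ MulAction.stabilizer G α := by
          rw [Subgroup.zpowers_le]; exact hn2
        have h7 : (n ^ 2) ^ (j + 1) ∈ MulAction.stabilizer G α :=
          hle (Subgroup.npow_mem_zpowers _ _)
        rw [← h5] at h7; exact h7
      rw [hnα] at h6
      exact hαβ h6.symm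
    exact hodd ((even_iff_two_dvd.mp heven).trans (orderOf_dvd_natCard n))
  · intro p hp hkp hpG α
    haveI : Fact p.Prime := ⟨hp⟩
    by_cases hpS : p ∣ Nat.card (MulAction.stabilizer G α)
    · right
      obtain ⟨x, hx⟩ := exists_prime_orderOf_dvd_card' p hpS
      have hx' : orderOf (x : G) = p := by rw [Subgroup.orderOf_coe]; exact hx
      have hx1 : (x : G) ≠ 1 := by
        intro h; rw [h, orderOf_one] at hx'; exact hp.one_lt.ne hx'
      have hmod := fix_mod p (x : G) hx' (Ω := Ω)
      rw [MulAction.index_stabilizer_of_transitive]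
      intro hdvd
      have h1 : p ∣ Nat.card (MulAction.fixedBy Ω (x : G)) :=
        (Nat.modEq_zero_iff_dvd.mp ((hmod.symm).trans (Nat.modEq_zero_iff_dvd.mpr hdvd)))
      have h2 : Nat.card (MulAction.fixedBy Ω (x : G)) ≤ k := hfix _ hx1
      have h3 : 0 < Nat.card (MulAction.fixedBy Ω (x : G)) :=
        Nat.card_pos_iff.mpr ⟨⟨⟨α, x.2⟩⟩, inferInstance⟩
      exact absurd (Nat.le_of_dvd h3 h1) (by omega)
    · exact Or.inl hpS

end Cfsg.Agent.S3389
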