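import Cfsg.Statements.S3420
import Mathlib
import Cfsg.Agent.S3419
import Cfsg.Agent.S3501
import Cfsg.Agent.Helper20.TwoPrimes
-- import your own Cfsg.Agent.* helpers here

set_option autoImplicit false
open Cfsg

namespace Cfsg.Agent.S3420

theorem card_sup_dvd {G : Type*} [Group G] [Finite G] (A B : Subgroup G) [B.Normal] :
    Nat.card (A ⊔ B : Subgroup G) ∣ Nat.card A * Nat.card B := by
  have h1 : Nat.card B * B.relIndex (A ⊔ B) = Nat.card (A ⊔ B : Subgroup G) := by
    have := Subgroup.relIndex_mul_relIndex (⊥ : Subgroup G) B (A ⊔ B) bot_le le_sup_right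
    rwa [Subgroup.relIndex_bot_left, Subgroup.relIndex_bot_left] at this
  rw [← h1, Subgroup.relIndex_sup_right, mul_comm]
  exact Nat.mul_dvd_mul (Subgroup.relIndex_dvd_card B A) dvd_rfl

theorem exists_max_card {G : Type*} [Group G] [Finite G] (P : Subgroup G → Prop)
    (h : ∃ N, P N) : ∃ N, P N ∧ ∀ M, P M → N ≤ M → M = N := by
  classical
  obtain ⟨N0, hN0⟩ := h
  haveI : Nonempty {J : Subgroup G // P J} := ⟨⟨N0, hN0⟩⟩
  obtain ⟨⟨N, hN⟩, hmax⟩ := Finite.exists_max
    (fun J : {J : Subgroup G // P J} => Nat.card (J : Subgroup G))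
  refine ⟨N, hN, fun M hM hNM => ?_⟩
  have h1 := hmax ⟨M, hM⟩
  exact (Subgroup.eq_of_le_of_card_ge hNM h1).symm

theorem mem_smul'' {G : Type*} [Group G] {p : ℕ} {g d : G} {S : Sylow p G} :
    d ∈ ((g • S : Sylow p G) : Subgroup G) ↔ g⁻¹ * d * g ∈ (S : Subgroup G) := by
  rw [Sylow.coe_subgroup_smul, Subgroup.mem_pointwise_smul_iff_inv_smul_mem]
  simp [MulAut.smul_def, mul_assoc]

/-- If `p` exactly divides the order of `K`, any two elements of order `p` generate conjugate
subgroups. -/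
theorem sylow_conj {K : Type*} [Group K] [Finite K] (p : ℕ) (hp : p.Prime)
    (hp2 : ¬ p ^ 2 ∣ Nat.card K) (x z : K) (hx : orderOf x = p) (hz : orderOf z = p) :
    ∃ k : K, ∃ m : ℕ, z = k * x ^ m * k⁻¹ := by
  classical
  haveI : Fact p.Prime := ⟨hp⟩
  have key : ∀ w : K, orderOf w = p → ∃ Q : Sylow p K, (Q : Subgroup K) = Subgroup.zpowers w := by
    intro w hw
    have hcw : Nat.card (Subgroup.zpowers w) = p := by rw [Nat.card_zpowers, hw]
    have hpg : IsPGroup p (Subgroup.zpowers w) := IsPGroup.of_card (n := 1) (by rw [hcw, pow_one])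
    obtain ⟨Q, hQ⟩ := hpg.exists_le_sylow
    obtain ⟨k, hk⟩ := IsPGroup.iff_card.mp Q.2
    have h1 : p ^ k ∣ Nat.card K := hk ▸ Subgroup.card_subgroup_dvd_card (Q : Subgroup K)
    have hk2 : k < 2 := by
      by_contra h
      exact hp2 (dvd_trans (pow_dvd_pow p (by omega)) h1)
    have h3 : Nat.card (Subgroup.zpowers w) ∣ Nat.card (Q : Subgroup K) :=
      Subgroup.card_dvd_of_le hQ
    have hk1 : k = 1 := by
      rcases Nat.lt_or_ge k 1 with h | h
      · have h0 : k = 0 := by omega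
        rw [hk, h0, pow_zero, hcw] at h3
        exact absurd (Nat.dvd_one.mp h3) hp.ne_one
      · omega
    refine ⟨Q, (Subgroup.eq_of_le_of_card_ge hQ ?_).symm⟩
    rw [hcw]
    have : Nat.card (Q : Subgroup K) = p := by rw [hk, hk1, pow_one]
    exact this.le
  obtain ⟨Qx, hQx⟩ := key x hx
  obtain ⟨Qz, hQz⟩ := key z hz
  obtain ⟨k, hk⟩ := MulAction.exists_smul_eq K Qx Qz
  have hzm : z ∈ ((k • Qx : Sylow p K) : Subgroup K) := by
    rw [hk, hQz]; exact Subgroup.mem_zpowers z
  rw [mem_smul'', hQx, ← mem_powers_iff_mem_zpowers] at hzm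
  obtain ⟨m, hm⟩ := (Submonoid.mem_powers_iff _ _).mp hzm
  refine ⟨k, m, ?_⟩
  rw [hm]; group

/-- Frattini argument: a prime `s` not dividing `|K|` acts on a Sylow `r`-subgroup of order `r`
of the normal subgroup `K`; if `s ∤ r - 1` there is an element of order `r * s`. -/
theorem frattini_pq {G : Type*} [Group G] [Finite G] (K : Subgroup G) [K.Normal] (r s : ℕ)
    (hr : r.Prime) (hs : s.Prime) (hrs : r ≠ s) (hrK : r ∣ Nat.card K)
    (hr2 : ¬ r ^ 2 ∣ Nat.card G) (hsG : s ∣ Nat.card G) (hsK : ¬ s ∣ Nat.card K)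
    (hsr : ¬ s ∣ r - 1) : ∃ g : G, orderOf g = r * s := by
  classical
  haveI : Fact r.Prime := ⟨hr⟩
  haveI : Fact s.Prime := ⟨hs⟩
  obtain ⟨R⟩ : Nonempty (Sylow r K) := inferInstance
  have hf : (Nat.card K).factorization r = 1 := by
    apply le_antisymm
    · by_contra h
      apply hr2
      refine dvd_trans ?_ (Subgroup.card_subgroup_dvd_card K)
      exact dvd_trans (pow_dvd_pow r (by omega)) (Nat.ordProj_dvd (Nat.card K) r)
    · exact hr.factorization_pos_of_dvd Nat.card_pos.ne' hrK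
  have hRcard : Nat.card R = r := by
    rw [Sylow.card_eq_multiplicity, hf, pow_one]
  obtain ⟨R', hR'⟩ : ∃ R' : Subgroup G, R' = (R : Subgroup K).map K.subtype := ⟨_, rfl⟩
  have hR'card : Nat.card R' = r := by
    rw [hR', Subgroup.card_map_of_injective (Subgroup.subtype_injective K)]; exact hRcard
  have hF : Subgroup.normalizer (R' : Set G) ⊔ K = ⊤ := by
    rw [hR']; exact Sylow.normalizer_sup_eq_top R
  obtain ⟨L, hL⟩ : ∃ L : Subgroup G, L = Subgroup.normalizer (R' : Set G) := ⟨_, rfl⟩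
  rw [← hL] at hF
  have hsL : s ∣ Nat.card L := by
    have h1 := card_sup_dvd L K
    rw [hF, Subgroup.card_top] at h1
    rcases (Nat.Prime.dvd_mul hs).mp (dvd_trans hsG h1) with h | h
    · exact h
    · exact absurd h hsK
  obtain ⟨y, hy⟩ := exists_prime_orderOf_dvd_card' s hsL
  have hR'L : R' ≤ L := by rw [hL]; exact Subgroup.le_normalizer
  haveI : (R'.subgroupOf L).Normal :=
    Subgroup.normal_subgroupOf_of_le_normalizer (by rw [hL])
  have hNp : ∀ x ∈ R'.subgroupOf L, x ^ r = 1 := by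
    intro x hx
    rw [Subgroup.mem_subgroupOf] at hx
    have h1 : (⟨(x : G), hx⟩ : R') ^ Nat.card R' = 1 := pow_card_eq_one'
    rw [hR'card] at h1
    apply Subtype.ext
    have h2 := congrArg Subtype.val h1
    simpa using h2
  have hNcard : Nat.card (R'.subgroupOf L) = r ^ 1 := by
    rw [pow_one, ← hR'card]
    exact Nat.card_congr (Subgroup.subgroupOfEquivOfLe hR'L).toEquiv
  obtain ⟨g, hg⟩ := Cfsg.Agent.S3419.fixed_elt (R'.subgroupOf L) r s 1 hr hs hrs hNp hNcard
    (by rw [pow_one]; exact hsr) y hy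
  exact ⟨(g : G), by rw [Subgroup.orderOf_coe]; exact hg⟩

/-- Core of the chief factor argument: a "chief factor" `K / M` (relative to a family of
automorphisms `φ`) whose order is divisible by `p` exactly once, with `M` maximal of order
prime to `p`, is simple. -/
theorem chief_simple {K : Type*} [Group K] [Finite K] (p : ℕ) (hp : p.Prime)
    (hp2 : ¬ p ^ 2 ∣ Nat.card K) {ι : Type*} (φ : ι → K ≃* K) (M : Subgroup K) [hMn : M.Normal]
    (hpM : ¬ p ∣ Nat.card M)
    (hMinv : ∀ i, M.map (φ i).toMonoidHom ≤ M)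
    (hMmax : ∀ J : Subgroup K, J.Normal → (∀ i, J.map (φ i).toMonoidHom ≤ J) → M ≤ J →
      ¬ p ∣ Nat.card J → J = M)
    (hMmin : ∀ J : Subgroup K, J.Normal → (∀ i, J.map (φ i).toMonoidHom ≤ J) → M ≤ J →
      J ≠ M → J = ⊤)
    (T : Subgroup K) (hTn : T.Normal) (hMT : M ≤ T) : T = M ∨ T = ⊤ := by
  classical
  haveI : Fact p.Prime := ⟨hp⟩
  by_cases hpT : p ∣ Nat.card T
  · right
    obtain ⟨x, hx⟩ := exists_prime_orderOf_dvd_card' p hpT
    have hx' : orderOf (x : K) = p := by rw [Subgroup.orderOf_coe]; exact hx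
    obtain ⟨S, hS⟩ : ∃ S : Set K, S = {z : K | orderOf z = p} := ⟨_, rfl⟩
    have hST : S ⊆ T := by
      intro z hz
      rw [hS] at hz
      obtain ⟨k, m, rfl⟩ := sylow_conj p hp hp2 (x : K) z hx' hz
      exact hTn.conj_mem _ (T.pow_mem x.2 m) k
    have hKn : (M ⊔ Subgroup.normalClosure S).Normal := inferInstance
    have hKinv : ∀ i, (M ⊔ Subgroup.normalClosure S).map (φ i).toMonoidHom ≤
        M ⊔ Subgroup.normalClosure S := by
      intro i
      rw [Subgroup.map_sup]
      apply sup_le_sup (hMinv i)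
      rw [Subgroup.map_normalClosure S (φ i).toMonoidHom (φ i).surjective]
      apply Subgroup.normalClosure_mono
      rintro _ ⟨z, hz, rfl⟩
      rw [hS] at hz ⊢
      show orderOf ((φ i) z) = p
      rw [MulEquiv.orderOf_eq]; exact hz
    have hxK : (x : K) ∈ M ⊔ Subgroup.normalClosure S :=
      Subgroup.mem_sup_right (Subgroup.subset_normalClosure (by rw [hS]; exact hx'))
    have hne : M ⊔ Subgroup.normalClosure S ≠ M := by
      intro h
      rw [h] at hxK
      apply hpM
      have h1 : orderOf (⟨(x : K), hxK⟩ : M) ∣ Nat.card M := orderOf_dvd_natCard _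
      rw [Subgroup.orderOf_mk, hx'] at h1
      exact h1
    have htop := hMmin _ hKn hKinv le_sup_left hne
    rw [← top_le_iff, ← htop]
    exact sup_le hMT (Subgroup.normalClosure_le_normal hST)
  · left
    obtain ⟨J, ⟨hJn, hMJ, hpJ, hTJ⟩, hJmax⟩ := exists_max_card
      (fun J : Subgroup K => J.Normal ∧ M ≤ J ∧ ¬ p ∣ Nat.card J ∧ T ≤ J) ⟨T, hTn, hMT, hpT, le_rfl⟩
    have hJinv : ∀ i, J.map (φ i).toMonoidHom ≤ J := by
      intro i
      haveI := hJn
      haveI h2n : (J.map (φ i).toMonoidHom).Normal := hJn.map _ (φ i).surjective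
      have hcard : Nat.card (J.map (φ i).toMonoidHom) = Nat.card J :=
        Subgroup.card_map_of_injective (φ i).injective
      have h3 : ¬ p ∣ Nat.card (J ⊔ J.map (φ i).toMonoidHom : Subgroup K) := by
        intro h
        have h4 := dvd_trans h (card_sup_dvd J (J.map (φ i).toMonoidHom))
        rw [hcard] at h4
        rcases (Nat.Prime.dvd_mul hp).mp h4 with h5 | h5 <;> exact hpJ h5
      have h5 := hJmax (J ⊔ J.map (φ i).toMonoidHom)
        ⟨inferInstance, le_trans hMJ le_sup_left, h3, le_trans hTJ le_sup_left⟩ le_sup_left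
      exact le_of_le_of_eq le_sup_right h5
    have hJM := hMmax J hJn hJinv hMJ hpJ
    exact le_antisymm (hJM ▸ hTJ) hMT

theorem quot_simple {K : Type*} [Group K] [Finite K] (M : Subgroup K) [M.Normal] (hM : M ≠ ⊤)
    (h : ∀ T : Subgroup K, T.Normal → M ≤ T → T = M ∨ T = ⊤) : IsSimpleGroup (K ⧸ M) := by
  haveI : Nontrivial (K ⧸ M) := by
    rw [← Finite.one_lt_card_iff_nontrivial]
    have h1 : M.index ≠ 1 := fun h => hM (Subgroup.index_eq_one.mp h)
    have h0 : M.index ≠ 0 := Subgroup.index_ne_zero_of_finite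
    rw [Subgroup.index] at h1 h0
    omega
  refine ⟨fun Tb hTb => ?_⟩
  have hsurj := QuotientGroup.mk'_surjective M
  have h1 := h (Tb.comap (QuotientGroup.mk' M)) (hTb.comap _) (by
    intro m hm
    rw [Subgroup.mem_comap]
    have : QuotientGroup.mk' M m = 1 := (QuotientGroup.eq_one_iff m).mpr hm
    rw [this]; exact Tb.one_mem)
  rcases h1 with h1 | h1
  · left
    rw [← Subgroup.map_comap_eq_self_of_surjective hsurj Tb, h1,
      (Subgroup.map_eq_bot_iff _).mpr (by rw [QuotientGroup.ker_mk'])]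
  · right
    rw [← Subgroup.map_comap_eq_self_of_surjective hsurj Tb, h1,
      Subgroup.map_top_of_surjective _ hsurj]

theorem no_dvd_pred (n a b : ℕ) (ha : a.Prime) (hb : b.Prime) (h1 : n < 2 * a) (h2 : b ≤ n)
    (h3 : 2 < a) (h4 : 2 < b) : ¬ a ∣ b - 1 := by
  rintro ⟨c, hc⟩
  have hc1 : c = 1 := by
    have h5 : 0 < c := by
      rcases Nat.eq_zero_or_pos c with h | h
      · rw [h, mul_zero] at hc; omega
      · exact h
    have h6 : c < 2 := by
      by_contra h
      have : 2 * a ≤ a * c := by nlinarith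
      omega
    omega
  rw [hc1, mul_one] at hc
  have ha_odd := ha.eq_two_or_odd
  have hb_odd := hb.eq_two_or_odd
  omega


/-- Let n ≥ 11 and let G be a finite group with the same order and the same set of element orders as the alternating group of degree n. Then G has normal subgroups N < H such that H/N is a non-abelian simple group whose order is divisible by every prime p with n/2 < p ≤ n. -/
theorem result {G : Type*} [Group G] [Finite G] (n : ℕ) (hn : 11 ≤ n)
    (hcard : Nat.card G = Nat.card ↥(alternatingGroup (Fin n)))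
    (hspec : Set.range (orderOf : G → ℕ) = Set.range (orderOf : ↥(alternatingGroup (Fin n)) → ℕ)) :
    ∃ (N H : Subgroup G) (_ : N.Normal), H.Normal ∧ N < H ∧
      IsSimpleGroup (↥H ⧸ N.subgroupOf H) ∧ ¬ IsMulCommutative (↥H ⧸ N.subgroupOf H) ∧
      ∀ p : ℕ, p.Prime → n < 2 * p → p ≤ n → p ∣ Nat.card (↥H ⧸ N.subgroupOf H) := by
  classical
  have hn2 : Nontrivial (Fin n) := Fin.nontrivial_iff_two_le.mpr (by omega)
  have hA : 2 * Nat.card (alternatingGroup (Fin n)) = n.factorial := by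
    rw [two_mul_nat_card_alternatingGroup, Nat.card_eq_fintype_card, Fintype.card_perm,
      Fintype.card_fin]
  have hcG : 2 * Nat.card G = n.factorial := by rw [hcard]; exact hA
  have hPdvd : ∀ a : ℕ, a.Prime → n < 2 * a → a ≤ n →
      a ∣ Nat.card G ∧ ¬ a ^ 2 ∣ Nat.card G := by
    intro a ha h1 h2
    have ha2 : a ≠ 2 := by omega
    constructor
    · have h3 : a ∣ 2 * Nat.card G := by rw [hcG]; exact (Nat.Prime.dvd_factorial ha).mpr h2
      exact (Nat.Coprime.dvd_mul_left ((Nat.coprime_primes ha Nat.prime_two).mpr ha2)).mp h3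
    · intro h
      exact Cfsg.Agent.S3419.not_sq_dvd_factorial a n ha h2 h1 (hcG ▸ dvd_mul_of_dvd_right h 2)
  have hno : ∀ a b : ℕ, a.Prime → b.Prime → a ≠ b → n < a + b →
      ∀ g : G, orderOf g ≠ a * b := by
    intro a b ha hb hab hsum g hg
    have hmem : a * b ∈ Set.range (orderOf : G → ℕ) := ⟨g, hg⟩
    rw [hspec] at hmem
    obtain ⟨σ, hσ⟩ := hmem
    have := Cfsg.Agent.S3419.no_pq n a b ha hb hab (σ : Equiv.Perm (Fin n))
      (by rw [Subgroup.orderOf_coe]; exact hσ)
    omega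
  obtain ⟨p, q, hp, hq, hpq, hp1, hp2, hq1, hq2⟩ : ∃ p q : ℕ, p.Prime ∧ q.Prime ∧ p ≠ q ∧
      n < 2 * p ∧ p ≤ n ∧ n < 2 * q ∧ q ≤ n := by
    by_cases h11 : n = 11
    · subst h11
      exact ⟨11, 7, by norm_num, by norm_num, by norm_num, by norm_num, by norm_num,
        by norm_num, by norm_num⟩
    · obtain ⟨a, b, ha, hb, hnb, hba, han⟩ :=
        Cfsg.Agent.Helper20.TwoPrimes.two_primes (n / 2) (by omega)
      exact ⟨a, b, ha, hb, by omega, by omega, by omega, by omega, by omega⟩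
  obtain ⟨hpG, hpG2⟩ := hPdvd p hp hp1 hp2
  obtain ⟨N, ⟨hNn, hpN⟩, hNmax⟩ := exists_max_card
    (fun J : Subgroup G => J.Normal ∧ ¬ p ∣ Nat.card J)
    ⟨⊥, inferInstance, by
      rw [Subgroup.card_bot]; exact fun h => hp.ne_one (Nat.dvd_one.mp h)⟩
  haveI := hNn
  have hNtop : N ≠ ⊤ := by
    rintro rfl
    rw [Subgroup.card_top] at hpN; exact hpN hpG
  obtain ⟨H, ⟨hHn, hNH⟩, hHmin⟩ := Cfsg.Agent.S3501.exists_min_card
    (fun J : Subgroup G => J.Normal ∧ N < J) ⟨⊤, inferInstance, lt_top_iff_ne_top.mpr hNtop⟩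
  haveI := hHn
  have hNleH : N ≤ H := hNH.le
  have hMcard : Nat.card (N.subgroupOf H) = Nat.card N :=
    Nat.card_congr (Subgroup.subgroupOfEquivOfLe hNleH).toEquiv
  have hpH : p ∣ Nat.card H := by
    by_contra h
    have h1 := hNmax H ⟨hHn, h⟩ hNleH
    exact hNH.ne h1.symm
  have hpH2 : ¬ p ^ 2 ∣ Nat.card H := fun h =>
    hpG2 (dvd_trans h (Subgroup.card_subgroup_dvd_card H))
  have htr : ∀ J' : Subgroup H,
      (∀ g : G, J'.map (MulAut.conjNormal g : H ≃* H).toMonoidHom ≤ J') →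
      (J'.map H.subtype).Normal := by
    intro J' hJ'
    refine ⟨fun j hj g => ?_⟩
    obtain ⟨j', hj', rfl⟩ := hj
    refine ⟨MulAut.conjNormal g j', hJ' g ⟨j', hj', rfl⟩, ?_⟩
    simp [MulAut.conjNormal_apply]
  have hNJ_of : ∀ J' : Subgroup H, N.subgroupOf H ≤ J' → N ≤ J'.map H.subtype := by
    intro J' hMJ' x hx
    exact ⟨⟨x, hNleH hx⟩, hMJ' (Subgroup.mem_subgroupOf.mpr hx), rfl⟩
  have hsimple_aux : ∀ T : Subgroup H, T.Normal → N.subgroupOf H ≤ T →
      T = N.subgroupOf H ∨ T = ⊤ := by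
    intro T hT hMT
    refine chief_simple p hp hpH2 (fun g : G => (MulAut.conjNormal g : H ≃* H))
      (N.subgroupOf H) (by rw [hMcard]; exact hpN) ?_ ?_ ?_ T hT hMT
    · intro g
      rintro _ ⟨x, hx, rfl⟩
      have hx' : (x : G) ∈ N := Subgroup.mem_subgroupOf.mp hx
      apply Subgroup.mem_subgroupOf.mpr
      show ((MulAut.conjNormal g x : H) : G) ∈ N
      rw [MulAut.conjNormal_apply]
      exact hNn.conj_mem _ hx' g
    · intro J' hJ'n hJ'inv hMJ' hpJ'
      have hJn := htr J' hJ'inv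
      have hJcard : Nat.card (J'.map H.subtype) = Nat.card J' :=
        Subgroup.card_map_of_injective (Subgroup.subtype_injective H)
      have hJN := hNmax (J'.map H.subtype) ⟨hJn, by rw [hJcard]; exact hpJ'⟩ (hNJ_of J' hMJ')
      apply le_antisymm _ hMJ'
      intro j' hj'
      rw [Subgroup.mem_subgroupOf, ← hJN]
      exact ⟨j', hj', rfl⟩
    · intro J' hJ'n hJ'inv hMJ' hne
      have hJn := htr J' hJ'inv
      have hJH : J'.map H.subtype ≤ H := by
        rintro _ ⟨j', _, rfl⟩; exact j'.2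
      have hNJ' : N < J'.map H.subtype := by
        refine lt_of_le_of_ne (hNJ_of J' hMJ') (fun h => hne ?_)
        apply le_antisymm _ hMJ'
        intro j' hj'
        rw [Subgroup.mem_subgroupOf, h]
        exact ⟨j', hj', rfl⟩
      have hJeq := hHmin (J'.map H.subtype) ⟨hJn, hNJ'⟩ hJH
      rw [eq_top_iff]
      intro h _
      have h1 : (h : G) ∈ J'.map H.subtype := by rw [hJeq]; exact h.2
      obtain ⟨j', hj', hjh⟩ := h1
      have h2 : j' = h := Subtype.ext hjh
      rw [← h2]; exact hj'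
  have hMtop : N.subgroupOf H ≠ ⊤ := by
    intro h
    rw [Subgroup.subgroupOf_eq_top] at h
    exact absurd (le_antisymm hNleH h) hNH.ne
  have hsimple : IsSimpleGroup (↥H ⧸ N.subgroupOf H) :=
    quot_simple (N.subgroupOf H) hMtop hsimple_aux
  have hXcard : Nat.card H = Nat.card (↥H ⧸ N.subgroupOf H) * Nat.card N := by
    rw [← hMcard]; exact Subgroup.card_eq_card_quotient_mul_card_subgroup (N.subgroupOf H)
  have hdiv : ∀ a : ℕ, a.Prime → n < 2 * a → a ≤ n →
      a ∣ Nat.card (↥H ⧸ N.subgroupOf H) := by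
    intro a ha ha1 ha2
    obtain ⟨haG, haG2⟩ := hPdvd a ha ha1 ha2
    by_cases hap : a = p
    · rw [hap]
      have h0 := hpH
      rw [hXcard] at h0
      rcases (Nat.Prime.dvd_mul hp).mp h0 with h | h
      · exact h
      · exact absurd h hpN
    · by_contra haX
      by_cases haN : a ∣ Nat.card N
      · obtain ⟨g, hg⟩ := frattini_pq N a p ha hp hap haN haG2 hpG hpN
          (no_dvd_pred n p a hp ha hp1 ha2 (by omega) (by omega))
        exact hno a p ha hp hap (by omega) g hg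
      · have haH : ¬ a ∣ Nat.card H := by
          rw [hXcard]
          intro h
          rcases (Nat.Prime.dvd_mul ha).mp h with h | h
          · exact haX h
          · exact haN h
        obtain ⟨g, hg⟩ := frattini_pq H p a hp ha (Ne.symm hap) hpH hpG2 haG haH
          (no_dvd_pred n a p ha hp ha1 hp2 (by omega) (by omega))
        exact hno p a hp ha (Ne.symm hap) (by omega) g hg
  refine ⟨N, H, hNn, hHn, hNH, hsimple, ?_, hdiv⟩
  intro hcomm
  haveI : Fact p.Prime := ⟨hp⟩
  have hpX := hdiv p hp hp1 hp2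
  have hqX := hdiv q hq hq1 hq2
  obtain ⟨x, hx⟩ := exists_prime_orderOf_dvd_card' p hpX
  have hzn : (Subgroup.zpowers x).Normal := ⟨fun y hy g => by
    have h1 : g * y * g⁻¹ = y := by
      rw [hcomm.is_comm.comm g y, mul_assoc, mul_inv_cancel, mul_one]
    rw [h1]; exact hy⟩
  rcases hsimple.eq_bot_or_eq_top_of_normal _ hzn with h | h
  · rw [Subgroup.zpowers_eq_bot] at h
    rw [h, orderOf_one] at hx
    exact hp.ne_one hx.symm
  · have hc : Nat.card (↥H ⧸ N.subgroupOf H) = p := by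
      rw [← Subgroup.card_top (G := ↥H ⧸ N.subgroupOf H), ← h, Nat.card_zpowers, hx]
    rw [hc] at hqX
    exact hpq ((Nat.prime_dvd_prime_iff_eq hq hp).mp hqX).symm

end Cfsg.Agent.S3420
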