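import Mathlib
import Cfsg.Statements.S3494
import Cfsg.Agent.Helper20.ExtPrim

set_option autoImplicit false
open Cfsg

namespace Cfsg.Agent.S3494

/-- Manning's Theorem on extremely primitive groups. Let a finite group G act faithfully and primitively on a finite set Ω with non-trivial point stabilizers, and suppose every point stabilizer G_α acts primitively on each of its orbits. Then G_α acts faithfully on each of its orbits other than {α}: an element of G_α fixing every point of one such orbit is the identity. -/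
theorem result {G : Type*} [Group G] [Finite G] {Ω : Type*} [Fintype Ω] [MulAction G Ω] [FaithfulSMul G Ω] (hprim : MulAction.IsPreprimitive G Ω) (hH : ∀ α : Ω, MulAction.stabilizer G α ≠ ⊥) (hep : ∀ (α : Ω) (ω : Ω), MulAction.IsPreprimitive (MulAction.stabilizer G α) (MulAction.orbit (MulAction.stabilizer G α) ω))
    (α ω : Ω) (hω : ω ≠ α) (h : MulAction.stabilizer G α) (hfix : ∀ x ∈ MulAction.orbit (MulAction.stabilizer G α) ω, h • x = x) : h = 1 := by
  classical
  let K : Subgroup G :=
    { carrier := {g | g ∈ MulAction.stabilizer G α ∧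
        ∀ x ∈ MulAction.orbit (MulAction.stabilizer G α) ω, g • x = x}
      mul_mem' := by
        rintro a b ⟨ha, ha'⟩ ⟨hb, hb'⟩
        refine ⟨Subgroup.mul_mem _ ha hb, fun x hx => ?_⟩
        rw [mul_smul, hb' x hx, ha' x hx]
      one_mem' := ⟨Subgroup.one_mem _, fun x _ => one_smul _ _⟩
      inv_mem' := by
        rintro a ⟨ha, ha'⟩
        refine ⟨Subgroup.inv_mem _ ha, fun x hx => ?_⟩
        rw [inv_smul_eq_iff, ha' x hx] }
  have hKmem : ∀ g, g ∈ K ↔ g ∈ MulAction.stabilizer G α ∧
      ∀ x ∈ MulAction.orbit (MulAction.stabilizer G α) ω, g • x = x := fun g => Iff.rfl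
  have hKH : K ≤ MulAction.stabilizer G α := fun g hg => ((hKmem g).mp hg).1
  have hKn : MulAction.stabilizer G α ≤ Subgroup.normalizer (K : Set G) := by
    intro t ht
    apply Cfsg.Agent.Helper20.TwoModFour.mem_normalizer_of_conj_mem
    intro k hk
    rw [hKmem] at hk ⊢
    refine ⟨Subgroup.mul_mem _ (Subgroup.mul_mem _ ht hk.1) (Subgroup.inv_mem _ ht), fun x hx => ?_⟩
    have h1 : t⁻¹ • x ∈ MulAction.orbit (MulAction.stabilizer G α) ω :=
      Cfsg.Agent.Helper20.ExtPrim.smul_mem_orbit_sub _ (Subgroup.inv_mem _ ht) hx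
    rw [mul_smul, mul_smul, hk.2 _ h1, smul_inv_smul]
  have hK : K = ⊥ := by
    by_contra hK1
    apply hω
    apply Cfsg.Agent.Helper20.ExtPrim.fix_eq hprim α (hep α) K hKH hKn hK1 ω
    intro k hk
    exact ((hKmem k).mp hk).2 ω (MulAction.mem_orbit_self ω)
  have hh : (h : G) ∈ K := by
    rw [hKmem]
    exact ⟨h.2, fun x hx => hfix x hx⟩
  rw [hK, Subgroup.mem_bot] at hh
  exact Subtype.ext hh

end Cfsg.Agent.S3494
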