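import Mathlib
import Cfsg.Statements.S3495
import Cfsg.Agent.Helper20.ExtPrim

set_option autoImplicit false
open Cfsg

namespace Cfsg.Agent.S3495

/-- Let a finite group G act faithfully and primitively on a finite set Ω with non-trivial point stabilizers, each acting primitively on every one of its orbits (an extremely primitive group), and suppose G has an elementary abelian normal p-subgroup N acting regularly on Ω (affine type). Then every non-trivial subgroup M of a point stabilizer G_α that is normal in G_α has the same orbits on Ω as G_α, and normalizes no subgroup of N other than 1 and N. -/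
theorem result {G : Type*} [Group G] [Finite G] {Ω : Type*} [Fintype Ω] [MulAction G Ω] [FaithfulSMul G Ω] (hprim : MulAction.IsPreprimitive G Ω) (hH : ∀ α : Ω, MulAction.stabilizer G α ≠ ⊥) (hep : ∀ (α : Ω) (ω : Ω), MulAction.IsPreprimitive (MulAction.stabilizer G α) (MulAction.orbit (MulAction.stabilizer G α) ω))
    (N : Subgroup G) [N.Normal] (hNc : IsMulCommutative N) (p : ℕ) (hp : p.Prime) (hNp : ∀ n ∈ N, n ^ p = 1)
    (hNtr : MulAction.IsPretransitive N Ω) (hNreg : ∀ ω : Ω, MulAction.stabilizer N ω = ⊥) (α : Ω) (M : Subgroup G) (hM : M ≠ ⊥) (hMle : M ≤ MulAction.stabilizer G α)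
    (hMn : MulAction.stabilizer G α ≤ Subgroup.normalizer (M : Set G)) :
    (∀ ω : Ω, MulAction.orbit M ω = MulAction.orbit (MulAction.stabilizer G α) ω) ∧
    (∀ L : Subgroup G, L ≤ N → M ≤ Subgroup.normalizer (L : Set G) → L = ⊥ ∨ L = N) := by
  classical
  haveI := hprim
  have horb : ∀ ω : Ω, MulAction.orbit M ω = MulAction.orbit (MulAction.stabilizer G α) ω := by
    intro ω
    apply Set.Subset.antisymm
    · rintro x ⟨m, rfl⟩
      exact ⟨⟨m, hMle m.2⟩, rfl⟩
    · intro x hx
      rcases Cfsg.Agent.Helper20.ExtPrim.normal_dichotomy α (hep α) M hMle hMn ω with h | h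
      · have hωα : ω = α := by
          apply Cfsg.Agent.Helper20.ExtPrim.fix_eq hprim α (hep α) M hMle hMn hM ω
          intro k hk
          exact h ω (MulAction.mem_orbit_self ω) k hk
        obtain ⟨t, rfl⟩ := hx
        have ht : (t : G) • ω = ω := by rw [hωα]; exact t.2
        exact ⟨1, by
          show (1 : M) • ω = t • ω
          rw [one_smul]; exact ht.symm⟩
      · obtain ⟨k, hk, hkx⟩ := h x hx
        exact ⟨⟨k, hk⟩, hkx⟩
  refine ⟨horb, ?_⟩
  intro L hLN hML
  by_cases hL1 : L = ⊥
  · exact Or.inl hL1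
  right
  have hNα : ∀ n ∈ N, n • α = α → n = 1 := by
    intro n hn hnα
    have h1 : (⟨n, hn⟩ : N) ∈ MulAction.stabilizer N α := hnα
    rw [hNreg α, Subgroup.mem_bot] at h1
    exact congrArg Subtype.val h1
  -- the orbit of α under L is invariant under H
  have hΔM : ∀ m ∈ M, ∀ l ∈ L, ∃ l' ∈ L, m • (l • α) = l' • α := by
    intro m hm l hl
    refine ⟨m * l * m⁻¹, (Subgroup.mem_normalizer_iff.mp (hML hm) l).mp hl, ?_⟩
    have hmα : m⁻¹ • α = α := (MulAction.stabilizer G α).inv_mem (hMle hm)
    rw [mul_smul, mul_smul, hmα]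
  have hΔH : ∀ h ∈ MulAction.stabilizer G α, ∀ l ∈ L, ∃ l' ∈ L, h • (l • α) = l' • α := by
    intro h hh l hl
    have h1 : h • (l • α) ∈ MulAction.orbit (MulAction.stabilizer G α) (l • α) := ⟨⟨h, hh⟩, rfl⟩
    rw [← horb] at h1
    obtain ⟨m, hm⟩ := h1
    obtain ⟨l', hl', h2⟩ := hΔM m m.2 l hl
    exact ⟨l', hl', by rw [← hm]; exact h2⟩
  have hHL : MulAction.stabilizer G α ≤ Subgroup.normalizer (L : Set G) := by
    intro h hh
    apply Cfsg.Agent.Helper20.TwoModFour.mem_normalizer_of_conj_mem
    intro l hl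
    obtain ⟨l', hl', h2⟩ := hΔH h hh l hl
    have hhα : h⁻¹ • α = α := (MulAction.stabilizer G α).inv_mem hh
    have h3 : (l'⁻¹ * (h * l * h⁻¹)) • α = α := by
      rw [mul_smul, mul_smul, mul_smul, hhα, h2, inv_smul_smul]
    have h4 : l'⁻¹ * (h * l * h⁻¹) ∈ N :=
      N.mul_mem (N.inv_mem (hLN hl')) (Subgroup.Normal.conj_mem inferInstance l (hLN hl) h)
    have h5 := hNα _ h4 h3
    have h6 : h * l * h⁻¹ = l' := by
      have := inv_mul_eq_one.mp h5
      exact this.symm
    rw [h6]; exact hl'
  haveI : Nontrivial Ω := by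
    obtain ⟨l, hl, hl1⟩ : ∃ l ∈ L, l ≠ 1 := by
      by_contra h
      push Not at h
      exact hL1 ((Subgroup.eq_bot_iff_forall L).mpr h)
    refine ⟨⟨l • α, α, fun h => hl1 (hNα l (hLN hl) h)⟩⟩
  have hco : IsCoatom (MulAction.stabilizer G α) :=
    (MulAction.isCoatom_stabilizer_iff_preprimitive G α).mpr hprim
  have hsup : MulAction.stabilizer G α ⊔ L = ⊤ := by
    rcases hco.le_iff.mp (le_sup_left : MulAction.stabilizer G α ≤ MulAction.stabilizer G α ⊔ L)
      with h1 | h1
    · exact h1
    · exfalso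
      apply hL1
      rw [Subgroup.eq_bot_iff_forall]
      intro l hl
      have : l ∈ MulAction.stabilizer G α := by
        rw [← h1]; exact Subgroup.mem_sup_right hl
      exact hNα l (hLN hl) this
  have hnormL : Subgroup.normalizer (L : Set G) = ⊤ := by
    rw [eq_top_iff, ← hsup]
    exact sup_le hHL Subgroup.le_normalizer
  haveI hLn : L.Normal := Subgroup.normalizer_eq_top_iff.mp hnormL
  have hLtr : MulAction.IsPretransitive L Ω := Cfsg.Agent.S3680.trans_of_normal L hL1
  apply le_antisymm hLN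
  intro n hn
  obtain ⟨l, hl⟩ := MulAction.exists_smul_eq L α (n • α)
  have hl' : (l : G) • α = n • α := hl
  have h3 : ((l : G)⁻¹ * n) • α = α := by
    rw [mul_smul, ← hl', inv_smul_smul]
  have h5 := hNα _ (N.mul_mem (N.inv_mem (hLN l.2)) hn) h3
  have h6 : (l : G) = n := inv_mul_eq_one.mp h5
  rw [← h6]; exact l.2

end Cfsg.Agent.S3495
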