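import Cfsg.Statements.S3497
import Mathlib
import Cfsg.Agent.Helper20.ExtFit
import Cfsg.Agent.Helper20.ConjGL
-- import your own Cfsg.Agent.* helpers here

set_option autoImplicit false
open Cfsg

namespace Cfsg.Agent.S3497

/-- Restrictions on the point stabilizer of an extremely primitive group. Let a finite group G act faithfully and primitively on a finite set Ω with point stabilizers H = G_α whose order is neither 1 nor a prime, each acting primitively on every one of its orbits. Then H has trivial center, the Fitting subgroup F(H) is an elementary abelian p-group for some prime p, and if F(H) ≠ 1 has order p ^ e then p ^ e divides the number of points minus one and H / F(H) embeds in GL_e(p) (there is a homomorphism from H to GL_e(p) with kernel exactly F(H)). -/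
theorem result {G : Type*} [Group G] [Finite G] {Ω : Type*} [Fintype Ω] [MulAction G Ω] [FaithfulSMul G Ω] (hprim : MulAction.IsPreprimitive G Ω) (hep : ∀ (α : Ω) (ω : Ω), MulAction.IsPreprimitive (MulAction.stabilizer G α) (MulAction.orbit (MulAction.stabilizer G α) ω)) (α : Ω)
    (hH1 : MulAction.stabilizer G α ≠ ⊥) (hHp : ¬ (Nat.card (MulAction.stabilizer G α)).Prime) :
    Subgroup.center (MulAction.stabilizer G α) = ⊥ ∧
    IsMulCommutative (Cfsg.fittingSubgroup (MulAction.stabilizer G α)) ∧
    ∃ p e : ℕ, p.Prime ∧ Nat.card (Cfsg.fittingSubgroup (MulAction.stabilizer G α)) = p ^ e ∧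
      (∀ x ∈ Cfsg.fittingSubgroup (MulAction.stabilizer G α), x ^ p = 1) ∧
      (Cfsg.fittingSubgroup (MulAction.stabilizer G α) ≠ ⊥ →
        p ^ e ∣ Fintype.card Ω - 1 ∧
        ∃ φ : MulAction.stabilizer G α →* GL (Fin e) (ZMod p), φ.ker = Cfsg.fittingSubgroup (MulAction.stabilizer G α)) := by
  classical
  haveI := hprim
  haveI : Nontrivial Ω := by
    by_contra hnt
    rw [not_nontrivial_iff_subsingleton] at hnt
    apply hH1
    rw [Subgroup.eq_bot_iff_forall]
    intro g _
    apply Cfsg.Agent.S3680.eq_one_of_fixes_all (Ω := Ω)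
    intro x
    exact Subsingleton.elim _ _
  have hepα := hep α
  have hmapH : ∀ N : Subgroup (MulAction.stabilizer G α),
      N.map (MulAction.stabilizer G α).subtype ≤ MulAction.stabilizer G α :=
    fun N => Subgroup.map_subtype_le N
  have hmapn : ∀ N : Subgroup (MulAction.stabilizer G α), N.Normal →
      MulAction.stabilizer G α ≤ Subgroup.normalizer
        ((N.map (MulAction.stabilizer G α).subtype : Subgroup G) : Set G) := by
    intro N hN h hh
    apply Cfsg.Agent.Helper20.TwoModFour.mem_normalizer_of_conj_mem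
    rintro _ ⟨n, hn, rfl⟩
    exact ⟨⟨h, hh⟩ * n * ⟨h, hh⟩⁻¹, hN.conj_mem n hn ⟨h, hh⟩, rfl⟩
  have hmap1 : ∀ N : Subgroup (MulAction.stabilizer G α), N ≠ ⊥ →
      N.map (MulAction.stabilizer G α).subtype ≠ ⊥ := by
    intro N hN h
    apply hN
    rw [Subgroup.eq_bot_iff_forall] at h ⊢
    intro n hn
    exact Subtype.ext (h _ ⟨n, hn, rfl⟩)
  have hmapmem : ∀ (N : Subgroup (MulAction.stabilizer G α)) (x : MulAction.stabilizer G α),
      (x : G) ∈ N.map (MulAction.stabilizer G α).subtype ↔ x ∈ N := by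
    intro N x
    constructor
    · rintro ⟨n, hn, hnx⟩
      have : n = x := Subtype.ext hnx
      rw [← this]; exact hn
    · intro hx; exact ⟨x, hx, rfl⟩
  have hcenter : Subgroup.center (MulAction.stabilizer G α) = ⊥ := by
    by_contra hZ
    obtain ⟨z, hz, hz1⟩ : ∃ z ∈ Subgroup.center (MulAction.stabilizer G α), z ≠ 1 := by
      by_contra h; push Not at h
      exact hZ ((Subgroup.eq_bot_iff_forall _).mpr h)
    have hzG1 : (z : G) ≠ 1 := fun h => hz1 (Subtype.ext h)
    have hzc : ∀ h ∈ MulAction.stabilizer G α, h * (z : G) = (z : G) * h := by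
      intro h hh
      have := Subgroup.mem_center_iff.mp hz ⟨h, hh⟩
      exact congrArg Subtype.val this
    have hKH : Subgroup.zpowers (z : G) ≤ MulAction.stabilizer G α := by
      rw [Subgroup.zpowers_le]; exact z.2
    have hKc : ∀ a ∈ Subgroup.zpowers (z : G), ∀ b ∈ Subgroup.zpowers (z : G), a * b = b * a := by
      intro a ha b hb
      obtain ⟨i, rfl⟩ := Subgroup.mem_zpowers_iff.mp ha
      obtain ⟨j, rfl⟩ := Subgroup.mem_zpowers_iff.mp hb
      exact ((Commute.refl (z : G)).zpow_zpow i j).eq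
    have hKcent : ∀ h ∈ MulAction.stabilizer G α, ∀ k ∈ Subgroup.zpowers (z : G),
        h * k = k * h := by
      intro h hh k hk
      obtain ⟨i, rfl⟩ := Subgroup.mem_zpowers_iff.mp hk
      exact ((show Commute h (z : G) from hzc h hh).zpow_right i).eq
    have hKn : MulAction.stabilizer G α ≤
        Subgroup.normalizer ((Subgroup.zpowers (z : G) : Subgroup G) : Set G) := by
      intro h hh
      apply Cfsg.Agent.Helper20.TwoModFour.mem_normalizer_of_conj_mem
      intro k hk
      have e : h * k * h⁻¹ = k := by rw [hKcent h hh k hk]; group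
      rw [e]; exact hk
    have hK1 : Subgroup.zpowers (z : G) ≠ ⊥ := by
      intro h
      have : (z : G) ∈ Subgroup.zpowers (z : G) := Subgroup.mem_zpowers _
      rw [h, Subgroup.mem_bot] at this
      exact hzG1 this
    have hHK : MulAction.stabilizer G α ≤ Subgroup.zpowers (z : G) := by
      intro h hh
      exact Cfsg.Agent.Helper20.ExtFit.self_cent hprim α hepα _ hKH hKn hK1 hKc h hh
        (hKcent h hh)
    have hHc : ∀ a ∈ MulAction.stabilizer G α, ∀ b ∈ MulAction.stabilizer G α, a * b = b * a :=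
      fun a ha b hb => hKc a (hHK ha) b (hHK hb)
    obtain ⟨r, hr, hrd⟩ := Nat.exists_prime_and_dvd
      (show orderOf (z : G) ≠ 1 from by rwa [Ne, orderOf_eq_one_iff])
    obtain ⟨y, hy⟩ : ∃ y : G, y = (z : G) ^ (orderOf (z : G) / r) := ⟨_, rfl⟩
    have hyo : orderOf y = r := by
      rw [hy]; exact orderOf_pow_orderOf_div (orderOf_pos _).ne' hrd
    have hyH : y ∈ MulAction.stabilizer G α := by rw [hy]; exact Subgroup.pow_mem _ z.2 _
    have hy1 : y ≠ 1 := by
      intro h; rw [h, orderOf_one] at hyo; exact hr.ne_one hyo.symm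
    have hYH : Subgroup.zpowers y ≤ MulAction.stabilizer G α := by
      rw [Subgroup.zpowers_le]; exact hyH
    have hYn : MulAction.stabilizer G α ≤
        Subgroup.normalizer ((Subgroup.zpowers y : Subgroup G) : Set G) := by
      intro h hh
      apply Cfsg.Agent.Helper20.TwoModFour.mem_normalizer_of_conj_mem
      intro k hk
      have e : h * k * h⁻¹ = k := by rw [hHc h hh k (hYH hk)]; group
      rw [e]; exact hk
    have hY1 : Subgroup.zpowers y ≠ ⊥ := by
      intro h
      have : y ∈ Subgroup.zpowers y := Subgroup.mem_zpowers _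
      rw [h, Subgroup.mem_bot] at this
      exact hy1 this
    have hYc : ∀ a ∈ Subgroup.zpowers y, ∀ b ∈ Subgroup.zpowers y, a * b = b * a :=
      fun a ha b hb => hHc a (hYH ha) b (hYH hb)
    have hle := Cfsg.Agent.Helper20.ExtFit.unique_comm hprim α hepα (Subgroup.zpowers y)
      (Subgroup.zpowers (z : G)) hYH hKH hYn hKn hY1 hYc hKc
    have hHY : MulAction.stabilizer G α = Subgroup.zpowers y :=
      le_antisymm (hHK.trans hle) hYH
    apply hHp
    rw [hHY, Nat.card_zpowers, hyo]; exact hr
  obtain ⟨F, hF⟩ : ∃ F : Subgroup (MulAction.stabilizer G α),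
      F = Cfsg.fittingSubgroup (MulAction.stabilizer G α) := ⟨_, rfl⟩
  rw [← hF]
  refine ⟨hcenter, ?_⟩
  by_cases hall : ∀ N : Subgroup (MulAction.stabilizer G α), N.Normal → Group.IsNilpotent N →
      N = ⊥
  · have hFbot : F = ⊥ := by
      rw [hF, Cfsg.fittingSubgroup, sSup_eq_bot]
      rintro N ⟨hN, hNn⟩
      exact hall N hN hNn
    rw [hFbot]
    refine ⟨⟨⟨fun a b => Subsingleton.elim _ _⟩⟩, 2, 0, Nat.prime_two, by simp, ?_,
      fun h => absurd rfl h⟩
    intro x hx
    rw [Subgroup.mem_bot] at hx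
    rw [hx, one_pow]
  · push Not at hall
    obtain ⟨N₀, hN₀n, hN₀nil, hN₀1⟩ := hall
    have hK₀H := hmapH N₀
    have hK₀n := hmapn N₀ hN₀n
    have hK₀1 := hmap1 N₀ hN₀1
    have key : ∀ N : Subgroup (MulAction.stabilizer G α), N.Normal → Group.IsNilpotent N →
        N ≠ ⊥ → ∀ a ∈ N.map (MulAction.stabilizer G α).subtype,
          ∀ b ∈ N.map (MulAction.stabilizer G α).subtype, a * b = b * a := by
      intro N hNn hNnil hN1
      apply Cfsg.Agent.Helper20.ExtFit.comm_of_center hprim α hepα _ (hmapH N) (hmapn N hNn)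
      haveI : Nontrivial N := (Subgroup.nontrivial_iff_ne_bot N).mpr hN1
      haveI := hNnil
      have hc := Group.IsNilpotent.center_ne_bot N
      obtain ⟨z, hz, hz1⟩ : ∃ z ∈ Subgroup.center N, z ≠ 1 := by
        by_contra h; push Not at h
        exact hc ((Subgroup.eq_bot_iff_forall _).mpr h)
      refine ⟨((z : MulAction.stabilizer G α) : G), ⟨z, z.2, rfl⟩, ?_, ?_⟩
      · intro h
        apply hz1
        exact Subtype.ext (Subtype.ext h)
      · rintro _ ⟨k, hk, rfl⟩
        have := Subgroup.mem_center_iff.mp hz ⟨k, hk⟩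
        exact congrArg (fun x : N => ((x : MulAction.stabilizer G α) : G)) this
    have hK₀c := key N₀ hN₀n hN₀nil hN₀1
    have huniq : ∀ N : Subgroup (MulAction.stabilizer G α), N.Normal → Group.IsNilpotent N →
        N ≠ ⊥ → N = N₀ := by
      intro N hNn hNnil hN1
      have hc := key N hNn hNnil hN1
      have h1 := Cfsg.Agent.Helper20.ExtFit.unique_comm hprim α hepα
        (N.map (MulAction.stabilizer G α).subtype) (N₀.map (MulAction.stabilizer G α).subtype)
        (hmapH N) hK₀H (hmapn N hNn) hK₀n (hmap1 N hN1) hc hK₀c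
      have h2 := Cfsg.Agent.Helper20.ExtFit.unique_comm hprim α hepα
        (N₀.map (MulAction.stabilizer G α).subtype) (N.map (MulAction.stabilizer G α).subtype)
        hK₀H (hmapH N) hK₀n (hmapn N hNn) hK₀1 hK₀c hc
      ext x
      rw [← hmapmem N x, ← hmapmem N₀ x]
      exact ⟨fun h => h2 h, fun h => h1 h⟩
    have hFN₀ : F = N₀ := by
      rw [hF, Cfsg.fittingSubgroup]
      apply le_antisymm
      · apply sSup_le
        rintro N ⟨hN, hNn⟩
        by_cases hN1 : N = ⊥
        · rw [hN1]; exact bot_le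
        · rw [huniq N hN hNn hN1]
      · exact le_sSup ⟨hN₀n, hN₀nil⟩
    rw [hFN₀]
    have hN₀c : ∀ a ∈ N₀, ∀ b ∈ N₀, a * b = b * a := by
      intro a ha b hb
      apply Subtype.ext
      exact hK₀c a ⟨a, ha, rfl⟩ b ⟨b, hb, rfl⟩
    obtain ⟨p, hp, hpK⟩ := Cfsg.Agent.Helper20.ExtFit.exponent_p hprim α hepα _ hK₀H hK₀n hK₀1
      hK₀c
    have hN₀p : ∀ x ∈ N₀, x ^ p = 1 := by
      intro x hx
      apply Subtype.ext
      have := hpK x ⟨x, hx, rfl⟩
      simpa using this
    haveI : Fact p.Prime := ⟨hp⟩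
    have hpg : IsPGroup p N₀ := by
      intro x
      refine ⟨1, ?_⟩
      rw [pow_one]
      exact Subtype.ext (hN₀p x x.2)
    obtain ⟨e, he⟩ := IsPGroup.iff_card.mp hpg
    refine ⟨⟨⟨fun a b => Subtype.ext (hN₀c a a.2 b b.2)⟩⟩, p, e, hp, he, hN₀p,
      fun _ => ⟨?_, ?_⟩⟩
    · have h1 := Cfsg.Agent.Helper20.ExtFit.card_dvd hprim α hepα _ hK₀H hK₀n hK₀1 hK₀c
      have h2 : Nat.card (N₀.map (MulAction.stabilizer G α).subtype) = Nat.card N₀ :=
        Subgroup.card_map_of_injective (Subgroup.subtype_injective _)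
      rw [h2, he] at h1
      exact h1
    · haveI := hN₀n
      obtain ⟨φ, hφ⟩ := Cfsg.Agent.Helper20.ConjGL.exists_gl_hom N₀ p e hN₀c hN₀p he
      refine ⟨φ, ?_⟩
      rw [hφ]
      apply le_antisymm
      · intro c hc
        rw [Subgroup.mem_centralizer_iff] at hc
        rw [← hmapmem N₀ c]
        apply Cfsg.Agent.Helper20.ExtFit.self_cent hprim α hepα _ hK₀H hK₀n hK₀1 hK₀c c c.2
        rintro _ ⟨k, hk, rfl⟩
        have := hc k hk
        exact (congrArg Subtype.val this).symm
      · intro c hc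
        rw [Subgroup.mem_centralizer_iff]
        intro k hk
        exact hN₀c k hk c hc

end Cfsg.Agent.S3497
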