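import Mathlib
import Cfsg.Statements.S3520
import Cfsg.Agent.Helper20.DerClasses

set_option autoImplicit false
open Cfsg

namespace Cfsg.Agent.S3520

/-- Let a finite group G act faithfully and primitively on a finite set Ω with at least two points, suppose G is not almost simple (no non-abelian simple normal subgroup with trivial centralizer), and suppose the derangements of G form exactly two conjugacy classes. Then either Ω has 3 points and G has order 3; or G has a non-trivial abelian normal subgroup N acting regularly, every non-identity element of G fixes at most one point (so, when n > 3, G is a Frobenius group with kernel N), the number n of points is odd and a point stabilizer has order (n − 1)/2; or G is 2-transitive with a non-trivial abelian regular normal subgroup and some non-identity element fixes at least two points (a non-Frobenius 2-transitive affine group). -/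
theorem result {G : Type*} [Group G] [Finite G] {Ω : Type*} [Fintype Ω] [MulAction G Ω] [FaithfulSMul G Ω] (hΩ : 2 ≤ Fintype.card Ω) (hprim : MulAction.IsPreprimitive G Ω) (hnas : ¬ ∃ T : Subgroup G, T.Normal ∧ IsSimpleGroup T ∧ ¬ IsMulCommutative T ∧ Subgroup.centralizer (T : Set G) = ⊥)
    (hκ : Nat.card {c : ConjClasses G // ∃ g : G, ConjClasses.mk g = c ∧ ∀ ω : Ω, g • ω ≠ ω} = 2) (α : Ω) :
    (Fintype.card Ω = 3 ∧ Nat.card G = 3) ∨
    ((∃ N : Subgroup G, N.Normal ∧ N ≠ ⊥ ∧ IsMulCommutative N ∧ ∀ ω : Ω, MulAction.stabilizer N ω = ⊥) ∧ (∀ g : G, g ≠ 1 → Nat.card (MulAction.fixedBy Ω g) ≤ 1) ∧ ¬ 2 ∣ Fintype.card Ω ∧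
        2 * Nat.card (MulAction.stabilizer G α) = Fintype.card Ω - 1) ∨
    ((∃ N : Subgroup G, N.Normal ∧ N ≠ ⊥ ∧ IsMulCommutative N ∧ ∀ ω : Ω, MulAction.stabilizer N ω = ⊥) ∧ MulAction.IsMultiplyPretransitive G Ω 2 ∧ ∃ g : G, g ≠ 1 ∧ 2 ≤ Nat.card (MulAction.fixedBy Ω g)) := by
  classical
  haveI := hprim
  have hGnt : (⊤ : Subgroup G) ≠ ⊥ := by
    intro h
    obtain ⟨β, hβ⟩ : ∃ β : Ω, β ≠ α := by
      by_contra hno
      push Not at hno
      have : Fintype.card Ω ≤ 1 :=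
        Fintype.card_le_one_iff.mpr (fun a b => (hno a).trans (hno b).symm)
      omega
    obtain ⟨g, hg⟩ := MulAction.exists_smul_eq G α β
    have hg' : g ∈ (⊤ : Subgroup G) := trivial
    rw [h, Subgroup.mem_bot] at hg'
    rw [hg', one_smul] at hg
    exact hβ hg.symm
  obtain ⟨N, ⟨hN1, hNn⟩, hNmin'⟩ := Cfsg.Agent.S3501.exists_min_card
    (fun N : Subgroup G => N ≠ ⊥ ∧ N.Normal) ⟨⊤, hGnt, inferInstance⟩
  haveI := hNn
  have hNmin : ∀ M : Subgroup G, M.Normal → M ≤ N → M = ⊥ ∨ M = N := by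
    intro M hM hMN
    by_cases h : M = ⊥
    · exact Or.inl h
    · exact Or.inr (hNmin' M ⟨h, hM⟩ hMN)
  have hNtr : MulAction.IsPretransitive N Ω := Cfsg.Agent.S3680.trans_of_normal N hN1
  by_cases hNc : IsMulCommutative N
  · have hNc' : ∀ x ∈ N, ∀ y ∈ N, x * y = y * x := by
      intro x hx y hy
      have := hNc.is_comm.comm ⟨x, hx⟩ ⟨y, hy⟩
      exact congrArg Subtype.val this
    have hreg : ∀ ω : Ω, MulAction.stabilizer N ω = ⊥ := by
      intro ω
      rw [Subgroup.eq_bot_iff_forall]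
      intro x hx
      apply Subtype.ext
      apply Cfsg.Agent.S3680.eq_one_of_commute_of_fix N hNtr (c := (x : G)) _ (ω := ω) hx
      intro v hv
      exact hNc' x x.2 v hv
    have hex : ∃ N : Subgroup G, N.Normal ∧ N ≠ ⊥ ∧ IsMulCommutative N ∧
        ∀ ω : Ω, MulAction.stabilizer N ω = ⊥ := ⟨N, hNn, hN1, hNc, hreg⟩
    rcases Cfsg.Agent.Helper20.DerClasses.affine_case hκ α hΩ N hNtr hNc' with h | h
    · exact Or.inr (Or.inl ⟨hex, h⟩)
    · exact Or.inr (Or.inr ⟨hex, h⟩)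
  · exfalso
    have h3 : ∃ y₁ y₂ y₃ : G, (∀ ω : Ω, y₁ • ω ≠ ω) ∧ (∀ ω : Ω, y₂ • ω ≠ ω) ∧
        (∀ ω : Ω, y₃ • ω ≠ ω) ∧ ¬ IsConj y₁ y₂ ∧ ¬ IsConj y₁ y₃ ∧ ¬ IsConj y₂ y₃ := by
      by_cases hC : Subgroup.centralizer (N : Set G) = ⊥
      · by_cases hNs : IsSimpleGroup N
        · exact absurd ⟨N, hNn, hNs, hNc, hC⟩ hnas
        · obtain ⟨A, B, hA1, hB1, hAN, hBN, hAB, hcomm, hdec, hcf, hAnorm, hAmin, hdich, hexg⟩ :=
            Cfsg.Agent.Helper20.decomp2 N hN1 hNmin hC hNs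
          exact Cfsg.Agent.Helper20.DerClasses.nonsimple_three N hNtr A B hA1 hB1 hAB hcomm hdec
            hcf hAmin hdich hexg
      · exact Cfsg.Agent.Helper20.DerClasses.cent_three N hN1 hNmin hNc hC
    obtain ⟨y₁, y₂, y₃, h₁, h₂, h₃, h12, h13, h23⟩ := h3
    exact Cfsg.Agent.Helper20.DerClasses.three_classes_false hκ y₁ y₂ y₃ h₁ h₂ h₃ h12 h13 h23

end Cfsg.Agent.S3520
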