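import Cfsg.Statements.S3532
import Mathlib
import Cfsg.Agent.Helper15.PS

set_option autoImplicit false
open Cfsg

namespace Cfsg.Agent.S3532

open Cfsg.Agent.Helper15.PS

section aff
variable (K : Type*) [Field K]

/-- action of a subgroup of `Kˣ` on the additive group of `K` -/
def affHom (A : Subgroup Kˣ) : A →* MulAut (Multiplicative K) where
  toFun c :=
    { toFun := fun v => Multiplicative.ofAdd ((((c : Kˣ) : K)) * v.toAdd)
      invFun := fun v => Multiplicative.ofAdd (((((c : Kˣ)⁻¹ : Kˣ) : K)) * v.toAdd)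
      left_inv := fun v => by simp
      right_inv := fun v => by simp
      map_mul' := fun v w => by simp [mul_add] }
  map_one' := by ext v; simp
  map_mul' c d := by ext v; simp [mul_assoc]

theorem affHom_apply (A : Subgroup Kˣ) (c : A) (v : Multiplicative K) :
    affHom K A c v = Multiplicative.ofAdd ((((c : Kˣ) : K)) * v.toAdd) := rfl

theorem aff_order_ne (A : Subgroup Kˣ) (x : Multiplicative K ⋊[affHom K A] A)
    (hx : x.right ≠ 1) : orderOf x = orderOf x.right := by
  have h1 : (1 - ((x.right : Kˣ) : K)) ≠ 0 := by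
    intro h
    apply hx
    apply Subtype.ext
    apply Units.ext
    have h2 := sub_eq_zero.mp h
    simp [← h2]
  have hsc : SemiconjBy (SemidirectProduct.inl (Multiplicative.ofAdd
      (x.left.toAdd / (1 - ((x.right : Kˣ) : K)))) : Multiplicative K ⋊[affHom K A] A)
      (SemidirectProduct.inr x.right) x := by
    unfold SemiconjBy
    apply SemidirectProduct.ext
    · simp only [SemidirectProduct.mul_left, SemidirectProduct.left_inl,
        SemidirectProduct.left_inr, SemidirectProduct.right_inl, map_one, affHom_apply]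
      apply Multiplicative.toAdd.injective
      simp only [toAdd_mul, toAdd_ofAdd, toAdd_one, mul_zero, add_zero]
      field_simp
      ring
    · simp
  rw [← hsc.orderOf_eq]
  exact orderOf_injective SemidirectProduct.inr SemidirectProduct.inr_injective _

theorem aff_order_one (A : Subgroup Kˣ) (x : Multiplicative K ⋊[affHom K A] A)
    (hx : x.right = 1) (p : ℕ) [Fact p.Prime] [CharP K p] : orderOf x = 1 ∨ orderOf x = p := by
  have hx' : x = SemidirectProduct.inl x.left := by
    apply SemidirectProduct.ext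
    · simp
    · simp [hx]
  rw [hx', orderOf_injective SemidirectProduct.inl SemidirectProduct.inl_injective]
  have h1 : x.left = Multiplicative.ofAdd x.left.toAdd := rfl
  rw [h1, orderOf_ofAdd_eq_addOrderOf]
  by_cases h0 : x.left.toAdd = 0
  · left; rw [h0]; simp
  · right
    apply addOrderOf_eq_prime _ h0
    rw [nsmul_eq_mul, CharP.cast_eq_zero, zero_mul]

instance aff_solvable (A : Subgroup Kˣ) : Group.IsSolvable (Multiplicative K ⋊[affHom K A] A) :=
  Group.isSolvable_of_ker_le_range (SemidirectProduct.inl : Multiplicative K →* _)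
    SemidirectProduct.rightHom (by rw [SemidirectProduct.range_inl_eq_ker_rightHom])

instance aff_finite [Finite K] (A : Subgroup Kˣ) : Finite (Multiplicative K ⋊[affHom K A] A) :=
  Finite.of_equiv _ SemidirectProduct.equivProd.symm

theorem aff_spectrum [Finite K] (p : ℕ) [Fact p.Prime] [CharP K p] (A : Subgroup Kˣ) :
    Set.range (orderOf : Multiplicative K ⋊[affHom K A] A → ℕ) =
      {n | n ∣ p ∨ n ∣ Nat.card A} := by
  apply Set.Subset.antisymm
  · rintro n ⟨x, rfl⟩
    by_cases hx : x.right = 1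
    · left
      rcases aff_order_one K A x hx p with h | h
      · rw [h]; exact one_dvd _
      · rw [h]
    · right
      rw [aff_order_ne K A x hx]
      exact orderOf_dvd_natCard _
  · rintro n (h | h)
    · rcases (Nat.dvd_prime (Fact.out)).mp h with rfl | rfl
      · exact ⟨1, orderOf_one⟩
      · refine ⟨SemidirectProduct.inl (Multiplicative.ofAdd 1), ?_⟩
        rw [orderOf_injective SemidirectProduct.inl SemidirectProduct.inl_injective,
          orderOf_ofAdd_eq_addOrderOf]
        apply addOrderOf_eq_prime _ one_ne_zero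
        rw [nsmul_eq_mul, CharP.cast_eq_zero, zero_mul]
    · obtain ⟨g, hg⟩ := IsCyclic.exists_generator (α := A)
      have hgo : orderOf g = Nat.card A := orderOf_eq_card_of_forall_mem_zpowers hg
      have hg0 : orderOf g ≠ 0 := by rw [hgo]; exact Nat.card_pos.ne'
      rw [← hgo] at h
      refine ⟨SemidirectProduct.inr (g ^ (orderOf g / n)), ?_⟩
      rw [orderOf_injective SemidirectProduct.inr SemidirectProduct.inr_injective]
      exact orderOf_pow_orderOf_div hg0 h

end aff

theorem exists_subgroup_card {G : Type*} [Group G] [Finite G] [IsCyclic G] {e : ℕ}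
    (he : e ∣ Nat.card G) : ∃ A : Subgroup G, Nat.card A = e := by
  obtain ⟨g, hg⟩ := IsCyclic.exists_generator (α := G)
  have hgo : orderOf g = Nat.card G := orderOf_eq_card_of_forall_mem_zpowers hg
  have hg0 : orderOf g ≠ 0 := by rw [hgo]; exact Nat.card_pos.ne'
  rw [← hgo] at he
  exact ⟨Subgroup.zpowers (g ^ (orderOf g / e)),
    by rw [Nat.card_zpowers, orderOf_pow_orderOf_div hg0 he]⟩

/-- Let q ≥ 4 be a prime power and L = PSL(2,q). There is a finite solvable group with the same set of element orders as L × L (so L × L is not determined by its spectrum). -/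
theorem result {F : Type*} [Field F] [Fintype F] (hF : 4 ≤ Fintype.card F) :
    ∃ (H : Type) (_ : Group H) (_ : Finite H), Group.IsSolvable H ∧
      Set.range (orderOf : H → ℕ) = Set.range (orderOf : Matrix.ProjectiveSpecialLinearGroup (Fin 2) F × Matrix.ProjectiveSpecialLinearGroup (Fin 2) F → ℕ) := by
  classical
  obtain ⟨p, hp⟩ := CharP.exists F
  haveI := hp
  haveI : Fact p.Prime := ⟨CharP.char_is_prime F p⟩
  obtain ⟨f, -, hf⟩ := FiniteField.card F p
  have hpF : ringChar F = p := ringChar.eq F p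
  have hq2 : 2 ≤ Fintype.card F := Fintype.one_lt_card
  have hd2 : Nat.gcd 2 (Fintype.card F - 1) ∣ 2 := Nat.gcd_dvd_left _ _
  have hdq : Nat.gcd 2 (Fintype.card F - 1) ∣ Fintype.card F - 1 := Nat.gcd_dvd_right _ _
  have hdq' : Nat.gcd 2 (Fintype.card F - 1) ∣ Fintype.card F + 1 := by
    have h1 : Fintype.card F + 1 = (Fintype.card F - 1) + 2 := by omega
    rw [h1]; exact dvd_add hdq hd2
  have hf0 : (f : ℕ) ≠ 0 := f.pos.ne'
  have hK1 : Nat.card (GaloisField p f) = Fintype.card F := by
    rw [GaloisField.card p f hf0, hf]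
  have hK2 : Nat.card (GaloisField p (2 * f)) = Fintype.card F ^ 2 := by
    rw [GaloisField.card p (2 * f) (by omega), hf, ← pow_mul, mul_comm]
  have ha : (Fintype.card F - 1) / Nat.gcd 2 (Fintype.card F - 1) ∣
      Nat.card (GaloisField p f)ˣ := by
    rw [Nat.card_units, hK1]; exact Nat.div_dvd_of_dvd hdq
  have hb : (Fintype.card F + 1) / Nat.gcd 2 (Fintype.card F - 1) ∣
      Nat.card (GaloisField p (2 * f))ˣ := by
    rw [Nat.card_units, hK2]
    refine (Nat.div_dvd_of_dvd hdq').trans ⟨Fintype.card F - 1, ?_⟩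
    obtain ⟨m, hm⟩ : ∃ m, Fintype.card F = m + 1 := ⟨Fintype.card F - 1, by omega⟩
    rw [hm]
    simp only [Nat.add_sub_cancel]
    have h3 : (m + 1) ^ 2 - 1 = m * m + 2 * m := by
      have : (m + 1) ^ 2 = m * m + 2 * m + 1 := by ring
      omega
    rw [h3]; ring
  obtain ⟨A, hA⟩ := exists_subgroup_card ha
  obtain ⟨B, hB⟩ := exists_subgroup_card hb
  have hX := aff_spectrum (GaloisField p f) p A
  have hY := aff_spectrum (GaloisField p (2 * f)) p B
  have hL := psl2_spectrum (F := F)
  rw [hpF] at hL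
  rw [hA] at hX
  rw [hB] at hY
  refine ⟨(Multiplicative (GaloisField p f) ⋊[affHom _ A] A) ×
    (Multiplicative (GaloisField p (2 * f)) ⋊[affHom _ B] B), inferInstance, inferInstance,
    inferInstance, ?_⟩
  apply Set.Subset.antisymm
  · rintro n ⟨⟨x, y⟩, rfl⟩
    have hx : orderOf x ∈ Set.range (orderOf :
        Multiplicative (GaloisField p f) ⋊[affHom _ A] A → ℕ) := ⟨x, rfl⟩
    rw [hX] at hx
    have hy : orderOf y ∈ Set.range (orderOf :
        Multiplicative (GaloisField p (2 * f)) ⋊[affHom _ B] B → ℕ) := ⟨y, rfl⟩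
    rw [hY] at hy
    have hx' : orderOf x ∈ Set.range
        (orderOf : Matrix.ProjectiveSpecialLinearGroup (Fin 2) F → ℕ) := by
      rw [hL]
      rcases hx with h | h
      · exact Or.inl h
      · exact Or.inr (Or.inl h)
    have hy' : orderOf y ∈ Set.range
        (orderOf : Matrix.ProjectiveSpecialLinearGroup (Fin 2) F → ℕ) := by
      rw [hL]
      rcases hy with h | h
      · exact Or.inl h
      · exact Or.inr (Or.inr h)
    obtain ⟨x', hx'⟩ := hx'
    obtain ⟨y', hy'⟩ := hy'
    exact ⟨(x', y'), by rw [Prod.orderOf, Prod.orderOf, hx', hy']⟩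
  · rintro n ⟨⟨x, y⟩, rfl⟩
    have hx : orderOf x ∈ Set.range
        (orderOf : Matrix.ProjectiveSpecialLinearGroup (Fin 2) F → ℕ) := ⟨x, rfl⟩
    have hy : orderOf y ∈ Set.range
        (orderOf : Matrix.ProjectiveSpecialLinearGroup (Fin 2) F → ℕ) := ⟨y, rfl⟩
    rw [hL] at hx hy
    rw [Prod.orderOf]
    have key : ∃ m1 m2, (m1 ∣ p ∨ m1 ∣ (Fintype.card F - 1) / Nat.gcd 2 (Fintype.card F - 1)) ∧
        (m2 ∣ p ∨ m2 ∣ (Fintype.card F + 1) / Nat.gcd 2 (Fintype.card F - 1)) ∧
        Nat.lcm m1 m2 = Nat.lcm (orderOf x) (orderOf y) := by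
      rcases hx with h1 | h1 | h1 <;> rcases hy with h2 | h2 | h2
      · exact ⟨Nat.lcm (orderOf x) (orderOf y), 1, Or.inl (Nat.lcm_dvd h1 h2),
          Or.inl (one_dvd _), Nat.lcm_one_right _⟩
      · exact ⟨orderOf y, orderOf x, Or.inr h2, Or.inl h1, Nat.lcm_comm _ _⟩
      · exact ⟨orderOf x, orderOf y, Or.inl h1, Or.inr h2, rfl⟩
      · exact ⟨orderOf x, orderOf y, Or.inr h1, Or.inl h2, rfl⟩
      · exact ⟨Nat.lcm (orderOf x) (orderOf y), 1, Or.inr (Nat.lcm_dvd h1 h2),
          Or.inl (one_dvd _), Nat.lcm_one_right _⟩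
      · exact ⟨orderOf x, orderOf y, Or.inr h1, Or.inr h2, rfl⟩
      · exact ⟨orderOf y, orderOf x, Or.inl h2, Or.inr h1, Nat.lcm_comm _ _⟩
      · exact ⟨orderOf y, orderOf x, Or.inr h2, Or.inr h1, Nat.lcm_comm _ _⟩
      · exact ⟨1, Nat.lcm (orderOf x) (orderOf y), Or.inl (one_dvd _),
          Or.inr (Nat.lcm_dvd h1 h2), Nat.lcm_one_left _⟩
    obtain ⟨m1, m2, h1, h2, h3⟩ := key
    have hm1 : m1 ∈ Set.range (orderOf :
        Multiplicative (GaloisField p f) ⋊[affHom _ A] A → ℕ) := by rw [hX]; exact h1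
    have hm2 : m2 ∈ Set.range (orderOf :
        Multiplicative (GaloisField p (2 * f)) ⋊[affHom _ B] B → ℕ) := by rw [hY]; exact h2
    obtain ⟨x', rfl⟩ := hm1
    obtain ⟨y', rfl⟩ := hm2
    exact ⟨(x', y'), by rw [Prod.orderOf, h3]⟩

end Cfsg.Agent.S3532
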