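import Cfsg.Statements.S3554

set_option autoImplicit false
open Cfsg

namespace Cfsg.Agent.S3554

theorem mem_zpowers_of_orderOf_eq_prime {C : Type*} [Group C] [Finite C] [IsCyclic C] {p : ℕ}
    (hp : p.Prime) (x y : C) (hx : orderOf x = p) (hy : orderOf y = p) :
    y ∈ Subgroup.zpowers x := by
  classical
  haveI : Fintype C := Fintype.ofFinite C
  have hle : (Finset.univ.filter (fun a : C => a ^ p = 1)).card ≤ p :=
    IsCyclic.card_pow_eq_one_le hp.pos
  have hsub : ((Subgroup.zpowers x : Set C).toFinset) ⊆ Finset.univ.filter (fun a : C => a ^ p = 1) := by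
    intro a ha
    rw [Set.mem_toFinset] at ha
    rw [Finset.mem_filter]
    refine ⟨Finset.mem_univ _, ?_⟩
    obtain ⟨k, rfl⟩ := ha
    rw [← zpow_natCast, ← zpow_mul, mul_comm, zpow_mul, zpow_natCast, ← hx, pow_orderOf_eq_one, one_zpow]
  have hcard : ((Subgroup.zpowers x : Set C).toFinset).card = p := by
    rw [Set.toFinset_card, ← Nat.card_eq_fintype_card]
    rw [← hx]
    exact Nat.card_zpowers x
  have heq := Finset.eq_of_subset_of_card_le hsub (by rw [hcard]; exact hle)
  have hymem : y ∈ Finset.univ.filter (fun a : C => a ^ p = 1) := by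
    rw [Finset.mem_filter]
    exact ⟨Finset.mem_univ _, by rw [← hy, pow_orderOf_eq_one]⟩
  rw [← heq, Set.mem_toFinset] at hymem
  exact hymem

/-- Let G act faithfully and transitively on a finite set and suppose G has a non-trivial cyclic normal subgroup. Then some element of G of prime order fixes no point. -/
theorem result {G Ω : Type*} [Group G] [Finite G] [MulAction G Ω] [FaithfulSMul G Ω] [Finite Ω]
    (htrans : MulAction.IsPretransitive G Ω) (C : Subgroup G) (hC : C.Normal) (hC1 : C ≠ ⊥) (hcyc : IsCyclic ↥C) :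
    ∃ g : G, (orderOf g).Prime ∧ ∀ ω : Ω, g • ω ≠ ω := by
  classical
  have hcard : Nat.card C ≠ 1 := by
    intro h
    exact hC1 (Subgroup.card_eq_one.mp h)
  obtain ⟨p, hp, hpd⟩ := Nat.exists_prime_and_dvd hcard
  haveI : Fact p.Prime := ⟨hp⟩
  obtain ⟨x, hx⟩ := exists_prime_orderOf_dvd_card' p hpd
  have hxG : orderOf (x : G) = p := by rw [Subgroup.orderOf_coe, hx]
  refine ⟨(x : G), by rw [hxG]; exact hp, ?_⟩
  by_contra hcon
  push_neg at hcon
  obtain ⟨ω, hω⟩ := hcon
  have hall : ∀ ω' : Ω, (x : G) • ω' = ω' := by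
    intro ω'
    obtain ⟨h, rfl⟩ := MulAction.exists_smul_eq G ω ω'
    have hmemC : h⁻¹ * (x : G) * h ∈ C := by
      have := hC.conj_mem (x : G) x.2 h⁻¹
      simpa using this
    have hord : orderOf (⟨h⁻¹ * (x : G) * h, hmemC⟩ : C) = p := by
      rw [← Subgroup.orderOf_coe]
      change orderOf (h⁻¹ * (x : G) * h) = p
      have : h⁻¹ * (x : G) * h = MulAut.conj h⁻¹ (x : G) := by simp [MulAut.conj_apply]
      rw [this, MulEquiv.orderOf_eq, hxG]
    have hz := mem_zpowers_of_orderOf_eq_prime hp x ⟨h⁻¹ * (x : G) * h, hmemC⟩ hx hord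
    obtain ⟨k, hk⟩ := hz
    have hk' : (x : G) ^ k = h⁻¹ * (x : G) * h := by
      have := congrArg (Subtype.val) hk
      simpa using this
    have hstab : (x : G) ∈ MulAction.stabilizer G ω := hω
    have hstab' : (x : G) ^ k ∈ MulAction.stabilizer G ω := Subgroup.zpow_mem _ hstab k
    rw [hk', MulAction.mem_stabilizer_iff] at hstab'
    calc (x : G) • h • ω = h • (h⁻¹ * (x : G) * h) • ω := by simp [mul_smul]
      _ = h • ω := by rw [hstab']
  have hx1 : (x : G) = 1 := by
    apply FaithfulSMul.eq_of_smul_eq_smul (α := Ω)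
    intro a
    rw [hall a, one_smul]
  rw [hx1, orderOf_one] at hxG
  exact hp.one_lt.ne hxG

end Cfsg.Agent.S3554
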