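import Cfsg.Statements.S3555
import Mathlib

set_option autoImplicit false
open Cfsg

namespace Cfsg.Agent.S3555

open scoped Pointwise

/-- Key counting lemma (Cameron–Cohen count against the count of swapped pairs): in a transitive
group all of whose derangements are involutions, an element fixing two distinct points fixes every
point. -/
theorem fix_two {G Ω : Type*} [Group G] [Finite G] [MulAction G Ω] [Finite Ω]
    (htrans : MulAction.IsPretransitive G Ω)
    (hinv : ∀ g : G, (∀ ω : Ω, g • ω ≠ ω) → orderOf g = 2)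
    (g₀ : G) (α₀ β₀ : Ω) (hαβ : α₀ ≠ β₀) (hα : g₀ • α₀ = α₀) (hβ : g₀ • β₀ = β₀) :
    ∀ ω : Ω, g₀ • ω = ω := by
  classical
  haveI : Fintype G := Fintype.ofFinite G
  haveI : Fintype Ω := Fintype.ofFinite Ω
  haveI : Nonempty Ω := ⟨α₀⟩
  set fx : G → Finset Ω := fun g => Finset.univ.filter (fun ω => g • ω = ω) with hfx
  set D : Finset G := Finset.univ.filter (fun g : G => ∀ ω : Ω, g • ω ≠ ω) with hD
  set n : ℕ := Fintype.card Ω with hn
  have hmemfx : ∀ (g : G) (ω : Ω), ω ∈ fx g ↔ g • ω = ω := by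
    intro g ω; simp [hfx]
  have hmemD : ∀ g : G, g ∈ D ↔ ∀ ω : Ω, g • ω ≠ ω := by
    intro g; simp [hD]
  have hsq : ∀ t ∈ D, t * t = 1 := by
    intro t ht
    have h2 := hinv t ((hmemD t).mp ht)
    rw [← pow_two, ← h2]; exact pow_orderOf_eq_one t
  -- Burnside
  have hB : ∑ g : G, (fx g).card = Fintype.card G := by
    have h1 := MulAction.sum_card_fixedBy_eq_card_orbits_mul_card_group G Ω
    have h2 : Fintype.card (MulAction.orbitRel.Quotient G Ω) = 1 := by
      rw [Fintype.card_eq_one_iff_nonempty_unique]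
      exact (MulAction.pretransitive_iff_unique_quotient_of_nonempty G Ω).mp htrans
    rw [h2, one_mul] at h1
    rw [← h1]
    apply Finset.sum_congr rfl
    intro g _
    symm
    apply Fintype.card_of_subtype
    intro ω
    rw [hmemfx, MulAction.mem_fixedBy]
  -- swap count
  have hC : D.card * n ≤ ∑ g : G, ((fx g).card * (fx g).card - (fx g).card) := by
    have hch : ∀ α β : Ω, ∃ t₀ : G, (∃ t ∈ D, t • α = β) → (t₀ ∈ D ∧ t₀ • α = β) := by
      intro α β
      by_cases h : ∃ t ∈ D, t • α = β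
      · obtain ⟨t, ht, htα⟩ := h
        exact ⟨t, fun _ => ⟨ht, htα⟩⟩
      · exact ⟨1, fun h' => absurd h' h⟩
    choose t₀ ht₀ using hch
    let X : Finset (Σ _ : G, Ω × Ω) := (Finset.univ : Finset G).sigma (fun g => (fx g).offDiag)
    have hX : X.card = ∑ g : G, ((fx g).card * (fx g).card - (fx g).card) := by
      rw [Finset.card_sigma]
      apply Finset.sum_congr rfl
      intro g _
      exact Finset.offDiag_card _
    rw [← hX, hn, ← Finset.card_univ (α := Ω), ← Finset.card_product]
    apply Finset.card_le_card_of_injOn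
      (fun p : G × Ω => (⟨(t₀ p.2 (p.1 • p.2))⁻¹ * p.1, (p.2, p.1 • p.2)⟩ : Σ _ : G, Ω × Ω))
    · intro p hp
      have hpD : p.1 ∈ D := (Finset.mem_product.mp hp).1
      obtain ⟨h1, h2⟩ := ht₀ p.2 (p.1 • p.2) ⟨p.1, hpD, rfl⟩
      rw [Finset.mem_coe, Finset.mem_sigma]
      refine ⟨Finset.mem_univ _, ?_⟩
      rw [Finset.mem_offDiag]
      dsimp only
      generalize t₀ p.2 (p.1 • p.2) = s at h1 h2 ⊢
      refine ⟨?_, ?_, ?_⟩
      · show p.2 ∈ fx (s⁻¹ * p.1)
        rw [hmemfx, mul_smul, ← h2, inv_smul_smul]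
      · show p.1 • p.2 ∈ fx (s⁻¹ * p.1)
        rw [hmemfx, mul_smul, ← mul_smul p.1 p.1, hsq p.1 hpD, one_smul, inv_smul_eq_iff, ← h2,
          ← mul_smul, hsq s h1, one_smul]
      · show p.2 ≠ p.1 • p.2
        exact fun h => (hmemD p.1).mp hpD p.2 h.symm
    · intro p hp q hq hpq
      simp only [Sigma.mk.injEq, heq_eq_eq, Prod.mk.injEq] at hpq
      obtain ⟨h1, h2, h3⟩ := hpq
      rw [h3, h2] at h1
      exact Prod.ext (mul_left_cancel h1) h2
  -- every non-derangement has 1 or n fixed points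
  have hE : ∀ g : G, g ∉ D → (((fx g).card : ℤ) - 1) * (((fx g).card : ℤ) - n) = 0 := by
    have hterm : ∀ g : G, (((fx g).card : ℤ) - 1) * (((fx g).card : ℤ) - n)
        = (((fx g).card * (fx g).card - (fx g).card : ℕ) : ℤ) - n * ((fx g).card : ℤ) + n := by
      intro g
      have hle : (fx g).card ≤ (fx g).card * (fx g).card := Nat.le_mul_self _
      push_cast [Nat.cast_sub hle]
      ring
    have hsum : ∑ g : G, (((fx g).card : ℤ) - 1) * (((fx g).card : ℤ) - n)
        = ((∑ g : G, ((fx g).card * (fx g).card - (fx g).card) : ℕ) : ℤ) := by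
      rw [Finset.sum_congr rfl (fun g _ => hterm g), Finset.sum_add_distrib,
        Finset.sum_sub_distrib, ← Finset.mul_sum]
      have hB' : ∑ g : G, ((fx g).card : ℤ) = (Fintype.card G : ℤ) := by exact_mod_cast hB
      rw [hB', Finset.sum_const, Finset.card_univ, nsmul_eq_mul]
      push_cast
      ring
    have hDterm : ∀ g ∈ D, (((fx g).card : ℤ) - 1) * (((fx g).card : ℤ) - n) = n := by
      intro g hg
      have h0 : fx g = ∅ := by
        apply Finset.eq_empty_of_forall_notMem
        intro ω hω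
        exact (hmemD g).mp hg ω ((hmemfx g ω).mp hω)
      rw [h0]
      simp
    have hsplit := Finset.sum_filter_add_sum_filter_not (Finset.univ : Finset G) (fun g => g ∈ D)
      (fun g => (((fx g).card : ℤ) - 1) * (((fx g).card : ℤ) - n))
    have hD1 : ∑ g ∈ Finset.univ.filter (fun g => g ∈ D),
        (((fx g).card : ℤ) - 1) * (((fx g).card : ℤ) - n) = (D.card : ℤ) * n := by
      rw [Finset.sum_congr rfl (fun g hg => hDterm g (Finset.mem_filter.mp hg).2),
        Finset.sum_const, nsmul_eq_mul]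
      congr 2
      apply congrArg
      ext g
      simp
    have hnonpos : ∀ g ∈ Finset.univ.filter (fun g => g ∉ D),
        (((fx g).card : ℤ) - 1) * (((fx g).card : ℤ) - n) ≤ 0 := by
      intro g hg
      have hgD : g ∉ D := (Finset.mem_filter.mp hg).2
      have h1 : 1 ≤ (fx g).card := by
        rw [hmemD] at hgD
        push Not at hgD
        obtain ⟨ω, hω⟩ := hgD
        exact Finset.card_pos.mpr ⟨ω, (hmemfx g ω).mpr hω⟩
      have h2 : (fx g).card ≤ n := Finset.card_le_univ _
      have h1' : (0 : ℤ) ≤ ((fx g).card : ℤ) - 1 := by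
        have : (1 : ℤ) ≤ ((fx g).card : ℤ) := by exact_mod_cast h1
        linarith
      have h2' : ((fx g).card : ℤ) - n ≤ 0 := by
        have : ((fx g).card : ℤ) ≤ (n : ℤ) := by exact_mod_cast h2
        linarith
      exact mul_nonpos_of_nonneg_of_nonpos h1' h2'
    have hge : (0 : ℤ) ≤ ∑ g ∈ Finset.univ.filter (fun g => g ∉ D),
        (((fx g).card : ℤ) - 1) * (((fx g).card : ℤ) - n) := by
      have hC' : ((D.card * n : ℕ) : ℤ)
          ≤ ((∑ g : G, ((fx g).card * (fx g).card - (fx g).card) : ℕ) : ℤ) := by exact_mod_cast hC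
      rw [← hsum, ← hsplit, hD1] at hC'
      push_cast at hC'
      linarith
    have hzero := (Finset.sum_eq_zero_iff_of_nonpos hnonpos).mp
      (le_antisymm (Finset.sum_nonpos hnonpos) hge)
    intro g hg
    exact hzero g (Finset.mem_filter.mpr ⟨Finset.mem_univ _, hg⟩)
  -- conclusion
  have hg₀D : g₀ ∉ D := by
    rw [hmemD]
    push Not
    exact ⟨α₀, hα⟩
  have h2 : 1 < (fx g₀).card :=
    Finset.one_lt_card.mpr ⟨α₀, (hmemfx g₀ α₀).mpr hα, β₀, (hmemfx g₀ β₀).mpr hβ, hαβ⟩
  have h3 := hE g₀ hg₀D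
  rcases mul_eq_zero.mp h3 with h | h
  · have : ((fx g₀).card : ℤ) = 1 := by linarith
    have : (fx g₀).card = 1 := by exact_mod_cast this
    omega
  · have h4 : ((fx g₀).card : ℤ) = n := by linarith
    have h5 : (fx g₀).card = Fintype.card Ω := by exact_mod_cast h4
    have h6 : fx g₀ = Finset.univ := (Finset.card_eq_iff_eq_univ _).mp h5
    intro ω
    exact (hmemfx g₀ ω).mp (h6 ▸ Finset.mem_univ ω)

/-- A transitive permutation group all of whose derangements are involutions is an elementary abelian 2-group or a Frobenius group with elementary abelian 2-group kernel. -/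
theorem result {G Ω : Type*} [Group G] [Finite G] [MulAction G Ω] [FaithfulSMul G Ω] [Finite Ω]
    (htrans : MulAction.IsPretransitive G Ω) (hinv : ∀ g : G, (∀ ω : Ω, g • ω ≠ ω) → orderOf g = 2) :
    (IsMulCommutative G ∧ ∀ g : G, g ^ 2 = 1) ∨
    (∃ H : Subgroup G, Cfsg.IsFrobeniusComplement H ∧
      (∀ x ∈ Cfsg.frobeniusKernel H, x ^ 2 = 1) ∧
      ∀ x ∈ Cfsg.frobeniusKernel H, ∀ y ∈ Cfsg.frobeniusKernel H, x * y = y * x) := by
  classical
  have hne : Nonempty Ω := by
    by_contra h
    rw [not_nonempty_iff] at h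
    have h1 := hinv 1 (fun ω => h.elim ω)
    rw [orderOf_one] at h1
    omega
  obtain ⟨α₀⟩ := hne
  have key : ∀ (g : G) (α β : Ω), α ≠ β → g • α = α → g • β = β → g = 1 := by
    intro g α β hab ha hb
    apply FaithfulSMul.eq_of_smul_eq_smul (α := Ω)
    intro ω
    rw [one_smul]
    exact fix_two htrans hinv g α β hab ha hb ω
  have hdsq : ∀ g : G, (∀ ω : Ω, g • ω ≠ ω) → g ^ 2 = 1 := by
    intro g hg
    rw [← hinv g hg]; exact pow_orderOf_eq_one g
  have hcomm : ∀ a b : G, a ^ 2 = 1 → b ^ 2 = 1 → (a * b) ^ 2 = 1 → a * b = b * a := by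
    intro a b ha hb hab
    have h1 : a * b * (a * b) = 1 := by rw [← pow_two]; exact hab
    have h2 : a * a = 1 := by rw [← pow_two]; exact ha
    have h3 : b * b = 1 := by rw [← pow_two]; exact hb
    calc a * b = a * (a * b * (a * b)) * b := by rw [h1, mul_one]
      _ = (a * a) * b * a * (b * b) := by group
      _ = b * a := by rw [h2, h3, one_mul, mul_one]
  let H : Subgroup G := MulAction.stabilizer G α₀
  -- an element fixing a point lies in a conjugate of H
  have hconj : ∀ (x : G) (ω : Ω), x • ω = ω → ∃ k : G, x ∈ MulAut.conj k • H := by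
    intro x ω hω
    obtain ⟨k, hk⟩ := MulAction.exists_smul_eq G α₀ ω
    refine ⟨k, ?_⟩
    rw [Subgroup.mem_smul_pointwise_iff_exists]
    refine ⟨k⁻¹ * x * k, ?_, ?_⟩
    · rw [MulAction.mem_stabilizer_iff, mul_smul, mul_smul, hk, hω, ← hk, inv_smul_smul]
    · rw [MulAut.smul_def, MulAut.conj_apply]
      group
  by_cases hH : H = ⊥
  · left
    have hsq : ∀ g : G, g ^ 2 = 1 := by
      intro g
      by_cases hg : ∀ ω : Ω, g • ω ≠ ω
      · exact hdsq g hg
      · push Not at hg
        obtain ⟨ω, hω⟩ := hg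
        obtain ⟨k, hk⟩ := hconj g ω hω
        rw [hH, Subgroup.smul_bot, Subgroup.mem_bot] at hk
        rw [hk, one_pow]
    refine ⟨⟨⟨fun a b => ?_⟩⟩, hsq⟩
    exact hcomm a b (hsq a) (hsq b) (hsq (a * b))
  · right
    have hker : ∀ x ∈ Cfsg.frobeniusKernel H, x = 1 ∨ ∀ ω : Ω, x • ω ≠ ω := by
      intro x hx
      rcases hx with hx | hx
      · exact Or.inl hx
      · right
        intro ω hω
        obtain ⟨k, hk⟩ := hconj x ω hω
        exact hx k hk
    have hksq : ∀ x ∈ Cfsg.frobeniusKernel H, x ^ 2 = 1 := by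
      intro x hx
      rcases hker x hx with h | h
      · rw [h, one_pow]
      · exact hdsq x h
    refine ⟨H, ⟨hH, ?_, ?_⟩, hksq, ?_⟩
    · intro htop
      apply hH
      rw [eq_bot_iff]
      intro g _
      rw [Subgroup.mem_bot]
      apply FaithfulSMul.eq_of_smul_eq_smul (α := Ω)
      intro ω
      obtain ⟨k, hk⟩ := MulAction.exists_smul_eq G α₀ ω
      have hk' : k ∈ H := by rw [htop]; exact Subgroup.mem_top k
      have hg' : g ∈ H := by rw [htop]; exact Subgroup.mem_top g
      have hω : ω = α₀ := by rw [← hk]; exact hk'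
      rw [one_smul, hω]
      exact hg'
    · intro g hg
      rw [eq_bot_iff]
      intro x hx
      rw [Subgroup.mem_bot]
      obtain ⟨hx1, hx2⟩ := Subgroup.mem_inf.mp hx
      obtain ⟨h, hh, hhx⟩ := (Subgroup.mem_smul_pointwise_iff_exists _ _ _).mp hx2
      have hx3 : x • (g • α₀) = g • α₀ := by
        rw [← hhx, MulAut.smul_def, MulAut.conj_apply, mul_smul, mul_smul, inv_smul_smul]
        congr 1
      refine key x α₀ (g • α₀) (fun h' => hg ?_) hx1 hx3
      exact h'.symm
    · intro x hx y hy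
      have hx2 := hksq x hx
      have hy2 := hksq y hy
      rcases hker x hx with hx1 | hxd
      · rw [hx1, one_mul, mul_one]
      rcases hker y hy with hy1 | hyd
      · rw [hy1, one_mul, mul_one]
      by_cases hxy : x = y
      · rw [hxy]
      apply hcomm x y hx2 hy2
      apply hdsq
      intro ω hω
      apply hxy
      have hxinv : x⁻¹ = x := by
        rw [inv_eq_iff_mul_eq_one, ← pow_two]; exact hx2
      have h1 : y • ω = x • ω := by
        rw [mul_smul] at hω
        have := congrArg (fun z => x⁻¹ • z) hω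
        simp only [inv_smul_smul] at this
        rw [this, hxinv]
      have h2 : (x⁻¹ * y) • ω = ω := by rw [mul_smul, h1, inv_smul_smul]
      have h3 : (x⁻¹ * y) • (x • ω) = x • ω := by
        rw [mul_smul, ← h1, ← mul_smul y y, ← pow_two, hy2, one_smul, hxinv, h1]
      have h4 := key (x⁻¹ * y) ω (x • ω) (fun h => hxd ω h.symm) h2 h3
      have h5 : y = x * (x⁻¹ * y) := by group
      rw [h5, h4, mul_one]

end Cfsg.Agent.S3555
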