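import Mathlib
import Cfsg.Statements.S3556
import Cfsg.Agent.Helper20.MinNormal

set_option autoImplicit false
open Cfsg

namespace Cfsg.Agent.S3556

open MulAction Cfsg.Agent.Helper20

theorem result {G Ω : Type*} [Group G] [Finite G] [MulAction G Ω] [FaithfulSMul G Ω] [Finite Ω]
    (hprim : MulAction.IsPreprimitive G Ω) (hΩ : 2 ≤ Nat.card Ω) (p : ℕ) (hp : p.Prime)
    (hder : ∀ g : G, (∀ ω : Ω, g • ω ≠ ω) → ∃ k : ℕ, orderOf g = p ^ k) :
    (∃ (N : Subgroup G) (r : ℕ), r.Prime ∧ N.Normal ∧ Cfsg.IsElementaryAbelian r N ∧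
      MulAction.IsPretransitive N Ω ∧ ∀ a : Ω, MulAction.stabilizer N a = ⊥) ∨
    (∃ T : Subgroup G, T.Normal ∧ IsSimpleGroup ↥T ∧ ¬ IsMulCommutative ↥T ∧
      Subgroup.centralizer (T : Set G) = ⊥) := by
  classical
  haveI : Fact p.Prime := ⟨hp⟩
  haveI := hprim
  have htrans : IsPretransitive G Ω := hprim.toIsPretransitive
  obtain ⟨d0, hd0⟩ := S3501.exists_derangement htrans hΩ
  haveI : Nonempty Ω := by
    have : 0 < Nat.card Ω := by omega
    exact (Nat.card_pos_iff.mp this).1
  haveI : Nontrivial G := by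
    refine ⟨⟨d0, 1, ?_⟩⟩
    intro h
    obtain ⟨ω⟩ := ‹Nonempty Ω›
    exact hd0 ω (by rw [h, one_smul])
  obtain ⟨N, ⟨hNn, hN1⟩, hNmin'⟩ := S3501.exists_min_card
    (fun N : Subgroup G => N.Normal ∧ N ≠ ⊥) ⟨⊤, inferInstance, top_ne_bot⟩
  have hNmin : ∀ M : Subgroup G, M.Normal → M ≤ N → M = ⊥ ∨ M = N := by
    intro M hM hMN
    by_cases hMb : M = ⊥
    · exact Or.inl hMb
    · exact Or.inr (hNmin' M ⟨hM, hMb⟩ hMN)
  haveI := hNn
  have hNtr : IsPretransitive N Ω := S3680.trans_of_normal N hN1
  haveI : Nontrivial N := (Subgroup.nontrivial_iff_ne_bot N).mpr hN1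
  by_cases hNab : ∀ x ∈ N, ∀ y ∈ N, x * y = y * x
  · left
    have hcard : Nat.card N ≠ 1 := fun h => hN1 (Subgroup.card_eq_one.mp h)
    obtain ⟨r, hr, hrd⟩ := Nat.exists_prime_and_dvd hcard
    haveI : Fact r.Prime := ⟨hr⟩
    obtain ⟨y, hy⟩ := exists_prime_orderOf_dvd_card' r hrd
    have hy1 : (y : G) ≠ 1 := by
      intro h
      have : y = 1 := Subtype.ext h
      rw [this, orderOf_one] at hy
      exact hr.one_lt.ne hy
    have hyr : (y : G) ^ r = 1 := by
      have : y ^ r = 1 := by rw [← hy]; exact pow_orderOf_eq_one y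
      exact_mod_cast congrArg Subtype.val this
    let K : Subgroup G :=
      { carrier := {x | x ∈ N ∧ x ^ r = 1}
        mul_mem' := by
          rintro a b ⟨ha, har⟩ ⟨hb, hbr⟩
          refine ⟨N.mul_mem ha hb, ?_⟩
          have hc : Commute a b := hNab a ha b hb
          rw [hc.mul_pow, har, hbr, one_mul]
        one_mem' := ⟨N.one_mem, one_pow r⟩
        inv_mem' := by
          rintro a ⟨ha, har⟩
          exact ⟨N.inv_mem ha, by rw [inv_pow, har, inv_one]⟩ }
    have hKn : K.Normal := by
      refine ⟨fun x hx g => ?_⟩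
      exact ⟨hNn.conj_mem x hx.1 g, by rw [conj_pow, hx.2]; simp⟩
    have hKN : K ≤ N := fun x hx => hx.1
    have hK : K = N := by
      rcases hNmin K hKn hKN with h | h
      · exfalso
        have : (y : G) ∈ K := ⟨y.2, hyr⟩
        rw [h, Subgroup.mem_bot] at this
        exact hy1 this
      · exact h
    have hexp : ∀ a ∈ N, a ^ r = 1 := by
      intro a ha
      have : a ∈ K := by rw [hK]; exact ha
      exact this.2
    refine ⟨N, r, hr, hNn, ⟨isMulCommutative_iff.mpr ?_, hexp⟩, hNtr, ?_⟩
    · intro a b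
      exact Subtype.ext (hNab a a.2 b b.2)
    · intro a
      rw [Subgroup.eq_bot_iff_forall]
      intro x hx
      have hx' : (x : G) • a = a := hx
      apply Subtype.ext
      exact S3680.eq_one_of_commute_of_fix N hNtr (fun v hv => hNab x x.2 v hv) hx'
  · right
    by_contra hno
    have hCN : Subgroup.centralizer (N : Set G) ⊓ N = ⊥ := by
      rcases hNmin (Subgroup.centralizer (N : Set G) ⊓ N) inferInstance inf_le_right with h | h
      · exact h
      · exfalso
        apply hNab
        intro x hx y hy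
        have hxc : x ∈ Subgroup.centralizer (N : Set G) := by
          have : x ∈ Subgroup.centralizer (N : Set G) ⊓ N := by rw [h]; exact hx
          exact this.1
        exact (Subgroup.mem_centralizer_iff.mp hxc y hy).symm
    have hC : Subgroup.centralizer (N : Set G) = ⊥ := by
      by_contra hC
      have hCtr : IsPretransitive (Subgroup.centralizer (N : Set G)) Ω :=
        S3680.trans_of_normal _ hC
      have hreg : ∀ x ∈ N, ∀ ω : Ω, x • ω = ω → x = 1 := by
        intro x hx ω hω
        exact S3680.eq_one_of_commute_of_fix _ hCtr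
          (fun v hv => (Subgroup.mem_centralizer_iff.mp hv x hx)) hω
      have hP : IsPGroup p N := by
        intro x
        by_cases hx : x = 1
        · exact ⟨0, by rw [hx, one_pow]⟩
        · obtain ⟨k, hk⟩ := hder x (fun ω hω => hx (Subtype.ext (hreg x x.2 ω hω)))
          refine ⟨k, ?_⟩
          apply Subtype.ext
          push_cast
          rw [← hk]
          exact pow_orderOf_eq_one _
      haveI := hP.center_nontrivial
      obtain ⟨z, hz⟩ := exists_ne (1 : Subgroup.center N)
      have hzc0 : ((z : N) : G) ∈ Subgroup.centralizer (N : Set G) := by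
        rw [Subgroup.mem_centralizer_iff]
        intro k hk
        have := Subgroup.mem_center_iff.mp z.2 ⟨k, hk⟩
        exact congrArg Subtype.val this
      have hzc : ((z : N) : G) ∈ Subgroup.centralizer (N : Set G) ⊓ N :=
        Subgroup.mem_inf.mpr ⟨hzc0, (z : N).2⟩
      rw [hCN, Subgroup.mem_bot] at hzc
      apply hz
      apply Subtype.ext
      apply Subtype.ext
      exact hzc
    have hNnc : ¬ IsMulCommutative N := by
      intro hc
      apply hNab
      intro x hx y hy
      have := (isMulCommutative_iff.mp hc) ⟨x, hx⟩ ⟨y, hy⟩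
      exact congrArg Subtype.val this
    have hNns : ¬ IsSimpleGroup N := fun hs => hno ⟨N, hNn, hs, hNnc, hC⟩
    obtain ⟨A, B, hA1, hB1, hAN, hBN, hAB, hcomm, hdec, hZA⟩ := decomp N hN1 hNmin hC hNns
    obtain ⟨y, hyB, hyder⟩ := exists_derangement_factor N B A hNtr hB1
      (fun b hb a ha => (hcomm a ha b hb).symm)
      (fun n hn => by
        obtain ⟨a, ha, b, hb, rfl⟩ := hdec n hn
        exact ⟨b, hb, a, ha, hcomm a ha b hb⟩)
    obtain ⟨j, hj⟩ := hder y hyder
    -- a prime r ≠ p dividing |A|
    obtain ⟨r, hr, hrp, hrd⟩ : ∃ r, r.Prime ∧ r ≠ p ∧ r ∣ Nat.card A := by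
      by_contra hcon
      push Not at hcon
      have hcardA : Nat.card A = p ^ (Nat.card A).primeFactorsList.length := by
        apply Nat.eq_prime_pow_of_unique_prime_dvd (Nat.card_pos.ne')
        intro d hd hdd
        by_contra hne
        exact hcon d hd hne hdd
      have hPA : IsPGroup p A := IsPGroup.of_card hcardA
      haveI : Nontrivial A := (Subgroup.nontrivial_iff_ne_bot A).mpr hA1
      haveI := hPA.center_nontrivial
      obtain ⟨z, hz⟩ := exists_ne (1 : Subgroup.center A)
      have hz1 : ((z : A) : G) = 1 := by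
        apply hZA _ (z : A).2
        intro a ha
        have := Subgroup.mem_center_iff.mp z.2 ⟨a, ha⟩
        exact congrArg Subtype.val this
      apply hz
      apply Subtype.ext
      apply Subtype.ext
      exact hz1
    haveI : Fact r.Prime := ⟨hr⟩
    obtain ⟨a, ha⟩ := exists_prime_orderOf_dvd_card' r hrd
    have har : (a : G) ^ r = 1 := by
      have : a ^ r = 1 := by rw [← ha]; exact pow_orderOf_eq_one a
      exact_mod_cast congrArg Subtype.val this
    have hcay : Commute (a : G) y := hcomm a a.2 y hyB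
    have hder2 : ∀ ω : Ω, ((a : G) * y) • ω ≠ ω := by
      intro ω hω
      have h1 : ((a : G) * y) ^ r = y ^ r := by
        rw [hcay.mul_pow, har, one_mul]
      have h2 : (y ^ r) • ω = ω := by
        rw [← h1]
        exact (stabilizer G ω).pow_mem hω r
      have hcop : r.Coprime (orderOf y) := by
        rw [hj]
        exact Nat.Coprime.pow_right _ ((Nat.coprime_primes hr hp).mpr hrp)
      obtain ⟨m, hm⟩ := exists_pow_eq_self_of_coprime hcop
      have h3 : y • ω = ω := by
        have := (stabilizer G ω).pow_mem h2 m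
        rw [hm] at this
        exact this
      exact hyder ω h3
    obtain ⟨k, hk⟩ := hder _ hder2
    have h4 : ((a : G) * y) ^ (p ^ k) = 1 := by rw [← hk]; exact pow_orderOf_eq_one _
    rw [hcay.mul_pow] at h4
    have h5 : (a : G) ^ (p ^ k) ∈ A ⊓ B := by
      refine ⟨A.pow_mem a.2 _, ?_⟩
      have : (a : G) ^ (p ^ k) = (y ^ (p ^ k))⁻¹ := eq_inv_of_mul_eq_one_left h4
      rw [this]
      exact B.inv_mem (B.pow_mem hyB _)
    rw [hAB, Subgroup.mem_bot] at h5
    have h6 : orderOf (a : G) ∣ p ^ k := orderOf_dvd_of_pow_eq_one h5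
    have h7 : orderOf (a : G) = r := by rw [Subgroup.orderOf_coe, ha]
    rw [h7] at h6
    have h8 := hr.dvd_of_dvd_pow h6
    exact hrp ((Nat.prime_dvd_prime_iff_eq hr hp).mp h8)

end Cfsg.Agent.S3556
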