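import Cfsg.Statements.S3733
import Mathlib

set_option autoImplicit false
open Cfsg

namespace Cfsg.Agent.S3733

open scoped IsMulCommutative

variable {G : Type*} [Group G]

/-- conjugation by `a` on `V`, total version -/
noncomputable def cj (V : Subgroup G) (a : G) (v : V) : V :=
  open Classical in
  if h : a ∈ Subgroup.normalizer (V : Set G) then
    ⟨a * v * a⁻¹, (Subgroup.mem_normalizer_iff.mp h v).mp v.2⟩ else 1

theorem cj_coe (V : Subgroup G) {a : G} (h : a ∈ Subgroup.normalizer (V : Set G)) (v : V) :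
    (cj V a v : G) = a * v * a⁻¹ := by
  unfold cj
  rw [dif_pos h]

theorem cj_mul_elt (V : Subgroup G) {a b : G} (ha : a ∈ Subgroup.normalizer (V : Set G))
    (hb : b ∈ Subgroup.normalizer (V : Set G)) (v : V) : cj V (a * b) v = cj V a (cj V b v) := by
  apply Subtype.ext
  rw [cj_coe V (Subgroup.mul_mem _ ha hb), cj_coe V ha, cj_coe V hb]
  group

theorem cj_one (V : Subgroup G) (v : V) : cj V 1 v = v := by
  apply Subtype.ext
  rw [cj_coe V (Subgroup.one_mem _)]
  group

theorem cj_map_mul (V : Subgroup G) {a : G} (ha : a ∈ Subgroup.normalizer (V : Set G)) (v w : V) :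
    cj V a (v * w) = cj V a v * cj V a w := by
  apply Subtype.ext
  rw [Subgroup.coe_mul, cj_coe V ha, cj_coe V ha, cj_coe V ha, Subgroup.coe_mul]
  group

theorem cj_map_one (V : Subgroup G) {a : G} (ha : a ∈ Subgroup.normalizer (V : Set G)) :
    cj V a 1 = 1 := by
  apply Subtype.ext
  rw [cj_coe V ha, Subgroup.coe_one]
  group

theorem cj_prod (V : Subgroup G) [IsMulCommutative V] {a : G}
    (ha : a ∈ Subgroup.normalizer (V : Set G))
    {ι : Type*} (s : Finset ι) (f : ι → V) : cj V a (∏ i ∈ s, f i) = ∏ i ∈ s, cj V a (f i) := by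
  classical
  induction s using Finset.induction_on with
  | empty => simp [cj_map_one V ha]
  | insert i s hi ih => rw [Finset.prod_insert hi, Finset.prod_insert hi, cj_map_mul V ha, ih]

/-- Let A and V be subgroups of a finite group with V abelian and nontrivial and A normalizing V. Suppose a nonempty finite family of proper subgroups of A partitions A: every non-identity element of A lies in exactly one member. If the number of members minus one is coprime to the order of V, then some member B of the family has a non-identity fixed point on V, that is V ∩ C(B) ≠ 1. -/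
theorem result {G : Type*} [Group G] [Finite G] (A V : Subgroup G) (hVab : IsMulCommutative V) (hV : V ≠ ⊥) (hAV : A ≤ Subgroup.normalizer (V : Set G)) (𝒜 : Finset (Subgroup G)) (hne : 𝒜.Nonempty) (hprop : ∀ B ∈ 𝒜, B < A) (hpart : ∀ a ∈ A, a ≠ 1 → ∃! B, B ∈ 𝒜 ∧ a ∈ B) (hk : (𝒜.card - 1).Coprime (Nat.card V)) : ∃ B ∈ 𝒜, V ⊓ Subgroup.centralizer (B : Set G) ≠ ⊥ := by
  classical
  by_contra hcon
  push Not at hcon
  let _ : Fintype G := Fintype.ofFinite G
  let S : Subgroup G → Finset G := fun B => Finset.univ.filter (· ∈ B)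
  have hS : ∀ (B : Subgroup G) (b : G), b ∈ S B ↔ b ∈ B := by
    intro B b
    simp only [S, Finset.mem_filter, Finset.mem_univ, true_and]
  have hN : ∀ B : Subgroup G, B ≤ A → V ⊓ Subgroup.centralizer (B : Set G) = ⊥ →
      ∀ v : V, ∏ b ∈ S B, cj V b v = 1 := by
    intro B hBA hB v
    have hfix : ∀ b' ∈ B, cj V b' (∏ b ∈ S B, cj V b v) = ∏ b ∈ S B, cj V b v := by
      intro b' hb'
      rw [cj_prod V (hAV (hBA hb'))]
      refine Finset.prod_equiv (Equiv.mulLeft b') ?_ ?_
      · intro b
        rw [hS, hS, Equiv.coe_mulLeft]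
        exact (B.mul_mem_cancel_left hb').symm
      · intro b hb
        rw [hS] at hb
        rw [Equiv.coe_mulLeft, cj_mul_elt V (hAV (hBA hb')) (hAV (hBA hb))]
    have hmem : ((∏ b ∈ S B, cj V b v : V) : G) ∈ V ⊓ Subgroup.centralizer (B : Set G) := by
      refine Subgroup.mem_inf.mpr ⟨Subtype.property _, ?_⟩
      rw [Subgroup.mem_centralizer_iff]
      intro b' hb'
      have h := congrArg Subtype.val (hfix b' hb')
      rw [cj_coe V (hAV (hBA hb'))] at h
      nth_rewrite 2 [← h]
      group
    rw [hB, Subgroup.mem_bot] at hmem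
    exact Subtype.ext hmem
  obtain ⟨B0, hB0⟩ := hne
  have hA : V ⊓ Subgroup.centralizer (A : Set G) = ⊥ := by
    rw [eq_bot_iff, ← hcon B0 hB0]
    exact inf_le_inf_left _ (Subgroup.centralizer_le (hprop B0 hB0).le)
  have hcount : ∀ v : V, ∏ B ∈ 𝒜, ∏ b ∈ S B, cj V b v =
      (∏ a ∈ S A, cj V a v) * v ^ (𝒜.card - 1) := by
    intro v
    have h1 : ∏ B ∈ 𝒜, ∏ b ∈ S B, cj V b v =
        ∏ b : G, ∏ B ∈ 𝒜.filter (fun B => b ∈ B), cj V b v := by
      apply Finset.prod_comm'
      intro B b
      simp [hS]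
    rw [h1]
    simp only [Finset.prod_const]
    have h2 : ∏ b : G, cj V b v ^ (𝒜.filter (fun B => b ∈ B)).card =
        ∏ b ∈ S A, cj V b v ^ (𝒜.filter (fun B => b ∈ B)).card := by
      symm
      apply Finset.prod_subset (Finset.subset_univ _)
      intro b _ hb
      have : 𝒜.filter (fun B => b ∈ B) = ∅ := by
        rw [Finset.filter_eq_empty_iff]
        intro B hB hbB
        apply hb
        rw [hS]
        exact (hprop B hB).le hbB
      rw [this, Finset.card_empty, pow_zero]
    rw [h2]
    have h3 : ∀ b ∈ S A, cj V b v ^ (𝒜.filter (fun B => b ∈ B)).card =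
        cj V b v * (if b = 1 then v ^ (𝒜.card - 1) else 1) := by
      intro b hb
      rw [hS] at hb
      by_cases hb1 : b = 1
      · subst hb1
        rw [if_pos rfl, cj_one]
        have : 𝒜.filter (fun B => (1 : G) ∈ B) = 𝒜 := by
          apply Finset.filter_true_of_mem
          intro B _
          exact B.one_mem
        rw [this, ← pow_succ']
        congr 1
        have := Finset.card_pos.mpr ⟨B0, hB0⟩
        omega
      · rw [if_neg hb1, mul_one]
        have : (𝒜.filter (fun B => b ∈ B)).card = 1 := by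
          rw [Finset.card_eq_one]
          obtain ⟨B, hB, huniq⟩ := hpart b hb hb1
          refine ⟨B, ?_⟩
          ext B'
          simp only [Finset.mem_filter, Finset.mem_singleton]
          exact ⟨fun h => huniq B' h, fun h => h ▸ hB⟩
        rw [this, pow_one]
    rw [Finset.prod_congr rfl h3, Finset.prod_mul_distrib,
      Finset.prod_ite_eq' (S A) 1 (fun _ => v ^ (𝒜.card - 1)), if_pos ((hS A 1).mpr A.one_mem)]
  apply hV
  rw [Subgroup.eq_bot_iff_forall]
  intro x hx
  have h1 := hcount ⟨x, hx⟩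
  rw [hN A le_rfl hA, one_mul,
    Finset.prod_eq_one (fun B hB => hN B (hprop B hB).le (hcon B hB) ⟨x, hx⟩)] at h1
  have h2 : orderOf (⟨x, hx⟩ : V) ∣ 𝒜.card - 1 := orderOf_dvd_of_pow_eq_one h1.symm
  have h3 : orderOf (⟨x, hx⟩ : V) ∣ Nat.card V := orderOf_dvd_natCard _
  have h4 : orderOf (⟨x, hx⟩ : V) = 1 := Nat.eq_one_of_dvd_coprimes hk h2 h3
  rw [orderOf_eq_one_iff] at h4
  exact congrArg Subtype.val h4

end Cfsg.Agent.S3733
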