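import Cfsg.Statements.S3634
import Cfsg.Agent.S3733
import Mathlib

set_option autoImplicit false
open Cfsg

namespace Cfsg.Agent.S3634

open scoped IsMulCommutative
open Cfsg.Agent.S3733

/-- Fixed points of a Frobenius-like group `Q ⋊ ⟨x⟩` acting coprimely on an abelian group `V`. -/
theorem frob_fix {X : Type*} [Group X] [Finite X] (V Q : Subgroup X) (x : X) (r : ℕ)
    (hr : r.Prime) [hVc : IsMulCommutative V] (hVne : V ≠ ⊥)
    (hQV : Q ≤ Subgroup.normalizer (V : Set X)) (hxV : x ∈ Subgroup.normalizer (V : Set X))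
    (hxQ : x ∈ Subgroup.normalizer (Q : Set X))
    (hcop : (Nat.card Q).Coprime (Nat.card V)) (hxo : orderOf x = r) :
    (∃ z ∈ Q, z ≠ 1 ∧ z * x = x * z) ∨ (∃ v ∈ V, v ≠ 1 ∧ ∀ z ∈ Q, z * v = v * z) ∨
      (∃ v ∈ V, v ≠ 1 ∧ x * v = v * x) := by
  classical
  by_contra hcon
  push Not at hcon
  obtain ⟨h1, h2, h3⟩ := hcon
  let _ : Fintype Q := Fintype.ofFinite Q
  have hxr : x ^ r = 1 := by rw [← hxo]; exact pow_orderOf_eq_one x
  have hxpow : ∀ i : ℕ, x ^ i ∈ Subgroup.normalizer (V : Set X) := fun i =>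
    Subgroup.pow_mem _ hxV i
  have hxpowQ : ∀ i : ℕ, x ^ i ∈ Subgroup.normalizer (Q : Set X) := fun i =>
    Subgroup.pow_mem _ hxQ i
  have hNQ : ∀ u : V, ∏ z : Q, cj V (z : X) u = 1 := by
    intro u
    by_contra hne
    obtain ⟨z', hz', hzne⟩ := h2 _ (Subtype.property _) (fun h => hne (Subtype.ext h))
    apply hzne
    have hfix : cj V z' (∏ z : Q, cj V (z : X) u) = ∏ z : Q, cj V (z : X) u := by
      rw [cj_prod V (hQV hz')]
      refine Fintype.prod_equiv (Equiv.mulLeft (⟨z', hz'⟩ : Q)) _ _ ?_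
      intro z
      rw [Equiv.coe_mulLeft, Subgroup.coe_mul, cj_mul_elt V (hQV hz') (hQV z.2)]
    have h := congrArg Subtype.val hfix
    rw [cj_coe V (hQV hz')] at h
    nth_rewrite 2 [← h]
    group
  obtain ⟨r', rfl⟩ : ∃ r', r = r' + 1 := ⟨r - 1, by have := hr.pos; omega⟩
  have hNx : ∀ u : V, ∏ i ∈ Finset.range (r' + 1), cj V (x ^ i) u = 1 := by
    intro u
    by_contra hne
    apply h3 _ (Subtype.property _) (fun h => hne (Subtype.ext h))
    have hfix : cj V x (∏ i ∈ Finset.range (r' + 1), cj V (x ^ i) u) =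
        ∏ i ∈ Finset.range (r' + 1), cj V (x ^ i) u := by
      rw [cj_prod V hxV]
      have e1 : ∀ i, cj V x (cj V (x ^ i) u) = cj V (x ^ (i + 1)) u := by
        intro i
        rw [pow_succ', cj_mul_elt V hxV (hxpow i)]
      simp only [e1]
      rw [Finset.prod_range_succ (fun i => cj V (x ^ (i + 1)) u) r',
        Finset.prod_range_succ' (fun i => cj V (x ^ i) u) r']
      rw [hxr, pow_zero]
    have h := congrArg Subtype.val hfix
    rw [cj_coe V hxV] at h
    nth_rewrite 2 [← h]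
    group
  have hV1 : ∀ v : V, v = 1 := by
    intro v
    have hA : ∏ w : Q, ∏ i ∈ Finset.range (r' + 1),
        cj V ((w : X) * x ^ i * (w : X)⁻¹) v = 1 := by
      apply Finset.prod_eq_one
      intro w _
      have e : ∀ i, cj V ((w : X) * x ^ i * (w : X)⁻¹) v =
          cj V (w : X) (cj V (x ^ i) (cj V (w : X)⁻¹ v)) := by
        intro i
        rw [cj_mul_elt V (Subgroup.mul_mem _ (hQV w.2) (hxpow i))
          (Subgroup.inv_mem _ (hQV w.2)), cj_mul_elt V (hQV w.2) (hxpow i)]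
      simp only [e]
      rw [← cj_prod V (hQV w.2), hNx, cj_map_one V (hQV w.2)]
    rw [Finset.prod_comm, Finset.prod_range_succ'] at hA
    have hB : ∀ i ∈ Finset.range r',
        ∏ w : Q, cj V ((w : X) * x ^ (i + 1) * (w : X)⁻¹) v = 1 := by
      intro i hi
      have hi' : i + 1 < r' + 1 := by
        have := Finset.mem_range.mp hi
        omega
      have hφmem : ∀ w : Q, (w : X) * x ^ (i + 1) * (w : X)⁻¹ * (x ^ (i + 1))⁻¹ ∈ Q := by
        intro w
        have h5 : x ^ (i + 1) * (w : X)⁻¹ * (x ^ (i + 1))⁻¹ ∈ Q :=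
          (Subgroup.mem_normalizer_iff.mp (hxpowQ (i + 1)) _).mp (Q.inv_mem w.2)
        have h6 := Q.mul_mem w.2 h5
        have h7 : (w : X) * (x ^ (i + 1) * (w : X)⁻¹ * (x ^ (i + 1))⁻¹) =
            (w : X) * x ^ (i + 1) * (w : X)⁻¹ * (x ^ (i + 1))⁻¹ := by group
        rw [← h7]
        exact h6
      let φ : Q → Q := fun w =>
        ⟨(w : X) * x ^ (i + 1) * (w : X)⁻¹ * (x ^ (i + 1))⁻¹, hφmem w⟩
      have hφinj : Function.Injective φ := by
        intro w w' h
        have h' : (w : X) * x ^ (i + 1) * (w : X)⁻¹ * (x ^ (i + 1))⁻¹ =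
            (w' : X) * x ^ (i + 1) * (w' : X)⁻¹ * (x ^ (i + 1))⁻¹ := congrArg Subtype.val h
        have h'' := mul_right_cancel h'
        have hc : ((w' : X)⁻¹ * w) * x ^ (i + 1) = x ^ (i + 1) * ((w' : X)⁻¹ * w) := by
          calc (w' : X)⁻¹ * w * x ^ (i + 1)
              = (w' : X)⁻¹ * (w * x ^ (i + 1) * (w : X)⁻¹) * w := by group
            _ = (w' : X)⁻¹ * (w' * x ^ (i + 1) * (w' : X)⁻¹) * w := by rw [h'']
            _ = _ := by group
        have hcx : ((w' : X)⁻¹ * w) * x = x * ((w' : X)⁻¹ * w) := by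
          have hcop' : (i + 1).Coprime (orderOf x) := by
            rw [hxo]
            exact Nat.Coprime.symm ((Nat.Prime.coprime_iff_not_dvd hr).mpr
              (Nat.not_dvd_of_pos_of_lt (Nat.succ_pos i) hi'))
          obtain ⟨j, hj⟩ := exists_pow_eq_self_of_coprime hcop'
          have hcm : Commute ((w' : X)⁻¹ * w) ((x ^ (i + 1)) ^ j) :=
            (show Commute ((w' : X)⁻¹ * w) (x ^ (i + 1)) from hc).pow_right j
          rw [hj] at hcm
          exact hcm
        have h1' := h1 ((w' : X)⁻¹ * w) (Q.mul_mem (Q.inv_mem w'.2) w.2)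
        by_contra hne
        apply h1' _ hcx
        intro h1eq
        apply hne
        apply Subtype.ext
        exact (inv_mul_eq_one.mp h1eq).symm
      have hφbij : Function.Bijective φ := Finite.injective_iff_bijective.mp hφinj
      have e : ∀ w : Q, cj V ((w : X) * x ^ (i + 1) * (w : X)⁻¹) v =
          cj V ((φ w : Q) : X) (cj V (x ^ (i + 1)) v) := by
        intro w
        rw [← cj_mul_elt V (hQV (φ w).2) (hxpow (i + 1))]
        congr 1
        show _ = (w : X) * x ^ (i + 1) * (w : X)⁻¹ * (x ^ (i + 1))⁻¹ * x ^ (i + 1)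
        group
      rw [Fintype.prod_bijective φ hφbij _
        (fun z : Q => cj V (z : X) (cj V (x ^ (i + 1)) v)) e]
      exact hNQ _
    rw [Finset.prod_eq_one hB, one_mul] at hA
    simp only [pow_zero, mul_one, mul_inv_cancel, cj_one, Finset.prod_const,
      Finset.card_univ] at hA
    have h4 : orderOf v ∣ Nat.card Q := by
      rw [Nat.card_eq_fintype_card]
      exact orderOf_dvd_of_pow_eq_one hA
    have h5 : orderOf v ∣ Nat.card V := orderOf_dvd_natCard v
    have h6 : orderOf v = 1 := Nat.eq_one_of_dvd_coprimes hcop h4 h5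
    exact orderOf_eq_one_iff.mp h6
  apply hVne
  rw [Subgroup.eq_bot_iff_forall]
  intro y hy
  exact congrArg Subtype.val (hV1 ⟨y, hy⟩)

theorem center_ne_bot {X : Type*} [Group X] [Finite X] (p : ℕ) [Fact p.Prime] (H : Subgroup X)
    (hH : IsPGroup p H) (hne : H ≠ ⊥) :
    H ⊓ Subgroup.centralizer (H : Set X) ≠ ⊥ := by
  have hnt : Nontrivial H := (Subgroup.nontrivial_iff_ne_bot H).mpr hne
  have hc := hH.center_nontrivial
  obtain ⟨c, hc1⟩ := exists_ne (1 : Subgroup.center H)
  intro hbot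
  have hmem : ((c : H) : X) ∈ H ⊓ Subgroup.centralizer (H : Set X) := by
    refine Subgroup.mem_inf.mpr ⟨(c : H).2, ?_⟩
    rw [Subgroup.mem_centralizer_iff]
    intro h hh
    have := Subgroup.mem_center_iff.mp c.2 ⟨h, hh⟩
    exact congrArg Subtype.val this
  rw [hbot, Subgroup.mem_bot] at hmem
  apply hc1
  apply Subtype.ext
  apply Subtype.ext
  exact hmem

theorem center_normalizer {X : Type*} [Group X] (H : Subgroup X) (x : X)
    (hx : x ∈ Subgroup.normalizer (H : Set X)) :
    x ∈ Subgroup.normalizer ((H ⊓ Subgroup.centralizer (H : Set X) : Subgroup X) : Set X) := by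
  rw [Subgroup.mem_normalizer_iff] at hx ⊢
  intro z
  simp only [Subgroup.mem_inf, Subgroup.mem_centralizer_iff, SetLike.mem_coe]
  constructor
  · rintro ⟨hz, hzc⟩
    refine ⟨(hx z).mp hz, ?_⟩
    intro h hh
    have hh' : x⁻¹ * h * x ∈ H := by
      rw [hx]
      have e : x * (x⁻¹ * h * x) * x⁻¹ = h := by group
      rw [e]
      exact hh
    have h8 := hzc _ hh'
    calc h * (x * z * x⁻¹) = x * ((x⁻¹ * h * x) * z) * x⁻¹ := by group
      _ = x * (z * (x⁻¹ * h * x)) * x⁻¹ := by rw [h8]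
      _ = _ := by group
  · rintro ⟨hz, hzc⟩
    refine ⟨(hx z).mpr hz, ?_⟩
    intro h hh
    have hh' : x * h * x⁻¹ ∈ H := (hx h).mp hh
    have h8 := hzc _ hh'
    calc h * z = x⁻¹ * ((x * h * x⁻¹) * (x * z * x⁻¹)) * x := by group
      _ = x⁻¹ * ((x * z * x⁻¹) * (x * h * x⁻¹)) * x := by rw [h8]
      _ = _ := by group

theorem exists_order_mul {X : Type*} [Group X] (a b : X) (p q : ℕ) (hp : p.Prime) (hq : q.Prime)
    (hpq : p ≠ q) (hab : a * b = b * a) (ha1 : a ≠ 1) (hb1 : b ≠ 1)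
    (ha : ∃ k, a ^ p ^ k = 1) (hb : ∃ k, b ^ q ^ k = 1) :
    ∃ c : X, orderOf c = p * q := by
  obtain ⟨k, hk⟩ := ha
  obtain ⟨l, hl⟩ := hb
  have hoa : orderOf a ∣ p ^ k := orderOf_dvd_of_pow_eq_one hk
  have hob : orderOf b ∣ q ^ l := orderOf_dvd_of_pow_eq_one hl
  have key : ∀ (c : X) (s n : ℕ), s.Prime → c ≠ 1 → orderOf c ∣ s ^ n →
      s ∣ orderOf c ∧ orderOf c ≠ 0 := by
    intro c s n hs hc1 hdvd
    obtain ⟨m, -, hm⟩ := (Nat.dvd_prime_pow hs).mp hdvd
    constructor
    · rw [hm]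
      rcases m with _ | m
      · rw [pow_zero, orderOf_eq_one_iff] at hm
        exact absurd hm hc1
      · exact dvd_pow_self s (Nat.succ_ne_zero m)
    · rw [hm]
      exact pow_ne_zero m hs.ne_zero
  obtain ⟨hpa, ha0⟩ := key a p k hp ha1 hoa
  obtain ⟨hqb, hb0⟩ := key b q l hq hb1 hob
  have h1 : orderOf (a ^ (orderOf a / p)) = p := orderOf_pow_orderOf_div ha0 hpa
  have h2 : orderOf (b ^ (orderOf b / q)) = q := orderOf_pow_orderOf_div hb0 hqb
  have hc : Commute (a ^ (orderOf a / p)) (b ^ (orderOf b / q)) :=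
    (show Commute a b from hab).pow_pow _ _
  refine ⟨a ^ (orderOf a / p) * b ^ (orderOf b / q), ?_⟩
  rw [hc.orderOf_mul_eq_mul_orderOf_of_coprime
    (by rw [h1, h2]; exact (Nat.coprime_primes hp hq).mpr hpq), h1, h2]

/-- Let G be a finite group with normal subgroups K ≤ M, and let p, q, r be distinct primes with p dividing the order of K, q dividing the order of M/K and r dividing the order of G/M. Then p, q, r are not pairwise non-adjacent in the prime graph of G: G has an element of order pq, pr or qr. -/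
theorem result {G : Type*} [Group G] [Finite G] (K M : Subgroup G) [K.Normal] [M.Normal] (hKM : K ≤ M)
    (p q r : ℕ) (hp : p.Prime) (hq : q.Prime) (hr : r.Prime) (hpq : p ≠ q) (hpr : p ≠ r) (hqr : q ≠ r)
    (hpK : p ∣ Nat.card ↥K) (hqM : q ∣ Nat.card ↥M / Nat.card ↥K) (hrG : r ∣ Nat.card G / Nat.card ↥M) :
    (∃ x : G, orderOf x = p * q) ∨ (∃ x : G, orderOf x = p * r) ∨ (∃ x : G, orderOf x = q * r) := by
  classical
  have hpf := Fact.mk hp
  have hqf := Fact.mk hq
  have hrf := Fact.mk hr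
  have hrM : r ∣ M.index := by
    have h := Subgroup.card_mul_index M
    have e : Nat.card G / Nat.card M = M.index := Nat.div_eq_of_eq_mul_right Nat.card_pos h.symm
    rwa [e] at hrG
  have hqKM : q ∣ K.relIndex M := by
    have h := Subgroup.card_mul_index (K.subgroupOf M)
    have hc : Nat.card (K.subgroupOf M) = Nat.card K :=
      Nat.card_congr (Subgroup.subgroupOfEquivOfLe hKM).toEquiv
    rw [hc] at h
    have e : Nat.card M / Nat.card K = K.relIndex M :=
      Nat.div_eq_of_eq_mul_right Nat.card_pos h.symm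
    rwa [e] at hqM
  obtain ⟨P⟩ : Nonempty (Sylow p K) := inferInstance
  have hNK := Sylow.normalizer_sup_eq_top P
  generalize hN : Subgroup.normalizer (((P : Subgroup K).map K.subtype : Subgroup G) : Set G) = N
    at hNK
  have hNM : N ⊔ M = ⊤ := top_le_iff.mp (hNK ▸ sup_le_sup_left hKM N)
  have hrN : r ∣ M.relIndex N := by
    have h := Subgroup.relIndex_sup_right N M
    rw [hNM, Subgroup.relIndex_top_right] at h
    rwa [← h]
  have hmod : (M ⊓ N) ⊔ K = M := by
    apply le_antisymm (sup_le inf_le_left hKM)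
    intro m hm
    have hmtop : m ∈ N ⊔ K := hNK ▸ Subgroup.mem_top m
    rw [← SetLike.mem_coe, Subgroup.mul_normal] at hmtop
    obtain ⟨n, hn, k, hk, rfl⟩ := hmtop
    have hnM : n ∈ M := by
      have h := M.mul_mem hm (M.inv_mem (hKM hk))
      rwa [mul_inv_cancel_right] at h
    exact Subgroup.mul_mem_sup (Subgroup.mem_inf.mpr ⟨hnM, hn⟩) hk
  have hqNM : q ∣ Nat.card (M.subgroupOf N) := by
    have h1 := Subgroup.relIndex_sup_right (M ⊓ N) K
    rw [hmod] at h1
    have h2 : K.relIndex (M ⊓ N) ∣ Nat.card (M ⊓ N : Subgroup G) :=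
      Subgroup.relIndex_dvd_card K (M ⊓ N)
    have h3 : Nat.card (M.subgroupOf N) = Nat.card (M ⊓ N : Subgroup G) := by
      rw [← Subgroup.inf_subgroupOf_right]
      exact Nat.card_congr (Subgroup.subgroupOfEquivOfLe inf_le_right).toEquiv
    rw [h3]
    exact (h1 ▸ hqKM).trans h2
  obtain ⟨Q1⟩ : Nonempty (Sylow q (M.subgroupOf N)) := inferInstance
  have hFr := Sylow.normalizer_sup_eq_top Q1
  have hrR : r ∣ Nat.card (Subgroup.normalizer
      (((Q1 : Subgroup (M.subgroupOf N)).map (M.subgroupOf N).subtype : Subgroup N) : Set N)) := by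
    have h := Subgroup.relIndex_sup_right (Subgroup.normalizer
      (((Q1 : Subgroup (M.subgroupOf N)).map (M.subgroupOf N).subtype : Subgroup N) : Set N))
      (M.subgroupOf N)
    rw [hFr, Subgroup.relIndex_top_right] at h
    have h2 : (M.subgroupOf N).index = M.relIndex N := rfl
    rw [h2] at h
    rw [h] at hrN
    exact hrN.trans (Subgroup.relIndex_dvd_card _ _)
  obtain ⟨x, hx⟩ := exists_prime_orderOf_dvd_card' (G := Subgroup.normalizer
      (((Q1 : Subgroup (M.subgroupOf N)).map (M.subgroupOf N).subtype : Subgroup N) : Set N)) r hrR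
  have hxo : orderOf (x : N) = r := by rw [Subgroup.orderOf_coe]; exact hx
  -- the p-group
  have hPnp : IsPGroup p (((P : Subgroup K).map K.subtype : Subgroup G).subgroupOf N) :=
    (P.isPGroup'.map K.subtype).comap_subtype
  have hPnne : ((P : Subgroup K).map K.subtype : Subgroup G).subgroupOf N ≠ ⊥ := by
    have hPne := P.ne_bot_of_dvd_card hpK
    obtain ⟨u, hu1⟩ := (Subgroup.ne_bot_iff_exists_ne_one.mp hPne)
    have humem : (u : K) ∈ (P : Subgroup K) := u.2
    have huP : ((u : K) : G) ∈ ((P : Subgroup K).map K.subtype : Subgroup G) :=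
      Subgroup.mem_map.mpr ⟨(u : K), humem, rfl⟩
    have huN : ((u : K) : G) ∈ N := hN ▸ Subgroup.le_normalizer huP
    intro hbot
    have hmem : (⟨((u : K) : G), huN⟩ : N) ∈
        ((P : Subgroup K).map K.subtype : Subgroup G).subgroupOf N := by
      rw [Subgroup.mem_subgroupOf]
      exact huP
    rw [hbot, Subgroup.mem_bot] at hmem
    have h9 : ((u : K) : G) = 1 := congrArg Subtype.val hmem
    apply hu1
    apply Subtype.ext
    apply Subtype.ext
    exact h9
  have hnPn : ∀ n : N, n ∈ Subgroup.normalizer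
      ((((P : Subgroup K).map K.subtype : Subgroup G).subgroupOf N : Subgroup N) : Set N) := by
    intro n
    rw [Subgroup.mem_normalizer_iff]
    intro h
    rw [Subgroup.mem_subgroupOf, Subgroup.mem_subgroupOf]
    have hn : (n : G) ∈ Subgroup.normalizer
        (((P : Subgroup K).map K.subtype : Subgroup G) : Set G) := hN ▸ n.2
    exact Subgroup.mem_normalizer_iff.mp hn (h : G)
  have hQ1p : IsPGroup q ((Q1 : Subgroup (M.subgroupOf N)).map (M.subgroupOf N).subtype) :=
    Q1.isPGroup'.map _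
  have hQ1ne : (Q1 : Subgroup (M.subgroupOf N)).map (M.subgroupOf N).subtype ≠ ⊥ := by
    have hne := Q1.ne_bot_of_dvd_card hqNM
    intro hbot
    apply hne
    rw [eq_bot_iff]
    intro y hy
    have : (M.subgroupOf N).subtype y ∈
        (Q1 : Subgroup (M.subgroupOf N)).map (M.subgroupOf N).subtype :=
      Subgroup.mem_map_of_mem _ hy
    rw [hbot, Subgroup.mem_bot] at this
    rw [Subgroup.mem_bot]
    exact Subtype.ext this
  generalize hPn : ((P : Subgroup K).map K.subtype : Subgroup G).subgroupOf N = Pn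
    at hPnp hPnne hnPn
  generalize hQ1' : (Q1 : Subgroup (M.subgroupOf N)).map (M.subgroupOf N).subtype = Q1'
    at hQ1p hQ1ne x hFr hrR
  have hVne : Pn ⊓ Subgroup.centralizer (Pn : Set N) ≠ ⊥ := center_ne_bot p Pn hPnp hPnne
  have hQ0ne : Q1' ⊓ Subgroup.centralizer (Q1' : Set N) ≠ ⊥ := center_ne_bot q Q1' hQ1p hQ1ne
  have hVp : IsPGroup p (Pn ⊓ Subgroup.centralizer (Pn : Set N) : Subgroup N) :=
    hPnp.to_le inf_le_left
  have hQ0p : IsPGroup q (Q1' ⊓ Subgroup.centralizer (Q1' : Set N) : Subgroup N) :=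
    hQ1p.to_le inf_le_left
  have hVc : IsMulCommutative (Pn ⊓ Subgroup.centralizer (Pn : Set N) : Subgroup N) := by
    refine ⟨⟨fun a b => ?_⟩⟩
    apply Subtype.ext
    have ha := (Subgroup.mem_inf.mp a.2).1
    have hb := (Subgroup.mem_inf.mp b.2).2
    rw [Subgroup.mem_centralizer_iff] at hb
    exact hb _ ha
  have hnV : ∀ n : N, n ∈ Subgroup.normalizer
      ((Pn ⊓ Subgroup.centralizer (Pn : Set N) : Subgroup N) : Set N) := fun n =>
    center_normalizer Pn n (hnPn n)
  have hcop : (Nat.card (Q1' ⊓ Subgroup.centralizer (Q1' : Set N) : Subgroup N)).Coprime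
      (Nat.card (Pn ⊓ Subgroup.centralizer (Pn : Set N) : Subgroup N)) :=
    IsPGroup.coprime_card_of_ne q p (Ne.symm hpq) _ _ hQ0p hVp
  have hpg : ∀ (s : ℕ) (S : Subgroup N), IsPGroup s S → ∀ z ∈ S, ∃ k, z ^ s ^ k = 1 := by
    intro s S hS z hz
    obtain ⟨k, hk⟩ := hS ⟨z, hz⟩
    exact ⟨k, congrArg Subtype.val hk⟩
  have hxpow : ∃ k, (x : N) ^ r ^ k = 1 := ⟨1, by rw [pow_one, ← hxo]; exact pow_orderOf_eq_one _⟩
  have hlift : ∀ (n : ℕ), (∃ c : N, orderOf c = n) → ∃ c : G, orderOf c = n := by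
    rintro n ⟨c, hc⟩
    exact ⟨(c : G), by rw [Subgroup.orderOf_coe]; exact hc⟩
  rcases frob_fix (Pn ⊓ Subgroup.centralizer (Pn : Set N)) (Q1' ⊓ Subgroup.centralizer (Q1' : Set N))
    (x : N) r hr hVne (fun z _ => hnV z) (hnV _) (center_normalizer Q1' _ x.2) hcop hxo with
    ⟨z, hz, hz1, hzx⟩ | ⟨v, hv, hv1, hvQ⟩ | ⟨v, hv, hv1, hvx⟩
  · right; right
    apply hlift
    have hx1 : (x : N) ≠ 1 := by
      intro h
      rw [h, orderOf_one] at hxo
      exact hr.one_lt.ne hxo
    exact exists_order_mul z (x : N) q r hq hr hqr hzx hz1 hx1 (hpg q _ hQ0p z hz) hxpow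
  · left
    apply hlift
    obtain ⟨z, hz, hz1⟩ : ∃ z ∈ (Q1' ⊓ Subgroup.centralizer (Q1' : Set N) : Subgroup N), z ≠ 1 := by
      by_contra hc
      push Not at hc
      exact hQ0ne ((Subgroup.eq_bot_iff_forall _).mpr hc)
    exact exists_order_mul v z p q hp hq hpq (hvQ z hz).symm hv1 hz1 (hpg p _ hVp v hv)
      (hpg q _ hQ0p z hz)
  · right; left
    apply hlift
    have hx1 : (x : N) ≠ 1 := by
      intro h
      rw [h, orderOf_one] at hxo
      exact hr.one_lt.ne hxo
    exact exists_order_mul v (x : N) p r hp hr hpr hvx.symm hv1 hx1 (hpg p _ hVp v hv) hxpow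

end Cfsg.Agent.S3634
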