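import Cfsg.Statements.S3633
import Cfsg.Agent.S3634
import Mathlib

set_option autoImplicit false
open Cfsg

namespace Cfsg.Agent.S3633

universe u

theorem lift_order {G : Type u} [Group G] [Finite G] (B : Subgroup G) [B.Normal] (n : ℕ)
    (h : ∃ y : G ⧸ B, orderOf y = n) : ∃ g : G, orderOf g = n := by
  obtain ⟨y, hy⟩ := h
  obtain ⟨g0, rfl⟩ := QuotientGroup.mk_surjective y
  have hdvd : n ∣ orderOf g0 := by
    rw [← hy]
    apply orderOf_dvd_of_pow_eq_one
    rw [← QuotientGroup.mk_pow, pow_orderOf_eq_one, QuotientGroup.mk_one]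
  have h0 : orderOf g0 ≠ 0 := (orderOf_pos g0).ne'
  exact ⟨g0 ^ (orderOf g0 / n), orderOf_pow_orderOf_div h0 hdvd⟩

theorem card_map_mul {G : Type u} [Group G] [Finite G] (B : Subgroup G) [B.Normal]
    (H : Subgroup G) (hBH : B ≤ H) :
    Nat.card (H.map (QuotientGroup.mk' B)) * Nat.card B = Nat.card H := by
  have h1 : (H.map (QuotientGroup.mk' B)).index = H.index :=
    Subgroup.index_map_eq H (QuotientGroup.mk'_surjective B) (by rw [QuotientGroup.ker_mk']; exact hBH)
  have h2 := Subgroup.card_mul_index (H.map (QuotientGroup.mk' B))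
  have h3 := Subgroup.card_mul_index H
  have h4 := Subgroup.card_eq_card_quotient_mul_card_subgroup B
  have h5 : H.index ≠ 0 := Subgroup.index_ne_zero_of_finite
  rw [h1] at h2
  have h6 : Nat.card (H.map (QuotientGroup.mk' B)) * Nat.card B * H.index =
      Nat.card H * H.index := by
    rw [h3, h4, ← h2]
    ring
  exact Nat.eq_of_mul_eq_mul_right (Nat.pos_of_ne_zero h5) h6

theorem exists_normal_pgroup : ∀ (n : ℕ) {G : Type u} [Group G] [Finite G] (K : Subgroup G)
    [K.Normal], Group.IsSolvable K → Nat.card K = n → K ≠ ⊥ →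
    ∃ (B : Subgroup G) (v : ℕ), B.Normal ∧ B ≤ K ∧ B ≠ ⊥ ∧ v.Prime ∧ IsPGroup v B := by
  intro n
  induction n using Nat.strong_induction_on with
  | _ n ih =>
    intro G _ _ K hKn hK hn hne
    by_cases hab : ⁅K, K⁆ = ⊥
    · have hcomm : ∀ a ∈ K, ∀ b ∈ K, a * b = b * a := by
        intro a ha b hb
        have h := (Subgroup.commutator_eq_bot_iff_le_centralizer.mp hab) ha
        rw [Subgroup.mem_centralizer_iff] at h
        exact (h b hb).symm
      have hK1 : Nat.card K ≠ 1 := fun h => hne (Subgroup.card_eq_one.mp h)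
      obtain ⟨v, hv, hvdvd⟩ := Nat.exists_prime_and_dvd hK1
      have hvf := Fact.mk hv
      obtain ⟨c, hc⟩ := exists_prime_orderOf_dvd_card' (G := K) v hvdvd
      let B : Subgroup G :=
        { carrier := {a | a ∈ K ∧ a ^ v = 1}
          mul_mem' := by
            rintro a b ⟨ha, ha'⟩ ⟨hb, hb'⟩
            refine ⟨K.mul_mem ha hb, ?_⟩
            rw [(show Commute a b from hcomm a ha b hb).mul_pow, ha', hb', one_mul]
          one_mem' := ⟨K.one_mem, one_pow v⟩
          inv_mem' := by
            rintro a ⟨ha, ha'⟩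
            exact ⟨K.inv_mem ha, by rw [inv_pow, ha', inv_one]⟩ }
      refine ⟨B, v, ?_, ?_, ?_, hv, ?_⟩
      · constructor
        intro a ha g
        refine ⟨hKn.conj_mem a ha.1 g, ?_⟩
        rw [conj_pow, ha.2]
        group
      · intro a ha
        exact ha.1
      · intro hbot
        have hcB : (c : G) ∈ B := by
          refine ⟨c.2, ?_⟩
          rw [← Subgroup.orderOf_coe] at hc
          rw [← hc]
          exact pow_orderOf_eq_one _
        rw [hbot, Subgroup.mem_bot] at hcB
        rw [← Subgroup.orderOf_coe, hcB, orderOf_one] at hc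
        exact hv.one_lt.ne hc
      · intro b
        refine ⟨1, ?_⟩
        apply Subtype.ext
        rw [pow_one]
        exact b.2.2
    · have hle : (⁅K, K⁆ : Subgroup G) ≤ K := Subgroup.commutator_le_self K
      have hneK : (⁅K, K⁆ : Subgroup G) ≠ K := by
        intro heq
        have hnt : Nontrivial K := (Subgroup.nontrivial_iff_ne_bot K).mpr hne
        have hlt := Group.IsSolvable.commutator_lt_top_of_nontrivial K
        apply hlt.ne
        apply Subgroup.map_injective K.subtype_injective
        rw [Subgroup.map_subtype_commutator, heq, ← MonoidHom.range_eq_map, Subgroup.range_subtype]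
      have hlt : Nat.card (⁅K, K⁆ : Subgroup G) < n := by
        rw [← hn]
        by_contra hc
        push Not at hc
        exact hneK (Subgroup.eq_of_le_of_card_ge hle hc)
      have hsol : Group.IsSolvable (⁅K, K⁆ : Subgroup G) :=
        Group.isSolvable_of_isSolvable_injective (f := Subgroup.inclusion hle)
          (Subgroup.inclusion_injective hle)
      obtain ⟨B, v, hBn, hBle, hBne, hv, hBp⟩ := ih _ hlt ⁅K, K⁆ hsol rfl hab
      exact ⟨B, v, hBn, hBle.trans hle, hBne, hv, hBp⟩

theorem not_dvd_pgroup {G : Type u} [Group G] [Finite G] (B : Subgroup G) (v w : ℕ)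
    (hv : v.Prime) (hw : w.Prime) (hvw : v ≠ w) (hB : IsPGroup v B) :
    (Nat.card B).Coprime w := by
  have hvf := Fact.mk hv
  obtain ⟨k, hk⟩ := hB.exists_card_eq
  rw [hk]
  exact Nat.Coprime.pow_left k ((Nat.coprime_primes hv hw).mpr hvw)

theorem dvd_pgroup {G : Type u} [Group G] [Finite G] (B : Subgroup G) (v : ℕ)
    (hv : v.Prime) (hB : IsPGroup v B) (hne : B ≠ ⊥) : v ∣ Nat.card B := by
  have hvf := Fact.mk hv
  obtain ⟨k, hk⟩ := hB.exists_card_eq
  rw [hk]
  apply dvd_pow_self
  rintro rfl
  rw [pow_zero] at hk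
  exact hne (Subgroup.card_eq_one.mp hk)

theorem separate : ∀ (n : ℕ) {G : Type u} [Group G] [Finite G] (K : Subgroup G) [K.Normal],
    Group.IsSolvable K → Nat.card K = n → ∀ (v w : ℕ), v.Prime → w.Prime → v ≠ w →
    v ∣ Nat.card K → w ∣ Nat.card G →
    (∃ g : G, orderOf g = v * w) ∨ ∃ M1 : Subgroup G, M1.Normal ∧
      ((v ∣ Nat.card M1 ∧ w ∣ M1.index) ∨ (w ∣ Nat.card M1 ∧ v ∣ M1.index)) := by
  intro n
  induction n using Nat.strong_induction_on with
  | _ n ih =>
    intro G _ _ K hKn hK hn v w hv hw hvw hvK hwG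
    have hne : K ≠ ⊥ := by
      rintro rfl
      rw [Subgroup.card_bot] at hvK
      exact hv.one_lt.ne' (Nat.dvd_one.mp hvK)
    obtain ⟨B, x, hBn, hBle, hBne, hx, hBp⟩ := exists_normal_pgroup n K hK hn hne
    have hcardG := Subgroup.card_mul_index B
    have hvG : v ∣ Nat.card G := hvK.trans (Subgroup.card_subgroup_dvd_card K)
    by_cases hxv : x = v
    · subst hxv
      right
      refine ⟨B, hBn, Or.inl ⟨dvd_pgroup B x hx hBp hBne, ?_⟩⟩
      have h : w ∣ Nat.card B * B.index := hcardG ▸ hwG
      exact ((not_dvd_pgroup B x w hx hw hvw hBp).symm).dvd_of_dvd_mul_left h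
    by_cases hxw : x = w
    · subst hxw
      right
      refine ⟨B, hBn, Or.inr ⟨dvd_pgroup B x hx hBp hBne, ?_⟩⟩
      have h : v ∣ Nat.card B * B.index := hcardG ▸ hvG
      exact ((not_dvd_pgroup B x v hx hv (Ne.symm hvw) hBp).symm).dvd_of_dvd_mul_left h
    · have hπ : Function.Surjective (QuotientGroup.mk' B) := QuotientGroup.mk'_surjective B
      have hcardK := card_map_mul B K hBle
      have hB2 : 2 ≤ Nat.card B := by
        have h1 : Nat.card B ≠ 1 := fun h => hBne (Subgroup.card_eq_one.mp h)
        have h0 : 0 < Nat.card B := Nat.card_pos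
        omega
      have hKbar_lt : Nat.card (K.map (QuotientGroup.mk' B)) < n := by
        rw [← hn, ← hcardK]
        have h0 : 0 < Nat.card (K.map (QuotientGroup.mk' B)) := Nat.card_pos
        nlinarith
      have hvKbar : v ∣ Nat.card (K.map (QuotientGroup.mk' B)) := by
        have h : v ∣ Nat.card (K.map (QuotientGroup.mk' B)) * Nat.card B := hcardK ▸ hvK
        exact ((not_dvd_pgroup B x v hx hv hxv hBp).symm).dvd_of_dvd_mul_right h
      have hwGbar : w ∣ Nat.card (G ⧸ B) := by
        have h4 := Subgroup.card_eq_card_quotient_mul_card_subgroup B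
        have h : w ∣ Nat.card (G ⧸ B) * Nat.card B := h4 ▸ hwG
        exact ((not_dvd_pgroup B x w hx hw hxw hBp).symm).dvd_of_dvd_mul_right h
      have hKbarn : (K.map (QuotientGroup.mk' B)).Normal := hKn.map _ hπ
      have hKbars : Group.IsSolvable (K.map (QuotientGroup.mk' B)) :=
        Group.isSolvable_of_surjective ((QuotientGroup.mk' B).subgroupMap_surjective K)
      rcases ih _ hKbar_lt (K.map (QuotientGroup.mk' B)) hKbars rfl v w hv hw hvw hvKbar hwGbar
        with ⟨y, hy⟩ | ⟨Mb, hMbn, hMb⟩
      · left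
        exact lift_order B _ ⟨y, hy⟩
      · right
        refine ⟨Mb.comap (QuotientGroup.mk' B), hMbn.comap _, ?_⟩
        have hidx : (Mb.comap (QuotientGroup.mk' B)).index = Mb.index :=
          Subgroup.index_comap_of_surjective Mb hπ
        have hcard : Nat.card Mb * Nat.card B = Nat.card (Mb.comap (QuotientGroup.mk' B)) := by
          have h := card_map_mul B (Mb.comap (QuotientGroup.mk' B))
            (by
              intro b hb
              rw [Subgroup.mem_comap]
              have : (QuotientGroup.mk' B) b = 1 := by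
                rw [← MonoidHom.mem_ker, QuotientGroup.ker_mk']
                exact hb
              rw [this]
              exact Mb.one_mem)
          rwa [Subgroup.map_comap_eq_self_of_surjective hπ] at h
        rcases hMb with ⟨h1, h2⟩ | ⟨h1, h2⟩
        · left
          exact ⟨hcard ▸ Dvd.dvd.mul_right h1 _, hidx.symm ▸ h2⟩
        · right
          exact ⟨hcard ▸ Dvd.dvd.mul_right h1 _, hidx.symm ▸ h2⟩

/-- top step: a normal `x`-subgroup at the bottom and two further primes. -/
theorem top_step {G : Type u} [Group G] [Finite G] (K : Subgroup G) [K.Normal]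
    (hK : Group.IsSolvable K) (B : Subgroup G) [hBn : B.Normal] (hBle : B ≤ K) (hBne : B ≠ ⊥)
    (x v w : ℕ) (hx : x.Prime) (hv : v.Prime) (hw : w.Prime) (hxv : x ≠ v) (hxw : x ≠ w)
    (hvw : v ≠ w) (hBp : IsPGroup x B) (hvK : v ∣ Nat.card K) (hwG : w ∣ Nat.card G) :
    (∃ g : G, orderOf g = x * v) ∨ (∃ g : G, orderOf g = x * w) ∨ (∃ g : G, orderOf g = v * w) := by
  have hπ : Function.Surjective (QuotientGroup.mk' B) := QuotientGroup.mk'_surjective B
  have hcardK := card_map_mul B K hBle
  have hvKbar : v ∣ Nat.card (K.map (QuotientGroup.mk' B)) := by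
    have h : v ∣ Nat.card (K.map (QuotientGroup.mk' B)) * Nat.card B := hcardK ▸ hvK
    exact ((not_dvd_pgroup B x v hx hv hxv hBp).symm).dvd_of_dvd_mul_right h
  have hwGbar : w ∣ Nat.card (G ⧸ B) := by
    have h4 := Subgroup.card_eq_card_quotient_mul_card_subgroup B
    have h : w ∣ Nat.card (G ⧸ B) * Nat.card B := h4 ▸ hwG
    exact ((not_dvd_pgroup B x w hx hw hxw hBp).symm).dvd_of_dvd_mul_right h
  have hKbarn : (K.map (QuotientGroup.mk' B)).Normal := Subgroup.Normal.map inferInstance _ hπ
  have hKbars : Group.IsSolvable (K.map (QuotientGroup.mk' B)) :=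
    Group.isSolvable_of_surjective ((QuotientGroup.mk' B).subgroupMap_surjective K)
  rcases separate _ (K.map (QuotientGroup.mk' B)) hKbars rfl v w hv hw hvw hvKbar hwGbar
    with ⟨y, hy⟩ | ⟨Mb, hMbn, hMb⟩
  · right; right
    exact lift_order B _ ⟨y, hy⟩
  · have hM1n : (Mb.comap (QuotientGroup.mk' B)).Normal := hMbn.comap _
    have hBM : B ≤ Mb.comap (QuotientGroup.mk' B) := by
      intro b hb
      rw [Subgroup.mem_comap]
      have : (QuotientGroup.mk' B) b = 1 := by
        rw [← MonoidHom.mem_ker, QuotientGroup.ker_mk']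
        exact hb
      rw [this]
      exact Mb.one_mem
    have hidx : (Mb.comap (QuotientGroup.mk' B)).index = Mb.index :=
      Subgroup.index_comap_of_surjective Mb hπ
    have hcard : Nat.card Mb * Nat.card B = Nat.card (Mb.comap (QuotientGroup.mk' B)) := by
      have h := card_map_mul B (Mb.comap (QuotientGroup.mk' B)) hBM
      rwa [Subgroup.map_comap_eq_self_of_surjective hπ] at h
    have hdiv1 : Nat.card (Mb.comap (QuotientGroup.mk' B)) / Nat.card B = Nat.card Mb :=
      Nat.div_eq_of_eq_mul_left Nat.card_pos hcard.symm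
    have hdiv2 : Nat.card G / Nat.card (Mb.comap (QuotientGroup.mk' B)) = Mb.index := by
      rw [← hidx]
      exact Nat.div_eq_of_eq_mul_right Nat.card_pos
        (Subgroup.card_mul_index (Mb.comap (QuotientGroup.mk' B))).symm
    have hxB : x ∣ Nat.card B := dvd_pgroup B x hx hBp hBne
    rcases hMb with ⟨h1, h2⟩ | ⟨h1, h2⟩
    · exact Cfsg.Agent.S3634.result B (Mb.comap (QuotientGroup.mk' B)) hBM x v w hx hv hw hxv hxw
        hvw hxB (hdiv1.symm ▸ h1) (hdiv2.symm ▸ h2)
    · rcases Cfsg.Agent.S3634.result B (Mb.comap (QuotientGroup.mk' B)) hBM x w v hx hw hv hxw hxv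
        (Ne.symm hvw) hxB (hdiv1.symm ▸ h1) (hdiv2.symm ▸ h2) with h | h | h
      · exact Or.inr (Or.inl h)
      · exact Or.inl h
      · right; right
        rw [mul_comm]
        exact h

theorem three : ∀ (n : ℕ) {G : Type u} [Group G] [Finite G] (K : Subgroup G) [K.Normal],
    Group.IsSolvable K → Nat.card K = n → ∀ (a b c : ℕ), a.Prime → b.Prime → c.Prime →
    a ≠ b → a ≠ c → b ≠ c → a ∣ Nat.card K → b ∣ Nat.card K → c ∣ Nat.card G →
    (∃ g : G, orderOf g = a * b) ∨ (∃ g : G, orderOf g = a * c) ∨ (∃ g : G, orderOf g = b * c) := by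
  intro n
  induction n using Nat.strong_induction_on with
  | _ n ih =>
    intro G _ _ K hKn hK hn a b c ha hb hc hab hac hbc haK hbK hcG
    have hne : K ≠ ⊥ := by
      rintro rfl
      rw [Subgroup.card_bot] at haK
      exact ha.one_lt.ne' (Nat.dvd_one.mp haK)
    obtain ⟨B, x, hBn, hBle, hBne, hx, hBp⟩ := exists_normal_pgroup n K hK hn hne
    have hbG : b ∣ Nat.card G := hbK.trans (Subgroup.card_subgroup_dvd_card K)
    by_cases hxa : x = a
    · subst hxa
      exact top_step K hK B hBle hBne x b c hx hb hc hab hac hbc hBp hbK hcG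
    by_cases hxb : x = b
    · subst hxb
      rcases top_step K hK B hBle hBne x a c hx ha hc (Ne.symm hab) hbc hac hBp haK hcG
        with h | h | h
      · left
        rw [mul_comm]
        exact h
      · exact Or.inr (Or.inr h)
      · exact Or.inr (Or.inl h)
    by_cases hxc : x = c
    · subst hxc
      rcases top_step K hK B hBle hBne x a b hx ha hb (Ne.symm hac) (Ne.symm hbc) hab hBp haK hbG
        with h | h | h
      · right; left
        rw [mul_comm]
        exact h
      · right; right
        rw [mul_comm]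
        exact h
      · exact Or.inl h
    · have hπ : Function.Surjective (QuotientGroup.mk' B) := QuotientGroup.mk'_surjective B
      have hcardK := card_map_mul B K hBle
      have hB2 : 2 ≤ Nat.card B := by
        have h1 : Nat.card B ≠ 1 := fun h => hBne (Subgroup.card_eq_one.mp h)
        have h0 : 0 < Nat.card B := Nat.card_pos
        omega
      have hKbar_lt : Nat.card (K.map (QuotientGroup.mk' B)) < n := by
        rw [← hn, ← hcardK]
        have h0 : 0 < Nat.card (K.map (QuotientGroup.mk' B)) := Nat.card_pos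
        nlinarith
      have haKbar : a ∣ Nat.card (K.map (QuotientGroup.mk' B)) := by
        have h : a ∣ Nat.card (K.map (QuotientGroup.mk' B)) * Nat.card B := hcardK ▸ haK
        exact ((not_dvd_pgroup B x a hx ha hxa hBp).symm).dvd_of_dvd_mul_right h
      have hbKbar : b ∣ Nat.card (K.map (QuotientGroup.mk' B)) := by
        have h : b ∣ Nat.card (K.map (QuotientGroup.mk' B)) * Nat.card B := hcardK ▸ hbK
        exact ((not_dvd_pgroup B x b hx hb hxb hBp).symm).dvd_of_dvd_mul_right h
      have hcGbar : c ∣ Nat.card (G ⧸ B) := by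
        have h4 := Subgroup.card_eq_card_quotient_mul_card_subgroup B
        have h : c ∣ Nat.card (G ⧸ B) * Nat.card B := h4 ▸ hcG
        exact ((not_dvd_pgroup B x c hx hc hxc hBp).symm).dvd_of_dvd_mul_right h
      have hKbarn : (K.map (QuotientGroup.mk' B)).Normal := hKn.map _ hπ
      have hKbars : Group.IsSolvable (K.map (QuotientGroup.mk' B)) :=
        Group.isSolvable_of_surjective ((QuotientGroup.mk' B).subgroupMap_surjective K)
      rcases ih _ hKbar_lt (K.map (QuotientGroup.mk' B)) hKbars rfl a b c ha hb hc hab hac hbc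
        haKbar hbKbar hcGbar with h | h | h
      · exact Or.inl (lift_order B _ h)
      · exact Or.inr (Or.inl (lift_order B _ h))
      · exact Or.inr (Or.inr (lift_order B _ h))

/-- Let G be a finite group and ρ a set of at least three prime divisors of the order of G that are pairwise non-adjacent in the prime graph (no element of order rs for distinct r, s ∈ ρ). Then at most one prime of ρ divides the order of any given solvable normal subgroup of G; in particular G is not solvable. -/
theorem result {G : Type*} [Group G] [Finite G] (ρ : Finset ℕ) (hρ : 3 ≤ ρ.card) (hc : ((∀ r ∈ ρ, r.Prime ∧ r ∣ Nat.card G) ∧ (∀ r ∈ ρ, ∀ s ∈ ρ, r ≠ s → ¬ ∃ x : G, orderOf x = r * s)))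
    (K : Subgroup G) [K.Normal] (hK : Group.IsSolvable ↥K) :
    (∀ r ∈ ρ, ∀ s ∈ ρ, r ∣ Nat.card ↥K → s ∣ Nat.card ↥K → r = s) ∧ ¬ Group.IsSolvable G := by
  have key : ∀ (K' : Subgroup G) [K'.Normal], Group.IsSolvable K' →
      ∀ r ∈ ρ, ∀ s ∈ ρ, r ∣ Nat.card K' → s ∣ Nat.card K' → r = s := by
    intro K' _ hK' r hr s hs hrK hsK
    by_contra hrs
    have hs' : s ∈ ρ.erase r := Finset.mem_erase.mpr ⟨Ne.symm hrs, hs⟩
    have hcard : 0 < ((ρ.erase r).erase s).card := by
      rw [Finset.card_erase_of_mem hs', Finset.card_erase_of_mem hr]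
      omega
    obtain ⟨t, ht⟩ := Finset.card_pos.mp hcard
    rw [Finset.mem_erase, Finset.mem_erase] at ht
    obtain ⟨hts, htr, htρ⟩ := ht
    rcases three _ K' hK' rfl r s t (hc.1 r hr).1 (hc.1 s hs).1 (hc.1 t htρ).1 hrs (Ne.symm htr)
      (Ne.symm hts) hrK hsK (hc.1 t htρ).2 with h | h | h
    · exact hc.2 r hr s hs hrs h
    · exact hc.2 r hr t htρ (Ne.symm htr) h
    · exact hc.2 s hs t htρ (Ne.symm hts) h
  refine ⟨key K hK, ?_⟩
  intro hG
  have htop : Group.IsSolvable (⊤ : Subgroup G) :=
    Group.isSolvable_of_isSolvable_injective (f := (Subgroup.topEquiv : (⊤ : Subgroup G) ≃* G).toMonoidHom)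
      (Subgroup.topEquiv : (⊤ : Subgroup G) ≃* G).injective
  obtain ⟨r, hr, s, hs, hrs⟩ := Finset.one_lt_card.mp (show 1 < ρ.card by omega)
  apply hrs
  apply key ⊤ htop r hr s hs
  · rw [Subgroup.card_top]; exact (hc.1 r hr).2
  · rw [Subgroup.card_top]; exact (hc.1 s hs).2

end Cfsg.Agent.S3633
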