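import Cfsg.Statements.S3660
import Cfsg.Agent.S3488
import Mathlib

set_option autoImplicit false
open Cfsg

namespace Cfsg.Agent.S3660

section
variable {F K : Type*} [Field F] [Field K] (j : F →+* K)

/-- the affine matrix with linear part `A` (over `F`) and translation part `v` (over `K`). -/
def iota (A : Matrix (Fin 2) (Fin 2) F) (v : Fin 2 → K) : Matrix (Fin 3) (Fin 3) K :=
  !![j (A 0 0), j (A 0 1), v 0; j (A 1 0), j (A 1 1), v 1; 0, 0, 1]

theorem iota_mul (A B : Matrix (Fin 2) (Fin 2) F) (v w : Fin 2 → K) :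
    iota j A v * iota j B w = iota j (A * B)
      ![v 0 + j (A 0 0) * w 0 + j (A 0 1) * w 1, v 1 + j (A 1 0) * w 0 + j (A 1 1) * w 1] := by
  ext a b
  fin_cases a <;> fin_cases b <;>
    simp [iota, Matrix.mul_apply, Fin.sum_univ_three, Fin.sum_univ_two] <;> ring

theorem iota_one : iota j 1 0 = 1 := by
  ext a b
  fin_cases a <;> fin_cases b <;> simp [iota]

theorem iota_det (A : Matrix (Fin 2) (Fin 2) F) (v : Fin 2 → K) :
    (iota j A v).det = j A.det := by
  rw [Matrix.det_fin_three, Matrix.det_fin_two]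
  simp [iota]

theorem iota_pow (A : Matrix (Fin 2) (Fin 2) F) (v : Fin 2 → K) (n : ℕ) :
    ∃ w, iota j A v ^ n = iota j (A ^ n) w := by
  induction n with
  | zero => exact ⟨0, by rw [pow_zero, pow_zero, iota_one]⟩
  | succ n ih =>
    obtain ⟨w, hw⟩ := ih
    exact ⟨_, by rw [pow_succ, hw, iota_mul, ← pow_succ]⟩

theorem iota_zero_pow (A : Matrix (Fin 2) (Fin 2) F) (n : ℕ) :
    iota j A 0 ^ n = iota j (A ^ n) 0 := by
  induction n with
  | zero => rw [pow_zero, pow_zero, iota_one]
  | succ n ih =>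
    rw [pow_succ, ih, iota_mul, ← pow_succ]
    congr 1
    funext i
    fin_cases i <;> simp

theorem iota_eq_one_iff (A : Matrix (Fin 2) (Fin 2) F) (v : Fin 2 → K) :
    iota j A v = 1 ↔ A = 1 ∧ v = 0 := by
  constructor
  · intro h
    have h00 := congrFun (congrFun h 0) 0
    have h01 := congrFun (congrFun h 0) 1
    have h02 := congrFun (congrFun h 0) 2
    have h10 := congrFun (congrFun h 1) 0
    have h11 := congrFun (congrFun h 1) 1
    have h12 := congrFun (congrFun h 1) 2
    simp [iota] at h00 h01 h02 h10 h11 h12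
    have h00' := (map_eq_one_iff j j.injective).mp h00
    have h11' := (map_eq_one_iff j j.injective).mp h11
    refine ⟨?_, ?_⟩
    · ext a b
      fin_cases a <;> fin_cases b <;> simp [h00', h01, h10, h11']
    · funext i
      fin_cases i <;> simp [h02, h12]
  · rintro ⟨rfl, rfl⟩
    exact iota_one j

/-- the affine group as a submonoid of `SL₃(K)`. -/
def Hmon : Submonoid (Matrix.SpecialLinearGroup (Fin 3) K) where
  carrier := {M | ∃ (A : Matrix (Fin 2) (Fin 2) F) (v : Fin 2 → K), A.det = 1 ∧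
    (M : Matrix (Fin 3) (Fin 3) K) = iota j A v}
  mul_mem' := by
    rintro M N ⟨A, v, hA, hM⟩ ⟨B, w, hB, hN⟩
    refine ⟨A * B, ![v 0 + j (A 0 0) * w 0 + j (A 0 1) * w 1,
      v 1 + j (A 1 0) * w 0 + j (A 1 1) * w 1], by rw [Matrix.det_mul, hA, hB, one_mul], ?_⟩
    rw [Matrix.SpecialLinearGroup.coe_mul, hM, hN, iota_mul]
  one_mem' := ⟨1, 0, Matrix.det_one, by rw [Matrix.SpecialLinearGroup.coe_one, iota_one]⟩

/-- the affine group `K² ⋊ SL₂(F)` as a subgroup of `SL₃(K)`. -/
def Hsub [Finite K] : Subgroup (Matrix.SpecialLinearGroup (Fin 3) K) :=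
  { Hmon j with
    inv_mem' := by
      intro M hM
      have h1 : M⁻¹ = M ^ (orderOf M - 1) := by
        rw [inv_eq_iff_mul_eq_one, ← pow_succ', Nat.sub_add_cancel (orderOf_pos M),
          pow_orderOf_eq_one]
      rw [h1]
      exact (Hmon j).pow_mem hM _ }

theorem hsub_pow_eq_one_iff [Finite K] (g : Hsub j) (n : ℕ) :
    g ^ n = 1 ↔ ((g : Matrix.SpecialLinearGroup (Fin 3) K) : Matrix (Fin 3) (Fin 3) K) ^ n = 1 := by
  constructor
  · intro h
    have := congrArg (fun x : Hsub j =>
      ((x : Matrix.SpecialLinearGroup (Fin 3) K) : Matrix (Fin 3) (Fin 3) K)) h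
    simpa using this
  · intro h
    apply Subtype.ext
    apply Matrix.SpecialLinearGroup.ext
    intro a b
    simp [h]

theorem iota_pow_four [CharP K 2] (A : Matrix (Fin 2) (Fin 2) F) (v : Fin 2 → K)
    (hA : A.det = 1) (ht : A 0 0 + A 1 1 = 0) : iota j A v ^ 4 = 1 := by
  apply S3488.pow_four_of_trace _ (by simp [iota]) (by simp [iota]) (by simp [iota])
    (by rw [iota_det, hA, map_one])
  simp only [iota, Matrix.of_apply, Matrix.cons_val_zero, Matrix.cons_val_one]
  rw [← map_add, ht, map_zero]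

theorem iota_pow_eq_one_iff [CharP K 2] (A : Matrix (Fin 2) (Fin 2) F) (v : Fin 2 → K)
    (hA : A.det = 1) (ht : A 0 0 + A 1 1 ≠ 0) (n : ℕ) :
    iota j A v ^ n = 1 ↔ A ^ n = 1 := by
  constructor
  · intro h
    obtain ⟨w, hw⟩ := iota_pow j A v n
    rw [hw] at h
    exact ((iota_eq_one_iff j _ _).mp h).1
  · intro h
    obtain ⟨w, hw⟩ := iota_pow j A v n
    rw [h] at hw
    have hc : iota j A v * iota j 1 w = iota j 1 w * iota j A v := by
      rw [← hw, ← pow_succ', ← pow_succ]
    rw [iota_mul, iota_mul] at hc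
    have e1 := congrFun (congrFun hc 0) 2
    have e2 := congrFun (congrFun hc 1) 2
    simp [iota] at e1 e2
    have hdet : j (A 0 0) * j (A 1 1) - j (A 0 1) * j (A 1 0) = 1 := by
      rw [← map_mul, ← map_mul, ← map_sub, ← Matrix.det_fin_two, hA, map_one]
    have h2 : (2 : K) = 0 := S3488.two_eq_zero'
    have ht' : j (A 0 0) + j (A 1 1) ≠ 0 := by
      rw [← map_add]
      exact (map_ne_zero j).mpr ht
    have hw0 : w 0 = 0 := by
      have : (j (A 0 0) + j (A 1 1)) * w 0 = 0 := by
        linear_combination -(j (A 1 1) - 1) * e1 + j (A 0 1) * e2 + w 0 * hdet + w 0 * h2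
      exact (mul_eq_zero.mp this).resolve_left ht'
    have hw1 : w 1 = 0 := by
      have : (j (A 0 0) + j (A 1 1)) * w 1 = 0 := by
        linear_combination -(j (A 0 0) - 1) * e2 + j (A 1 0) * e1 + w 1 * hdet + w 1 * h2
      exact (mul_eq_zero.mp this).resolve_left ht'
    rw [hw]
    have hw' : w = 0 := by
      funext i
      fin_cases i <;> simp [hw0, hw1]
    rw [hw', iota_one]

end

theorem psl_pow_eq_one_iff {F : Type*} [Field F] [CharP F 2]
    (A : Matrix.SpecialLinearGroup (Fin 2) F) (n : ℕ) :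
    (QuotientGroup.mk A : Matrix.ProjectiveSpecialLinearGroup (Fin 2) F) ^ n = 1 ↔
      (A : Matrix (Fin 2) (Fin 2) F) ^ n = 1 := by
  rw [← QuotientGroup.mk_pow, QuotientGroup.eq_one_iff, Matrix.SpecialLinearGroup.mem_center_iff]
  constructor
  · rintro ⟨r, hr, hs⟩
    have h2 : (2 : F) = 0 := S3488.two_eq_zero'
    have hr1 : r = 1 := by
      have hr2 : r ^ 2 = 1 := by simpa using hr
      have : (r - 1) ^ 2 = 0 := by linear_combination hr2 - (r - 1) * h2
      exact sub_eq_zero.mp ((pow_eq_zero_iff two_ne_zero).mp this)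
    rw [← Matrix.SpecialLinearGroup.coe_pow, ← hs, hr1, map_one]
  · intro h
    exact ⟨1, one_pow _, by rw [map_one, Matrix.SpecialLinearGroup.coe_pow, h]⟩

/-- if the element orders of `H` are those of `G` together with possibly 4, then `G` and `H` have
the same prime graph. -/
theorem same_graph {G H : Type*} [Group G] [Group H] [Finite G] [Finite H]
    (h1 : ∀ g : G, ∃ h : H, orderOf h = orderOf g)
    (h2 : ∀ h : H, orderOf h = 4 ∨ ∃ g : G, orderOf g = orderOf h) :
    (∀ p : ℕ, p.Prime → (p ∣ Nat.card G ↔ p ∣ Nat.card H)) ∧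
    (∀ p q : ℕ, p.Prime → q.Prime → p ≠ q →
      ((∃ g : G, orderOf g = p * q) ↔ (∃ g : H, orderOf g = p * q))) := by
  constructor
  · intro p hp
    haveI : Fact p.Prime := ⟨hp⟩
    constructor
    · intro hd
      obtain ⟨g, hg⟩ := exists_prime_orderOf_dvd_card' p hd
      obtain ⟨h, hh⟩ := h1 g
      rw [← hg, ← hh]
      exact orderOf_dvd_natCard h
    · intro hd
      obtain ⟨h, hh⟩ := exists_prime_orderOf_dvd_card' p hd
      rcases h2 h with h4 | ⟨g, hg⟩
      · exfalso
        rw [hh] at h4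
        rw [h4] at hp
        norm_num at hp
      · rw [← hh, ← hg]
        exact orderOf_dvd_natCard g
  · intro p q hp hq hpq
    constructor
    · rintro ⟨g, hg⟩
      obtain ⟨h, hh⟩ := h1 g
      exact ⟨h, hh.trans hg⟩
    · rintro ⟨h, hh⟩
      rcases h2 h with h4 | ⟨g, hg⟩
      · exfalso
        rw [hh] at h4
        have hp2 : p ∣ 2 ^ 2 := ⟨q, by rw [h4]; norm_num⟩
        have hq2 : q ∣ 2 ^ 2 := ⟨p, by rw [mul_comm, h4]; norm_num⟩
        have e1 := (Nat.prime_dvd_prime_iff_eq hp Nat.prime_two).mp (hp.dvd_of_dvd_pow hp2)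
        have e2 := (Nat.prime_dvd_prime_iff_eq hq Nat.prime_two).mp (hq.dvd_of_dvd_pow hq2)
        exact hpq (e1.trans e2.symm)
      · exact ⟨g, hg.trans hh⟩

theorem main {F : Type*} [Field F] [CharP F 2] {K : Type} [Field K] [Finite K]
    (j : F →+* K) (N : ℕ) (hN : N < Nat.card K) :
    ∃ (H : Type) (_ : Group H) (_ : Finite H), N < Nat.card H ∧
      ((∀ p : ℕ, p.Prime → (p ∣ Nat.card (Matrix.ProjectiveSpecialLinearGroup (Fin 2) F) ↔ p ∣ Nat.card H)) ∧
      (∀ p q : ℕ, p.Prime → q.Prime → p ≠ q → ((∃ g : (Matrix.ProjectiveSpecialLinearGroup (Fin 2) F), orderOf g = p * q) ↔ (∃ g : H, orderOf g = p * q)))) := by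
  classical
  haveI : CharP K 2 := charP_of_injective_ringHom j.injective 2
  haveI : Finite F := Finite.of_injective j j.injective
  have h2F : (2 : F) = 0 := S3488.two_eq_zero'
  have h1 : ∀ g : Matrix.ProjectiveSpecialLinearGroup (Fin 2) F,
      ∃ h : Hsub j, orderOf h = orderOf g := by
    intro g
    obtain ⟨A, rfl⟩ := QuotientGroup.mk_surjective g
    have hdet : (iota j (A : Matrix (Fin 2) (Fin 2) F) (0 : Fin 2 → K)).det = 1 := by
      rw [iota_det, A.det_coe, map_one]
    refine ⟨⟨⟨iota j A 0, hdet⟩, ⟨A, 0, A.det_coe, rfl⟩⟩, ?_⟩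
    rw [orderOf_eq_orderOf_iff]
    intro n
    rw [hsub_pow_eq_one_iff, psl_pow_eq_one_iff]
    show iota j (A : Matrix (Fin 2) (Fin 2) F) (0 : Fin 2 → K) ^ n = 1 ↔ _
    rw [iota_zero_pow, iota_eq_one_iff]
    simp
  have h2 : ∀ h : Hsub j, orderOf h = 4 ∨
      ∃ g : Matrix.ProjectiveSpecialLinearGroup (Fin 2) F, orderOf g = orderOf h := by
    intro h
    obtain ⟨A, v, hA, hM⟩ := h.2
    by_cases ht : A 0 0 + A 1 1 = 0
    · have h4 : h ^ 4 = 1 := by
        rw [hsub_pow_eq_one_iff, hM]
        exact iota_pow_four j A v hA ht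
      have hd : orderOf h ∣ 4 := orderOf_dvd_of_pow_eq_one h4
      obtain ⟨k, hk⟩ : ∃ k, k = orderOf h := ⟨_, rfl⟩
      rw [← hk] at hd ⊢
      have hle : k ≤ 4 := Nat.le_of_dvd (by norm_num) hd
      interval_cases k
      · simp at hd
      · right
        exact ⟨1, orderOf_one⟩
      · right
        have hdet : (!![1, 1; 0, 1] : Matrix (Fin 2) (Fin 2) F).det = 1 := by
          rw [Matrix.det_fin_two]; simp
        obtain ⟨B, hB⟩ : ∃ B : Matrix.SpecialLinearGroup (Fin 2) F,
            (B : Matrix (Fin 2) (Fin 2) F) = !![1, 1; 0, 1] := ⟨⟨_, hdet⟩, rfl⟩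
        refine ⟨QuotientGroup.mk B, ?_⟩
        apply orderOf_eq_prime
        · rw [psl_pow_eq_one_iff, hB, pow_two]
          ext a b
          fin_cases a <;> fin_cases b <;> simp [Matrix.mul_apply, Fin.sum_univ_two]
          linear_combination h2F
        · intro h1'
          have h1'' : (QuotientGroup.mk B :
              Matrix.ProjectiveSpecialLinearGroup (Fin 2) F) ^ 1 = 1 := by
            rw [pow_one]; exact h1'
          rw [psl_pow_eq_one_iff, pow_one, hB] at h1''
          have := congrFun (congrFun h1'' 0) 1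
          simp at this
      · exfalso
        revert hd
        decide
      · left
        rfl
    · right
      obtain ⟨B, hB⟩ : ∃ B : Matrix.SpecialLinearGroup (Fin 2) F,
          (B : Matrix (Fin 2) (Fin 2) F) = A := ⟨⟨A, hA⟩, rfl⟩
      refine ⟨QuotientGroup.mk B, ?_⟩
      rw [orderOf_eq_orderOf_iff]
      intro n
      rw [hsub_pow_eq_one_iff, psl_pow_eq_one_iff, hM, hB]
      exact (iota_pow_eq_one_iff j A v hA ht n).symm
  refine ⟨Hsub j, inferInstance, inferInstance, ?_, same_graph h1 h2⟩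
  have hinj : Function.Injective (fun x : K =>
      (⟨⟨iota j (1 : Matrix (Fin 2) (Fin 2) F) ![x, 0], by rw [iota_det, Matrix.det_one, map_one]⟩,
        ⟨1, ![x, 0], Matrix.det_one, rfl⟩⟩ : Hsub j)) := by
    intro x y hxy
    have h : (iota j (1 : Matrix (Fin 2) (Fin 2) F) ![x, 0]) 0 2 =
        (iota j (1 : Matrix (Fin 2) (Fin 2) F) ![y, 0]) 0 2 :=
      congrArg (fun g : Hsub j =>
        ((g : Matrix.SpecialLinearGroup (Fin 3) K) : Matrix (Fin 3) (Fin 3) K) 0 2) hxy
    simpa [iota] using h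
  exact lt_of_lt_of_le hN (Nat.card_le_card_of_injective _ hinj)

/-- The prime graph of a finite group has the prime divisors of its order as vertices, two distinct primes p, q being joined when the group has an element of order pq; two groups have the same prime graph when they have the same prime divisors and the same joined pairs. Let F be a finite field of characteristic 2 with at least 4 elements. Then there are finite groups of arbitrarily large order with the same prime graph as PSL(2,F); in particular PSL(2,F) is not determined by its prime graph. -/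
theorem result {F : Type*} [Field F] [Fintype F] [CharP F 2] (hF : 4 ≤ Fintype.card F) (N : ℕ) :
    ∃ (H : Type) (_ : Group H) (_ : Finite H), N < Nat.card H ∧
      ((∀ p : ℕ, p.Prime → (p ∣ Nat.card (Matrix.ProjectiveSpecialLinearGroup (Fin 2) F) ↔ p ∣ Nat.card H)) ∧
      (∀ p q : ℕ, p.Prime → q.Prime → p ≠ q → ((∃ g : (Matrix.ProjectiveSpecialLinearGroup (Fin 2) F), orderOf g = p * q) ↔ (∃ g : H, orderOf g = p * q)))) := by
  classical
  haveI : Fact (Nat.Prime 2) := ⟨Nat.prime_two⟩
  apply main (algebraMap F (FiniteField.Extension F 2 (N + 1))) N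
  rw [FiniteField.natCard_extension]
  have h2 : 2 ≤ Nat.card F := Finite.one_lt_card
  calc N < 2 ^ (N + 1) := by
        have := Nat.lt_two_pow_self (n := N + 1)
        omega
    _ ≤ Nat.card F ^ (N + 1) := Nat.pow_le_pow_left h2 _

end Cfsg.Agent.S3660
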