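import Mathlib
import Cfsg.Statements.S4812
import Cfsg.Agent.Helper14.DegGraph
import Cfsg.Agent.S2300


set_option autoImplicit false
open Cfsg

namespace Cfsg.Agent.S4812

/-- Let F be a finite field of characteristic 2 with q ≥ 4 elements and let S be isomorphic to PSL(2,F) or to SL(2,F). Then the vertices of the character degree graph of S are the primes dividing q(q²−1), and two distinct primes are adjacent exactly when both divide q + 1 or both divide q − 1; so the graph has the three connected components {2}, the primes dividing q + 1 and the primes dividing q − 1, each complete. -/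
theorem result (F : Type*) [Field F] [Fintype F] [CharP F 2] (q : ℕ) (hq : Fintype.card F = q) (h4 : 4 ≤ q) {S : Type*} [Group S] [Finite S] (hS : Nonempty (S ≃* Matrix.ProjectiveSpecialLinearGroup (Fin 2) F) ∨ Nonempty (S ≃* Matrix.SpecialLinearGroup (Fin 2) F)) : Cfsg.degreePrimes S = {r : ℕ | r.Prime ∧ r ∣ q * (q ^ 2 - 1)} ∧ ∀ r s : ℕ, (Cfsg.degreeGraph S).Adj r s ↔ (r ≠ s ∧ r.Prime ∧ s.Prime ∧ ((r ∣ q + 1 ∧ s ∣ q + 1) ∨ (r ∣ q - 1 ∧ s ∣ q - 1))) := by
  classical
  subst hq
  have hcenter : Subgroup.center (Matrix.SpecialLinearGroup (Fin 2) F) = ⊥ := by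
    rw [eq_bot_iff]
    intro z hz
    obtain ⟨r, hr, hrz⟩ := Matrix.SpecialLinearGroup.mem_center_iff.mp hz
    rw [Fintype.card_fin] at hr
    have h1 : (r + 1) ^ 2 = 0 := by
      rw [CharTwo.add_sq, hr, one_pow, CharTwo.add_self_eq_zero]
    have h2 : r + 1 = 0 := (pow_eq_zero_iff two_ne_zero).mp h1
    have h3 : r = 1 := by
      rw [← CharTwo.sub_eq_add] at h2
      exact sub_eq_zero.mp h2
    rw [Subgroup.mem_bot]
    apply Subtype.ext
    rw [← hrz, h3]
    simp
  obtain ⟨e⟩ : Nonempty (S ≃* Matrix.SpecialLinearGroup (Fin 2) F) := by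
    rcases hS with ⟨⟨e⟩⟩ | ⟨⟨e⟩⟩
    · exact ⟨e.trans ((QuotientGroup.quotientMulEquivOfEq hcenter).trans
        QuotientGroup.quotientBot)⟩
    · exact ⟨e⟩
  obtain ⟨n, _, hn⟩ := FiniteField.card F 2
  obtain ⟨h1c, hqc, hq1c, hqmc⟩ := (Cfsg.Agent.S2300.result (F := F)).2 h4
  have key : ∀ (a b : ℕ), ((a : ℂ) = (b : ℂ)) → a = b := fun a b h => by exact_mod_cast h
  have hD : ∀ d, d ∈ charDegrees S ↔
      (d = 1 ∨ d + 1 = Fintype.card F ∨ d = Fintype.card F ∨ d = Fintype.card F + 1) := by
    rw [Cfsg.Agent.Helper14.DG.charDegrees_congr e]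
    intro d
    constructor
    · rintro ⟨χ, rfl⟩
      have h1 := Cfsg.Agent.Helper25.irr_one_eq_degree χ
      rcases (Cfsg.Agent.S2300.result (F := F)).1 (χ : Matrix.SpecialLinearGroup (Fin 2) F → ℂ)
        χ.2 with h | h | h | h
      · left
        rw [h1] at h
        exact key _ 1 (by push_cast; exact h)
      · right; left
        rw [h1] at h
        exact key _ _ (by push_cast; linear_combination h)
      · right; right; left
        rw [h1] at h
        exact key _ _ h
      · right; right; right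
        rw [h1] at h
        exact key _ _ (by push_cast; exact h)
    · rintro (rfl | h | rfl | rfl)
      · obtain ⟨χ, hχ⟩ := Cfsg.Agent.Helper14.DG.exists_of_card_pos _ (by rw [h1c]; norm_num)
        exact Cfsg.Agent.Helper14.DG.mem_charDegrees_of_one χ 1 (by rw [hχ]; norm_num)
      · obtain ⟨χ, hχ⟩ := Cfsg.Agent.Helper14.DG.exists_of_card_pos _
          (by rw [hqmc]; omega)
        exact Cfsg.Agent.Helper14.DG.mem_charDegrees_of_one χ d
          (by rw [hχ, ← h]; push_cast; ring)
      · obtain ⟨χ, hχ⟩ := Cfsg.Agent.Helper14.DG.exists_of_card_pos _ (by rw [hqc]; norm_num)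
        exact Cfsg.Agent.Helper14.DG.mem_charDegrees_of_one χ _ hχ
      · obtain ⟨χ, hχ⟩ := Cfsg.Agent.Helper14.DG.exists_of_card_pos _
          (by rw [hq1c]; omega)
        exact Cfsg.Agent.Helper14.DG.mem_charDegrees_of_one χ _ (by rw [hχ]; push_cast; ring)
  have hfac : Fintype.card F ^ 2 - 1 = (Fintype.card F - 1) * (Fintype.card F + 1) := by
    obtain ⟨m, hm⟩ : ∃ m, Fintype.card F = m + 1 := ⟨Fintype.card F - 1, by omega⟩
    rw [hm]
    have : (m + 1) ^ 2 = m * (m + 1 + 1) + 1 := by ring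
    rw [this]
    simp
  constructor
  · ext r
    rw [Cfsg.Agent.Helper14.DG.mem_degreePrimes]
    simp only [Set.mem_ofPred_eq]
    constructor
    · rintro ⟨hr, d, hd, hrd⟩
      refine ⟨hr, ?_⟩
      rcases (hD d).mp hd with rfl | h | rfl | rfl
      · exact absurd hrd hr.not_dvd_one
      · rw [hfac]
        have : d = Fintype.card F - 1 := by omega
        rw [this] at hrd
        exact Dvd.dvd.mul_left (Dvd.dvd.mul_right hrd _) _
      · exact Dvd.dvd.mul_right hrd _
      · rw [hfac]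
        exact Dvd.dvd.mul_left (Dvd.dvd.mul_left hrd _) _
    · rintro ⟨hr, hdvd⟩
      refine ⟨hr, ?_⟩
      rw [hfac] at hdvd
      rcases (Nat.Prime.dvd_mul hr).mp hdvd with h | h
      · exact ⟨_, (hD _).mpr (Or.inr (Or.inr (Or.inl rfl))), h⟩
      · rcases (Nat.Prime.dvd_mul hr).mp h with h | h
        · exact ⟨_, (hD _).mpr (Or.inr (Or.inl (by omega))), h⟩
        · exact ⟨_, (hD _).mpr (Or.inr (Or.inr (Or.inr rfl))), h⟩
  · intro r s
    rw [Cfsg.Agent.Helper14.DG.degreeGraph_adj]
    constructor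
    · rintro ⟨hne, hr, hs, d, hd, hdvd⟩
      refine ⟨hne, hr, hs, ?_⟩
      have hrd : r ∣ d := dvd_trans (Dvd.intro _ rfl) hdvd
      have hsd : s ∣ d := dvd_trans (Dvd.intro_left _ rfl) hdvd
      rcases (hD d).mp hd with rfl | h | rfl | rfl
      · exact absurd hrd hr.not_dvd_one
      · right
        have : d = Fintype.card F - 1 := by omega
        rw [this] at hrd hsd
        exact ⟨hrd, hsd⟩
      · exfalso
        rw [hn] at hrd hsd
        have h1 := (Nat.prime_dvd_prime_iff_eq hr Nat.prime_two).mp (hr.dvd_of_dvd_pow hrd)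
        have h2 := (Nat.prime_dvd_prime_iff_eq hs Nat.prime_two).mp (hs.dvd_of_dvd_pow hsd)
        exact hne (h1.trans h2.symm)
      · left
        exact ⟨hrd, hsd⟩
    · rintro ⟨hne, hr, hs, h⟩
      refine ⟨hne, hr, hs, ?_⟩
      have hcop : Nat.Coprime r s := (Nat.coprime_primes hr hs).mpr hne
      rcases h with ⟨h1, h2⟩ | ⟨h1, h2⟩
      · exact ⟨_, (hD _).mpr (Or.inr (Or.inr (Or.inr rfl))),
          Nat.Coprime.mul_dvd_of_dvd_of_dvd hcop h1 h2⟩
      · exact ⟨_, (hD _).mpr (Or.inr (Or.inl (by omega))),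
          Nat.Coprime.mul_dvd_of_dvd_of_dvd hcop h1 h2⟩

end Cfsg.Agent.S4812
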