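import Mathlib
import Cfsg.Statements.S3669
import Cfsg.Agent.Helper14.Order60
import Cfsg.Agent.S0494
import Cfsg.Agent.S0252
import Cfsg.Agent.S4812


set_option autoImplicit false
open Cfsg

namespace Cfsg.Agent.S3669

/-- The character degree graph of a finite group has as vertices the primes dividing some irreducible complex character degree, two distinct primes being joined when their product divides some irreducible character degree; two groups have the same character degree graph when they have the same vertices and the same joined pairs. A finite group of order 60 with the same character degree graph as the alternating group A₅ (whose character degrees are 1, 3, 4, 5, so the graph has vertices 2, 3, 5 and no edges) is isomorphic to A₅. -/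
theorem result {G : Type*} [Group G] [Finite G] (hcard : Nat.card G = 60)
    (hΓ : Cfsg.degreePrimes G = Cfsg.degreePrimes (alternatingGroup (Fin 5)) ∧ Cfsg.degreeGraph G = Cfsg.degreeGraph (alternatingGroup (Fin 5))) : Nonempty (G ≃* alternatingGroup (Fin 5)) := by
  classical
  by_contra hne
  have hns : ¬ IsSimpleGroup G := fun hs => by
    haveI := hs
    exact hne (Cfsg.Agent.S0494.result (G := G) hcard)
  have hsolv := Cfsg.Agent.Helper14.O60.solvable_of_card_60 G hcard hns
  obtain ⟨p, P, hp, hp60, hPn, hPab, hPp, hPi⟩ :=
    Cfsg.Agent.Helper14.O60.exists_normal_sylow_of_solvable G hcard hsolv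
  have hA5 : p ∈ Cfsg.degreePrimes (alternatingGroup (Fin 5)) := by
    haveI : Fact (Nat.Prime 2) := ⟨Nat.prime_two⟩
    letI : Fintype (GaloisField 2 2) := Fintype.ofFinite _
    have hc4 : Fintype.card (GaloisField 2 2) = 4 := by
      rw [← Nat.card_eq_fintype_card, GaloisField.card 2 2 (by norm_num)]
      norm_num
    obtain ⟨e⟩ := Cfsg.Agent.S0252.result (F := GaloisField 2 2) hc4
    have h1 := (Cfsg.Agent.S4812.result (GaloisField 2 2) 4 hc4 (le_refl 4)
      (S := alternatingGroup (Fin 5)) (Or.inl ⟨e.symm⟩)).1
    rw [h1]
    have h60 : (60 : ℕ) ∣ 4 * (4 ^ 2 - 1) := by norm_num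
    exact ⟨hp, dvd_trans hp60 h60⟩
  rw [← hΓ.1] at hA5
  obtain ⟨_, d, ⟨χ, rfl⟩, hd⟩ := hA5
  exact ((Cfsg.Agent.S4493.result hsolv p hp).mp ⟨P, hPn, hPab, hPp, hPi⟩) χ hd

end Cfsg.Agent.S3669
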