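import Cfsg.Statements.S3678
import Cfsg.Agent.S3488
import Mathlib

set_option autoImplicit false
open Cfsg
open Polynomial

namespace Cfsg.Agent.S3678

section
variable {K : Type*} [Field K] [CharP K 2]

theorem pow_eight_add (x y : K) : (x + y) ^ 8 = x ^ 8 + y ^ 8 := by
  have h := add_pow_char_pow (p := 2) (n := 3) x y
  norm_num at h
  exact h

/-- the defining property of the affine group over the subfield of order (dividing) 8. -/
def InH8 (M : Matrix (Fin 3) (Fin 3) K) : Prop :=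
  M 2 0 = 0 ∧ M 2 1 = 0 ∧ M 2 2 = 1 ∧ (M 0 0) ^ 8 = M 0 0 ∧ (M 0 1) ^ 8 = M 0 1 ∧
    (M 1 0) ^ 8 = M 1 0 ∧ (M 1 1) ^ 8 = M 1 1

theorem inH8_one : InH8 (1 : Matrix (Fin 3) (Fin 3) K) := by
  refine ⟨?_, ?_, ?_, ?_, ?_, ?_, ?_⟩ <;> simp

theorem inH8_mul {M N : Matrix (Fin 3) (Fin 3) K} (hM : InH8 M) (hN : InH8 N) : InH8 (M * N) := by
  obtain ⟨m20, m21, m22, m00, m01, m10, m11⟩ := hM
  obtain ⟨n20, n21, n22, n00, n01, n10, n11⟩ := hN
  refine ⟨?_, ?_, ?_, ?_, ?_, ?_, ?_⟩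
  · simp [Matrix.mul_apply, Fin.sum_univ_three, m20, m21, m22, n20]
  · simp [Matrix.mul_apply, Fin.sum_univ_three, m20, m21, m22, n21]
  · simp [Matrix.mul_apply, Fin.sum_univ_three, m20, m21, m22, n22]
  · simp only [Matrix.mul_apply, Fin.sum_univ_three, n20, mul_zero, add_zero]
    rw [pow_eight_add, mul_pow, mul_pow, m00, m01, n00, n10]
  · simp only [Matrix.mul_apply, Fin.sum_univ_three, n21, mul_zero, add_zero]
    rw [pow_eight_add, mul_pow, mul_pow, m00, m01, n01, n11]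
  · simp only [Matrix.mul_apply, Fin.sum_univ_three, n20, mul_zero, add_zero]
    rw [pow_eight_add, mul_pow, mul_pow, m10, m11, n00, n10]
  · simp only [Matrix.mul_apply, Fin.sum_univ_three, n21, mul_zero, add_zero]
    rw [pow_eight_add, mul_pow, mul_pow, m10, m11, n01, n11]

theorem inH8_pow {M : Matrix (Fin 3) (Fin 3) K} (hM : InH8 M) (n : ℕ) : InH8 (M ^ n) := by
  induction n with
  | zero => rw [pow_zero]; exact inH8_one
  | succ n ih => rw [pow_succ]; exact inH8_mul ih hM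

theorem pow_seven_of_trace (M : Matrix (Fin 3) (Fin 3) K) (h20 : M 2 0 = 0) (h21 : M 2 1 = 0)
    (h22 : M 2 2 = 1) (hdet : M.det = 1)
    (ht : (M 0 0 + M 1 1) ^ 3 + (M 0 0 + M 1 1) ^ 2 + 1 = 0) : M ^ 7 = 1 := by
  apply S3488.pow_eq_one_of_dvd M h20 h21 h22 hdet 7
    (X ^ 4 + (C (M 0 0 + M 1 1) + 1) * X ^ 3 +
      (C (M 0 0 + M 1 1) ^ 2 + C (M 0 0 + M 1 1)) * X ^ 2 + (C (M 0 0 + M 1 1) + 1) * X + 1)
  have h2 : (2 : K[X]) = 0 := S3488.polyTwo
  have hR : C (M 0 0 + M 1 1) ^ 3 + C (M 0 0 + M 1 1) ^ 2 + 1 = (0 : K[X]) := by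
    rw [← C_pow, ← C_pow, ← C_add, ← C_1, ← C_add, ← C_0]
    congr 1
  linear_combination (X ^ 4 - X ^ 3) * hR +
    (-X ^ 4 * C (M 0 0 + M 1 1) - X ^ 4 + X ^ 3 * C (M 0 0 + M 1 1) + X ^ 3) * h2

theorem pow_nine_of_trace (M : Matrix (Fin 3) (Fin 3) K) (h20 : M 2 0 = 0) (h21 : M 2 1 = 0)
    (h22 : M 2 2 = 1) (hdet : M.det = 1)
    (ht : (M 0 0 + M 1 1) ^ 3 + (M 0 0 + M 1 1) + 1 = 0) : M ^ 9 = 1 := by
  apply S3488.pow_eq_one_of_dvd M h20 h21 h22 hdet 9
    ((X ^ 2 + X + 1) * (X ^ 4 + C (M 0 0 + M 1 1) * X ^ 3 +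
      (C (M 0 0 + M 1 1) ^ 2 + 1) * X ^ 2 + C (M 0 0 + M 1 1) * X + 1))
  have h2 : (2 : K[X]) = 0 := S3488.polyTwo
  have hR : C (M 0 0 + M 1 1) ^ 3 + C (M 0 0 + M 1 1) + 1 = (0 : K[X]) := by
    rw [← C_pow, ← C_add, ← C_1, ← C_add, ← C_0]
    congr 1
  linear_combination (X ^ 6 - X ^ 3) * hR +
    (-X ^ 7 - X ^ 6 * C (M 0 0 + M 1 1) - X ^ 5 + X ^ 4 + X ^ 3 * C (M 0 0 + M 1 1) + X ^ 2) * h2

theorem pow_cases8 (M : Matrix (Fin 3) (Fin 3) K) (h : InH8 M) (hdet : M.det = 1) :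
    M ^ 4 = 1 ∨ M ^ 3 = 1 ∨ M ^ 7 = 1 ∨ M ^ 9 = 1 := by
  obtain ⟨h20, h21, h22, h00, -, -, h11⟩ := h
  have h2 : (2 : K) = 0 := S3488.two_eq_zero'
  have ht8 : (M 0 0 + M 1 1) ^ 8 = M 0 0 + M 1 1 := by rw [pow_eight_add, h00, h11]
  have hfac : (M 0 0 + M 1 1) * ((M 0 0 + M 1 1 - 1) *
      (((M 0 0 + M 1 1) ^ 3 + (M 0 0 + M 1 1) + 1) *
        ((M 0 0 + M 1 1) ^ 3 + (M 0 0 + M 1 1) ^ 2 + 1))) = 0 := by
    linear_combination ht8 + ((M 0 0 + M 1 1) ^ 5 - (M 0 0 + M 1 1) ^ 4) * h2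
  rcases mul_eq_zero.mp hfac with h0 | h1
  · exact Or.inl (S3488.pow_four_of_trace M h20 h21 h22 hdet h0)
  · rcases mul_eq_zero.mp h1 with h1 | h1
    · exact Or.inr (Or.inl (S3488.pow_three_of_trace M h20 h21 h22 hdet (sub_eq_zero.mp h1)))
    · rcases mul_eq_zero.mp h1 with h1 | h1
      · exact Or.inr (Or.inr (Or.inr (pow_nine_of_trace M h20 h21 h22 hdet h1)))
      · exact Or.inr (Or.inr (Or.inl (pow_seven_of_trace M h20 h21 h22 hdet h1)))

end

/-- the affine group `K² ⋊ SL₂(𝔽₈ ∩ K)` as a subgroup of `SL₃(K)`. -/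
def Hgrp8 (K : Type*) [Field K] [CharP K 2] : Subgroup (Matrix.SpecialLinearGroup (Fin 3) K) where
  carrier := {M | InH8 (M : Matrix (Fin 3) (Fin 3) K)}
  mul_mem' := by
    intro M N hM hN
    show InH8 ((M * N : Matrix.SpecialLinearGroup (Fin 3) K) : Matrix (Fin 3) (Fin 3) K)
    rw [Matrix.SpecialLinearGroup.coe_mul]
    exact inH8_mul hM hN
  one_mem' := by
    show InH8 ((1 : Matrix.SpecialLinearGroup (Fin 3) K) : Matrix (Fin 3) (Fin 3) K)
    rw [Matrix.SpecialLinearGroup.coe_one]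
    exact inH8_one
  inv_mem' := by
    intro M hM
    have key : ∀ n : ℕ, (M : Matrix (Fin 3) (Fin 3) K) ^ (n + 1) = 1 →
        InH8 ((M⁻¹ : Matrix.SpecialLinearGroup (Fin 3) K) : Matrix (Fin 3) (Fin 3) K) := by
      intro n hn
      have h1 : M ^ (n + 1) = 1 := by
        apply Matrix.SpecialLinearGroup.ext
        intro i j
        rw [Matrix.SpecialLinearGroup.coe_pow, hn, Matrix.SpecialLinearGroup.coe_one]
      have h2 : M⁻¹ = M ^ n := by
        rw [inv_eq_iff_eq_inv, eq_inv_iff_mul_eq_one, ← pow_succ']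
        exact h1
      rw [h2, Matrix.SpecialLinearGroup.coe_pow]
      exact inH8_pow hM n
    rcases pow_cases8 (M : Matrix (Fin 3) (Fin 3) K) hM M.det_coe with h | h | h | h
    · exact key 3 h
    · exact key 2 h
    · exact key 6 h
    · exact key 8 h

section
variable {K : Type*} [Field K] [CharP K 2]

theorem pow_eq_one_iff8 (g : Hgrp8 K) (n : ℕ) :
    g ^ n = 1 ↔ ((g : Matrix.SpecialLinearGroup (Fin 3) K) : Matrix (Fin 3) (Fin 3) K) ^ n = 1 := by
  constructor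
  · intro h
    have := congrArg (fun x : Hgrp8 K =>
      ((x : Matrix.SpecialLinearGroup (Fin 3) K) : Matrix (Fin 3) (Fin 3) K)) h
    simpa using this
  · intro h
    apply Subtype.ext
    apply Matrix.SpecialLinearGroup.ext
    intro i j
    simp [h]

/-- build an element of `Hgrp8`. -/
def mk8 (M : Matrix (Fin 3) (Fin 3) K) (hdet : M.det = 1) (h : InH8 M) : Hgrp8 K := ⟨⟨M, hdet⟩, h⟩

theorem mk8_coe (M : Matrix (Fin 3) (Fin 3) K) (hdet : M.det = 1) (h : InH8 M) :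
    (((mk8 M hdet h : Hgrp8 K) : Matrix.SpecialLinearGroup (Fin 3) K) :
      Matrix (Fin 3) (Fin 3) K) = M := rfl

theorem mk8_ne_one (M : Matrix (Fin 3) (Fin 3) K) (hdet : M.det = 1) (h : InH8 M) (hM : M ≠ 1) :
    mk8 M hdet h ≠ 1 := by
  intro h1
  apply hM
  have := (pow_eq_one_iff8 (mk8 M hdet h) 1).mp (by rw [pow_one]; exact h1)
  rwa [pow_one, mk8_coe] at this

theorem hgrp8_pow (g : Hgrp8 K) : g ^ 4 = 1 ∨ g ^ 3 = 1 ∨ g ^ 7 = 1 ∨ g ^ 9 = 1 := by
  rcases pow_cases8 _ g.2 g.1.2 with h | h | h | h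
  · exact Or.inl ((pow_eq_one_iff8 g 4).mpr h)
  · exact Or.inr (Or.inl ((pow_eq_one_iff8 g 3).mpr h))
  · exact Or.inr (Or.inr (Or.inl ((pow_eq_one_iff8 g 7).mpr h)))
  · exact Or.inr (Or.inr (Or.inr ((pow_eq_one_iff8 g 9).mpr h)))

theorem hgrp8_two : ∃ g : Hgrp8 K, orderOf g = 2 := by
  have h2 : (2 : K) = 0 := S3488.two_eq_zero'
  have hdet : (!![1, 1, 0; 0, 1, 0; 0, 0, 1] : Matrix (Fin 3) (Fin 3) K).det = 1 := by
    rw [Matrix.det_fin_three]; simp
  have hin : InH8 (!![1, 1, 0; 0, 1, 0; 0, 0, 1] : Matrix (Fin 3) (Fin 3) K) := by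
    refine ⟨?_, ?_, ?_, ?_, ?_, ?_, ?_⟩ <;> simp
  refine ⟨mk8 _ hdet hin, ?_⟩
  haveI : Fact (Nat.Prime 2) := ⟨Nat.prime_two⟩
  apply orderOf_eq_prime
  · rw [pow_eq_one_iff8, mk8_coe, pow_two]
    ext i j
    fin_cases i <;> fin_cases j <;> simp [Matrix.mul_apply, Fin.sum_univ_three] <;>
      linear_combination h2
  · apply mk8_ne_one
    intro h
    have := congrFun (congrFun h 0) 1
    simp at this

theorem hgrp8_three : ∃ g : Hgrp8 K, orderOf g = 3 := by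
  have h2 : (2 : K) = 0 := S3488.two_eq_zero'
  have hneg : (-1 : K) = 1 := by linear_combination -h2
  have hdet : (!![0, 1, 0; 1, 1, 0; 0, 0, 1] : Matrix (Fin 3) (Fin 3) K).det = 1 := by
    rw [Matrix.det_fin_three]; simp [hneg]
  have hin : InH8 (!![0, 1, 0; 1, 1, 0; 0, 0, 1] : Matrix (Fin 3) (Fin 3) K) := by
    refine ⟨?_, ?_, ?_, ?_, ?_, ?_, ?_⟩ <;> simp
  refine ⟨mk8 _ hdet hin, ?_⟩
  haveI : Fact (Nat.Prime 3) := ⟨Nat.prime_three⟩
  apply orderOf_eq_prime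
  · rw [pow_eq_one_iff8, mk8_coe]
    exact S3488.pow_three_of_trace _ (by simp) (by simp) (by simp) hdet (by simp)
  · apply mk8_ne_one
    intro h
    have := congrFun (congrFun h 0) 1
    simp at this

theorem hgrp8_seven (u : K) (hu7 : u ^ 7 = 1) (hu1 : u ≠ 1) : ∃ g : Hgrp8 K, orderOf g = 7 := by
  have hu0 : u ≠ 0 := by
    rintro rfl
    simp at hu7
  have hdet : (!![u, 0, 0; 0, u⁻¹, 0; 0, 0, 1] : Matrix (Fin 3) (Fin 3) K).det = 1 := by
    rw [Matrix.det_fin_three]; simp [hu0]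
  have hu8 : u ^ 8 = u := by rw [pow_succ, hu7, one_mul]
  have hin : InH8 (!![u, 0, 0; 0, u⁻¹, 0; 0, 0, 1] : Matrix (Fin 3) (Fin 3) K) := by
    refine ⟨?_, ?_, ?_, ?_, ?_, ?_, ?_⟩ <;> simp [hu8]
  refine ⟨mk8 _ hdet hin, ?_⟩
  haveI : Fact (Nat.Prime 7) := ⟨by norm_num⟩
  apply orderOf_eq_prime
  · rw [pow_eq_one_iff8, mk8_coe]
    have hd : (!![u, 0, 0; 0, u⁻¹, 0; 0, 0, 1] : Matrix (Fin 3) (Fin 3) K) =
        Matrix.diagonal ![u, u⁻¹, 1] := by
      ext i j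
      fin_cases i <;> fin_cases j <;> simp
    rw [hd, Matrix.diagonal_pow]
    have h1 : (![u, u⁻¹, 1] : Fin 3 → K) ^ 7 = 1 := by
      funext i
      fin_cases i <;> simp [hu7]
    rw [h1]
    exact Matrix.diagonal_one
  · apply mk8_ne_one
    intro h
    have := congrFun (congrFun h 0) 0
    simp at this
    exact hu1 this

theorem hgrp8_inj : Function.Injective (fun x : K =>
    (mk8 (!![1, 0, x; 0, 1, 0; 0, 0, 1] : Matrix (Fin 3) (Fin 3) K)
      (by rw [Matrix.det_fin_three]; simp)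
      (by refine ⟨?_, ?_, ?_, ?_, ?_, ?_, ?_⟩ <;> simp) : Hgrp8 K)) := by
  intro x y hxy
  have h : (!![1, 0, x; 0, 1, 0; 0, 0, 1] : Matrix (Fin 3) (Fin 3) K) 0 2 =
      (!![1, 0, y; 0, 1, 0; 0, 0, 1] : Matrix (Fin 3) (Fin 3) K) 0 2 :=
    congrArg (fun g : Hgrp8 K =>
      ((g : Matrix.SpecialLinearGroup (Fin 3) K) : Matrix (Fin 3) (Fin 3) K) 0 2) hxy
  simpa using h

end

section
variable {F : Type*} [Field F] [CharP F 7]

theorem seven_eq_zero : (7 : F) = 0 := by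
  have := CharP.cast_eq_zero F 7
  exact_mod_cast this

theorem polySeven : (7 : F[X]) = 0 := by
  have h := CharP.cast_eq_zero F[X] 7
  exact_mod_cast h

omit [CharP F 7] in
theorem aeval2 (A : Matrix (Fin 2) (Fin 2) F) (hdet : A.det = 1) :
    aeval A (X ^ 2 - C (A 0 0 + A 1 1) * X + 1 : F[X]) = 0 := by
  have h := Matrix.aeval_self_charpoly A
  rw [Matrix.charpoly_fin_two, Matrix.trace_fin_two, hdet, C_1] at h
  exact h

omit [CharP F 7] in
theorem pow_eq_of_dvd2 (A : Matrix (Fin 2) (Fin 2) F) (hdet : A.det = 1) (n : ℕ) (q : F[X])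
    (hq : (X ^ n - 1 : F[X]) = (X ^ 2 - C (A 0 0 + A 1 1) * X + 1) * q) : A ^ n = 1 := by
  have h := congrArg (aeval A) hq
  rw [map_mul, aeval2 A hdet, zero_mul] at h
  simp only [map_sub, map_pow, aeval_X, map_one] at h
  exact sub_eq_zero.mp h

omit [CharP F 7] in
theorem pow_eq_neg_of_dvd2 (A : Matrix (Fin 2) (Fin 2) F) (hdet : A.det = 1) (n : ℕ) (q : F[X])
    (hq : (X ^ n + 1 : F[X]) = (X ^ 2 - C (A 0 0 + A 1 1) * X + 1) * q) : A ^ n = -1 := by
  have h := congrArg (aeval A) hq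
  rw [map_mul, aeval2 A hdet, zero_mul] at h
  simp only [map_add, map_pow, aeval_X, map_one] at h
  exact eq_neg_of_add_eq_zero_left h

omit [CharP F 7] in
theorem tr_zero (A : Matrix (Fin 2) (Fin 2) F) (hdet : A.det = 1) (ht : A 0 0 + A 1 1 = 0) :
    A ^ 2 = -1 := by
  apply pow_eq_neg_of_dvd2 A hdet 2 1
  rw [ht, C_0]
  ring

omit [CharP F 7] in
theorem tr_one (A : Matrix (Fin 2) (Fin 2) F) (hdet : A.det = 1) (ht : A 0 0 + A 1 1 = 1) :
    A ^ 3 = -1 := by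
  apply pow_eq_neg_of_dvd2 A hdet 3 (X + 1)
  rw [ht, C_1]
  ring

omit [CharP F 7] in
theorem tr_neg_one (A : Matrix (Fin 2) (Fin 2) F) (hdet : A.det = 1)
    (ht : A 0 0 + A 1 1 = -1) : A ^ 3 = 1 := by
  apply pow_eq_of_dvd2 A hdet 3 (X - 1)
  rw [ht, C_neg, C_1]
  ring

theorem tr_two (A : Matrix (Fin 2) (Fin 2) F) (hdet : A.det = 1) (ht : A 0 0 + A 1 1 = 2) :
    A ^ 7 = 1 := by
  apply pow_eq_of_dvd2 A hdet 7 ((X - 1) ^ 5)
  have hT : C (A 0 0 + A 1 1) = (2 : F[X]) := by rw [ht]; exact map_ofNat C 2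
  rw [hT]
  have h7 : (7 : F[X]) = 0 := polySeven
  linear_combination (X ^ 6 - 3 * X ^ 5 + 5 * X ^ 4 - 5 * X ^ 3 + 3 * X ^ 2 - X) * h7

theorem tr_neg_two (A : Matrix (Fin 2) (Fin 2) F) (hdet : A.det = 1)
    (ht : A 0 0 + A 1 1 = -2) : A ^ 7 = -1 := by
  apply pow_eq_neg_of_dvd2 A hdet 7 ((X + 1) ^ 5)
  have hT : C (A 0 0 + A 1 1) = (-2 : F[X]) := by rw [ht, C_neg]; congr 1
  rw [hT]
  have h7 : (7 : F[X]) = 0 := polySeven
  linear_combination (-X ^ 6 - 3 * X ^ 5 - 5 * X ^ 4 - 5 * X ^ 3 - 3 * X ^ 2 - X) * h7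

theorem tr_three (A : Matrix (Fin 2) (Fin 2) F) (hdet : A.det = 1) (ht : A 0 0 + A 1 1 = 3) :
    A ^ 4 = -1 := by
  apply pow_eq_neg_of_dvd2 A hdet 4 (X ^ 2 + 3 * X + 1)
  have hT : C (A 0 0 + A 1 1) = (3 : F[X]) := by rw [ht]; exact map_ofNat C 3
  rw [hT]
  have h7 : (7 : F[X]) = 0 := polySeven
  linear_combination (X ^ 2) * h7

theorem tr_neg_three (A : Matrix (Fin 2) (Fin 2) F) (hdet : A.det = 1)
    (ht : A 0 0 + A 1 1 = -3) : A ^ 4 = -1 := by
  apply pow_eq_neg_of_dvd2 A hdet 4 (X ^ 2 - 3 * X + 1)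
  have hT : C (A 0 0 + A 1 1) = (-3 : F[X]) := by rw [ht, C_neg]; congr 1
  rw [hT]
  have h7 : (7 : F[X]) = 0 := polySeven
  linear_combination (X ^ 2) * h7

omit [CharP F 7] in
theorem mk_pow_eq_one (A : Matrix.SpecialLinearGroup (Fin 2) F) (n : ℕ)
    (h : (A : Matrix (Fin 2) (Fin 2) F) ^ n = 1 ∨ (A : Matrix (Fin 2) (Fin 2) F) ^ n = -1) :
    (QuotientGroup.mk A : Matrix.ProjectiveSpecialLinearGroup (Fin 2) F) ^ n = 1 := by
  rw [← QuotientGroup.mk_pow, QuotientGroup.eq_one_iff, Matrix.SpecialLinearGroup.mem_center_iff]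
  rcases h with h | h
  · exact ⟨1, one_pow _, by rw [Matrix.SpecialLinearGroup.coe_pow, h]; simp⟩
  · exact ⟨-1, by simp, by rw [Matrix.SpecialLinearGroup.coe_pow, h, map_neg, map_one]⟩

omit [CharP F 7] in
theorem mk_ne_one (A : Matrix.SpecialLinearGroup (Fin 2) F)
    (h : (A : Matrix (Fin 2) (Fin 2) F) 0 1 ≠ 0) :
    (QuotientGroup.mk A : Matrix.ProjectiveSpecialLinearGroup (Fin 2) F) ≠ 1 := by
  intro h1
  rw [QuotientGroup.eq_one_iff, Matrix.SpecialLinearGroup.mem_center_iff] at h1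
  obtain ⟨r, -, hr⟩ := h1
  apply h
  rw [← hr]
  simp

theorem psl_pow (hpow : ∀ x : F, x ^ 7 = x)
    (g : Matrix.ProjectiveSpecialLinearGroup (Fin 2) F) :
    g ^ 4 = 1 ∨ g ^ 3 = 1 ∨ g ^ 7 = 1 ∨ g ^ 9 = 1 := by
  obtain ⟨A, rfl⟩ := QuotientGroup.mk_surjective g
  have h7 : (7 : F) = 0 := seven_eq_zero
  have hdet : (A : Matrix (Fin 2) (Fin 2) F).det = 1 := A.det_coe
  obtain ⟨t, ht⟩ : ∃ t : F, t = (A : Matrix (Fin 2) (Fin 2) F) 0 0 +
      (A : Matrix (Fin 2) (Fin 2) F) 1 1 := ⟨_, rfl⟩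
  have ht7 := hpow t
  have hfac : t * ((t - 1) * ((t + 1) * ((t - 2) * ((t + 2) * ((t - 3) * (t + 3)))))) = 0 := by
    linear_combination ht7 - (2 * t ^ 5 - 7 * t ^ 3 + 5 * t) * h7
  rcases mul_eq_zero.mp hfac with h | h
  · left
    have h2 := mk_pow_eq_one A 2 (Or.inr (tr_zero _ hdet (by rw [← ht]; exact h)))
    rw [show 4 = 2 * 2 by norm_num, pow_mul, h2, one_pow]
  rcases mul_eq_zero.mp h with h | h
  · right; left
    exact mk_pow_eq_one A 3 (Or.inr (tr_one _ hdet (by rw [← ht]; linear_combination h)))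
  rcases mul_eq_zero.mp h with h | h
  · right; left
    exact mk_pow_eq_one A 3 (Or.inl (tr_neg_one _ hdet (by rw [← ht]; linear_combination h)))
  rcases mul_eq_zero.mp h with h | h
  · right; right; left
    exact mk_pow_eq_one A 7 (Or.inl (tr_two _ hdet (by rw [← ht]; linear_combination h)))
  rcases mul_eq_zero.mp h with h | h
  · right; right; left
    exact mk_pow_eq_one A 7 (Or.inr (tr_neg_two _ hdet (by rw [← ht]; linear_combination h)))
  rcases mul_eq_zero.mp h with h | h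
  · left
    exact mk_pow_eq_one A 4 (Or.inr (tr_three _ hdet (by rw [← ht]; linear_combination h)))
  · left
    exact mk_pow_eq_one A 4 (Or.inr (tr_neg_three _ hdet (by rw [← ht]; linear_combination h)))

omit [CharP F 7] in
theorem psl_two : ∃ g : Matrix.ProjectiveSpecialLinearGroup (Fin 2) F, orderOf g = 2 := by
  have hdet : (!![0, 1; -1, 0] : Matrix (Fin 2) (Fin 2) F).det = 1 := by
    rw [Matrix.det_fin_two]; simp
  refine ⟨QuotientGroup.mk ⟨_, hdet⟩, ?_⟩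
  haveI : Fact (Nat.Prime 2) := ⟨Nat.prime_two⟩
  apply orderOf_eq_prime
  · exact mk_pow_eq_one _ 2 (Or.inr (tr_zero _ hdet (by simp)))
  · apply mk_ne_one
    simp

omit [CharP F 7] in
theorem psl_three : ∃ g : Matrix.ProjectiveSpecialLinearGroup (Fin 2) F, orderOf g = 3 := by
  have hdet : (!![0, 1; -1, 1] : Matrix (Fin 2) (Fin 2) F).det = 1 := by
    rw [Matrix.det_fin_two]; simp
  refine ⟨QuotientGroup.mk ⟨_, hdet⟩, ?_⟩
  haveI : Fact (Nat.Prime 3) := ⟨Nat.prime_three⟩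
  apply orderOf_eq_prime
  · exact mk_pow_eq_one _ 3 (Or.inr (tr_one _ hdet (by simp)))
  · apply mk_ne_one
    simp

theorem psl_seven : ∃ g : Matrix.ProjectiveSpecialLinearGroup (Fin 2) F, orderOf g = 7 := by
  have hdet : (!![1, 1; 0, 1] : Matrix (Fin 2) (Fin 2) F).det = 1 := by
    rw [Matrix.det_fin_two]; simp
  refine ⟨QuotientGroup.mk ⟨_, hdet⟩, ?_⟩
  haveI : Fact (Nat.Prime 7) := ⟨by norm_num⟩
  apply orderOf_eq_prime
  · exact mk_pow_eq_one _ 7 (Or.inl (tr_two _ hdet (by simp; norm_num)))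
  · apply mk_ne_one
    simp

end

/-- a group all of whose elements have order dividing 4, 3, 7 or 9 and which has elements of
orders 2, 3, 7 has the prime graph with vertices 2, 3, 7 and no edges. -/
theorem graph_of_pow {G : Type*} [Group G] [Finite G]
    (h : ∀ g : G, g ^ 4 = 1 ∨ g ^ 3 = 1 ∨ g ^ 7 = 1 ∨ g ^ 9 = 1)
    (h2 : ∃ g : G, orderOf g = 2) (h3 : ∃ g : G, orderOf g = 3) (h7 : ∃ g : G, orderOf g = 7) :
    (∀ p : ℕ, p.Prime → (p ∣ Nat.card G ↔ p = 2 ∨ p = 3 ∨ p = 7)) ∧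
    (∀ p q : ℕ, p.Prime → q.Prime → p ≠ q → ¬ ∃ g : G, orderOf g = p * q) := by
  have key : ∀ g : G, ∀ p : ℕ, p.Prime → p ∣ orderOf g →
      (p = 2 ∧ orderOf g ∣ 2 ^ 2) ∨ (p = 3 ∧ orderOf g ∣ 3 ^ 2) ∨ (p = 7 ∧ orderOf g ∣ 7 ^ 1) := by
    intro g p hp hpg
    rcases h g with h | h | h | h
    · have hd : orderOf g ∣ 2 ^ 2 := orderOf_dvd_of_pow_eq_one h
      left
      exact ⟨(Nat.prime_dvd_prime_iff_eq hp Nat.prime_two).mp (hp.dvd_of_dvd_pow (hpg.trans hd)),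
        hd⟩
    · have hd : orderOf g ∣ 3 ^ 1 := orderOf_dvd_of_pow_eq_one h
      right; left
      exact ⟨(Nat.prime_dvd_prime_iff_eq hp Nat.prime_three).mp
        (hp.dvd_of_dvd_pow (hpg.trans hd)), hd.trans (by norm_num)⟩
    · have hd : orderOf g ∣ 7 ^ 1 := orderOf_dvd_of_pow_eq_one h
      right; right
      exact ⟨(Nat.prime_dvd_prime_iff_eq hp (by norm_num)).mp
        (hp.dvd_of_dvd_pow (hpg.trans hd)), hd⟩
    · have hd : orderOf g ∣ 3 ^ 2 := orderOf_dvd_of_pow_eq_one h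
      right; left
      exact ⟨(Nat.prime_dvd_prime_iff_eq hp Nat.prime_three).mp
        (hp.dvd_of_dvd_pow (hpg.trans hd)), hd⟩
  constructor
  · intro p hp
    constructor
    · intro hdvd
      haveI : Fact p.Prime := ⟨hp⟩
      obtain ⟨g, hg⟩ := exists_prime_orderOf_dvd_card' p hdvd
      rcases key g p hp (by rw [hg]) with h | h | h
      · exact Or.inl h.1
      · exact Or.inr (Or.inl h.1)
      · exact Or.inr (Or.inr h.1)
    · rintro (rfl | rfl | rfl)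
      · obtain ⟨g, hg⟩ := h2
        rw [← hg]; exact orderOf_dvd_natCard g
      · obtain ⟨g, hg⟩ := h3
        rw [← hg]; exact orderOf_dvd_natCard g
      · obtain ⟨g, hg⟩ := h7
        rw [← hg]; exact orderOf_dvd_natCard g
  · rintro p q hp hq hpq ⟨g, hg⟩
    have hpg : p ∣ orderOf g := by rw [hg]; exact dvd_mul_right p q
    have hqg : q ∣ orderOf g := by rw [hg]; exact dvd_mul_left q p
    rcases key g p hp hpg with h | h | h
    · have := (Nat.prime_dvd_prime_iff_eq hq Nat.prime_two).mp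
        (hq.dvd_of_dvd_pow (hqg.trans h.2))
      exact hpq (h.1.trans this.symm)
    · have := (Nat.prime_dvd_prime_iff_eq hq Nat.prime_three).mp
        (hq.dvd_of_dvd_pow (hqg.trans h.2))
      exact hpq (h.1.trans this.symm)
    · have := (Nat.prime_dvd_prime_iff_eq hq (by norm_num)).mp
        (hq.dvd_of_dvd_pow (hqg.trans h.2))
      exact hpq (h.1.trans this.symm)

/-- The prime graph of a finite group has the prime divisors of its order as vertices, two distinct primes p, q being joined when the group has an element of order pq; two groups have the same prime graph when they have the same prime divisors and the same joined pairs. Let F be the field with 7 elements. There are finite groups of arbitrarily large order with the same prime graph as PSL(2,F) (the graph on {2, 3, 7} with no edges, which is also the prime graph of PSL(2,8)). -/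
theorem result {F : Type*} [Field F] [Fintype F] (hF : Fintype.card F = 7) (N : ℕ) :
    ∃ (H : Type) (_ : Group H) (_ : Finite H), N < Nat.card H ∧
      ((∀ p : ℕ, p.Prime → (p ∣ Nat.card (Matrix.ProjectiveSpecialLinearGroup (Fin 2) F) ↔ p ∣ Nat.card H)) ∧
      (∀ p q : ℕ, p.Prime → q.Prime → p ≠ q → ((∃ g : (Matrix.ProjectiveSpecialLinearGroup (Fin 2) F), orderOf g = p * q) ↔ (∃ g : H, orderOf g = p * q)))) := by
  classical
  haveI hchar : CharP F 7 := by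
    haveI := ringChar.charP F
    obtain ⟨n, hp, hcard⟩ := FiniteField.card F (ringChar F)
    rw [hF] at hcard
    have hdvd : ringChar F ∣ 7 := by
      rw [hcard]
      exact dvd_pow_self _ n.ne_zero
    have h7 : ringChar F = 7 := (Nat.prime_dvd_prime_iff_eq hp (by norm_num)).mp hdvd
    rw [← h7]; infer_instance
  have hpow : ∀ x : F, x ^ 7 = x := by
    intro x
    have := FiniteField.pow_card x
    rwa [hF] at this
  haveI : Fact (Nat.Prime 2) := ⟨Nat.prime_two⟩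
  have hn : 3 * (N + 1) ≠ 0 := by omega
  have hK : Nat.card (GaloisField 2 (3 * (N + 1))) = 2 ^ (3 * (N + 1)) := GaloisField.card 2 _ hn
  obtain ⟨u, hu⟩ : ∃ u : (GaloisField 2 (3 * (N + 1)))ˣ, orderOf u = 7 := by
    haveI : Fact (Nat.Prime 7) := ⟨by norm_num⟩
    apply exists_prime_orderOf_dvd_card' 7
    rw [Nat.card_units, hK, pow_mul]
    have := Nat.sub_dvd_pow_sub_pow (x := 8) (y := 1) (n := N + 1)
    simpa using this
  have hu7 : (u : GaloisField 2 (3 * (N + 1))) ^ 7 = 1 := by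
    have := pow_orderOf_eq_one u
    rw [hu] at this
    have h2 := congrArg (fun x : (GaloisField 2 (3 * (N + 1)))ˣ =>
      (x : GaloisField 2 (3 * (N + 1)))) this
    simpa using h2
  have hu1 : (u : GaloisField 2 (3 * (N + 1))) ≠ 1 := by
    intro h
    have : u = 1 := Units.ext h
    rw [this, orderOf_one] at hu
    norm_num at hu
  haveI : Finite (GaloisField 2 (3 * (N + 1))) := Nat.finite_of_card_ne_zero (by rw [hK]; positivity)
  have hG := graph_of_pow (G := Matrix.ProjectiveSpecialLinearGroup (Fin 2) F) (psl_pow hpow)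
    psl_two psl_three psl_seven
  have hH := graph_of_pow (G := Hgrp8 (GaloisField 2 (3 * (N + 1)))) hgrp8_pow hgrp8_two
    hgrp8_three (hgrp8_seven _ hu7 hu1)
  refine ⟨Hgrp8 (GaloisField 2 (3 * (N + 1))), inferInstance, inferInstance, ?_, ?_, ?_⟩
  · calc N < 3 * (N + 1) := by omega
      _ < 2 ^ (3 * (N + 1)) := Nat.lt_two_pow_self
      _ = Nat.card (GaloisField 2 (3 * (N + 1))) := hK.symm
      _ ≤ Nat.card (Hgrp8 (GaloisField 2 (3 * (N + 1)))) :=
        Nat.card_le_card_of_injective _ hgrp8_inj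
  · intro p hp
    rw [hG.1 p hp, hH.1 p hp]
  · intro p q hp hq hpq
    constructor
    · intro h
      exact absurd h (hG.2 p q hp hq hpq)
    · intro h
      exact absurd h (hH.2 p q hp hq hpq)

end Cfsg.Agent.S3678
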