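import Cfsg.Statements.S3684
import Mathlib
import Cfsg.Agent.S0206
import Cfsg.Agent.S3680
import Cfsg.Agent.Helper20.TwoModFour
-- import your own Cfsg.Agent.* helpers here

set_option autoImplicit false
open Cfsg

namespace Cfsg.Agent.S3684

/-- Let a finite group G act faithfully and primitively on a set Ω, and suppose the stabilizer of a point a has an orbit of length 2. Then the stabilizer of a has order 2 and G is isomorphic to the dihedral group of order 2p for some prime p. -/
theorem result {G Ω : Type*} [Group G] [Finite G] [MulAction G Ω] [FaithfulSMul G Ω] [Finite Ω]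
    (hprim : MulAction.IsPreprimitive G Ω) (a b : Ω) (h2 : Nat.card (MulAction.orbit (MulAction.stabilizer G a) b) = 2) :
    Nat.card (MulAction.stabilizer G a) = 2 ∧ ∃ p : ℕ, p.Prime ∧ Nonempty (G ≃* DihedralGroup p) := by
  classical
  haveI := hprim
  have hba : b ≠ a := by
    rintro rfl
    have : MulAction.orbit (MulAction.stabilizer G b) b = {b} := by
      ext x; constructor
      · rintro ⟨h, rfl⟩; exact h.2
      · rintro rfl; exact MulAction.mem_orbit_self _
    rw [this] at h2
    simp at h2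
  haveI : Nontrivial Ω := ⟨⟨b, a, hba⟩⟩
  have hco : IsCoatom (MulAction.stabilizer G a) :=
    (MulAction.isCoatom_stabilizer_iff_preprimitive G a).mpr hprim
  obtain ⟨K, hK⟩ : ∃ K : Subgroup G,
      K = MulAction.stabilizer G a ⊓ MulAction.stabilizer G b := ⟨_, rfl⟩
  have hKa : K ≤ MulAction.stabilizer G a := by rw [hK]; exact inf_le_left
  have hKb : K ≤ MulAction.stabilizer G b := by rw [hK]; exact inf_le_right
  have hidx : (K.subgroupOf (MulAction.stabilizer G a)).index = 2 := by
    have h1 : K.subgroupOf (MulAction.stabilizer G a) =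
        MulAction.stabilizer (MulAction.stabilizer G a) b := by
      ext h
      rw [Subgroup.mem_subgroupOf, hK, Subgroup.mem_inf]
      constructor
      · intro hh; exact hh.2
      · intro hh; exact ⟨h.2, hh⟩
    rw [h1, MulAction.index_stabilizer, ← Nat.card_coe_set_eq]; exact h2
  have hcardab : Nat.card (MulAction.stabilizer G b) = Nat.card (MulAction.stabilizer G a) := by
    obtain ⟨g, hg⟩ := MulAction.exists_smul_eq G a b
    rw [← hg, MulAction.stabilizer_smul_eq_stabilizer_map_conj]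
    exact Subgroup.card_map_of_injective (MulAut.conj g).injective
  have hcKa : Nat.card (K.subgroupOf (MulAction.stabilizer G a)) = Nat.card K :=
    Nat.card_congr (Subgroup.subgroupOfEquivOfLe hKa).toEquiv
  have hcKb : Nat.card (K.subgroupOf (MulAction.stabilizer G b)) = Nat.card K :=
    Nat.card_congr (Subgroup.subgroupOfEquivOfLe hKb).toEquiv
  have hmula := Subgroup.card_mul_index (K.subgroupOf (MulAction.stabilizer G a))
  have hmulb := Subgroup.card_mul_index (K.subgroupOf (MulAction.stabilizer G b))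
  rw [hcKa, hidx] at hmula
  rw [hcKb, hcardab, ← hmula] at hmulb
  have hKpos : 0 < Nat.card K := Nat.card_pos
  have hidx' : (K.subgroupOf (MulAction.stabilizer G b)).index = 2 :=
    Nat.eq_of_mul_eq_mul_left hKpos hmulb
  have hna : (K.subgroupOf (MulAction.stabilizer G a)).Normal :=
    Subgroup.normal_of_index_eq_two hidx
  have hnb : (K.subgroupOf (MulAction.stabilizer G b)).Normal :=
    Subgroup.normal_of_index_eq_two hidx'
  have hNa : MulAction.stabilizer G a ≤ Subgroup.normalizer (K : Set G) :=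
    (Subgroup.normal_subgroupOf_iff_le_normalizer hKa).mp hna
  have hNb : MulAction.stabilizer G b ≤ Subgroup.normalizer (K : Set G) :=
    (Subgroup.normal_subgroupOf_iff_le_normalizer hKb).mp hnb
  have hab_ne : ¬ MulAction.stabilizer G b ≤ MulAction.stabilizer G a := by
    intro hle
    have heq : MulAction.stabilizer G b = MulAction.stabilizer G a :=
      Subgroup.eq_of_le_of_card_ge hle hcardab.ge
    have hKeq : K = MulAction.stabilizer G a := by rw [hK, heq, inf_idem]
    have : (K.subgroupOf (MulAction.stabilizer G a)).index = 1 := by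
      rw [Subgroup.index_eq_one, hKeq]; exact Subgroup.subgroupOf_self _
    omega
  have hsup : MulAction.stabilizer G a ⊔ MulAction.stabilizer G b = ⊤ := by
    rcases hco.le_iff.mp (le_sup_left :
      MulAction.stabilizer G a ≤ MulAction.stabilizer G a ⊔ MulAction.stabilizer G b) with h | h
    · exact h
    · exfalso; apply hab_ne; rw [← h]; exact le_sup_right
  have hKnorm : Subgroup.normalizer (K : Set G) = ⊤ := by
    rw [eq_top_iff, ← hsup]; exact sup_le hNa hNb
  have hKbot : K = ⊥ := by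
    rw [Subgroup.eq_bot_iff_forall]
    intro k hk
    apply Cfsg.Agent.S3680.eq_one_of_fixes_all (Ω := Ω)
    intro x
    obtain ⟨g, rfl⟩ := MulAction.exists_smul_eq G a x
    have hg : g⁻¹ ∈ Subgroup.normalizer (K : Set G) := by rw [hKnorm]; trivial
    have h1 : g⁻¹ * k * g⁻¹⁻¹ ∈ K := (Subgroup.mem_normalizer_iff.mp hg k).mp hk
    have h2' : (g⁻¹ * k * g⁻¹⁻¹) • a = a := hKa h1
    calc k • g • a = g • ((g⁻¹ * k * g⁻¹⁻¹) • a) := by simp [mul_smul]
      _ = g • a := by rw [h2']
  have hcard2 : Nat.card (MulAction.stabilizer G a) = 2 := by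
    rw [← hmula, hKbot, Subgroup.card_bot]
  refine ⟨hcard2, ?_⟩
  -- the involution generating the stabilizer
  haveI : Nontrivial (MulAction.stabilizer G a) := by
    rw [← Finite.one_lt_card_iff_nontrivial, hcard2]; norm_num
  obtain ⟨t', ht'⟩ := exists_ne (1 : MulAction.stabilizer G a)
  obtain ⟨t, htdef⟩ : ∃ t : G, t = (t' : G) := ⟨_, rfl⟩
  have ht1 : t ≠ 1 := by
    rw [htdef]; intro h; exact ht' (Subtype.ext h)
  have hta : t ∈ MulAction.stabilizer G a := by rw [htdef]; exact t'.2
  have hto : orderOf t = 2 := by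
    have h1 : orderOf t' ∣ 2 := by rw [← hcard2]; exact orderOf_dvd_natCard t'
    have h2' : orderOf t = orderOf t' := by rw [htdef, Subgroup.orderOf_coe]
    rw [h2']
    rcases (Nat.dvd_prime Nat.prime_two).mp h1 with h | h
    · exfalso; exact ht' (orderOf_eq_one_iff.mp h)
    · exact h
  have hzt : Subgroup.zpowers t = MulAction.stabilizer G a := by
    apply Subgroup.eq_of_le_of_card_ge
    · rw [Subgroup.zpowers_le]; exact hta
    · rw [Nat.card_zpowers, hto, hcard2]
  obtain ⟨g, hg⟩ := MulAction.exists_smul_eq G a b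
  obtain ⟨s, hsdef⟩ : ∃ s : G, s = g * t * g⁻¹ := ⟨_, rfl⟩
  have hso : orderOf s = 2 := by
    have := (MulAut.conj g).orderOf_eq t
    rw [MulAut.conj_apply, ← hsdef] at this
    rw [this, hto]
  have hsb : s ∈ MulAction.stabilizer G b := by
    show s • b = b
    rw [hsdef, ← hg, mul_smul, mul_smul, inv_smul_smul, (hta : t • a = a)]
  have hs1 : s ≠ 1 := by
    intro h; rw [h, orderOf_one] at hso; omega
  have hsa : s ∉ MulAction.stabilizer G a := by
    intro h
    have : s ∈ K := by rw [hK]; exact ⟨h, hsb⟩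
    rw [hKbot, Subgroup.mem_bot] at this
    exact hs1 this
  have hts : t ≠ s := fun h => hsa (h ▸ hta)
  have hclos : Subgroup.closure ({t, s} : Set G) = ⊤ := by
    have hle : MulAction.stabilizer G a ≤ Subgroup.closure ({t, s} : Set G) := by
      rw [← hzt, Subgroup.zpowers_le]
      exact Subgroup.subset_closure (Set.mem_insert _ _)
    rcases hco.le_iff.mp hle with h | h
    · exact h
    · exfalso
      apply hsa
      rw [← h]
      exact Subgroup.subset_closure (Set.mem_insert_of_mem _ rfl)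
  obtain ⟨e₀⟩ := Cfsg.Agent.S0206.result t s hto hso hts
  obtain ⟨ρ, hρ⟩ : ∃ ρ : G, ρ = t * s := ⟨_, rfl⟩
  rw [← hρ] at e₀
  have e : G ≃* DihedralGroup (orderOf ρ) :=
    (Subgroup.topEquiv.symm.trans (MulEquiv.subgroupCongr hclos.symm)).trans e₀
  refine ⟨orderOf ρ, ?_, ⟨e⟩⟩
  have hm0 : 0 < orderOf ρ := orderOf_pos ρ
  have hcardG : Nat.card G = 2 * orderOf ρ := by
    rw [Nat.card_congr e.toEquiv, DihedralGroup.nat_card]
  have hρ1 : ρ ≠ 1 := by
    intro h
    rw [hρ] at h
    have h1 : t * t = 1 := by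
      have := pow_orderOf_eq_one t
      rw [hto, pow_two] at this; exact this
    apply hts
    calc t = t * (t * s) := by rw [h, mul_one]
      _ = (t * t) * s := by group
      _ = s := by rw [h1, one_mul]
  have hm1 : orderOf ρ ≠ 1 := fun h => hρ1 (orderOf_eq_one_iff.mp h)
  have hCidx : (Subgroup.zpowers ρ).index = 2 := by
    have h1 := Subgroup.card_mul_index (Subgroup.zpowers ρ)
    rw [Nat.card_zpowers, hcardG, mul_comm] at h1
    exact Nat.eq_of_mul_eq_mul_right hm0 h1
  haveI hCn : (Subgroup.zpowers ρ).Normal := Subgroup.normal_of_index_eq_two hCidx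
  have hC1 : Subgroup.zpowers ρ ≠ ⊥ := by
    intro h
    have : ρ ∈ Subgroup.zpowers ρ := Subgroup.mem_zpowers ρ
    rw [h, Subgroup.mem_bot] at this
    exact hρ1 this
  have hCtr : MulAction.IsPretransitive (Subgroup.zpowers ρ) Ω :=
    Cfsg.Agent.S3680.trans_of_normal _ hC1
  have hCreg : ∀ x ∈ Subgroup.zpowers ρ, x • a = a → x = 1 := by
    intro x hx hxa
    apply Cfsg.Agent.S3680.eq_one_of_commute_of_fix _ hCtr _ hxa
    intro v hv
    obtain ⟨i, rfl⟩ := Subgroup.mem_zpowers_iff.mp hx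
    obtain ⟨j, rfl⟩ := Subgroup.mem_zpowers_iff.mp hv
    exact ((Commute.refl ρ).zpow_zpow i j).eq
  by_contra hnp
  obtain ⟨u, hud, hu2, hum⟩ := Nat.exists_dvd_of_not_prime2 (by omega) hnp
  have hρu1 : ρ ^ u ≠ 1 := pow_ne_one_of_lt_orderOf (by omega) hum
  have hCun : (Subgroup.zpowers (ρ ^ u)).Normal := by
    constructor
    intro y hy g'
    obtain ⟨i, rfl⟩ := Subgroup.mem_zpowers_iff.mp hy
    have h1 : g' * ρ * g'⁻¹ ∈ Subgroup.zpowers ρ := hCn.conj_mem ρ (Subgroup.mem_zpowers ρ) g'
    obtain ⟨j, hj⟩ := Subgroup.mem_zpowers_iff.mp h1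
    have h2' : g' * (ρ ^ u) ^ i * g'⁻¹ = ((ρ ^ u) ^ j) ^ i := by
      have e1 : g' * (ρ ^ u) ^ i * g'⁻¹ = ((g' * ρ * g'⁻¹) ^ u) ^ i := by
        rw [conj_pow, conj_zpow]
      rw [e1, ← hj]
      congr 1
      rw [← zpow_natCast, ← zpow_mul, ← zpow_natCast, ← zpow_mul, mul_comm]
    rw [h2']
    exact Subgroup.zpow_mem _ (Subgroup.zpow_mem _ (Subgroup.mem_zpowers _) j) i
  have hCu1 : Subgroup.zpowers (ρ ^ u) ≠ ⊥ := by
    intro h
    have : ρ ^ u ∈ Subgroup.zpowers (ρ ^ u) := Subgroup.mem_zpowers _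
    rw [h, Subgroup.mem_bot] at this
    exact hρu1 this
  haveI := hCun
  have hCutr : MulAction.IsPretransitive (Subgroup.zpowers (ρ ^ u)) Ω :=
    Cfsg.Agent.S3680.trans_of_normal _ hCu1
  obtain ⟨y, hy⟩ := MulAction.exists_smul_eq (Subgroup.zpowers (ρ ^ u)) a (ρ • a)
  have hyC : (y : G) ∈ Subgroup.zpowers ρ := by
    obtain ⟨i, hi⟩ := Subgroup.mem_zpowers_iff.mp y.2
    rw [← hi]
    exact Subgroup.zpow_mem _ (Subgroup.pow_mem _ (Subgroup.mem_zpowers ρ) u) i
  have h1 : (y : G)⁻¹ * ρ = 1 := by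
    apply hCreg _ (Subgroup.mul_mem _ (Subgroup.inv_mem _ hyC) (Subgroup.mem_zpowers ρ))
    have hy' : (y : G) • a = ρ • a := hy
    rw [mul_smul, ← hy', inv_smul_smul]
  have hρy : ρ = (y : G) := (inv_mul_eq_one.mp h1).symm
  obtain ⟨i, hi⟩ := Subgroup.mem_zpowers_iff.mp y.2
  have h3 : ρ ^ ((u : ℤ) * i - 1) = 1 := by
    rw [zpow_sub, zpow_one, zpow_mul, zpow_natCast, hi, ← hρy, mul_inv_cancel]
  have h4 : (orderOf ρ : ℤ) ∣ (u : ℤ) * i - 1 := orderOf_dvd_iff_zpow_eq_one.mpr h3
  have h5 : (u : ℤ) ∣ (u : ℤ) * i - 1 := (Int.natCast_dvd_natCast.mpr hud).trans h4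
  have h6 : (u : ℤ) ∣ 1 := by
    have h7 : (u : ℤ) ∣ (u : ℤ) * i := dvd_mul_right _ _
    have h8 := dvd_sub h7 h5
    rwa [sub_sub_cancel] at h8
  have h9 : u ∣ 1 := by exact_mod_cast h6
  have := Nat.dvd_one.mp h9
  omega

end Cfsg.Agent.S3684
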