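import Cfsg.Statements.S3703
import Mathlib
import Cfsg.Agent.Helper21.Mazurov
import Cfsg.Agent.Helper21.PrimeGraph

set_option autoImplicit false
set_option linter.style.haveILetI false
open Cfsg
open scoped Pointwise

namespace Cfsg.Agent.S3703

/-- Let N be a normal subgroup of the finite group G such that G/N is a Frobenius group with kernel F and cyclic complement H, where the order of F is coprime to that of N and F is not contained in the image of C_G(N) in G/N. Then G has an element of order p·#H for some prime p dividing the order of N. (A standard tool in recognising groups by their element orders.) -/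
theorem result {G : Type*} [Group G] [Finite G] (N : Subgroup G) [N.Normal]
    (Fb Hb : Subgroup (G ⧸ N)) [Fb.Normal] (hHb : Cfsg.IsFrobeniusComplement Hb) (hker : Cfsg.frobeniusKernel Hb = (Fb : Set (G ⧸ N)))
    (hcyc : IsCyclic Hb) (hcop : (Nat.card Fb).Coprime (Nat.card N))
    (hnot : ¬ Fb ≤ (Subgroup.centralizer (N : Set G)).map (QuotientGroup.mk' N)) :
    ∃ p : ℕ, p.Prime ∧ p ∣ Nat.card N ∧ ∃ g : G, orderOf g = p * Nat.card Hb := by
  classical
  obtain ⟨hFbn, hcompl, hnil, hcopFH⟩ := Helper21.frobK_facts Hb Fb hHb hker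
  obtain ⟨π, hπ⟩ : ∃ π : G →* G ⧸ N, π = QuotientGroup.mk' N := ⟨_, rfl⟩
  have hπs : Function.Surjective π := hπ ▸ QuotientGroup.mk'_surjective N
  have hπ1 : ∀ x : G, π x = 1 ↔ x ∈ N := fun x => by rw [hπ]; exact QuotientGroup.eq_one_iff x
  obtain ⟨K, hK⟩ : ∃ K : Subgroup G, K = Fb.comap π := ⟨_, rfl⟩
  have hNK : N ≤ K := by
    intro x hx
    rw [hK, Subgroup.mem_comap, (hπ1 x).mpr hx]
    exact Fb.one_mem
  have hKcard : Nat.card K = Nat.card N * Nat.card Fb := by
    rw [hK, hπ]; exact Helper21.card_comap_mk' N Fb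
  haveI hKn : K.Normal := hK ▸ Subgroup.Normal.comap inferInstance π
  have hidx : (N.subgroupOf K).index = Nat.card Fb := by
    have h1 := (N.subgroupOf K).card_mul_index
    rw [S0001.card_subgroupOf_of_le hNK, hKcard] at h1
    exact Nat.eq_of_mul_eq_mul_left Nat.card_pos h1
  obtain ⟨H₀, hH₀⟩ := Subgroup.exists_left_complement'_of_coprime (N := N.subgroupOf K) (by
    rw [hidx, S0001.card_subgroupOf_of_le hNK]; exact hcop.symm)
  obtain ⟨F₀, hF₀⟩ : ∃ F₀ : Subgroup G, F₀ = H₀.map K.subtype := ⟨_, rfl⟩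
  have hF₀K : F₀ ≤ K := hF₀ ▸ Subgroup.map_subtype_le _
  have hF₀card : Nat.card F₀ = Nat.card Fb := by
    have h1 : Nat.card F₀ = Nat.card H₀ := by
      rw [hF₀]
      exact (Nat.card_congr (H₀.equivMapOfInjective _ K.subtype_injective).toEquiv).symm
    rw [h1, ← hH₀.index_eq_card, hidx]
  have hcop' : (Nat.card F₀).Coprime (Nat.card N) := hF₀card ▸ hcop
  have hF₀N : F₀ ⊓ N = ⊥ := Lead.inf_eq_bot_of_coprime hcop'
  have hKle : K ≤ F₀ ⊔ N := by
    have h1 : F₀ ⊔ N ≤ K := sup_le hF₀K hNK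
    have h2 : Nat.card F₀ * Nat.card N ∣ Nat.card (F₀ ⊔ N : Subgroup G) :=
      Nat.Coprime.mul_dvd_of_dvd_of_dvd hcop' (Subgroup.card_dvd_of_le le_sup_left)
        (Subgroup.card_dvd_of_le le_sup_right)
    have h3 : Nat.card K ≤ Nat.card (F₀ ⊔ N : Subgroup G) := by
      rw [hKcard, mul_comm, ← hF₀card]
      exact Nat.le_of_dvd Nat.card_pos h2
    exact (Subgroup.eq_of_le_of_card_ge h1 h3).ge
  have hmapF₀ : F₀.map π = Fb := by
    have h1 : K.map π = Fb := by rw [hK]; exact Subgroup.map_comap_eq_self_of_surjective hπs Fb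
    have h2 : K = F₀ ⊔ N := le_antisymm hKle (sup_le hF₀K hNK)
    have h4 : N.map π = ⊥ := by rw [hπ]; exact QuotientGroup.map_mk'_self N
    rw [h2, Subgroup.map_sup, h4, sup_bot_eq] at h1
    exact h1
  haveI : Group.IsNilpotent Fb := hnil
  have hF₀solv : Group.IsSolvable F₀ := by
    let φ : ↥F₀ →* ↥Fb := (π.comp F₀.subtype).codRestrict Fb (fun x => by
      rw [← hmapF₀]; exact ⟨x, x.2, rfl⟩)
    have hφ : Function.Injective φ := by
      rw [injective_iff_map_eq_one]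
      intro x hx
      have h1 : π (x : G) = 1 := congrArg Subtype.val hx
      have h2 : (x : G) ∈ N := (hπ1 _).mp h1
      have h3 : (x : G) ∈ F₀ ⊓ N := ⟨x.2, h2⟩
      rw [hF₀N, Subgroup.mem_bot] at h3
      exact Subtype.ext h3
    exact Group.isSolvable_of_isSolvable_injective hφ
  obtain ⟨⟨h, hhH⟩, hgen⟩ := hcyc.exists_generator
  have hord : orderOf h = Nat.card Hb := by
    rw [← orderOf_eq_card_of_forall_mem_zpowers hgen]
    exact (Subgroup.orderOf_mk h hhH).symm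
  obtain ⟨t, ht⟩ : ∃ t, t = Nat.card Hb := ⟨_, rfl⟩
  have ht0 : 0 < t := ht ▸ Nat.card_pos
  obtain ⟨y₀, hy₀⟩ := hπs h
  have hFNn : F₀ ≤ Subgroup.normalizer (N : Set G) := by
    rw [Subgroup.normalizer_eq_top_iff.mpr inferInstance]; exact le_top
  have hB : MulAut.conj y₀ • F₀ ≤ F₀ ⊔ N := by
    intro x hx
    rw [Lead.mem_conj_smul'] at hx
    have h1 : y₀⁻¹ * x * y₀ ∈ K := hF₀K hx
    have h2 := hKn.conj_mem _ h1 y₀
    have e : y₀ * (y₀⁻¹ * x * y₀) * y₀⁻¹ = x := by group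
    rw [e] at h2
    exact hKle h2
  obtain ⟨n, hnN, hn⟩ := Lead.conj_in_sup N F₀ (MulAut.conj y₀ • F₀) hFNn hcop'
    (Or.inl hF₀solv) hB (S0001.card_conj_smul _ _)
  obtain ⟨y, hy⟩ : ∃ y : G, y = n * y₀ := ⟨_, rfl⟩
  have hyF : y ∈ Subgroup.normalizer (F₀ : Set G) := by
    rw [Lead.mem_normalizer_iff_conj_smul, hy, S0001.conj_mul_smul]; exact hn
  have hπy : π y = h := by
    rw [hy, map_mul, hy₀, (hπ1 n).mpr hnN, one_mul]
  have hdisj : Fb ⊓ Hb = ⊥ := disjoint_iff.mp hcompl.disjoint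
  have hfpf : ∀ f ∈ F₀, ∀ i, 0 < i → i < t → f * y ^ i = y ^ i * f → f = 1 := by
    intro f hf i hi0 hit hcomm
    have hfb : π f ∈ Fb := by rw [← hmapF₀]; exact ⟨f, hf, rfl⟩
    have hhi : h ^ i ∈ Hb := Hb.pow_mem hhH i
    have hhi1 : h ^ i ≠ 1 := pow_ne_one_of_lt_orderOf hi0.ne' (by rw [hord, ← ht]; exact hit)
    have hhiF : h ^ i ∉ Fb := by
      intro hcon
      have : h ^ i ∈ Fb ⊓ Hb := ⟨hcon, hhi⟩
      rw [hdisj, Subgroup.mem_bot] at this
      exact hhi1 this
    have hc1 : h ^ i * π f = π f * h ^ i := by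
      rw [← hπy, ← map_pow, ← map_mul, ← map_mul, hcomm]
    have h1 : π f = 1 := Helper21.frobK_commute Hb Fb hHb hker hfb hhiF hc1
    have h2 : f ∈ F₀ ⊓ N := ⟨hf, (hπ1 f).mp h1⟩
    rw [hF₀N, Subgroup.mem_bot] at h2
    exact h2
  by_cases hex : ∃ v ∈ N, (v * y) ^ t ≠ 1
  · obtain ⟨v, hvN, hv⟩ := hex
    obtain ⟨g, hg⟩ : ∃ g : G, g = v * y := ⟨_, rfl⟩
    rw [← hg] at hv
    have hπg : π g = h := by
      rw [hg, map_mul, hπy, (hπ1 v).mpr hvN, one_mul]
    have hgtN : g ^ t ∈ N := by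
      rw [← hπ1, map_pow, hπg, ht, ← hord, pow_orderOf_eq_one]
    have htdvd : t ∣ orderOf g := by
      have h1 : orderOf (π g) ∣ orderOf g := orderOf_map_dvd π g
      rw [hπg, hord, ← ht] at h1
      exact h1
    obtain ⟨s, hs⟩ : ∃ s, s = orderOf (g ^ t) := ⟨_, rfl⟩
    have hs1 : s ≠ 1 := by
      rw [hs]; intro h1; exact hv (orderOf_eq_one_iff.mp h1)
    have hs0 : 0 < s := hs ▸ orderOf_pos _
    have hgord : orderOf g = t * s := by
      have h1 : orderOf (g ^ t) = orderOf g / t := orderOf_pow_of_dvd ht0.ne' htdvd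
      rw [hs, h1]
      exact (Nat.mul_div_cancel' htdvd).symm
    have hsN : s ∣ Nat.card N := hs ▸ Subgroup.orderOf_dvd_natCard N hgtN
    obtain ⟨p, hp, hps⟩ := Nat.exists_prime_and_dvd hs1
    obtain ⟨q, hq⟩ := hps
    have hq0 : q ≠ 0 := by rintro rfl; rw [mul_zero] at hq; omega
    refine ⟨p, hp, (Dvd.intro q hq.symm).trans hsN, g ^ q, ?_⟩
    have hqdvd : q ∣ orderOf g := by
      rw [hgord, hq]; exact Dvd.intro_left (t * p) (by ring)
    rw [orderOf_pow_of_dvd hq0 hqdvd, hgord, hq, ← ht]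
    rw [show t * (p * q) = (p * t) * q by ring]
    exact Nat.mul_div_cancel _ (Nat.pos_of_ne_zero hq0)
  · exfalso
    apply hnot
    have hall : ∀ v ∈ N, (v * y) ^ t = 1 := by
      intro v hv
      by_contra hcon
      exact hex ⟨v, hv, hcon⟩
    have hcent := Helper21.maz_general N F₀ hF₀solv y hyF t ht0 hfpf hcop' hall
    rw [← hmapF₀, hπ]
    apply Subgroup.map_mono
    intro f hf
    rw [Subgroup.mem_centralizer_iff]
    intro v hv
    exact (hcent f hf v hv).symm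

end Cfsg.Agent.S3703
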