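import Cfsg.Statements.S3739
import Cfsg.Agent.S3738
import Cfsg.Agent.Lead.Fpf33
import Cfsg.Agent.Lead.Quat

set_option autoImplicit false
set_option linter.style.haveILetI false
open Cfsg
open scoped Pointwise

namespace Cfsg.Agent.S3739

/-- a nontrivial normal `p`-subgroup contains a nonidentity element centralized by a given
`p`-subgroup. -/
theorem exists_comm {G : Type*} [Group G] [Finite G] (p : ℕ) [Fact p.Prime] (N T : Subgroup G)
    [hN : N.Normal] (hNp : IsPGroup p N) (hTp : IsPGroup p T) (hne : N ≠ ⊥) :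
    ∃ b ∈ N, b ≠ 1 ∧ ∀ t ∈ T, t * b = b * t := by
  have hH : IsPGroup p (T ⊔ N : Subgroup G) := IsPGroup.to_sup_of_normal_right hTp hNp
  have hne' : N.subgroupOf (T ⊔ N) ≠ ⊥ := by
    obtain ⟨n, hn1⟩ := (Subgroup.ne_bot_iff_exists_ne_one).1 hne
    intro h
    have hmem : (⟨(n : G), Subgroup.mem_sup_right n.2⟩ : (T ⊔ N : Subgroup G)) ∈
        N.subgroupOf (T ⊔ N) := Subgroup.mem_subgroupOf.2 n.2
    rw [h, Subgroup.mem_bot] at hmem
    have h1 : ((n : N) : G) = 1 := congrArg (fun y : (T ⊔ N : Subgroup G) => (y : G)) hmem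
    exact hn1 (Subtype.ext h1)
  obtain ⟨b, hbN, hb1, hbc⟩ :=
    Lead.normal_inf_center_ne_bot' p hH (N.subgroupOf (T ⊔ N)) hne'
  refine ⟨(b : G), Subgroup.mem_subgroupOf.1 hbN, fun h => hb1 (Subtype.ext h), fun t ht => ?_⟩
  have := Subgroup.mem_center_iff.1 hbc ⟨t, Subgroup.mem_sup_left ht⟩
  exact congrArg Subtype.val this

/-- Let G be a finite group with C_G(O₂(G)) ≤ O₂(G) containing an element of order 6, and let d be a non-identity 3-element of G normalizing a nontrivial elementary abelian 2-subgroup W with C_W(d) = 1. Then G has an elementary abelian subgroup of order 8. -/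
theorem result {G : Type*} [Group G] [Finite G] (hchar : Subgroup.centralizer (Cfsg.pCore 2 G : Set G) ≤ Cfsg.pCore 2 G) (hsix : ∃ g : G, orderOf g = 6) (d : G) (hd1 : d ≠ 1) (hd : IsPGroup 3 ↥(Subgroup.zpowers d)) (W : Subgroup G) (hW : Cfsg.IsElementaryAbelian 2 W) (hW1 : W ≠ ⊥) (hdW : d ∈ Subgroup.normalizer (W : Set G)) (hfpf : W ⊓ Subgroup.centralizer {d} = ⊥) : ∃ E : Subgroup G, Cfsg.IsElementaryAbelian 2 E ∧ Nat.card E = 8 := by
  classical
  haveI : Fact (Nat.Prime 2) := ⟨Nat.prime_two⟩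
  haveI : Fact (Nat.Prime 3) := ⟨Nat.prime_three⟩
  by_contra hno
  -- elementary abelian subgroups have order at most 4
  have hR : ∀ A : Subgroup G, (∀ a ∈ A, ∀ b ∈ A, a * b = b * a) → (∀ a ∈ A, a ^ 2 = 1) →
      Nat.card A ≤ 4 := by
    intro A hAc hA2
    by_contra hcon
    push Not at hcon
    have hA2g : IsPGroup 2 A := fun a => ⟨1, Subtype.ext (by simpa using hA2 a a.2)⟩
    obtain ⟨k, hk⟩ := (IsPGroup.iff_card (p := 2) (G := A)).1 hA2g
    have hk3 : 3 ≤ k := by
      by_contra h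
      have h2 : k ≤ 2 := by omega
      have h4 : 2 ^ k ≤ 2 ^ 2 := Nat.pow_le_pow_right (by norm_num) h2
      rw [hk] at hcon
      omega
    obtain ⟨K, hK⟩ := Sylow.exists_subgroup_card_pow_prime (G := A) 2
      (show 2 ^ 3 ∣ Nat.card A by rw [hk]; exact pow_dvd_pow 2 hk3)
    apply hno
    have hsub : ∀ y ∈ K.map A.subtype, y ∈ A := by
      rintro y ⟨x, -, rfl⟩
      exact x.2
    refine ⟨K.map A.subtype, ⟨⟨⟨fun a b => Subtype.ext
      (hAc a.1 (hsub _ a.2) b.1 (hsub _ b.2))⟩⟩, fun a ha => hA2 a (hsub a ha)⟩, ?_⟩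
    rw [Subgroup.card_map_of_injective (Subgroup.subtype_injective A), hK]
    norm_num
  have hW2 : ∀ a ∈ W, a ^ 2 = 1 := hW.2
  have hWc : ∀ a ∈ W, ∀ b ∈ W, a * b = b * a := fun a ha b hb =>
    congrArg Subtype.val (hW.1.is_comm.comm ⟨a, ha⟩ ⟨b, hb⟩)
  have hW4le : Nat.card W ≤ 4 := hR W hWc hW2
  have hWp : IsPGroup 2 W := fun a => ⟨1, Subtype.ext (by simpa using hW2 a a.2)⟩
  have hdn : ∀ x : G, x ∈ W ↔ d * x * d⁻¹ ∈ W := fun x => Subgroup.mem_normalizer_iff.1 hdW x
  have hdfix : ∀ w ∈ W, d * w * d⁻¹ = w → w = 1 := by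
    intro w hw h
    have hmem : w ∈ W ⊓ Subgroup.centralizer {d} := by
      refine Subgroup.mem_inf.2 ⟨hw, Subgroup.mem_centralizer_iff.2 ?_⟩
      intro y hy
      rw [Set.mem_singleton_iff] at hy
      rw [hy]
      exact (mul_inv_eq_iff_eq_mul.1 h)
    rw [hfpf, Subgroup.mem_bot] at hmem
    exact hmem
  -- invariant subgroups of `W` under an element acting without fixed points
  have hISL : ∀ (g : G), (∀ w ∈ W, g * w * g⁻¹ = w → w = 1) → ∀ A : Subgroup G, A ≤ W →
      A ≠ ⊥ → (∀ a ∈ A, g * a * g⁻¹ ∈ A) → Nat.card A ≠ 2 := by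
    intro g hg A hAW hA hAg h2
    obtain ⟨a, ha1⟩ := (Subgroup.ne_bot_iff_exists_ne_one).1 hA
    obtain ⟨y, hy, hyu⟩ := (Nat.card_eq_two_iff' (1 : A)).1 h2
    have h1 : a = y := hyu a ha1
    have hb1 : (⟨g * a * g⁻¹, hAg a a.2⟩ : A) ≠ 1 := by
      intro h
      have h' : g * (a : G) * g⁻¹ = 1 := congrArg Subtype.val h
      apply ha1
      apply Subtype.ext
      have e : (a : G) = g⁻¹ * (g * a * g⁻¹) * g := by group
      rw [e, h']
      simp
    have h2' : (⟨g * a * g⁻¹, hAg a a.2⟩ : A) = y := hyu _ hb1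
    have h3 : g * (a : G) * g⁻¹ = a := congrArg Subtype.val (h2'.trans h1.symm)
    exact ha1 (Subtype.ext (hg a (hAW a.2) h3))
  have hWcard : Nat.card W = 4 := by
    obtain ⟨k, hk⟩ := (IsPGroup.iff_card (p := 2) (G := W)).1 hWp
    have hk2 : k ≤ 2 := by
      by_contra hc
      push Not at hc
      have h8 : 2 ^ 3 ≤ 2 ^ k := Nat.pow_le_pow_right (by norm_num) hc
      rw [hk] at hW4le
      omega
    have hk0 : k ≠ 0 := by
      intro h0
      rw [h0, pow_zero] at hk
      exact hW1 (Subgroup.card_eq_one.1 hk)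
    have hk1 : k ≠ 1 := by
      intro h1
      rw [h1, pow_one] at hk
      exact hISL d hdfix W le_rfl hW1 (fun a ha => (hdn a).1 ha) hk
    have hk' : k = 2 := by omega
    rw [hk, hk']
    norm_num
  have hISL' : ∀ (g : G), (∀ w ∈ W, g * w * g⁻¹ = w → w = 1) → ∀ A : Subgroup G, A ≤ W →
      A ≠ ⊥ → (∀ a ∈ A, g * a * g⁻¹ ∈ A) → A = W := by
    intro g hg A hAW hA hAg
    have hdvd : Nat.card A ∣ 4 := by
      rw [← hWcard]
      exact Subgroup.card_dvd_of_le hAW
    have hne1 : Nat.card A ≠ 1 := fun h => hA (Subgroup.card_eq_one.1 h)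
    have hne2 := hISL g hg A hAW hA hAg
    have hle : Nat.card A ≤ 4 := Nat.le_of_dvd (by norm_num) hdvd
    have hpos : 0 < Nat.card A := Nat.card_pos
    have h4 : Nat.card A = 4 := by
      rcases (show Nat.card A = 1 ∨ Nat.card A = 2 ∨ Nat.card A = 3 ∨ Nat.card A = 4 by omega)
        with h | h | h | h
      · exact absurd h hne1
      · exact absurd h hne2
      · rw [h] at hdvd
        norm_num at hdvd
      · exact h
    exact Subgroup.eq_of_le_of_card_ge hAW (by rw [h4, hWcard])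
  -- involutions centralizing `W` lie in `W`
  have hWall : ∀ u : G, u ^ 2 = 1 → (∀ w ∈ W, w * u = u * w) → u ∈ W := by
    intro u hu2 huW
    have hcomm : ∀ x ∈ ((W : Set G) ∪ {u}), ∀ y ∈ ((W : Set G) ∪ {u}), x * y = y * x := by
      intro x hx y hy
      rcases hx with hx | hx <;> rcases hy with hy | hy
      · exact hWc x hx y hy
      · rw [Set.mem_singleton_iff] at hy
        rw [hy]
        exact huW x hx
      · rw [Set.mem_singleton_iff] at hx
        rw [hx]
        exact (huW y hy).symm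
      · rw [Set.mem_singleton_iff] at hx hy
        rw [hx, hy]
    obtain ⟨A, hAdef⟩ : ∃ A : Subgroup G, A = Subgroup.closure ((W : Set G) ∪ {u}) := ⟨_, rfl⟩
    have hAcomm : IsMulCommutative A := by
      subst hAdef
      exact Subgroup.isMulCommutative_closure hcomm
    have hAc : ∀ a ∈ A, ∀ b ∈ A, a * b = b * a := fun a ha b hb =>
      congrArg Subtype.val (hAcomm.is_comm.comm ⟨a, ha⟩ ⟨b, hb⟩)
    have hAexp : ∀ a ∈ A, a ^ 2 = 1 := by
      intro a ha
      rw [hAdef] at ha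
      induction ha using Subgroup.closure_induction with
      | mem x hx =>
        rcases hx with hx | hx
        · exact hW2 x hx
        · rw [Set.mem_singleton_iff] at hx
          rw [hx]
          exact hu2
      | one => exact one_pow 2
      | mul x y hx hy ihx ihy =>
        have hc : Commute x y := hAc x (hAdef ▸ hx) y (hAdef ▸ hy)
        rw [hc.mul_pow, ihx, ihy, mul_one]
      | inv x hx ih => rw [inv_pow, ih, inv_one]
    have hA4 : Nat.card A ≤ 4 := hR A hAc hAexp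
    have hWA : W ≤ A := fun z hz => hAdef ▸ Subgroup.subset_closure (Or.inl hz)
    have hEeq : W = A := Subgroup.eq_of_le_of_card_ge hWA (by rw [hWcard]; exact hA4)
    rw [hEeq, hAdef]
    exact Subgroup.subset_closure (Or.inr rfl)
  -- `Q = O₂(G)`
  obtain ⟨Q, hQdef⟩ : ∃ Q : Subgroup G, Q = Cfsg.pCore 2 G := ⟨_, rfl⟩
  have hQn : Q.Normal := by
    rw [hQdef]
    exact Subgroup.sSup_normal _ (fun _ hH => hH.1)
  have hQp : IsPGroup 2 Q := by
    rw [hQdef]
    exact Sylow.sSup_of_normal _ (fun _ hH => hH.2) (fun _ hH => hH.1)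
  have hchar' : Subgroup.centralizer (Q : Set G) ≤ Q := by
    rw [hQdef]
    exact hchar
  have hQne : Q ≠ ⊥ := by
    intro hQb
    apply hW1
    rw [eq_bot_iff]
    intro w hw
    have hwc : w ∈ Subgroup.centralizer (Q : Set G) := by
      rw [Subgroup.mem_centralizer_iff]
      intro h hh
      have hh' : h ∈ Q := hh
      rw [hQb, Subgroup.mem_bot] at hh'
      rw [hh']
      simp
    have h2 := hchar' hwc
    rw [hQb] at h2
    exact h2
  -- `Z1 = Ω₁(Z(Q))`
  let Z1 : Subgroup G :=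
    { carrier := {z | z ∈ Q ∧ (∀ x ∈ Q, x * z = z * x) ∧ z ^ 2 = 1}
      mul_mem' := fun {z w} hz hw => ⟨Q.mul_mem hz.1 hw.1, fun x hx => by
          rw [← mul_assoc, hz.2.1 x hx, mul_assoc, hw.2.1 x hx, mul_assoc],
        by
          have hc : Commute z w := (hz.2.1 w hw.1).symm
          rw [hc.mul_pow, hz.2.2, hw.2.2, mul_one]⟩
      one_mem' := ⟨Q.one_mem, fun x _ => by simp, one_pow 2⟩
      inv_mem' := fun {z} hz => ⟨Q.inv_mem hz.1, fun x hx =>
          (show Commute x z from hz.2.1 x hx).inv_right, by rw [inv_pow, hz.2.2, inv_one]⟩ }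
  have hZ1n : Z1.Normal := by
    refine ⟨fun z hz g => ⟨hQn.conj_mem z hz.1 g, fun x hx => ?_,
      by rw [conj_pow, hz.2.2, mul_one, mul_inv_cancel]⟩⟩
    have hx' : g⁻¹ * x * g ∈ Q := by
      have := hQn.conj_mem x hx g⁻¹
      simpa using this
    have hc := hz.2.1 _ hx'
    calc x * (g * z * g⁻¹) = g * (g⁻¹ * x * g * z) * g⁻¹ := by group
      _ = g * (z * (g⁻¹ * x * g)) * g⁻¹ := by rw [hc]
      _ = g * z * g⁻¹ * x := by group
  have hZ1ne : Z1 ≠ ⊥ := by
    haveI : Nontrivial Q := (Subgroup.nontrivial_iff_ne_bot Q).2 hQne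
    haveI := hQp.center_nontrivial
    have h2 : 2 ∣ Nat.card (Subgroup.center Q) := by
      rcases (hQp.to_subgroup (Subgroup.center Q)).card_eq_or_dvd with h | h
      · exact absurd h (Finite.one_lt_card).ne'
      · exact h
    obtain ⟨z, hz⟩ := exists_prime_orderOf_dvd_card' (G := Subgroup.center Q) 2 h2
    have hz1 : z ≠ 1 := fun h => by
      rw [h, orderOf_one] at hz
      omega
    have hz2 : z ^ 2 = 1 := by
      rw [← hz]
      exact pow_orderOf_eq_one z
    intro hEb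
    have hmem : ((z : Q) : G) ∈ Z1 := by
      refine ⟨(z : Q).2, fun x hx => ?_, ?_⟩
      · have h := Subgroup.mem_center_iff.1 z.2 ⟨x, hx⟩
        exact congrArg Subtype.val h
      · have h := congrArg (fun w : Subgroup.center Q => ((w : Q) : G)) hz2
        simpa using h
    rw [hEb, Subgroup.mem_bot] at hmem
    apply hz1
    apply Subtype.ext
    apply Subtype.ext
    simpa using hmem
  have hZ1p : IsPGroup 2 Z1 := hQp.to_le (fun z hz => hz.1)
  -- `W ≤ Q`
  have hWQ : W ≤ Q := by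
    haveI := hZ1n
    obtain ⟨b, hbZ, hb1, hbW⟩ := exists_comm 2 Z1 W hZ1p hWp hZ1ne
    have hbW' : b ∈ W := hWall b hbZ.2.2 hbW
    have hA : (W ⊓ Q) ≠ ⊥ := by
      intro h
      have hb : b ∈ W ⊓ Q := ⟨hbW', hbZ.1⟩
      rw [h, Subgroup.mem_bot] at hb
      exact hb1 hb
    have h := hISL' d hdfix (W ⊓ Q) inf_le_left hA
      (fun a ha => ⟨(hdn a).1 ha.1, hQn.conj_mem a ha.2 d⟩)
    rw [← h]
    exact inf_le_right
  have hZ1W : Z1 = W := by
    refine hISL' d hdfix Z1 ?_ hZ1ne (fun a ha => hZ1n.conj_mem a ha d)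
    intro z hz
    exact hWall z hz.2.2 (fun w hw => hz.2.1 w (hWQ hw))
  have hWn : ∀ w ∈ W, ∀ g : G, g * w * g⁻¹ ∈ W := by
    intro w hw g
    have hw' : w ∈ Z1 := by rw [hZ1W]; exact hw
    have := hZ1n.conj_mem w hw' g
    rw [hZ1W] at this
    exact this
  have hWcen : ∀ w ∈ W, ∀ x ∈ Q, x * w = w * x := by
    intro w hw
    have hw' : w ∈ Z1 := by rw [hZ1W]; exact hw
    exact hw'.2.1
  have hWnormal : W.Normal := ⟨fun w hw g => hWn w hw g⟩
  have hQinv : ∀ u ∈ Q, u ^ 2 = 1 → u ∈ W := fun u hu hu2 =>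
    hWall u hu2 (fun w hw => (hWcen w hw u hu).symm)
  -- elements acting freely on `W` act freely on `Q`
  have hfpfQ : ∀ g : G, (∀ w ∈ W, g * w * g⁻¹ = w → w = 1) →
      ∀ u ∈ Q, g * u * g⁻¹ = u → u = 1 := by
    intro g hg u hu hgu
    by_contra hu1
    obtain ⟨k, hk⟩ := hQp ⟨u, hu⟩
    have hk' : u ^ 2 ^ k = 1 := by simpa using congrArg Subtype.val hk
    have hex : ∃ j, u ^ 2 ^ j = 1 := ⟨k, hk'⟩
    obtain ⟨j, hj, hjmin⟩ : ∃ j, u ^ 2 ^ j = 1 ∧ ∀ i < j, u ^ 2 ^ i ≠ 1 :=
      ⟨Nat.find hex, Nat.find_spec hex, fun i hi => Nat.find_min hex hi⟩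
    have hj0 : j ≠ 0 := by
      intro h0
      rw [h0] at hj
      simp at hj
      exact hu1 hj
    obtain ⟨i, rfl⟩ : ∃ i, j = i + 1 := ⟨j - 1, by omega⟩
    have ht1 : u ^ 2 ^ i ≠ 1 := hjmin i (by omega)
    have ht2 : (u ^ 2 ^ i) ^ 2 = 1 := by
      rw [← pow_mul, ← pow_succ]
      exact hj
    have htQ : u ^ 2 ^ i ∈ Q := Q.pow_mem hu _
    have htW : u ^ 2 ^ i ∈ W := hQinv _ htQ ht2
    have htg : g * u ^ 2 ^ i * g⁻¹ = u ^ 2 ^ i := by rw [← conj_pow, hgu]
    exact ht1 (hg _ htW htg)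
  have hdQ : ∀ u ∈ Q, d * u * d⁻¹ = u → u = 1 := hfpfQ d hdfix
  -- `d` has order 3
  have hd3 : orderOf d = 3 := by
    obtain ⟨n, hn⟩ := (IsPGroup.iff_card (p := 3) (G := Subgroup.zpowers d)).1 hd
    rw [Nat.card_zpowers] at hn
    have hn1 : 1 ≤ n := by
      by_contra h
      have h0 : n = 0 := by omega
      rw [h0, pow_zero, orderOf_eq_one_iff] at hn
      exact hd1 hn
    refine Cfsg.Agent.S3738.result d n hn1 hn Q hQp ?_ ?_ ?_ ?_
    · exact Subgroup.mem_normalizer_iff.2 (fun h => ⟨fun hh => hQn.conj_mem h hh d, fun hh => by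
        have := hQn.conj_mem _ hh d⁻¹
        simpa [mul_assoc] using this⟩)
    · rw [eq_bot_iff]
      intro x hx
      have hxQ : x ∈ Q := hchar' hx.2
      have hx3 : x ∈ Subgroup.zpowers d := hx.1
      obtain ⟨a, ha⟩ := hQp ⟨x, hxQ⟩
      obtain ⟨b, hb⟩ := hd ⟨x, hx3⟩
      have ha' : x ^ 2 ^ a = 1 := by simpa using congrArg Subtype.val ha
      have hb' : x ^ 3 ^ b = 1 := by simpa using congrArg Subtype.val hb
      have hcop : Nat.Coprime (2 ^ a) (3 ^ b) := Nat.Coprime.pow _ _ (by norm_num)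
      have h := pow_gcd_eq_one.2 ⟨ha', hb'⟩
      rw [hcop.gcd_eq_one, pow_one] at h
      exact Subgroup.mem_bot.2 h
    · rw [eq_bot_iff]
      intro x hx
      have hxQ : x ∈ Q := hx.1
      have hxd : d * x * d⁻¹ = x := by
        have h := Subgroup.mem_centralizer_iff.1 hx.2 d (Set.mem_singleton d)
        rw [h]
        simp
      exact Subgroup.mem_bot.2 (hdQ x hxQ hxd)
    · intro V hVQ hVc A hAc hA2
      have hB : Nat.card (A.map V.subtype) ≤ 4 := by
        apply hR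
        · rintro x ⟨a, ha, rfl⟩ y ⟨b, hb, rfl⟩
          have h := congrArg Subtype.val (hAc.is_comm.comm ⟨a, ha⟩ ⟨b, hb⟩)
          exact congrArg Subtype.val h
        · rintro x ⟨a, ha, rfl⟩
          have h := congrArg Subtype.val (hA2 a ha)
          simpa using h
      rw [Subgroup.card_map_of_injective (Subgroup.subtype_injective V)] at hB
      simpa using hB
  have hd3' : d ^ 3 = 1 := by
    rw [← hd3]
    exact pow_orderOf_eq_one d
  -- an element of order 3 either centralizes `W` or acts freely on it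
  have hD : ∀ g : G, g ^ 3 = 1 → (∃ f ∈ W, f ≠ 1 ∧ g * f * g⁻¹ = f) →
      ∀ a ∈ W, g * a * g⁻¹ = a := by
    intro g hg3 hf a ha
    obtain ⟨f, hfW, hf1, hfg⟩ := hf
    let F : Subgroup G :=
      { carrier := {y | y ∈ W ∧ g * y * g⁻¹ = y}
        mul_mem' := fun {y z} hy hz => ⟨W.mul_mem hy.1 hz.1, by
          have e : g * (y * z) * g⁻¹ = (g * y * g⁻¹) * (g * z * g⁻¹) := by group
          rw [e, hy.2, hz.2]⟩
        one_mem' := ⟨W.one_mem, by group⟩
        inv_mem' := fun {y} hy => ⟨W.inv_mem hy.1, by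
          have e : g * y⁻¹ * g⁻¹ = (g * y * g⁻¹)⁻¹ := by group
          rw [e, hy.2]⟩ }
    have hFW : F ≤ W := fun y hy => hy.1
    have hFne : F ≠ ⊥ := by
      intro h
      have hfF : f ∈ F := ⟨hfW, hfg⟩
      rw [h, Subgroup.mem_bot] at hfF
      exact hf1 hfF
    have hdvd : Nat.card F ∣ 4 := by
      rw [← hWcard]
      exact Subgroup.card_dvd_of_le hFW
    have hne1 : Nat.card F ≠ 1 := fun h => hFne (Subgroup.card_eq_one.1 h)
    have hle : Nat.card F ≤ 4 := Nat.le_of_dvd (by norm_num) hdvd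
    have hpos : 0 < Nat.card F := Nat.card_pos
    rcases (show Nat.card F = 1 ∨ Nat.card F = 2 ∨ Nat.card F = 3 ∨ Nat.card F = 4 by omega)
      with h | h | h | h
    · exact absurd h hne1
    · -- index two
      have hidx : (F.subgroupOf W).index = 2 := by
        have h1 := Subgroup.card_mul_index (F.subgroupOf W)
        have h2 : Nat.card (F.subgroupOf W) = Nat.card F :=
          Nat.card_congr (Subgroup.subgroupOfEquivOfLe hFW).toEquiv
        rw [h2, h, hWcard] at h1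
        omega
      have ha1W : g * a * g⁻¹ ∈ W := hWn a ha g
      have hiff : ((⟨a, ha⟩ : W) ∈ F.subgroupOf W ↔
          (⟨g * a * g⁻¹, ha1W⟩ : W) ∈ F.subgroupOf W) := by
        rw [Subgroup.mem_subgroupOf, Subgroup.mem_subgroupOf]
        constructor
        · intro haF
          have e : g * a * g⁻¹ = a := haF.2
          show g * a * g⁻¹ ∈ F
          rw [e]
          exact haF
        · intro haF
          have e : g * (g * a * g⁻¹) * g⁻¹ = g * a * g⁻¹ := haF.2
          have e2 : g * a * g⁻¹ = a := by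
            have e3 : g * a * g⁻¹ = g⁻¹ * (g * (g * a * g⁻¹) * g⁻¹) * g := by group
            rw [e3, e]
            group
          exact ⟨ha, e2⟩
      have hmul := (Subgroup.mul_mem_iff_of_index_two hidx).2 hiff
      have hk : a * (g * a * g⁻¹) ∈ F := Subgroup.mem_subgroupOf.1 hmul
      have hk2 : g * (a * (g * a * g⁻¹)) * g⁻¹ = a * (g * a * g⁻¹) := hk.2
      have ha2W : g * (g * a * g⁻¹) * g⁻¹ ∈ W := hWn _ ha1W g
      have e1 : (g * a * g⁻¹) * (g * (g * a * g⁻¹) * g⁻¹) = (g * a * g⁻¹) * a := by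
        calc (g * a * g⁻¹) * (g * (g * a * g⁻¹) * g⁻¹) = g * (a * (g * a * g⁻¹)) * g⁻¹ := by group
          _ = a * (g * a * g⁻¹) := hk2
          _ = (g * a * g⁻¹) * a := hWc _ ha _ ha1W
      have e2 : g * (g * a * g⁻¹) * g⁻¹ = a := mul_left_cancel e1
      have e3 : g * (g * (g * a * g⁻¹) * g⁻¹) * g⁻¹ = a := by
        have e4 : g * (g * (g * a * g⁻¹) * g⁻¹) * g⁻¹ = g ^ 3 * a * (g ^ 3)⁻¹ := by
          rw [pow_succ, pow_two]
          group
        rw [e4, hg3]
        simp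
      rw [e2] at e3
      exact e3
    · rw [h] at hdvd
      norm_num at hdvd
    · have hFeq : F = W := Subgroup.eq_of_le_of_card_ge hFW (by rw [h, hWcard])
      have haF : a ∈ F := by rw [hFeq]; exact ha
      exact haF.2
  -- the element of order 6
  obtain ⟨x, hx6⟩ := hsix
  have hx6' : x ^ 6 = 1 := by
    rw [← hx6]
    exact pow_orderOf_eq_one x
  obtain ⟨c, hcdef⟩ : ∃ c, c = x ^ 2 := ⟨_, rfl⟩
  obtain ⟨t, htdef⟩ : ∃ t, t = x ^ 3 := ⟨_, rfl⟩
  have hc3 : c ^ 3 = 1 := by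
    rw [hcdef, ← pow_mul]
    exact hx6'
  have ht2 : t ^ 2 = 1 := by
    rw [htdef, ← pow_mul]
    exact hx6'
  have hc1 : c ≠ 1 := by
    intro h
    rw [hcdef] at h
    have h2 := orderOf_dvd_of_pow_eq_one h
    rw [hx6] at h2
    norm_num at h2
  have ht1 : t ≠ 1 := by
    intro h
    rw [htdef] at h
    have h2 := orderOf_dvd_of_pow_eq_one h
    rw [hx6] at h2
    norm_num at h2
  have hct : c * t = t * c := by
    rw [hcdef, htdef, ← pow_add, ← pow_add]
  -- `c` centralizes `W`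
  have hcW : ∀ a ∈ W, c * a * c⁻¹ = a := by
    by_contra hcon
    have hcf : ∀ w ∈ W, c * w * c⁻¹ = w → w = 1 := by
      intro w hw hfix
      by_contra hw1
      exact hcon (hD c hc3 ⟨w, hw, hw1, hfix⟩)
    have htp : IsPGroup 2 (Subgroup.zpowers t) := by
      intro y
      refine ⟨1, Subtype.ext ?_⟩
      obtain ⟨k, hk⟩ := Subgroup.mem_zpowers_iff.1 y.2
      show ((y : G)) ^ 2 ^ 1 = 1
      rw [← hk, pow_one, ← zpow_natCast, ← zpow_mul, mul_comm, zpow_mul, zpow_natCast, ht2,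
        one_zpow]
    haveI := hWnormal
    obtain ⟨b, hbW, hb1, hbt⟩ := exists_comm 2 W (Subgroup.zpowers t) hWp htp hW1
    have hconj : c⁻¹ * t * c = t := by rw [mul_assoc, ← hct, inv_mul_cancel_left]
    have hconj' : c * t * c⁻¹ = t := by rw [hct, mul_inv_cancel_right]
    have hA : (W ⊓ Subgroup.centralizer {t}) ≠ ⊥ := by
      intro h
      have hb : b ∈ W ⊓ Subgroup.centralizer {t} := by
        refine Subgroup.mem_inf.2 ⟨hbW, Subgroup.mem_centralizer_iff.2 ?_⟩
        intro y hy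
        rw [Set.mem_singleton_iff] at hy
        rw [hy]
        exact hbt t (Subgroup.mem_zpowers t)
      rw [h, Subgroup.mem_bot] at hb
      exact hb1 hb
    have hAeq := hISL' c hcf (W ⊓ Subgroup.centralizer {t}) inf_le_left hA (by
      intro a ha
      have haW : a ∈ W := (Subgroup.mem_inf.1 ha).1
      have hat : t * a = a * t :=
        Subgroup.mem_centralizer_iff.1 (Subgroup.mem_inf.1 ha).2 t (Set.mem_singleton t)
      refine Subgroup.mem_inf.2 ⟨hWn a haW c, Subgroup.mem_centralizer_iff.2 ?_⟩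
      intro y hy
      rw [Set.mem_singleton_iff] at hy
      rw [hy]
      calc t * (c * a * c⁻¹) = c * ((c⁻¹ * t * c) * a) * c⁻¹ := by group
        _ = c * (t * a) * c⁻¹ := by rw [hconj]
        _ = c * (a * t) * c⁻¹ := by rw [hat]
        _ = (c * a * c⁻¹) * (c * t * c⁻¹) := by group
        _ = (c * a * c⁻¹) * t := by rw [hconj'])
    have htW : t ∈ W := by
      apply hWall t ht2
      intro w hw
      have hw' : w ∈ W ⊓ Subgroup.centralizer {t} := by rw [hAeq]; exact hw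
      exact (Subgroup.mem_centralizer_iff.1 (Subgroup.mem_inf.1 hw').2 t
        (Set.mem_singleton t)).symm
    exact ht1 (hcf t htW hconj')
  -- a Sylow 3-subgroup containing `d`
  have hcp : IsPGroup 3 (Subgroup.zpowers c) := by
    intro y
    refine ⟨1, Subtype.ext ?_⟩
    obtain ⟨k, hk⟩ := Subgroup.mem_zpowers_iff.1 y.2
    show ((y : G)) ^ 3 ^ 1 = 1
    rw [← hk, pow_one, ← zpow_natCast, ← zpow_mul, mul_comm, zpow_mul, zpow_natCast, hc3,
      one_zpow]
  obtain ⟨R, hdR⟩ := IsPGroup.exists_le_sylow hd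
  obtain ⟨R', hcR'⟩ := IsPGroup.exists_le_sylow hcp
  obtain ⟨g, hg⟩ := MulAction.exists_smul_eq G R' R
  have hc'R : g * c * g⁻¹ ∈ (R : Subgroup G) := by
    rw [← hg, Sylow.coe_subgroup_smul]
    exact Subgroup.smul_mem_pointwise_smul c (MulAut.conj g) (R' : Subgroup G)
      (hcR' (Subgroup.mem_zpowers c))
  have hc'W : g * c * g⁻¹ ∈ Subgroup.centralizer (W : Set G) := by
    rw [Subgroup.mem_centralizer_iff]
    intro w hw
    have hw' : g⁻¹ * w * g ∈ W := by
      have := hWn w hw g⁻¹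
      simpa using this
    have h1 := hcW _ hw'
    calc w * (g * c * g⁻¹) = g * ((g⁻¹ * w * g) * c) * g⁻¹ := by group
      _ = g * ((c * (g⁻¹ * w * g) * c⁻¹) * c) * g⁻¹ := by rw [h1]
      _ = g * c * g⁻¹ * w := by group
  haveI := hWnormal
  have hne0 : (Subgroup.centralizer (W : Set G)).subgroupOf (R : Subgroup G) ≠ ⊥ := by
    intro h
    have hmem : (⟨g * c * g⁻¹, hc'R⟩ : (R : Subgroup G)) ∈
        (Subgroup.centralizer (W : Set G)).subgroupOf (R : Subgroup G) :=
      Subgroup.mem_subgroupOf.2 hc'W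
    rw [h, Subgroup.mem_bot] at hmem
    have h1 : g * c * g⁻¹ = 1 := congrArg Subtype.val hmem
    apply hc1
    have e : c = g⁻¹ * (g * c * g⁻¹) * g := by group
    rw [e, h1]
    simp
  obtain ⟨b, hbN, hb1, hbc⟩ := Lead.normal_inf_center_ne_bot' 3 R.isPGroup'
    ((Subgroup.centralizer (W : Set G)).subgroupOf (R : Subgroup G)) hne0
  have hbW : (b : G) ∈ Subgroup.centralizer (W : Set G) := Subgroup.mem_subgroupOf.1 hbN
  have hbd : Commute (b : G) d := by
    have h := Subgroup.mem_center_iff.1 hbc ⟨d, hdR (Subgroup.mem_zpowers d)⟩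
    exact (congrArg Subtype.val h).symm
  have hb1' : (b : G) ≠ 1 := fun h => hb1 (Subtype.ext h)
  have hb3 : 3 ∣ orderOf (b : G) := by
    obtain ⟨k, hk⟩ := R.isPGroup' b
    have hk' : (b : G) ^ 3 ^ k = 1 := by simpa using congrArg Subtype.val hk
    obtain ⟨j, -, hj⟩ := (Nat.dvd_prime_pow Nat.prime_three).1 (orderOf_dvd_of_pow_eq_one hk')
    have hj0 : j ≠ 0 := by
      intro h0
      rw [h0, pow_zero, orderOf_eq_one_iff] at hj
      exact hb1' hj
    rw [hj]
    exact dvd_pow_self 3 hj0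
  obtain ⟨z, hzdef⟩ : ∃ z : G, z = (b : G) ^ (orderOf (b : G) / 3) := ⟨_, rfl⟩
  have hz3o : orderOf z = 3 := by
    rw [hzdef]
    exact orderOf_pow_orderOf_div (orderOf_pos (b : G)).ne' hb3
  have hz3 : z ^ 3 = 1 := by
    rw [← hz3o]
    exact pow_orderOf_eq_one z
  have hzd : z * d = d * z := by
    rw [hzdef]
    exact (hbd.pow_left _)
  have hzW : ∀ w ∈ W, z * w * z⁻¹ = w := by
    intro w hw
    have hzc : z ∈ Subgroup.centralizer (W : Set G) := by
      rw [hzdef]
      exact Subgroup.pow_mem _ hbW _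
    have h := Subgroup.mem_centralizer_iff.1 hzc w hw
    rw [← h]
    simp
  -- apply the `3 × 3` lemma on `Q`
  haveI := hQn
  have hzdfix : ∀ w ∈ W, (z * d) * w * (z * d)⁻¹ = w → w = 1 := by
    intro w hw h
    apply hdfix w hw
    have h1 : (z * d) * w * (z * d)⁻¹ = z * (d * w * d⁻¹) * z⁻¹ := by group
    rw [h1, hzW _ ((hdn w).1 hw)] at h
    exact h
  have hzzdfix : ∀ w ∈ W, (z * z * d) * w * (z * z * d)⁻¹ = w → w = 1 := by
    intro w hw h
    apply hdfix w hw
    have h1 : (z * z * d) * w * (z * z * d)⁻¹ = z * (z * (d * w * d⁻¹) * z⁻¹) * z⁻¹ := by group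
    rw [h1, hzW _ ((hdn w).1 hw), hzW _ ((hdn w).1 hw)] at h
    exact h
  have hmain := Lead.Fpf33.main (Nat.card Q) Q rfl hQp (MulAut.conjNormal z : MulAut Q)
    (MulAut.conjNormal d : MulAut Q)
    (by
      intro u
      apply Subtype.ext
      show z * (d * (u : G) * d⁻¹) * z⁻¹ = d * (z * (u : G) * z⁻¹) * d⁻¹
      calc z * (d * (u : G) * d⁻¹) * z⁻¹ = (z * d) * u * (z * d)⁻¹ := by group
        _ = (d * z) * u * (d * z)⁻¹ := by rw [hzd]
        _ = d * (z * (u : G) * z⁻¹) * d⁻¹ := by group)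
    (by
      intro u
      apply Subtype.ext
      show z * (z * (z * (u : G) * z⁻¹) * z⁻¹) * z⁻¹ = u
      have e : z * (z * (z * (u : G) * z⁻¹) * z⁻¹) * z⁻¹ = z ^ 3 * u * (z ^ 3)⁻¹ := by
        rw [pow_succ, pow_two]
        group
      rw [e, hz3]
      simp)
    (by
      intro u
      apply Subtype.ext
      show d * (d * (d * (u : G) * d⁻¹) * d⁻¹) * d⁻¹ = u
      have e : d * (d * (d * (u : G) * d⁻¹) * d⁻¹) * d⁻¹ = d ^ 3 * u * (d ^ 3)⁻¹ := by
        rw [pow_succ, pow_two]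
        group
      rw [e, hd3']
      simp)
    (by
      intro u hu
      have h : d * (u : G) * d⁻¹ = u := congrArg Subtype.val hu
      exact Subtype.ext (hdQ u u.2 h))
    (by
      intro u hu
      have h : z * (d * (u : G) * d⁻¹) * z⁻¹ = u := congrArg Subtype.val hu
      have h1 : (z * d) * (u : G) * (z * d)⁻¹ = u := by
        have e : (z * d) * (u : G) * (z * d)⁻¹ = z * (d * (u : G) * d⁻¹) * z⁻¹ := by group
        rw [e]
        exact h
      exact Subtype.ext (hfpfQ (z * d) hzdfix u u.2 h1))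
    (by
      intro u hu
      have h : z * (z * (d * (u : G) * d⁻¹) * z⁻¹) * z⁻¹ = u := congrArg Subtype.val hu
      have h1 : (z * z * d) * (u : G) * (z * z * d)⁻¹ = u := by
        have e : (z * z * d) * (u : G) * (z * z * d)⁻¹ =
            z * (z * (d * (u : G) * d⁻¹) * z⁻¹) * z⁻¹ := by group
        rw [e]
        exact h
      exact Subtype.ext (hfpfQ (z * z * d) hzzdfix u u.2 h1))
  have hzQ : z ∈ Q := by
    apply hchar'
    rw [Subgroup.mem_centralizer_iff]
    intro u hu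
    have h : z * u * z⁻¹ = u := congrArg Subtype.val (hmain ⟨u, hu⟩)
    calc u * z = (z * u * z⁻¹) * z := by rw [h]
      _ = z * u := by group
  obtain ⟨a, ha⟩ := hQp ⟨z, hzQ⟩
  have ha' : z ^ 2 ^ a = 1 := by simpa using congrArg Subtype.val ha
  have hcop : Nat.Coprime 3 (2 ^ a) := Nat.Coprime.pow_right _ (by norm_num)
  have h := pow_gcd_eq_one.2 ⟨hz3, ha'⟩
  rw [hcop.gcd_eq_one, pow_one] at h
  rw [h, orderOf_one] at hz3o
  omega

end Cfsg.Agent.S3739
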