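import Cfsg.Statements.S3744
import Cfsg.Agent.Lead.Coprime
import Cfsg.Agent.S3633
import Mathlib

set_option autoImplicit false
open Cfsg
open Pointwise

namespace Cfsg.Agent.S3744

universe u

/-- existence of a `p`-complement containing a conjugate of every `p'`-subgroup. -/
def Good (p : ℕ) (G : Type u) [Group G] : Prop :=
  ∃ H : Subgroup G, (Nat.card H).Coprime p ∧ (∃ n : ℕ, H.index = p ^ n) ∧
    ∀ U : Subgroup G, (Nat.card U).Coprime p → ∃ g : G, ∀ x ∈ U, g * x * g⁻¹ ∈ H

theorem good_of_chain (p : ℕ) [Fact p.Prime] : ∀ (n : ℕ) (G : Type u) [Group G] [Finite G]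
    (H : Fin (n + 1) → Subgroup G), H 0 = ⊥ → H (Fin.last n) = ⊤ → Monotone H →
    (∀ i, (H i).Normal) →
    (∀ i : Fin n, (∃ m : ℕ, (H i.castSucc).relIndex (H i.succ) = p ^ m) ∨
      ((H i.castSucc).relIndex (H i.succ)).Coprime p) → Good p G := by
  intro n
  have hp : p.Prime := Fact.out
  induction n with
  | zero =>
    intro G _ _ H h0 hl _ _ _
    have hbt : (⊥ : Subgroup G) = ⊤ := by rw [← h0, ← hl]; rfl
    refine ⟨⊤, ?_, ⟨0, ?_⟩, ?_⟩
    · rw [← hbt]; simp
    · simp
    · intro U _; exact ⟨1, fun x _ => Subgroup.mem_top _⟩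
  | succ n ih =>
    intro G _ _ H h0 hl hmono hnorm hstep
    haveI hN1 : (H 1).Normal := hnorm 1
    obtain ⟨N, hN⟩ : ∃ N : Subgroup G, N = H 1 := ⟨_, rfl⟩
    haveI hNn : N.Normal := hN ▸ hN1
    have hπs : Function.Surjective (QuotientGroup.mk' N) := QuotientGroup.mk'_surjective N
    have hNle : ∀ i : Fin (n + 1), N ≤ H i.succ := by
      intro i
      rw [hN]
      apply hmono
      rw [Fin.le_def]
      simp
    have hcomap : ∀ i : Fin (n + 1), ((H i.succ).map (QuotientGroup.mk' N)).comap (QuotientGroup.mk' N)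
        = H i.succ := by
      intro i
      apply Subgroup.comap_map_eq_self
      rw [QuotientGroup.ker_mk']; exact hNle i
    have good' : Good p (G ⧸ N) := by
      apply ih (G ⧸ N) (fun i => (H i.succ).map (QuotientGroup.mk' N))
      · show (H (0 : Fin (n + 1)).succ).map (QuotientGroup.mk' N) = ⊥
        rw [Fin.succ_zero_eq_one, ← hN, Subgroup.map_eq_bot_iff, QuotientGroup.ker_mk']
      · show (H (Fin.last n).succ).map (QuotientGroup.mk' N) = ⊤
        rw [Fin.succ_last, hl]; exact Subgroup.map_top_of_surjective _ hπs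
      · intro i j hij; exact Subgroup.map_mono (hmono (Fin.succ_le_succ_iff.mpr hij))
      · intro i; exact Subgroup.Normal.map (hnorm _) _ hπs
      · intro i
        have h1 : ((H i.castSucc.succ).map (QuotientGroup.mk' N)).relIndex
            ((H i.succ.succ).map (QuotientGroup.mk' N))
            = (H i.succ.castSucc).relIndex (H i.succ.succ) := by
          rw [← Subgroup.relIndex_comap, hcomap, Fin.succ_castSucc]
        show (∃ m : ℕ, ((H i.castSucc.succ).map (QuotientGroup.mk' N)).relIndex
            ((H i.succ.succ).map (QuotientGroup.mk' N)) = p ^ m) ∨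
            (((H i.castSucc.succ).map (QuotientGroup.mk' N)).relIndex
            ((H i.succ.succ).map (QuotientGroup.mk' N))).Coprime p
        rw [h1]
        exact hstep i.succ
    obtain ⟨Hb, hHb1, ⟨a, hHb2⟩, hHb3⟩ := good'
    have hfirst := hstep 0
    rw [Fin.castSucc_zero, Fin.succ_zero_eq_one, h0, Subgroup.relIndex_bot_left, ← hN] at hfirst
    -- the preimage L of Hb
    have hNL : N ≤ Hb.comap (QuotientGroup.mk' N) := by
      intro x hx
      rw [Subgroup.mem_comap]
      have : (QuotientGroup.mk' N) x = 1 := by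
        rw [← MonoidHom.mem_ker, QuotientGroup.ker_mk']; exact hx
      rw [this]; exact Hb.one_mem
    have hLcard : Nat.card Hb * Nat.card N = Nat.card (Hb.comap (QuotientGroup.mk' N)) := by
      have := S3633.card_map_mul N (Hb.comap (QuotientGroup.mk' N)) hNL
      rwa [Subgroup.map_comap_eq_self_of_surjective hπs] at this
    have hLidx : (Hb.comap (QuotientGroup.mk' N)).index = p ^ a := by
      rw [Subgroup.index_comap_of_surjective Hb hπs, hHb2]
    -- conjugating a p'-subgroup into L
    have hUL : ∀ U : Subgroup G, (Nat.card U).Coprime p →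
        ∃ g : G, ∀ x ∈ U, g * x * g⁻¹ ∈ Hb.comap (QuotientGroup.mk' N) := by
      intro U hU
      have hU' : (Nat.card (U.map (QuotientGroup.mk' N))).Coprime p :=
        Nat.Coprime.coprime_dvd_left (Subgroup.card_map_dvd _ _) hU
      obtain ⟨gb, hgb⟩ := hHb3 _ hU'
      obtain ⟨g, rfl⟩ := hπs gb
      refine ⟨g, fun x hx => ?_⟩
      rw [Subgroup.mem_comap, map_mul, map_mul, map_inv]
      exact hgb _ (Subgroup.mem_map_of_mem _ hx)
    rcases hfirst with ⟨m, hm⟩ | hcop
    · -- N is a p-group: Schur–Zassenhaus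
      obtain ⟨L, hL⟩ : ∃ L : Subgroup G, L = Hb.comap (QuotientGroup.mk' N) := ⟨_, rfl⟩
      rw [← hL] at hNL hLcard hLidx hUL
      haveI : (N.subgroupOf L).Normal := Subgroup.Normal.subgroupOf hNn L
      have hN'card : Nat.card (N.subgroupOf L) = Nat.card N :=
        Nat.card_congr (Subgroup.subgroupOfEquivOfLe hNL).toEquiv
      have hNpos : 0 < Nat.card N := Nat.card_pos
      have hHbpos : 0 < Nat.card Hb := Nat.card_pos
      have hN'idx : (N.subgroupOf L).index = Nat.card Hb := by
        have h1 := Subgroup.card_mul_index (N.subgroupOf L)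
        rw [hN'card, ← hLcard, mul_comm] at h1
        exact Nat.eq_of_mul_eq_mul_right hNpos h1
      have hcop' : (Nat.card (N.subgroupOf L)).Coprime (N.subgroupOf L).index := by
        rw [hN'card, hN'idx, hm]
        exact Nat.Coprime.pow_left m hHb1.symm
      obtain ⟨H0, hH0⟩ := Subgroup.exists_right_complement'_of_coprime hcop'
      have hH0card : Nat.card H0 = Nat.card Hb := by
        have h1 := hH0.card_mul_card
        rw [hN'card, ← hLcard, mul_comm] at h1
        exact Nat.eq_of_mul_eq_mul_right hNpos h1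
      have hH1card : Nat.card (H0.map L.subtype) = Nat.card Hb := by
        rw [Subgroup.card_map_of_injective L.subtype_injective, hH0card]
      have hH1L : H0.map L.subtype ≤ L := by
        rintro _ ⟨x, _, rfl⟩; exact x.2
      have hdecomp : ∀ x ∈ L, ∃ h ∈ H0.map L.subtype, ∃ k ∈ N, x = h * k := by
        intro x hx
        have hH0' : Subgroup.IsComplement' H0 (N.subgroupOf L) := hH0.symm
        obtain ⟨⟨h, k⟩, hhk, -⟩ := (Subgroup.isComplement_iff_existsUnique.mp hH0') ⟨x, hx⟩
        refine ⟨h.1.1, Subgroup.mem_map_of_mem _ h.2, k.1.1, Subgroup.mem_subgroupOf.mp k.2, ?_⟩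
        have := congrArg Subtype.val hhk
        simpa using this.symm
      refine ⟨H0.map L.subtype, ?_, ⟨m + a, ?_⟩, ?_⟩
      · rw [hH1card]; exact hHb1
      · have h1 := Subgroup.card_mul_index (H0.map L.subtype)
        have h2 := Subgroup.card_mul_index L
        rw [hH1card] at h1
        rw [← hLcard, hLidx, hm] at h2
        have : Nat.card Hb * (H0.map L.subtype).index = Nat.card Hb * p ^ (m + a) := by
          rw [h1, ← h2, pow_add]; ring
        exact Nat.eq_of_mul_eq_mul_left hHbpos this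
      · intro U hU
        obtain ⟨g, hg⟩ := hUL U hU
        obtain ⟨U', hU'⟩ : ∃ U' : Subgroup G, U' = U.map (MulAut.conj g).toMonoidHom := ⟨_, rfl⟩
        have hU'card : Nat.card U' = Nat.card U := by
          rw [hU']; exact Subgroup.card_map_of_injective (MulAut.conj g).injective
        have hU'L : U' ≤ L := by
          rw [hU']; rintro _ ⟨x, hx, rfl⟩; exact hg x hx
        obtain ⟨A', hA'⟩ : ∃ A' : Subgroup G, A' = H0.map L.subtype ⊓ (U' ⊔ N) := ⟨_, rfl⟩
        have hA'cop : (Nat.card A').Coprime (Nat.card N) := by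
          rw [hm]
          apply Nat.Coprime.pow_right
          have : Nat.card A' ∣ Nat.card (H0.map L.subtype) := by
            rw [hA']; exact Subgroup.card_dvd_of_le inf_le_left
          rw [hH1card] at this
          exact Nat.Coprime.coprime_dvd_left this hHb1
        have hU'cop : (Nat.card U').Coprime (Nat.card N) := by
          rw [hm, hU'card]
          exact Nat.Coprime.pow_right m hU
        have hsup : A' ⊔ N = U' ⊔ N := by
          apply le_antisymm
          · apply sup_le _ le_sup_right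
            rw [hA']; exact inf_le_right
          · apply sup_le _ le_sup_right
            intro x hx
            obtain ⟨h, hh, k, hk, rfl⟩ := hdecomp x (hU'L hx)
            have hh' : h ∈ U' ⊔ N := by
              have h1 : h * k ∈ U' ⊔ N := Subgroup.mem_sup_left hx
              have h2 : k⁻¹ ∈ U' ⊔ N := Subgroup.mem_sup_right (N.inv_mem hk)
              have := (U' ⊔ N).mul_mem h1 h2
              simpa using this
            exact (A' ⊔ N).mul_mem (Subgroup.mem_sup_left (by rw [hA']; exact ⟨hh, hh'⟩))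
              (Subgroup.mem_sup_right hk)
        have hnormA : A' ≤ Subgroup.normalizer (N : Set G) := by
          rw [Subgroup.normalizer_eq_top]; exact le_top
        have hnormU : U' ≤ Subgroup.normalizer (N : Set G) := by
          rw [Subgroup.normalizer_eq_top]; exact le_top
        have hcard : Nat.card U' = Nat.card A' := by
          have e1 := Lead.relIndex_sup_of_le_normalizer A' N hnormA
          have e2 := Lead.relIndex_sup_of_le_normalizer U' N hnormU
          rw [Lead.relIndex_eq_card_of_coprime hA'cop] at e1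
          rw [Lead.relIndex_eq_card_of_coprime hU'cop] at e2
          rw [← e1, ← e2, hsup]
        have hsolv : Group.IsSolvable N := by
          have hpg : IsPGroup p N := IsPGroup.of_card hm
          haveI := hpg.isNilpotent
          infer_instance
        obtain ⟨k, hk, hkU⟩ := Lead.conj_in_sup N A' U' hnormA hA'cop (Or.inr hsolv)
          (by rw [hsup]; exact le_sup_left) hcard
        refine ⟨k * g, fun x hx => ?_⟩
        have h1 : k * g * x * (k * g)⁻¹ ∈ MulAut.conj k • U' := by
          rw [Lead.mem_conj_smul', hU']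
          refine ⟨x, hx, ?_⟩
          show g * x * g⁻¹ = _
          group
        rw [hkU, hA'] at h1
        exact h1.1
    · -- N is a p'-group
      refine ⟨Hb.comap (QuotientGroup.mk' N), ?_, ⟨a, hLidx⟩, hUL⟩
      rw [← hLcard]
      exact Nat.Coprime.mul_left hHb1 hcop

/-- A finite p-soluble group has a p-complement, all its p-complements are conjugate, and every subgroup of order prime to p lies in one of them. Here a p-complement is a subgroup of order prime to p whose index is a power of p. -/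
theorem result {G : Type*} [Group G] [Finite G] {p : ℕ} [Fact p.Prime] (hG : Cfsg.IsPSolvable p G) : (∃ H : Subgroup G, (Nat.card H).Coprime p ∧ ∃ n : ℕ, H.index = p ^ n) ∧ (∀ H₁ H₂ : Subgroup G, (Nat.card H₁).Coprime p → (∃ n : ℕ, H₁.index = p ^ n) → (Nat.card H₂).Coprime p → (∃ n : ℕ, H₂.index = p ^ n) → ∃ g : G, H₂ = H₁.map (MulAut.conj g).toMonoidHom) ∧ (∀ U : Subgroup G, (Nat.card U).Coprime p → ∃ H : Subgroup G, (Nat.card H).Coprime p ∧ (∃ n : ℕ, H.index = p ^ n) ∧ ∃ g : G, U.map (MulAut.conj g).toMonoidHom ≤ H) := by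
  obtain ⟨n, H, h0, hl, hmono, hnorm, hstep⟩ := hG
  obtain ⟨K, hK1, ⟨a, hK2⟩, hK3⟩ := good_of_chain p n G H h0 hl hmono hnorm hstep
  have hp : p.Prime := Fact.out
  have hcard : ∀ H₁ : Subgroup G, (Nat.card H₁).Coprime p → (∃ n : ℕ, H₁.index = p ^ n) →
      Nat.card H₁ = Nat.card K := by
    rintro H₁ h1 ⟨b, h2⟩
    have e1 := Subgroup.card_mul_index H₁
    have e2 := Subgroup.card_mul_index K
    rw [h2] at e1; rw [hK2] at e2
    apply Nat.dvd_antisymm
    · have : Nat.card H₁ ∣ Nat.card K * p ^ a := by rw [e2, ← e1]; exact dvd_mul_right _ _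
      exact (Nat.Coprime.pow_right a h1).dvd_of_dvd_mul_right this
    · have : Nat.card K ∣ Nat.card H₁ * p ^ b := by rw [e1, ← e2]; exact dvd_mul_right _ _
      exact (Nat.Coprime.pow_right b hK1).dvd_of_dvd_mul_right this
  have hconj : ∀ H₁ : Subgroup G, (Nat.card H₁).Coprime p → (∃ n : ℕ, H₁.index = p ^ n) →
      ∃ g : G, H₁.map (MulAut.conj g).toMonoidHom = K := by
    intro H₁ h1 h2
    obtain ⟨g, hg⟩ := hK3 H₁ h1
    refine ⟨g, ?_⟩
    apply Subgroup.eq_of_le_of_card_ge
    · rintro _ ⟨x, hx, rfl⟩; exact hg x hx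
    · rw [Subgroup.card_map_of_injective (MulAut.conj g).injective, hcard H₁ h1 h2]
  refine ⟨⟨K, hK1, a, hK2⟩, ?_, ?_⟩
  · intro H₁ H₂ h1 h1' h2 h2'
    obtain ⟨g1, hg1⟩ := hconj H₁ h1 h1'
    obtain ⟨g2, hg2⟩ := hconj H₂ h2 h2'
    refine ⟨g2⁻¹ * g1, ?_⟩
    ext x
    constructor
    · intro hx
      have h3 : g2 * x * g2⁻¹ ∈ K := by rw [← hg2]; exact ⟨x, hx, rfl⟩
      rw [← hg1] at h3
      obtain ⟨y, hy, hyx⟩ := h3
      have hyx' : g1 * y * g1⁻¹ = g2 * x * g2⁻¹ := hyx
      refine ⟨y, hy, ?_⟩
      show g2⁻¹ * g1 * y * (g2⁻¹ * g1)⁻¹ = x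
      have e : g2⁻¹ * g1 * y * (g2⁻¹ * g1)⁻¹ = g2⁻¹ * (g1 * y * g1⁻¹) * g2 := by group
      rw [e, hyx']; group
    · rintro ⟨y, hy, rfl⟩
      have h3 : g1 * y * g1⁻¹ ∈ K := by rw [← hg1]; exact ⟨y, hy, rfl⟩
      rw [← hg2] at h3
      obtain ⟨z, hz, hzy⟩ := h3
      have hzy' : g2 * z * g2⁻¹ = g1 * y * g1⁻¹ := hzy
      have e : (MulAut.conj (g2⁻¹ * g1)).toMonoidHom y = z := by
        show g2⁻¹ * g1 * y * (g2⁻¹ * g1)⁻¹ = z
        have e : g2⁻¹ * g1 * y * (g2⁻¹ * g1)⁻¹ = g2⁻¹ * (g1 * y * g1⁻¹) * g2 := by group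
        rw [e, ← hzy']; group
      rw [e]; exact hz
  · intro U hU
    obtain ⟨g, hg⟩ := hK3 U hU
    exact ⟨K, hK1, ⟨a, hK2⟩, g, by rintro _ ⟨x, hx, rfl⟩; exact hg x hx⟩

end Cfsg.Agent.S3744
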