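import Cfsg.Statements.S3751
import Cfsg.Agent.Helper17.LocChar
import Cfsg.Agent.Helper22.PGroupNorm
import Mathlib

set_option autoImplicit false
open Cfsg

namespace Cfsg.Agent.S3751

open Subgroup Cfsg.Agent.Helper17

variable {G : Type*} [Group G]

/-- `M` is a `p`-local subgroup. -/
def IsLoc (p : ℕ) (M : Subgroup G) : Prop :=
  ∃ T : Subgroup G, IsPGroup p T ∧ T ≠ ⊥ ∧ M = normalizer (T : Set G)

/-- `M` is a maximal `p`-local subgroup. -/
def IsMaxLoc (p : ℕ) (M : Subgroup G) : Prop :=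
  IsLoc p M ∧ ∀ L : Subgroup G, IsLoc p L → M ≤ L → L = M

lemma isLoc_cj {p : ℕ} {M : Subgroup G} (h : IsLoc p M) (g : G) : IsLoc p (cj g M) := by
  obtain ⟨T, hT, hne, rfl⟩ := h
  exact ⟨cj g T, isPGroup_cj hT, cj_ne_bot hne, (normalizer_cj g T).symm⟩

lemma isMaxLoc_cj {p : ℕ} {M : Subgroup G} (h : IsMaxLoc p M) (g : G) : IsMaxLoc p (cj g M) := by
  refine ⟨isLoc_cj h.1 g, ?_⟩
  intro L hL hML
  have h1 : M ≤ cj g⁻¹ L := cj_le_iff.mp hML
  have h2 := h.2 (cj g⁻¹ L) (isLoc_cj hL g⁻¹) h1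
  rw [← h2, cj_cj_inv]

/-- configurations: two distinct maximal `p`-locals and a non-trivial `p`-subgroup of their
intersection. -/
def Config (p : ℕ) (M₁ M₂ T : Subgroup G) : Prop :=
  IsMaxLoc p M₁ ∧ IsMaxLoc p M₂ ∧ M₁ ≠ M₂ ∧ T ≤ M₁ ⊓ M₂ ∧ IsPGroup p T ∧ T ≠ ⊥

lemma Config.symm {p : ℕ} {M₁ M₂ T : Subgroup G} (h : Config p M₁ M₂ T) : Config p M₂ M₁ T :=
  ⟨h.2.1, h.1, h.2.2.1.symm, by rw [inf_comm]; exact h.2.2.2.1, h.2.2.2.2⟩

section
variable [Finite G] {p : ℕ} [Fact p.Prime]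

lemma exists_isMaxLoc_ge {M : Subgroup G} (h : IsLoc p M) : ∃ L, IsMaxLoc p L ∧ M ≤ L := by
  obtain ⟨L, hML, hL⟩ := (Set.toFinite {L : Subgroup G | IsLoc p L}).exists_le_maximal h
  exact ⟨L, ⟨hL.prop, fun L' hL' hle => le_antisymm (hL.le_of_ge hL' hle) hle⟩, hML⟩

omit [Finite G] [Fact p.Prime] in
lemma pCoreOf_ne_bot {M : Subgroup G} (h : IsLoc p M) : Cfsg.pCoreOf p M ≠ ⊥ := by
  obtain ⟨T, hT, hne, rfl⟩ := h
  intro h0
  apply hne
  have : T ≤ Cfsg.pCoreOf p (normalizer (T : Set G)) := le_pCoreOf' le_normalizer le_rfl hT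
  rw [h0] at this
  exact le_bot_iff.mp this

omit [Finite G] [Fact p.Prime] in
lemma normalizer_eq_of_isMaxLoc {M R : Subgroup G} (h : IsMaxLoc p M) (hR : IsPGroup p R)
    (hne : R ≠ ⊥) (hM : M ≤ normalizer (R : Set G)) : normalizer (R : Set G) = M :=
  h.2 _ ⟨R, hR, hne, rfl⟩ hM

omit [Finite G] [Fact p.Prime] in
lemma normalizer_le_of_isMaxLoc {M : Subgroup G} (h : IsMaxLoc p M) :
    normalizer (M : Set G) ≤ M := by
  have h1 := normalizer_le_normalizer_pCoreOf p M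
  have h2 := normalizer_eq_of_isMaxLoc h (pCoreOf_isPGroup' p M) (pCoreOf_ne_bot h.1)
    (le_normalizer_pCoreOf p M)
  rw [h2] at h1
  exact h1

omit [Finite G] [Fact p.Prime] in
/-- ambient form of characteristic `p`. -/
lemma mem_pCoreOf_of_centralizes {M : Subgroup G}
    (hc : Subgroup.centralizer (Cfsg.pCore p ↥M : Set ↥M) ≤ Cfsg.pCore p ↥M) {x : G} (hx : x ∈ M)
    (h : ∀ n ∈ Cfsg.pCoreOf p M, x * n = n * x) : x ∈ Cfsg.pCoreOf p M := by
  have hmem : (⟨x, hx⟩ : ↥M) ∈ Subgroup.centralizer (Cfsg.pCore p ↥M : Set ↥M) := by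
    rw [Subgroup.mem_centralizer_iff]
    intro n hn
    apply Subtype.ext
    have := h n ⟨n, hn, rfl⟩
    exact this.symm
  exact ⟨⟨x, hx⟩, hc hmem, rfl⟩

omit [Finite G] [Fact p.Prime] in
lemma charp_of_isLoc (hloc : Cfsg.IsOfLocalCharacteristic p G) {M : Subgroup G} (h : IsLoc p M) :
    Subgroup.centralizer (Cfsg.pCore p ↥M : Set ↥M) ≤ Cfsg.pCore p ↥M := by
  obtain ⟨T, hT, hne, rfl⟩ := h
  exact hloc.2 T hT hne

omit [Finite G] [Fact p.Prime] in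
lemma normalizer_le_of_normal {M A : Subgroup G} (h : IsMaxLoc p M)
    (hc : Subgroup.centralizer (Cfsg.pCore p ↥M : Set ↥M) ≤ Cfsg.pCore p ↥M)
    (hA : A ≠ ⊥) (hAM : A ≤ M) (hMA : M ≤ normalizer (A : Set G)) :
    normalizer (A : Set G) ≤ M := by
  by_cases hR : Cfsg.pCoreOf p A = ⊥
  · exfalso
    apply hA
    have h1 : A ⊓ Cfsg.pCoreOf p M ≤ Cfsg.pCoreOf p A := by
      apply le_pCoreOf' inf_le_left
      · intro a ha
        have ha1 := mem_normalizer_iff.mp (le_normalizer ha : a ∈ normalizer (A : Set G))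
        have ha2 := mem_normalizer_iff.mp (le_normalizer_pCoreOf p M (hAM ha))
        rw [mem_normalizer_iff]
        intro y
        exact ⟨fun hy => ⟨(ha1 y).mp hy.1, (ha2 y).mp hy.2⟩,
          fun hy => ⟨(ha1 y).mpr hy.1, (ha2 y).mpr hy.2⟩⟩
      · exact (pCoreOf_isPGroup' p M).to_le inf_le_right
    rw [hR, le_bot_iff] at h1
    rw [eq_bot_iff]
    intro a ha
    have hcomm : ∀ n ∈ Cfsg.pCoreOf p M, a * n = n * a := by
      intro n hn
      have hn1 : n ∈ normalizer (A : Set G) := hMA (pCoreOf_le' p M hn)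
      have ha2 : a ∈ normalizer ((Cfsg.pCoreOf p M : Subgroup G) : Set G) :=
        le_normalizer_pCoreOf p M (hAM ha)
      have hmem : a * n * a⁻¹ * n⁻¹ ∈ A ⊓ Cfsg.pCoreOf p M := by
        constructor
        · have h3 : n * a⁻¹ * n⁻¹ ∈ A := (mem_normalizer_iff.mp hn1 a⁻¹).mp (inv_mem ha)
          have h4 := A.mul_mem ha h3
          have e : a * (n * a⁻¹ * n⁻¹) = a * n * a⁻¹ * n⁻¹ := by group
          rw [e] at h4
          exact h4
        · have h3 : a * n * a⁻¹ ∈ Cfsg.pCoreOf p M := (mem_normalizer_iff.mp ha2 n).mp hn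
          exact Subgroup.mul_mem _ h3 (inv_mem hn)
      rw [h1] at hmem
      have h5 := (Subgroup.mem_bot).mp hmem
      calc a * n = (a * n * a⁻¹ * n⁻¹) * (n * a) := by group
        _ = n * a := by rw [h5, one_mul]
    have h6 := mem_pCoreOf_of_centralizes hc (hAM ha) hcomm
    have h7 : a ∈ A ⊓ Cfsg.pCoreOf p M := ⟨ha, h6⟩
    rw [h1] at h7
    exact h7
  · have h1 : normalizer (A : Set G) ≤ normalizer ((Cfsg.pCoreOf p A : Subgroup G) : Set G) :=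
      normalizer_le_normalizer_pCoreOf p A
    have h2 := normalizer_eq_of_isMaxLoc h (pCoreOf_isPGroup' p A) hR (hMA.trans h1)
    rw [h2] at h1
    exact h1

lemma key1 {M₁ M₂ T : Subgroup G} (hc : Config p M₁ M₂ T)
    (hmax : ∀ M₁' M₂' T' : Subgroup G, Config p M₁' M₂' T' → Nat.card T' ≤ Nat.card T)
    (hQ : ¬ Cfsg.pCoreOf p M₁ ≤ M₂) :
    normalizer (T : Set G) ≤ M₁ ∧ ∃ x ∈ normalizer (T : Set G), x ∉ M₂ := by
  obtain ⟨hM1, hM2, hne, hT, hTp, hT0⟩ := hc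
  have hT1 : T ≤ M₁ := hT.trans inf_le_left
  have hT2 : T ≤ M₂ := hT.trans inf_le_right
  have hPp : IsPGroup p (T ⊔ Cfsg.pCoreOf p M₁ : Subgroup G) :=
    IsPGroup.to_sup_of_normal_right' hTp (pCoreOf_isPGroup' p M₁)
      (hT1.trans (le_normalizer_pCoreOf p M₁))
  have hlt : T < T ⊔ Cfsg.pCoreOf p M₁ := by
    refine lt_of_le_of_ne le_sup_left ?_
    intro h
    apply hQ
    have h' : Cfsg.pCoreOf p M₁ ≤ T := by
      have : Cfsg.pCoreOf p M₁ ≤ T ⊔ Cfsg.pCoreOf p M₁ := le_sup_right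
      rwa [← h] at this
    exact h'.trans hT2
  obtain ⟨x, hxP, hxN, hxT, -, -⟩ := Helper22.exists_central_elt_mod p T _ hPp hlt
  have hxM1 : x ∈ M₁ := (sup_le hT1 (pCoreOf_le' p M₁)) hxP
  have hT'P : T ⊔ zpowers x ≤ T ⊔ Cfsg.pCoreOf p M₁ :=
    sup_le le_sup_left (by rw [zpowers_le]; exact hxP)
  have hT'p : IsPGroup p (T ⊔ zpowers x : Subgroup G) := hPp.to_le hT'P
  have hT'ne : (T ⊔ zpowers x : Subgroup G) ≠ ⊥ := by
    intro h
    apply hT0
    have : T ≤ T ⊔ zpowers x := le_sup_left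
    rw [h] at this
    exact le_bot_iff.mp this
  have hcard : Nat.card T < Nat.card (T ⊔ zpowers x : Subgroup G) := by
    by_contra hle
    push Not at hle
    have h := Subgroup.eq_of_le_of_card_ge (le_sup_left : T ≤ T ⊔ zpowers x) hle
    apply hxT
    rw [h]
    exact (le_sup_right : zpowers x ≤ T ⊔ zpowers x) (mem_zpowers x)
  have hxM2 : x ∉ M₂ := by
    intro hx2
    have hc' : Config p M₁ M₂ (T ⊔ zpowers x) :=
      ⟨hM1, hM2, hne, sup_le hT (by rw [zpowers_le]; exact ⟨hxM1, hx2⟩), hT'p, hT'ne⟩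
    exact absurd (hmax _ _ _ hc') (not_le.mpr hcard)
  obtain ⟨L, hL, hNL⟩ := exists_isMaxLoc_ge (p := p) (M := normalizer (T : Set G))
    ⟨T, hTp, hT0, rfl⟩
  have hT'N : T ⊔ zpowers x ≤ normalizer (T : Set G) :=
    sup_le le_normalizer (by rw [zpowers_le]; exact hxN)
  have hLM : L = M₁ := by
    by_contra hLM
    have hc' : Config p M₁ L (T ⊔ zpowers x) :=
      ⟨hM1, hL, fun h => hLM h.symm,
        le_inf (sup_le hT1 (by rw [zpowers_le]; exact hxM1)) (hT'N.trans hNL), hT'p, hT'ne⟩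
    exact absurd (hmax _ _ _ hc') (not_le.mpr hcard)
  rw [hLM] at hNL
  exact ⟨hNL, x, hxN, hxM2⟩

lemma key2 {M₁ M₂ T : Subgroup G} (hc : Config p M₁ M₂ T)
    (hmax : ∀ M₁' M₂' T' : Subgroup G, Config p M₁' M₂' T' → Nat.card T' ≤ Nat.card T)
    (hQ : ¬ Cfsg.pCoreOf p M₁ ≤ M₂) :
    ∃ M M' : Subgroup G, IsMaxLoc p M ∧ IsMaxLoc p M' ∧ M ≠ M' ∧ Cfsg.pCoreOf p M ≤ M' ∧
      Cfsg.pCoreOf p M' ≤ M := by
  obtain ⟨hN1, x, hxN, hxM2⟩ := key1 hc hmax hQ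
  obtain ⟨hM1, hM2, hne, hT, hTp, hT0⟩ := hc
  have hne' : M₂ ≠ cj x M₂ := by
    intro h
    exact hxM2 (normalizer_le_of_isMaxLoc hM2 (mem_normalizer_of_cj_eq_self h.symm))
  have hTx : T ≤ cj x M₂ := by
    have : cj x T ≤ cj x M₂ := cj_mono (hT.trans inf_le_right)
    rwa [cj_eq_self_of_mem_normalizer hxN] at this
  have hc2 : Config p M₂ (cj x M₂) T :=
    ⟨hM2, isMaxLoc_cj hM2 x, hne', le_inf (hT.trans inf_le_right) hTx, hTp, hT0⟩
  refine ⟨M₂, cj x M₂, hM2, isMaxLoc_cj hM2 x, hne', ?_, ?_⟩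
  · by_contra hQ2
    obtain ⟨hN2, -⟩ := key1 hc2 hmax hQ2
    exact hxM2 (hN2 hxN)
  · by_contra hQ2
    obtain ⟨hN2, -⟩ := key1 hc2.symm hmax hQ2
    have h := hN2 hxN
    rw [mem_cj] at h
    apply hxM2
    have e : x⁻¹ * x * x = x := by group
    rwa [e] at h

omit [Finite G] [Fact p.Prime] in
lemma key3 (hloc : Cfsg.IsOfLocalCharacteristic p G) {M₁ M₂ : Subgroup G} (h1 : IsMaxLoc p M₁)
    (h2 : IsMaxLoc p M₂) (hne : M₁ ≠ M₂)
    (hQ1 : Cfsg.pCoreOf p M₁ ≤ M₂) (hQ2 : Cfsg.pCoreOf p M₂ ≤ M₁) :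
    ∃ M₁ M₂ : Subgroup G, M₁ ≠ M₂ ∧ (∀ A : Subgroup G, A ≠ ⊥ → A ≤ M₁ ⊓ M₂ → (M₁ ≤ Subgroup.normalizer (A : Set G) → M₂ ⊓ Subgroup.normalizer (A : Set G) = M₁ ⊓ M₂) ∧ (M₂ ≤ Subgroup.normalizer (A : Set G) → M₁ ⊓ Subgroup.normalizer (A : Set G) = M₁ ⊓ M₂)) ∧ Subgroup.centralizer (Cfsg.pCore p ↥M₁ : Set ↥M₁) ≤ Cfsg.pCore p ↥M₁ ∧ Subgroup.centralizer (Cfsg.pCore p ↥M₂ : Set ↥M₂) ≤ Cfsg.pCore p ↥M₂ ∧ (Cfsg.pCore p ↥M₁).map M₁.subtype ⊔ (Cfsg.pCore p ↥M₂).map M₂.subtype ≤ M₁ ⊓ M₂ := by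
  have hc1 := charp_of_isLoc hloc h1.1
  have hc2 := charp_of_isLoc hloc h2.1
  refine ⟨M₁, M₂, hne, ?_, hc1, hc2, ?_⟩
  · intro A hA hAM
    constructor
    · intro hMA
      have := normalizer_le_of_normal h1 hc1 hA (hAM.trans inf_le_left) hMA
      apply le_antisymm
      · exact le_inf (inf_le_right.trans this) inf_le_left
      · exact le_inf inf_le_right (inf_le_left.trans hMA)
    · intro hMA
      have := normalizer_le_of_normal h2 hc2 hA (hAM.trans inf_le_right) hMA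
      apply le_antisymm
      · exact le_inf inf_le_left (inf_le_right.trans this)
      · exact le_inf inf_le_left (inf_le_right.trans hMA)
  · exact sup_le (le_inf (pCoreOf_le' p M₁) hQ1) (le_inf hQ2 (pCoreOf_le' p M₂))

end

/-- Two distinct subgroups M₁, M₂ of G form a primitive pair when, for {i, j} = {1, 2}, every non-trivial normal subgroup A of M_i contained in M₁ ∩ M₂ satisfies N_{M_j}(A) = M₁ ∩ M₂; the pair has characteristic p when moreover C_{M_i}(O_p(M_i)) ≤ O_p(M_i) for both i and O_p(M₁)O_p(M₂) ≤ M₁ ∩ M₂. Let G be a finite group, p a prime dividing its order, with O_p(G) = 1 and every p-local subgroup of characteristic p. Then either G has a primitive pair of characteristic p, or every maximal p-local subgroup M of G is strongly p-embedded in G: M is a proper subgroup, p divides its order, and for every g ∉ M the order of M ∩ gMg⁻¹ is prime to p. -/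
theorem result {G : Type*} [Group G] [Finite G] {p : ℕ} [Fact p.Prime] (hloc : Cfsg.IsOfLocalCharacteristic p G) (hOp : Cfsg.pCore p G = ⊥) : (∃ M₁ M₂ : Subgroup G, M₁ ≠ M₂ ∧ (∀ A : Subgroup G, A ≠ ⊥ → A ≤ M₁ ⊓ M₂ → (M₁ ≤ Subgroup.normalizer (A : Set G) → M₂ ⊓ Subgroup.normalizer (A : Set G) = M₁ ⊓ M₂) ∧ (M₂ ≤ Subgroup.normalizer (A : Set G) → M₁ ⊓ Subgroup.normalizer (A : Set G) = M₁ ⊓ M₂)) ∧ Subgroup.centralizer (Cfsg.pCore p ↥M₁ : Set ↥M₁) ≤ Cfsg.pCore p ↥M₁ ∧ Subgroup.centralizer (Cfsg.pCore p ↥M₂ : Set ↥M₂) ≤ Cfsg.pCore p ↥M₂ ∧ (Cfsg.pCore p ↥M₁).map M₁.subtype ⊔ (Cfsg.pCore p ↥M₂).map M₂.subtype ≤ M₁ ⊓ M₂) ∨ (∀ M : Subgroup G, (∃ T : Subgroup G, IsPGroup p T ∧ T ≠ ⊥ ∧ M = Subgroup.normalizer (T : Set G)) → (∀ L : Subgroup G, (∃ T : Subgroup G, IsPGroup p T ∧ T ≠ ⊥ ∧ L = Subgroup.normalizer (T : Set G)) → M ≤ L → L = M) → M ≠ ⊤ ∧ p ∣ Nat.card M ∧ ∀ g : G, g ∉ M → ¬ p ∣ Nat.card ↥(M ⊓ M.map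 (MulAut.conj g).toMonoidHom)) := by
  classical
  have hp : p.Prime := Fact.out
  by_cases hex : ∃ M₁ M₂ T : Subgroup G, Config p M₁ M₂ T
  · left
    obtain ⟨⟨M₁, M₂, T⟩, hc, hmax⟩ := Set.exists_max_image
      {x : Subgroup G × Subgroup G × Subgroup G | Config p x.1 x.2.1 x.2.2}
      (fun x => Nat.card x.2.2) (Set.toFinite _)
      (by obtain ⟨M₁, M₂, T, h⟩ := hex; exact ⟨⟨M₁, M₂, T⟩, h⟩)
    have hc' : Config p M₁ M₂ T := hc
    have hmax' : ∀ M₁' M₂' T' : Subgroup G, Config p M₁' M₂' T' → Nat.card T' ≤ Nat.card T :=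
      fun a b c h => hmax ⟨a, b, c⟩ h
    by_cases hQ1 : Cfsg.pCoreOf p M₁ ≤ M₂
    · by_cases hQ2 : Cfsg.pCoreOf p M₂ ≤ M₁
      · exact key3 hloc hc'.1 hc'.2.1 hc'.2.2.1 hQ1 hQ2
      · obtain ⟨M, M', h1, h2, hne, hq1, hq2⟩ := key2 hc'.symm hmax' hQ2
        exact key3 hloc h1 h2 hne hq1 hq2
    · obtain ⟨M, M', h1, h2, hne, hq1, hq2⟩ := key2 hc' hmax' hQ1
      exact key3 hloc h1 h2 hne hq1 hq2
  · right
    intro M hM hMmax
    have hML : IsMaxLoc p M := ⟨hM, hMmax⟩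
    obtain ⟨T, hT, hne, hMT⟩ := hM
    refine ⟨?_, ?_, ?_⟩
    · intro htop
      apply hne
      have hTn : T.Normal := by
        rw [← Subgroup.normalizer_eq_top_iff, ← hMT]
        exact htop
      have h1 := le_pCore hTn hT
      rw [hOp] at h1
      exact le_bot_iff.mp h1
    · have h1 : Nat.card T ∣ Nat.card M := Subgroup.card_dvd_of_le (hMT ▸ le_normalizer)
      have h2 : p ∣ Nat.card T := by
        obtain ⟨n, hn⟩ := IsPGroup.iff_card.mp hT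
        rw [hn]
        have hn0 : n ≠ 0 := by
          rintro rfl
          rw [pow_zero] at hn
          exact hne (Subgroup.card_eq_one.mp hn)
        exact dvd_pow_self p hn0
      exact h2.trans h1
    · intro g hg hdvd
      apply hex
      obtain ⟨y, hy⟩ := exists_prime_orderOf_dvd_card' p hdvd
      refine ⟨M, cj g M, zpowers (y : G), hML, isMaxLoc_cj hML g, ?_, ?_, ?_, ?_⟩
      · intro h
        exact hg (normalizer_le_of_isMaxLoc hML (mem_normalizer_of_cj_eq_self h.symm))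
      · rw [zpowers_le]
        exact y.2
      · apply IsPGroup.of_card (n := 1)
        rw [Nat.card_zpowers, Subgroup.orderOf_coe, hy, pow_one]
      · intro h
        have h1 : (y : G) = 1 := by
          rw [← Subgroup.zpowers_eq_bot]
          exact h
        have h2 : orderOf (y : G) = 1 := by rw [h1, orderOf_one]
        rw [Subgroup.orderOf_coe, hy] at h2
        exact hp.one_lt.ne' h2

end Cfsg.Agent.S3751
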