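import Cfsg.Statements.S3770
import Cfsg.Agent.Helper24.FrobActD
import Cfsg.Agent.S0042
import Cfsg.Agent.Helper2.FrobGroup

set_option autoImplicit false
open Cfsg

namespace Cfsg.Agent.S3770

open Cfsg.Agent.Helper24

/-- Let G and V be subgroups of a finite group with G a Frobenius group with complement R of prime order and kernel K, G normalizing V, and V an elementary abelian ℓ-group for a prime ℓ not dividing the order of G. If C_V(R) has order ℓ, then the derived subgroup of K centralizes V. -/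
theorem result {X : Type*} [Group X] [Finite X] (G : Subgroup X) (V : Subgroup X) {ℓ : ℕ} (hℓ : ℓ.Prime) (hV : Cfsg.IsElementaryAbelian ℓ V) (hℓG : ¬ ℓ ∣ Nat.card G) (hGV : G ≤ Subgroup.normalizer (V : Set X)) (R : Subgroup ↥G) (hR : Cfsg.IsFrobeniusComplement R) (hRp : (Nat.card R).Prime) (hCV : Nat.card ↥(V ⊓ Subgroup.centralizer ((R.map G.subtype : Subgroup X) : Set X)) = ℓ) : ⁅Subgroup.closure (Subtype.val '' Cfsg.frobeniusKernel R), Subgroup.closure (Subtype.val '' Cfsg.frobeniusKernel R)⁆ ≤ Subgroup.centralizer (V : Set X) := by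
  classical
  obtain ⟨N, hNset, hNn, hNnil⟩ := Cfsg.Agent.S0042.result R hR
  haveI := hNn
  haveI : Fact ℓ.Prime := ⟨hℓ⟩
  have hVc : ∀ a ∈ V, ∀ b ∈ V, a * b = b * a := by
    intro a ha b hb
    have := hV.1.is_comm.comm (⟨a, ha⟩ : ↥V) ⟨b, hb⟩
    exact congrArg Subtype.val this
  have hGV' : ∀ g ∈ G, ∀ v ∈ V, g * v * g⁻¹ ∈ V := Subgroup.le_normalizer_iff.mp hGV
  have hfpf : ∀ x ∈ R, x ≠ 1 → ∀ k ∈ N, k * x = x * k → k = 1 := by
    intro x hx hx1 k hk hcomm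
    have hkR : k ∈ R := Cfsg.Agent.Helper2.frobC_centralizer hR hx hx1 hcomm
    have hk' : k ∈ (N : Set ↥G) := hk
    rw [hNset] at hk'
    rcases hk' with h | h
    · exact h
    · exact absurd (by rw [Cfsg.Agent.Helper2.frobC_mem_conj_smul]; simpa using hkR) (h 1)
  haveI : Nontrivial ↥(V ⊓ Subgroup.centralizer ((R.map G.subtype : Subgroup X) : Set X)) :=
    (Finite.one_lt_card_iff_nontrivial).mp (by rw [hCV]; exact hℓ.one_lt)
  obtain ⟨w, hw⟩ := exists_ne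
    (1 : ↥(V ⊓ Subgroup.centralizer ((R.map G.subtype : Subgroup X) : Set X)))
  have hv₀ : ∀ x ∈ R, (x:X) * (w:X) * (x:X)⁻¹ = (w:X) := by
    intro x hx
    have := Subgroup.mem_centralizer_iff.mp w.2.2 (x:X) ⟨x, hx, rfl⟩
    rw [this, mul_inv_cancel_right]
  have hfix : ∀ a ∈ V, (∀ x ∈ R, (x:X) * a * (x:X)⁻¹ = a) → ∃ n : ℕ, a = (w:X) ^ n := by
    intro a ha hax
    have haW : a ∈ V ⊓ Subgroup.centralizer ((R.map G.subtype : Subgroup X) : Set X) := by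
      refine Subgroup.mem_inf.mpr ⟨ha, ?_⟩
      rw [Subgroup.mem_centralizer_iff]
      rintro _ ⟨x, hx, rfl⟩
      have := hax x hx
      calc (G.subtype x) * a = ((x:X) * a * (x:X)⁻¹) * (x:X) := by
            simp
        _ = a * G.subtype x := by rw [this]; rfl
    have hpow := mem_powers_of_prime_card (p := ℓ) hCV (g := w) (g' := ⟨a, haW⟩) hw
    obtain ⟨n, hn⟩ := hpow
    refine ⟨n, ?_⟩
    exact (congrArg Subtype.val hn).symm
  have key := h24fa_conj G V hℓ hVc hV.2 hℓG hGV' N R hNnil hfpf (w:X) w.2.1 hv₀ hfix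
  have hcl : Subgroup.closure (Subtype.val '' Cfsg.frobeniusKernel R) = N.map G.subtype := by
    rw [← hNset]
    have : (Subtype.val '' (N : Set ↥G) : Set X) = ((N.map G.subtype : Subgroup X) : Set X) := by
      rw [Subgroup.coe_map]; rfl
    rw [this, Subgroup.closure_eq]
  rw [hcl, Subgroup.commutator_le]
  rintro _ ⟨k, hk, rfl⟩ _ ⟨k', hk', rfl⟩
  rw [Subgroup.mem_centralizer_iff]
  intro v hv
  have hv' : ((k':X) * k)⁻¹ * v * ((k':X) * k)⁻¹⁻¹ ∈ V :=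
    hGV' _ (G.inv_mem (G.mul_mem k'.2 k.2)) v hv
  have hC := key k hk k' hk' _ hv'
  have e1 : (k':X) * ((k:X) * (((k':X) * k)⁻¹ * v * ((k':X) * k)⁻¹⁻¹) * (k:X)⁻¹) * (k':X)⁻¹
      = v := by group
  rw [e1] at hC
  have e2 : (k:X) * ((k':X) * (((k':X) * k)⁻¹ * v * ((k':X) * k)⁻¹⁻¹) * (k':X)⁻¹) * (k:X)⁻¹
      = ((k:X) * k' * (k:X)⁻¹ * (k':X)⁻¹) * v * ((k:X) * k' * (k:X)⁻¹ * (k':X)⁻¹)⁻¹ := by group
  rw [e2] at hC
  rw [commutatorElement_def]
  show v * ((k:X) * k' * (k:X)⁻¹ * (k':X)⁻¹) = ((k:X) * k' * (k:X)⁻¹ * (k':X)⁻¹) * v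
  calc v * ((k:X) * k' * (k:X)⁻¹ * (k':X)⁻¹)
      = (((k:X) * k' * (k:X)⁻¹ * (k':X)⁻¹) * v * ((k:X) * k' * (k:X)⁻¹ * (k':X)⁻¹)⁻¹)
          * ((k:X) * k' * (k:X)⁻¹ * (k':X)⁻¹) := by rw [hC]
    _ = ((k:X) * k' * (k:X)⁻¹ * (k':X)⁻¹) * v := by group

end Cfsg.Agent.S3770
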