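import Cfsg.Statements.S3803
import Mathlib
import Cfsg.Agent.Helper21.OmegaCoprime
import Cfsg.Agent.Lead.SylowSub
import Cfsg.Agent.Helper1.Fusion

set_option autoImplicit false
open Cfsg

namespace Cfsg.Agent.S3803

universe u

theorem mem_normalizer_of_conj_mem' {G : Type*} [Group G] [Finite G] (H : Subgroup G) (n : G)
    (h : ∀ y ∈ H, n * y * n⁻¹ ∈ H) : n ∈ Subgroup.normalizer (H : Set G) := by
  have h1 : n⁻¹ ∈ Subgroup.normalizer (H : Set G) := by
    apply Cfsg.Agent.Helper1.mem_normalizer_of_conj_mem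
    intro y hy
    simpa using h y hy
  simpa using inv_mem h1

theorem mem_normalizer_inf {G : Type*} [Group G] {a : G} {A B : Subgroup G}
    (hA : a ∈ Subgroup.normalizer (A : Set G)) (hB : a ∈ Subgroup.normalizer (B : Set G)) :
    a ∈ Subgroup.normalizer ((A ⊓ B : Subgroup G) : Set G) := by
  rw [Subgroup.mem_normalizer_iff] at *
  intro h
  rw [Subgroup.mem_inf, Subgroup.mem_inf, ← hA h, ← hB h]

theorem mem_normalizer_sup {G : Type*} [Group G] [Finite G] {a : G} {A B : Subgroup G}
    (hA : a ∈ Subgroup.normalizer (A : Set G)) (hB : a ∈ Subgroup.normalizer (B : Set G)) :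
    a ∈ Subgroup.normalizer ((A ⊔ B : Subgroup G) : Set G) := by
  apply mem_normalizer_of_conj_mem'
  intro y hy
  have hle : A ⊔ B ≤ (A ⊔ B).comap (MulAut.conj a).toMonoidHom := by
    apply sup_le
    · intro z hz
      rw [Subgroup.mem_comap]
      simp only [MulEquiv.coe_toMonoidHom, MulAut.conj_apply]
      exact (le_sup_left : A ≤ A ⊔ B) ((Subgroup.mem_normalizer_iff.mp hA z).mp hz)
    · intro z hz
      rw [Subgroup.mem_comap]
      simp only [MulEquiv.coe_toMonoidHom, MulAut.conj_apply]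
      exact (le_sup_right : B ≤ A ⊔ B) ((Subgroup.mem_normalizer_iff.mp hB z).mp hz)
  have h1 := hle hy
  rw [Subgroup.mem_comap] at h1
  simpa only [MulEquiv.coe_toMonoidHom, MulAut.conj_apply] using h1

theorem exists_subgroup_between {G : Type*} [Group G] [Finite G] {p : ℕ} [Fact p.Prime]
    (S H : Subgroup G) (hHS : H ≤ S) {i m : ℕ} (hH : Nat.card H = p ^ i) (him : i ≤ m)
    (hdvd : p ^ m ∣ Nat.card S) : ∃ K : Subgroup G, H ≤ K ∧ K ≤ S ∧ Nat.card K = p ^ m := by
  have h1 : Nat.card (H.subgroupOf S) = p ^ i := by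
    rw [← hH]; exact Nat.card_congr (Subgroup.subgroupOfEquivOfLe hHS).toEquiv
  obtain ⟨K', hK', hle⟩ := Sylow.exists_subgroup_card_pow_prime_le p hdvd (H.subgroupOf S) h1 him
  refine ⟨K'.map S.subtype, ?_, ?_, ?_⟩
  · intro x hx
    exact ⟨⟨x, hHS hx⟩, hle (Subgroup.mem_subgroupOf.mpr hx), rfl⟩
  · exact Subgroup.map_subtype_le K'
  · rw [← hK']
    exact (Nat.card_congr (K'.equivMapOfInjective _ S.subtype_injective).toEquiv).symm

/-- An element of odd order normalizing a cyclic `2`-group centralizes it. -/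
theorem cyc_central {X : Type*} [Group X] [Finite X] (a : X) (hao : (orderOf a).Coprime 2) :
    ∀ (n : ℕ) (w : X), (∃ j : ℕ, orderOf w = 2 ^ j) →
      a ∈ Subgroup.normalizer ((Subgroup.zpowers w : Subgroup X) : Set X) → orderOf w = n →
      a * w = w * a := by
  intro n
  induction n using Nat.strong_induction_on with
  | _ n ih =>
  intro w hw2 haN hn
  classical
  haveI : Fact (Nat.Prime 2) := ⟨Nat.prime_two⟩
  by_cases hw1 : w = 1
  · rw [hw1]; simp
  obtain ⟨j, hj⟩ := hw2
  have hj0 : j ≠ 0 := by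
    rintro rfl
    rw [pow_zero] at hj
    exact hw1 (orderOf_eq_one_iff.mp hj)
  have hawa : a * w * a⁻¹ ∈ Subgroup.zpowers w :=
    (Subgroup.mem_normalizer_iff.mp haN w).mp (Subgroup.mem_zpowers w)
  obtain ⟨i, hi⟩ := Subgroup.mem_zpowers_iff.mp hawa
  have h2dvd : 2 ∣ orderOf w := by rw [hj]; exact dvd_pow_self 2 hj0
  have ho2 : orderOf (w ^ 2) * 2 = orderOf w := by
    rw [orderOf_pow_of_dvd (by norm_num) h2dvd]
    exact Nat.div_mul_cancel h2dvd
  have ho2' : orderOf (w ^ 2) = 2 ^ (j - 1) := by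
    obtain ⟨j', rfl⟩ := Nat.exists_eq_succ_of_ne_zero hj0
    rw [hj, pow_succ 2 j'] at ho2
    rw [Nat.succ_sub_one]
    exact Nat.eq_of_mul_eq_mul_right (by norm_num : 0 < 2) ho2
  have hlt : orderOf (w ^ 2) < n := by
    rw [← hn, ← ho2]
    have := orderOf_pos (w ^ 2)
    omega
  have e1 : (w ^ i) ^ (2 : ℕ) = (w ^ (2 : ℕ)) ^ i := by
    rw [← zpow_natCast (w ^ i) 2, ← zpow_natCast w 2, ← zpow_mul, ← zpow_mul, mul_comm]
  have haN2 : a ∈ Subgroup.normalizer ((Subgroup.zpowers (w ^ 2) : Subgroup X) : Set X) := by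
    apply mem_normalizer_of_conj_mem'
    intro y hy
    obtain ⟨m, rfl⟩ := Subgroup.mem_zpowers_iff.mp hy
    have e2 : a * (w ^ 2) ^ m * a⁻¹ = ((w ^ (2 : ℕ)) ^ i) ^ m := by
      rw [← e1, hi, conj_pow, conj_zpow]
    rw [e2]
    exact Subgroup.zpow_mem _ (Subgroup.zpow_mem _ (Subgroup.mem_zpowers _) _) _
  have hcomm2 := ih _ hlt (w ^ 2) ⟨j - 1, ho2'⟩ haN2 rfl
  have hconj2 : a * w ^ 2 * a⁻¹ = w ^ 2 := by rw [hcomm2]; group
  obtain ⟨c, hcdef⟩ : ∃ c : X, c = w⁻¹ * (a * w * a⁻¹) := ⟨_, rfl⟩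
  have hcz : c ∈ Subgroup.zpowers w := by
    rw [hcdef]; exact mul_mem (inv_mem (Subgroup.mem_zpowers w)) hawa
  have hc2 : c ^ 2 = 1 := by
    have h1 : (w ^ i) ^ (2 : ℕ) = w ^ 2 := by rw [hi, conj_pow, hconj2]
    have h2 : c = w ^ (i - 1) := by rw [hcdef, ← hi]; group
    have h3 : (w ^ (i - 1)) ^ (2 : ℕ) = (w ^ i) ^ (2 : ℕ) * (w ^ 2)⁻¹ := by
      rw [← zpow_natCast (w ^ (i - 1)) 2, ← zpow_natCast (w ^ i) 2, ← zpow_mul, ← zpow_mul,
        ← zpow_natCast w 2, ← zpow_neg, ← zpow_add]
      congr 1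
      push_cast
      ring
    rw [h2, h3, h1, mul_inv_cancel]
  obtain ⟨c', hc'def⟩ : ∃ c' : X, c' = a * c * a⁻¹ := ⟨_, rfl⟩
  have hc'z : c' ∈ Subgroup.zpowers w := by
    rw [hc'def]; exact (Subgroup.mem_normalizer_iff.mp haN c).mp hcz
  have hc'2 : c' ^ 2 = 1 := by rw [hc'def, conj_pow, hc2]; group
  have hcases : c = 1 ∨ c' = c := by
    by_contra hcon
    push_neg at hcon
    obtain ⟨hc1, hcc'⟩ := hcon
    have hc'1 : c' ≠ 1 := by
      intro h
      apply hc1
      rw [hc'def] at h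
      have : c = a⁻¹ * (a * c * a⁻¹) * a := by group
      rw [this, h]; group
    haveI : Fintype ↥(Subgroup.zpowers w) := Fintype.ofFinite _
    have hle := IsCyclic.card_pow_eq_one_le (α := ↥(Subgroup.zpowers w)) (n := 2) (by norm_num)
    have hsub : ({1, ⟨c, hcz⟩, ⟨c', hc'z⟩} : Finset ↥(Subgroup.zpowers w)) ⊆
        Finset.univ.filter (fun x : ↥(Subgroup.zpowers w) => x ^ 2 = 1) := by
      intro x hx
      simp only [Finset.mem_insert, Finset.mem_singleton] at hx
      simp only [Finset.mem_filter, Finset.mem_univ, true_and]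
      rcases hx with rfl | rfl | rfl
      · simp
      · exact Subtype.ext hc2
      · exact Subtype.ext hc'2
    have h3 : ({1, ⟨c, hcz⟩, ⟨c', hc'z⟩} : Finset ↥(Subgroup.zpowers w)).card = 3 := by
      rw [Finset.card_eq_three]
      refine ⟨1, ⟨c, hcz⟩, ⟨c', hc'z⟩, ?_, ?_, ?_, rfl⟩
      · intro h; exact hc1 (congrArg Subtype.val h).symm
      · intro h; exact hc'1 (congrArg Subtype.val h).symm
      · intro h; exact hcc' (congrArg Subtype.val h).symm
    have := Finset.card_le_card hsub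
    omega
  have hc1 : c = 1 := by
    rcases hcases with h | h
    · exact h
    · have hcord : ∃ j' : ℕ, orderOf c = 2 ^ j' := by
        have hd : orderOf c ∣ 2 ^ j := by rw [← hj]; exact orderOf_dvd_of_mem_zpowers hcz
        obtain ⟨j', -, hj'⟩ := (Nat.dvd_prime_pow Nat.prime_two).mp hd
        exact ⟨j', hj'⟩
      have hac : a * c = c * a := by
        rw [hc'def] at h
        calc a * c = (a * c * a⁻¹) * a := by group
          _ = c * a := by rw [h]
      exact Helper21.oc_eq_one_of_fixed (p := 2) a w c hao hcord (by rw [hcdef]; group) hac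
  rw [hcdef] at hc1
  have h11 : a * w * a⁻¹ = w := by
    calc a * w * a⁻¹ = w * (w⁻¹ * (a * w * a⁻¹)) := by group
      _ = w := by rw [hc1, mul_one]
  calc a * w = (a * w * a⁻¹) * a := by group
    _ = w * a := by rw [h11]

theorem index_two_case {X : Type u} [Group X] [Finite X] (P : Subgroup X) (hP : IsPGroup 2 P)
    (a : X) (hao : (orderOf a).Coprime 2) (haP : a ∈ Subgroup.normalizer (P : Set X))
    (hall : ∀ M : Subgroup X, M ≤ P → 2 * Nat.card M = Nat.card P →
      a ∈ Subgroup.normalizer (M : Set X)) :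
    a ∈ Subgroup.centralizer (P : Set X) := by
  classical
  haveI : Fact (Nat.Prime 2) := ⟨Nat.prime_two⟩
  by_contra hne
  obtain ⟨Q, hQdef⟩ : ∃ Q : Subgroup X, Q = P ⊓ Subgroup.centralizer ({a} : Set X) := ⟨_, rfl⟩
  have hQP : Q ≤ P := hQdef ▸ inf_le_left
  have hQne : Q ≠ P := by
    intro e
    apply hne
    rw [Subgroup.mem_centralizer_iff]
    intro u hu
    have huQ : u ∈ Q := by rw [e]; exact hu
    rw [hQdef] at huQ
    exact (Subgroup.mem_centralizer_iff.mp huQ.2 a (Set.mem_singleton a)).symm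
  obtain ⟨n, hn⟩ := IsPGroup.iff_card.mp hP
  obtain ⟨i, hi⟩ := IsPGroup.iff_card.mp (hP.to_le hQP)
  have hlt : Nat.card Q < Nat.card P := Helper21.oc_card_lt_of_lt (lt_of_le_of_ne hQP hQne)
  have hin : i < n := by
    rw [hi, hn] at hlt
    exact (Nat.pow_lt_pow_iff_right (by norm_num)).mp hlt
  obtain ⟨M, hQM, hMP, hMcard⟩ := exists_subgroup_between P Q hQP hi (show i ≤ n - 1 by omega)
    (by rw [hn]; exact pow_dvd_pow 2 (Nat.sub_le n 1))
  have h2M : 2 * Nat.card M = Nat.card P := by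
    rw [hMcard, hn, ← pow_succ']
    congr 1
    omega
  have haM := hall M hMP h2M
  have hidx : (M.subgroupOf P).index = 2 := by
    have h1 := (M.subgroupOf P).card_mul_index
    have h2 : Nat.card (M.subgroupOf P) = Nat.card M :=
      Nat.card_congr (Subgroup.subgroupOfEquivOfLe hMP).toEquiv
    rw [h2, ← h2M, mul_comm 2] at h1
    exact Nat.eq_of_mul_eq_mul_left Nat.card_pos h1
  have hAP : Subgroup.zpowers a ≤ Subgroup.normalizer (P : Set X) := Subgroup.zpowers_le.mpr haP
  have hAM : Subgroup.zpowers a ≤ Subgroup.normalizer (M : Set X) := Subgroup.zpowers_le.mpr haM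
  have hcop : (Nat.card (Subgroup.zpowers a)).Coprime (Nat.card P) := by
    rw [Nat.card_zpowers, hn]; exact Nat.Coprime.pow_right n hao
  have hsolv : Group.IsSolvable (Subgroup.zpowers a) ∨ Group.IsSolvable M := by
    haveI := (hP.to_le hMP).isNilpotent
    exact Or.inr inferInstance
  have hPM : P ≤ M := by
    intro u hu
    have hx : ∀ b ∈ Subgroup.zpowers a, u⁻¹ * b * u * b⁻¹ ∈ M := by
      intro b hb
      have hbM := hAM hb
      have hbP := hAP hb
      have hbu : b * u * b⁻¹ ∈ P := (Subgroup.mem_normalizer_iff.mp hbP u).mp hu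
      have key : (⟨u, hu⟩ : P)⁻¹ * ⟨b * u * b⁻¹, hbu⟩ ∈ M.subgroupOf P := by
        rw [Subgroup.mul_mem_iff_of_index_two hidx, inv_mem_iff, Subgroup.mem_subgroupOf,
          Subgroup.mem_subgroupOf]
        exact Subgroup.mem_normalizer_iff.mp hbM u
      rw [Subgroup.mem_subgroupOf] at key
      have e : u⁻¹ * b * u * b⁻¹ = u⁻¹ * (b * u * b⁻¹) := by group
      rw [e]; exact key
    obtain ⟨m, hm, hum⟩ := Cfsg.Agent.Lead.exists_mul_mem_centralizer (Subgroup.zpowers a) P M
      hAP hAM hMP hcop hsolv u hu hx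
    have humQ : u * m ∈ Q := by
      rw [hQdef]
      refine Subgroup.mem_inf.mpr ⟨mul_mem hu (hMP hm), ?_⟩
      rw [Subgroup.mem_centralizer_iff]
      intro h hh
      rw [Set.mem_singleton_iff] at hh
      rw [hh]
      exact (Subgroup.mem_centralizer_iff.mp hum a (Subgroup.mem_zpowers a))
    have h3 := hQM humQ
    have e : u = (u * m) * m⁻¹ := by group
    rw [e]; exact mul_mem h3 (inv_mem hm)
  have h4 := Subgroup.card_le_of_le hPM
  have hpos : 0 < Nat.card M := Nat.card_pos
  omega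

theorem main_aux {X : Type u} [Group X] [Finite X] (a : X) (hao : (orderOf a).Coprime 2) (k : ℕ)
    (hk : 2 ≤ k) :
    ∀ (n : ℕ) (P : Subgroup X), IsPGroup 2 P → a ∈ Subgroup.normalizer (P : Set X) →
      Nat.card P = n → 2 ^ k < n →
      (∀ E : Subgroup X, E ≤ P → Nat.card E = 2 ^ k → a ∈ Subgroup.normalizer (E : Set X)) →
      a ∈ Subgroup.centralizer (P : Set X) := by
  intro n
  induction n using Nat.strong_induction_on with
  | _ n ih =>
  intro P hP haP hcard hdn hinv
  classical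
  haveI : Fact (Nat.Prime 2) := ⟨Nat.prime_two⟩
  by_contra hne
  obtain ⟨N, hN⟩ := IsPGroup.iff_card.mp hP
  have hkN : k < N := by
    rw [← hcard, hN] at hdn
    exact (Nat.pow_lt_pow_iff_right (by norm_num)).mp hdn
  by_cases h2d : N = k + 1
  · apply hne
    apply index_two_case P hP a hao haP
    intro M hMP hM
    apply hinv M hMP
    rw [hN, h2d, pow_succ] at hM
    omega
  have hkN2 : k + 2 ≤ N := by omega
  have hIH : ∀ R : Subgroup X, R ≤ P → a ∈ Subgroup.normalizer (R : Set X) →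
      2 ^ k < Nat.card R → Nat.card R < n → a ∈ Subgroup.centralizer (R : Set X) := by
    intro R hRP haR h1 h2
    exact ih _ h2 R (hP.to_le hRP) haR rfl h1 (fun E hER hE => hinv E (hER.trans hRP) hE)
  have hcent_mono : ∀ {R E : Subgroup X}, E ≤ R → a ∈ Subgroup.centralizer (R : Set X) →
      a ∈ Subgroup.centralizer (E : Set X) := by
    intro R E hER h
    exact Subgroup.centralizer_le (fun x hx => hER hx) h
  have hstruct : ∀ E : Subgroup X, E ≤ P → Nat.card E = 2 ^ k →
      a ∉ Subgroup.centralizer (E : Set X) →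
      P ≤ Subgroup.normalizer (E : Set X) ∧
      (∀ R' : Subgroup X, E < R' → R' ≤ P → Nat.card R' < n →
        a ∈ Subgroup.normalizer (R' : Set X) → False) := by
    intro E hEP hEc hEne
    have haE := hinv E hEP hEc
    constructor
    · by_contra hnot
      obtain ⟨R, hRdef⟩ : ∃ R : Subgroup X, R = P ⊓ Subgroup.normalizer (E : Set X) := ⟨_, rfl⟩
      have hRP : R ≤ P := hRdef ▸ inf_le_left
      have hER : E ≤ R := by rw [hRdef]; exact le_inf hEP Subgroup.le_normalizer
      have hEltP : E < P := by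
        refine lt_of_le_of_ne hEP ?_
        intro e
        rw [e] at hEc; omega
      obtain ⟨x, hxP, hxE, hxN⟩ := Cfsg.Agent.Lead.exists_mem_normalizer_not_mem hP hEltP
      have hERlt : E < R := by
        refine lt_of_le_of_ne hER ?_
        intro e
        apply hxE
        rw [e, hRdef]; exact ⟨hxP, hxN⟩
      have hRne : R ≠ P := by
        intro e
        apply hnot
        rw [← e, hRdef]; exact inf_le_right
      have haR : a ∈ Subgroup.normalizer (R : Set X) := by
        rw [hRdef]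
        exact mem_normalizer_inf haP (Subgroup.le_normalizer haE)
      have h1 : 2 ^ k < Nat.card R := by rw [← hEc]; exact Helper21.oc_card_lt_of_lt hERlt
      have h2 : Nat.card R < n := by
        rw [← hcard]; exact Helper21.oc_card_lt_of_lt (lt_of_le_of_ne hRP hRne)
      exact hEne (hcent_mono hER (hIH R hRP haR h1 h2))
    · intro R' hER' hR'P hR'n haR'
      have h1 : 2 ^ k < Nat.card R' := by rw [← hEc]; exact Helper21.oc_card_lt_of_lt hER'
      exact hEne (hcent_mono hER'.le (hIH R' hR'P haR' h1 hR'n))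
  by_cases hcase : ∀ E : Subgroup X, E ≤ P → Nat.card E = 2 ^ k →
      a ∈ Subgroup.centralizer (E : Set X)
  · apply hne
    apply Helper21.oc_centralizes_two a hao P hP haP
    intro u hu hu4
    have ho : orderOf u ∣ 2 ^ 2 := orderOf_dvd_of_pow_eq_one hu4
    obtain ⟨i, hi2, hi⟩ := (Nat.dvd_prime_pow Nat.prime_two).mp ho
    obtain ⟨E, hZE, hEP, hEc⟩ := exists_subgroup_between P (Subgroup.zpowers u)
      (Subgroup.zpowers_le.mpr hu) (by rw [Nat.card_zpowers, hi]) (show i ≤ k by omega)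
      (by rw [hN]; exact pow_dvd_pow 2 hkN.le)
    have h1 := hcase E hEP hEc
    exact ((Subgroup.mem_centralizer_iff.mp h1) u (hZE (Subgroup.mem_zpowers u))).symm
  · push_neg at hcase
    obtain ⟨E₀, hE₀P, hE₀c, hE₀ne⟩ := hcase
    obtain ⟨hE₀n, hα⟩ := hstruct E₀ hE₀P hE₀c hE₀ne
    have haE₀ := hinv E₀ hE₀P hE₀c
    have hB : ∀ u ∈ P, u ∉ E₀ → u ^ 2 ∈ E₀ → a * u = u * a := by
      intro u hu huE hu2
      have hu1 : u ≠ 1 := fun h => huE (h ▸ one_mem E₀)
      obtain ⟨i, hi⟩ : ∃ i : ℕ, orderOf u = 2 ^ i := by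
        obtain ⟨i, hi⟩ := (IsPGroup.iff_orderOf.mp hP) ⟨u, hu⟩
        exact ⟨i, by rw [← hi, Subgroup.orderOf_mk]⟩
      have hi0 : i ≠ 0 := by
        rintro rfl
        rw [pow_zero] at hi
        exact hu1 (orderOf_eq_one_iff.mp hi)
      have h2dvd : 2 ∣ orderOf u := by rw [hi]; exact dvd_pow_self 2 hi0
      have ho2 : orderOf (u ^ 2) * 2 = orderOf u := by
        rw [orderOf_pow_of_dvd (by norm_num) h2dvd]
        exact Nat.div_mul_cancel h2dvd
      have hd2 : orderOf (u ^ 2) ∣ 2 ^ k := by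
        rw [← hE₀c]
        have h1 := Subgroup.card_dvd_of_le
          (Subgroup.zpowers_le.mpr hu2 : Subgroup.zpowers (u ^ 2) ≤ E₀)
        rwa [Nat.card_zpowers] at h1
      have hik : i ≤ k + 1 := by
        have h1 : 2 ^ i ∣ 2 ^ (k + 1) := by
          rw [← hi, ← ho2, pow_succ 2 k]; exact Nat.mul_dvd_mul_right hd2 2
        exact (Nat.pow_dvd_pow_iff_le_right (by norm_num)).mp h1
      by_cases hik' : i = k + 1
      · exfalso
        have hcard2 : Nat.card (Subgroup.zpowers (u ^ 2)) = 2 ^ k := by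
          rw [Nat.card_zpowers]
          have h1 : orderOf (u ^ 2) * 2 = 2 ^ k * 2 := by rw [ho2, hi, hik', pow_succ]
          omega
        have heq : Subgroup.zpowers (u ^ 2) = E₀ :=
          Subgroup.eq_of_le_of_card_ge (Subgroup.zpowers_le.mpr hu2) (by rw [hcard2, hE₀c])
        apply hE₀ne
        have hcyc := cyc_central a hao _ (u ^ 2) ⟨k, by rw [← hcard2, Nat.card_zpowers]⟩
          (by rw [heq]; exact haE₀) rfl
        rw [← heq, Subgroup.mem_centralizer_iff]
        intro z hz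
        obtain ⟨m, rfl⟩ := Subgroup.mem_zpowers_iff.mp hz
        exact (Commute.zpow_right (show Commute a (u ^ 2) from hcyc) m).symm
      · have hik2 : i ≤ k := by omega
        obtain ⟨S, hSdef⟩ : ∃ S : Subgroup X, S = Subgroup.zpowers u ⊔ E₀ := ⟨_, rfl⟩
        have hZS : Subgroup.zpowers u ≤ S := hSdef ▸ le_sup_left
        have hES : E₀ ≤ S := hSdef ▸ le_sup_right
        have hSP : S ≤ P := by rw [hSdef]; exact sup_le (Subgroup.zpowers_le.mpr hu) hE₀P
        have hScard : Nat.card S ∣ 2 ^ k * 2 := by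
          have hZN : Subgroup.zpowers u ≤ Subgroup.normalizer (E₀ : Set X) :=
            Subgroup.zpowers_le.mpr (hE₀n hu)
          have h1 := Cfsg.Agent.Lead.relIndex_sup_of_le_normalizer (Subgroup.zpowers u) E₀ hZN
          have h2 : (⊥ : Subgroup X).relIndex E₀ * E₀.relIndex S = (⊥ : Subgroup X).relIndex S :=
            Subgroup.relIndex_mul_relIndex _ _ _ bot_le hES
          rw [Subgroup.relIndex_bot_left, Subgroup.relIndex_bot_left, hE₀c, hSdef, h1] at h2
          have h3 : E₀.relIndex (Subgroup.zpowers u) ∣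
              (Subgroup.zpowers (u ^ 2)).relIndex (Subgroup.zpowers u) :=
            Subgroup.relIndex_dvd_of_le_left _ (Subgroup.zpowers_le.mpr hu2)
          have h4 : (⊥ : Subgroup X).relIndex (Subgroup.zpowers (u ^ 2)) *
              (Subgroup.zpowers (u ^ 2)).relIndex (Subgroup.zpowers u) =
              (⊥ : Subgroup X).relIndex (Subgroup.zpowers u) :=
            Subgroup.relIndex_mul_relIndex _ _ _ bot_le
              (Subgroup.zpowers_le.mpr (pow_mem (Subgroup.mem_zpowers u) 2))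
          rw [Subgroup.relIndex_bot_left, Subgroup.relIndex_bot_left, Nat.card_zpowers,
            Nat.card_zpowers, ← ho2] at h4
          have h5 : (Subgroup.zpowers (u ^ 2)).relIndex (Subgroup.zpowers u) = 2 :=
            Nat.eq_of_mul_eq_mul_left (orderOf_pos _) h4
          rw [h5] at h3
          rw [hSdef, ← h2]
          exact Nat.mul_dvd_mul_left _ h3
        have hSlt : Nat.card S < n := by
          have h1 := Nat.le_of_dvd (by positivity) hScard
          have h2 : 2 ^ k * 2 < n := by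
            rw [← hcard, hN, ← pow_succ]
            exact Nat.pow_lt_pow_right (by norm_num) (by omega)
          omega
        obtain ⟨D', hZD, hDS, hDc⟩ := exists_subgroup_between S (Subgroup.zpowers u) hZS
          (by rw [Nat.card_zpowers, hi]) hik2
          (by rw [← hE₀c]; exact Subgroup.card_dvd_of_le hES)
        have huD : u ∈ D' := hZD (Subgroup.mem_zpowers u)
        have hDP : D' ≤ P := hDS.trans hSP
        by_cases hDcent : a ∈ Subgroup.centralizer (D' : Set X)
        · exact ((Subgroup.mem_centralizer_iff.mp hDcent) u huD).symm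
        · exfalso
          obtain ⟨-, hα'⟩ := hstruct D' hDP hDc hDcent
          have haD := hinv D' hDP hDc
          apply hα' (E₀ ⊔ D') ?_ (sup_le hE₀P hDP) ?_ (mem_normalizer_sup haE₀ haD)
          · refine lt_of_le_of_ne le_sup_right ?_
            intro e
            have hE₀D : E₀ ≤ D' := by rw [e]; exact le_sup_left
            have h1 : E₀ = D' := Subgroup.eq_of_le_of_card_ge hE₀D (by rw [hDc, hE₀c])
            exact huE (h1 ▸ huD)
          · exact lt_of_le_of_lt (Subgroup.card_le_of_le (sup_le hES hDS)) hSlt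
    have hE₀lt : E₀ < P := by
      refine lt_of_le_of_ne hE₀P ?_
      intro e
      rw [e] at hE₀c; omega
    obtain ⟨v, hvP, hvE⟩ := SetLike.exists_of_lt hE₀lt
    have hex : ∃ j : ℕ, v ^ 2 ^ j ∈ E₀ := by
      obtain ⟨j, hj⟩ := (IsPGroup.iff_orderOf.mp hP) ⟨v, hvP⟩
      refine ⟨j, ?_⟩
      rw [Subgroup.orderOf_mk] at hj
      rw [← hj, pow_orderOf_eq_one]; exact one_mem _
    have hm0 : Nat.find hex ≠ 0 := by
      intro h0
      have h1 := Nat.find_spec hex
      rw [h0, pow_zero, pow_one] at h1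
      exact hvE h1
    obtain ⟨m', hm'⟩ := Nat.exists_eq_succ_of_ne_zero hm0
    obtain ⟨u, hudef⟩ : ∃ u : X, u = v ^ 2 ^ m' := ⟨_, rfl⟩
    have huP : u ∈ P := by rw [hudef]; exact pow_mem hvP _
    have huE : u ∉ E₀ := by
      rw [hudef]
      exact Nat.find_min hex (by rw [hm']; exact Nat.lt_succ_self m')
    have hu2 : u ^ 2 ∈ E₀ := by
      have h1 := Nat.find_spec hex
      rw [hm', pow_succ, pow_mul] at h1
      rw [hudef]; exact h1
    have hau := hB u huP huE hu2
    apply hE₀ne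
    rw [Subgroup.mem_centralizer_iff]
    intro e he
    have hueP : u * e ∈ P := mul_mem huP (hE₀P he)
    have hueE : u * e ∉ E₀ := by
      intro h
      apply huE
      have h1 : u = (u * e) * e⁻¹ := by group
      rw [h1]; exact mul_mem h (inv_mem he)
    have hue2 : (u * e) ^ 2 ∈ E₀ := by
      have hconj : u⁻¹ * e * u ∈ E₀ := by
        have h1 := (Subgroup.mem_normalizer_iff.mp (inv_mem (hE₀n huP)) e).mp he
        simpa using h1
      have h2 : (u * e) ^ 2 = u ^ 2 * (u⁻¹ * e * u) * e := by rw [pow_two, pow_two]; group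
      rw [h2]; exact mul_mem (mul_mem hu2 hconj) he
    have haue := hB (u * e) hueP hueE hue2
    calc e * a = u⁻¹ * ((u * e) * a) := by group
      _ = u⁻¹ * (a * (u * e)) := by rw [haue]
      _ = u⁻¹ * (a * u) * e := by group
      _ = u⁻¹ * (u * a) * e := by rw [hau]
      _ = a * e := by group

theorem result {X : Type*} [Group X] [Finite X] (P A D : Subgroup X) (hP : IsPGroup 2 P) (hA : Odd (Nat.card A))
    (hAP : A ≤ Subgroup.normalizer (P : Set X)) (hDP : D ≤ P) (hD1 : 1 < Nat.card D) (hD2 : Nat.card D < Nat.card P)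
    (hinv : ∀ E : Subgroup X, E ≤ P → (Nat.card E = Nat.card D ∨ (Nat.card D = 2 ∧ Nat.card E = 4)) → A ≤ Subgroup.normalizer (E : Set X)) :
    A ≤ Subgroup.centralizer (P : Set X) := by
  haveI : Fact (Nat.Prime 2) := ⟨Nat.prime_two⟩
  intro a ha
  have hao : (orderOf a).Coprime 2 := by
    have h1 : orderOf a ∣ Nat.card A := by
      have := orderOf_dvd_natCard (⟨a, ha⟩ : A)
      rwa [Subgroup.orderOf_mk] at this
    have h2 : Odd (orderOf a) := Odd.of_dvd_nat hA h1
    exact Nat.Coprime.symm (Nat.coprime_two_left.mpr h2)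
  obtain ⟨k, hk⟩ := IsPGroup.iff_card.mp (hP.to_le hDP)
  obtain ⟨N, hN⟩ := IsPGroup.iff_card.mp hP
  have hk0 : k ≠ 0 := by rintro rfl; rw [pow_zero] at hk; omega
  have hkN : k < N := by
    rw [hk, hN] at hD2; exact (Nat.pow_lt_pow_iff_right (by norm_num)).mp hD2
  by_cases hk2 : 2 ≤ k
  · exact main_aux a hao k hk2 _ P hP (hAP ha) rfl (by rw [← hk]; exact hD2)
      (fun E hEP hE => hinv E hEP (Or.inl (by rw [hE, hk])) ha)
  · have hk1 : k = 1 := by omega
    rw [hk1, pow_one] at hk
    by_cases hN2 : N = 2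
    · apply index_two_case P hP a hao (hAP ha)
      intro M hMP hM
      apply hinv M hMP (Or.inl ?_) ha
      rw [hN, hN2] at hM
      rw [hk]; omega
    · have hN3 : 3 ≤ N := by omega
      exact main_aux a hao 2 le_rfl _ P hP (hAP ha) rfl
        (by rw [hN]; calc 2 ^ 2 < 2 ^ 3 := by norm_num
              _ ≤ 2 ^ N := Nat.pow_le_pow_right (by norm_num) hN3)
        (fun E hEP hE => hinv E hEP (Or.inr ⟨hk, by rw [hE]; norm_num⟩) ha)

end Cfsg.Agent.S3803
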