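import Cfsg.Statements.S3807
import Mathlib
import Cfsg.Agent.Helper21.PGroupAb

set_option autoImplicit false
set_option linter.style.haveILetI false
open Cfsg
open scoped commutatorElement

namespace Cfsg.Agent.S3807

theorem isMulCommutative_zpowers_sup {T : Type*} [Group T] (A : Subgroup T) (s : T)
    (hA : ∀ a ∈ A, ∀ b ∈ A, a * b = b * a) (hs : ∀ a ∈ A, a * s = s * a) :
    IsMulCommutative ↥(Subgroup.zpowers s ⊔ A) := by
  have e : Subgroup.zpowers s ⊔ A = Subgroup.closure ((A : Set T) ∪ {s}) := by
    rw [Subgroup.closure_union, Subgroup.closure_eq, ← Subgroup.zpowers_eq_closure, sup_comm]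
  rw [e]
  exact Subgroup.isMulCommutative_closure (by
    intro a ha b hb
    rcases ha with ha | ha <;> rcases hb with hb | hb
    · exact hA a ha b hb
    · rw [Set.mem_singleton_iff] at hb; rw [hb]; exact hs a ha
    · rw [Set.mem_singleton_iff] at ha; rw [ha]; exact (hs b hb).symm
    · rw [Set.mem_singleton_iff] at ha hb; rw [ha, hb])

theorem card_zpowers_sup {T : Type*} [Group T] [Finite T] (Z : Subgroup T) [Z.Normal] (x : T)
    (p : ℕ) (hx : orderOf (QuotientGroup.mk' Z x) = p) :
    Nat.card ↥(Subgroup.zpowers x ⊔ Z) = p * Nat.card Z := by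
  have h1 : Z.relIndex (Subgroup.zpowers x ⊔ Z) = p := by
    rw [Subgroup.relIndex_sup_right]
    have h2 := Subgroup.relIndex_ker (Subgroup.zpowers x) (QuotientGroup.mk' Z)
    rw [QuotientGroup.ker_mk'] at h2
    rw [h2, MonoidHom.map_zpowers, Nat.card_zpowers, hx]
  have h2 := Subgroup.relIndex_mul_relIndex (H := ⊥) (K := Z) (L := Subgroup.zpowers x ⊔ Z)
    bot_le le_sup_right
  rw [Subgroup.relIndex_bot_left, Subgroup.relIndex_bot_left, h1] at h2
  rw [← h2, mul_comm]

/-- Let S be a non-abelian finite p-group with an abelian subgroup A of index p. Then [S : Z(S)] = p·#[S,S], and either [S,S] has order p, S/Z(S) is elementary abelian of order p², and S has exactly p + 1 abelian subgroups of index p; or [S,S] has order at least p² and A is the only abelian subgroup of index p in S. -/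
theorem result {S : Type*} [Group S] [Finite S] (p : ℕ) [Fact p.Prime] (hS : IsPGroup p S) (hna : ¬ IsMulCommutative S)
    (A : Subgroup S) (hA : IsMulCommutative ↥A) (hAi : A.index = p) :
    (Subgroup.center S).index = p * Nat.card (commutator S) ∧
      ((Nat.card (commutator S) = p ∧ Cfsg.IsElementaryAbelian p (⊤ : Subgroup (S ⧸ Subgroup.center S)) ∧
          Nat.card (S ⧸ Subgroup.center S) = p ^ 2 ∧
          Nat.card {B : Subgroup S // IsMulCommutative ↥B ∧ B.index = p} = p + 1) ∨
        (p ^ 2 ≤ Nat.card (commutator S) ∧ ∀ B : Subgroup S, IsMulCommutative ↥B → B.index = p → B = A)) := by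
  classical
  have hp : p.Prime := Fact.out
  have elw : ∀ B : Subgroup S, IsMulCommutative ↥B → ∀ a ∈ B, ∀ b ∈ B, a * b = b * a :=
    fun B hB a ha b hb => by
      have h5 : (⟨a, ha⟩ : ↥B) * ⟨b, hb⟩ = ⟨b, hb⟩ * ⟨a, ha⟩ := hB.is_comm.comm _ _
      exact congrArg Subtype.val h5
  have hAc := elw A hA
  obtain ⟨hZA, hidx⟩ := Cfsg.Agent.Helper21.index_center_of_abelian_index_p p hS hna A hAc hAi
  refine ⟨hidx, ?_⟩
  set Z := Subgroup.center S with hZ
  obtain ⟨k, hk⟩ := IsPGroup.iff_card.mp (hS.to_subgroup (commutator S))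
  have hk0 : k ≠ 0 := by
    rintro rfl
    rw [pow_zero] at hk
    have hbot : commutator S = ⊥ := Subgroup.card_eq_one.mp hk
    apply hna
    refine ⟨⟨fun a b => ?_⟩⟩
    have h1 : ⁅a, b⁆ ∈ commutator S := by
      rw [commutator_def]
      exact Subgroup.commutator_mem_commutator (Subgroup.mem_top a) (Subgroup.mem_top b)
    rw [hbot, Subgroup.mem_bot, commutatorElement_eq_one_iff_mul_comm] at h1
    exact h1
  have hcardS : Nat.card Z * (p * p ^ k) = Nat.card S := by
    rw [← hk, ← hidx]; exact Subgroup.card_mul_index Z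
  have hzpos : 0 < Nat.card Z := Nat.card_pos
  -- facts on abelian subgroups of index p
  have hBZ : ∀ B : Subgroup S, IsMulCommutative ↥B → B.index = p → Z ≤ B :=
    fun B hB hBi =>
      (Cfsg.Agent.Helper21.index_center_of_abelian_index_p p hS hna B (elw B hB) hBi).1
  have hBcard : ∀ B : Subgroup S, B.index = p → Nat.card B * p = Nat.card S :=
    fun B hBi => by rw [← hBi]; exact Subgroup.card_mul_index B
  by_cases hk1 : k = 1
  · left
    rw [hk1, pow_one] at hk hcardS
    have hqcard : Nat.card (S ⧸ Z) = p ^ 2 := by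
      show Z.index = p ^ 2
      rw [hidx, hk, sq]
    have hqc : IsMulCommutative (S ⧸ Z) := IsPGroup.isMulCommutative_of_card_eq_prime_sq hqcard
    have hqpow : ∀ a : S ⧸ Z, a ^ p = 1 := by
      intro a
      have h1 : orderOf a ∣ p ^ 2 := hqcard ▸ orderOf_dvd_natCard a
      obtain ⟨j, hj2, hj⟩ := (Nat.dvd_prime_pow hp).mp h1
      have hj1 : j ≤ 1 := by
        by_contra hlt
        have hj' : j = 2 := by omega
        rw [hj', ← hqcard] at hj
        haveI : IsCyclic (S ⧸ Z) := isCyclic_of_orderOf_eq_card a hj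
        apply hna
        exact MonoidHom.isMulCommutative_of_isCyclic_of_ker_le_center (QuotientGroup.mk' Z)
          (by rw [QuotientGroup.ker_mk'])
      apply orderOf_dvd_iff_pow_eq_one.mp
      rw [hj]
      calc p ^ j ∣ p ^ 1 := pow_dvd_pow p hj1
        _ = p := pow_one p
    refine ⟨hk, ⟨⟨⟨fun a b => Subtype.ext (hqc.is_comm.comm a.1 b.1)⟩⟩, fun a _ => hqpow a⟩,
      hqcard, ?_⟩
    -- counting
    have hxB : ∀ x : S, x ∉ Z →
        IsMulCommutative ↥(Subgroup.zpowers x ⊔ Z) ∧ (Subgroup.zpowers x ⊔ Z).index = p ∧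
          Nat.card ↥(Subgroup.zpowers x ⊔ Z) = p * Nat.card Z := by
      intro x hx
      have hord : orderOf (QuotientGroup.mk' Z x) = p :=
        orderOf_eq_prime (hqpow _) (fun h => hx ((QuotientGroup.eq_one_iff x).mp h))
      have hc := card_zpowers_sup Z x p hord
      refine ⟨isMulCommutative_zpowers_sup Z x
        (fun a ha b _ => (Subgroup.mem_center_iff.mp ha b).symm)
        (fun a ha => (Subgroup.mem_center_iff.mp ha x).symm), ?_, hc⟩
      have h1 := Subgroup.card_mul_index (Subgroup.zpowers x ⊔ Z)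
      rw [hc, ← hcardS] at h1
      have h2 : p * Nat.card Z * (Subgroup.zpowers x ⊔ Z).index = p * Nat.card Z * p := by
        rw [h1]; ring
      exact Nat.eq_of_mul_eq_mul_left (Nat.mul_pos hp.pos hzpos) h2
    let F : {x : S // x ∉ Z} → {B : Subgroup S // IsMulCommutative ↥B ∧ B.index = p} :=
      fun x => ⟨Subgroup.zpowers x.1 ⊔ Z, (hxB x.1 x.2).1, (hxB x.1 x.2).2.1⟩
    haveI : Fintype {B : Subgroup S // IsMulCommutative ↥B ∧ B.index = p} := Fintype.ofFinite _
    have hsum : Nat.card {x : S // x ∉ Z}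
        = ∑ B : {B : Subgroup S // IsMulCommutative ↥B ∧ B.index = p},
            Nat.card {x : {x : S // x ∉ Z} // F x = B} := by
      rw [← Nat.card_sigma]
      exact Nat.card_congr (Equiv.sigmaFiberEquiv F).symm
    have hfib : ∀ B : {B : Subgroup S // IsMulCommutative ↥B ∧ B.index = p},
        Nat.card {x : {x : S // x ∉ Z} // F x = B} = p * Nat.card Z - Nat.card Z := by
      intro B
      have hZB : Z ≤ B.1 := hBZ B.1 B.2.1 B.2.2
      have hBc : Nat.card B.1 = p * Nat.card Z := by
        have h1 := hBcard B.1 B.2.2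
        rw [← hcardS] at h1
        have h2 : Nat.card B.1 * p = p * Nat.card Z * p := by rw [h1]; ring
        exact Nat.eq_of_mul_eq_mul_right hp.pos h2
      have e : {x : {x : S // x ∉ Z} // F x = B} ≃ ↥((B.1 : Set S) \ (Z : Set S)) :=
        { toFun := fun x => ⟨x.1.1, by
            have h1 : Subgroup.zpowers x.1.1 ⊔ Z = B.1 := congrArg Subtype.val x.2
            refine ⟨?_, x.1.2⟩
            show x.1.1 ∈ B.1
            rw [← h1]
            exact Subgroup.mem_sup_left (Subgroup.mem_zpowers _)⟩
          invFun := fun y => ⟨⟨y.1, y.2.2⟩, by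
            apply Subtype.ext
            show Subgroup.zpowers y.1 ⊔ Z = B.1
            apply Subgroup.eq_of_le_of_card_ge
            · exact sup_le (Subgroup.zpowers_le.mpr y.2.1) hZB
            · rw [(hxB y.1 y.2.2).2.2, hBc]⟩
          left_inv := fun x => rfl
          right_inv := fun y => rfl }
      rw [Nat.card_congr e, Nat.card_coe_set_eq, Set.ncard_sdiff (fun z hz => hZB hz)]
      have h1 : (B.1 : Set S).ncard = Nat.card B.1 := (Nat.card_coe_set_eq (B.1 : Set S)).symm
      have h2 : (Z : Set S).ncard = Nat.card Z := (Nat.card_coe_set_eq (Z : Set S)).symm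
      rw [h1, h2, hBc]
    have hX : Nat.card {x : S // x ∉ Z} = Nat.card S - Nat.card Z := by
      haveI : Fintype S := Fintype.ofFinite S
      rw [Nat.card_eq_fintype_card, Fintype.card_subtype_compl, ← Nat.card_eq_fintype_card,
        ← Nat.card_eq_fintype_card]
    rw [hX, Finset.sum_congr rfl (fun B _ => hfib B), Finset.sum_const, Finset.card_univ,
      smul_eq_mul, ← Nat.card_eq_fintype_card, ← hcardS] at hsum
    obtain ⟨q, rfl⟩ : ∃ q, p = q + 1 := ⟨p - 1, by have := hp.pos; omega⟩
    have hq : 0 < q := by have := hp.one_lt; omega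
    have e1 : Nat.card Z * ((q + 1) * (q + 1)) - Nat.card Z = (q + 2) * (q * Nat.card Z) := by
      have : Nat.card Z * ((q + 1) * (q + 1)) = (q + 2) * (q * Nat.card Z) + Nat.card Z := by ring
      omega
    have e2 : (q + 1) * Nat.card Z - Nat.card Z = q * Nat.card Z := by
      have : (q + 1) * Nat.card Z = q * Nat.card Z + Nat.card Z := by ring
      omega
    rw [e1, e2] at hsum
    have := Nat.eq_of_mul_eq_mul_right (Nat.mul_pos hq hzpos) hsum
    omega
  · right
    have hk2 : 2 ≤ k := by omega
    refine ⟨by rw [hk]; exact Nat.pow_le_pow_right hp.pos hk2, fun B hB hBi => ?_⟩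
    by_contra hBA
    have hBc := elw B hB
    haveI hAn : A.Normal := Cfsg.Agent.S3808.normal_of_index_p p hS A hAi
    have hnle : ¬ B ≤ A := by
      intro h
      apply hBA
      apply Subgroup.eq_of_le_of_card_ge h
      have h1 := hBcard B hBi
      have h2 := hBcard A hAi
      have h3 : Nat.card A * p = Nat.card B * p := by rw [h1, h2]
      exact (Nat.eq_of_mul_eq_mul_right hp.pos h3).le
    have htop : B ⊔ A = ⊤ := by
      rw [sup_comm]
      exact Cfsg.Agent.Helper21.eq_top_of_index_prime hp A hAi _ le_sup_left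
        (fun h => hnle (le_sup_right.trans h))
    have hinfZ : A ⊓ B ≤ Z := by
      intro x hx
      have h1 : B ⊔ A ≤ Subgroup.centralizer {x} := by
        apply sup_le
        · intro b hb
          rw [Subgroup.mem_centralizer_iff]
          intro y hy
          rw [Set.mem_singleton_iff] at hy
          rw [hy]; exact hBc x hx.2 b hb
        · intro a ha
          rw [Subgroup.mem_centralizer_iff]
          intro y hy
          rw [Set.mem_singleton_iff] at hy
          rw [hy]; exact hAc x hx.1 a ha
      rw [htop] at h1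
      rw [hZ, Subgroup.mem_center_iff]
      intro g
      exact (Subgroup.mem_centralizer_iff.mp (h1 (Subgroup.mem_top g)) x
        (Set.mem_singleton x)).symm
    have hrel : A.relIndex B = p := by
      rw [← Subgroup.relIndex_sup_right (H := B) (K := A), htop, Subgroup.relIndex_top_right, hAi]
    have h2 := Subgroup.relIndex_mul_relIndex (H := ⊥) (K := A ⊓ B) (L := B) bot_le inf_le_right
    rw [Subgroup.relIndex_bot_left, Subgroup.relIndex_bot_left, Subgroup.inf_relIndex_right,
      hrel] at h2
    have h3 := hBcard B hBi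
    have h4 : Nat.card ↥(A ⊓ B) ≤ Nat.card Z := Subgroup.card_le_of_le hinfZ
    have h5 : Nat.card ↥(A ⊓ B) * (p * p) = Nat.card Z * (p * p ^ k) := by
      rw [hcardS, ← h3, ← h2]; ring
    have h6 : Nat.card ↥(A ⊓ B) * (p * p ^ k) ≤ Nat.card ↥(A ⊓ B) * (p * p) := by
      rw [h5]; exact Nat.mul_le_mul_right _ h4
    have h7 : p * p ^ k ≤ p * p := Nat.le_of_mul_le_mul_left h6 Nat.card_pos
    have h8 : p ^ k ≤ p ^ 1 := by
      rw [pow_one]; exact Nat.le_of_mul_le_mul_left h7 hp.pos
    have := (Nat.pow_le_pow_iff_right hp.one_lt).mp h8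
    omega

end Cfsg.Agent.S3807
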