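import Cfsg.Statements.S3809
import Mathlib
import Cfsg.Agent.S3808
import Cfsg.Agent.S0095
import Cfsg.Agent.S0012
import Cfsg.Agent.Helper1.Class2

set_option autoImplicit false
set_option linter.style.haveILetI false
open Cfsg
open scoped commutatorElement

namespace Cfsg.Agent.S3809

/-- Let S be a finite p-group with an extraspecial subgroup of index p. Then S has order p^(2+2n) for some n ≥ 1, derived length at most 3, and exponent dividing p³. -/
theorem result {S : Type*} [Group S] [Finite S] (p : ℕ) [Fact p.Prime] (hS : IsPGroup p S) (Q : Subgroup S) (hQ : Cfsg.IsExtraspecial p ↥Q) (hQi : Q.index = p) :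
    (∃ n : ℕ, 1 ≤ n ∧ Nat.card S = p ^ (2 + 2 * n)) ∧ derivedSeries S 3 = ⊥ ∧ ∀ x : S, x ^ (p ^ 3) = 1 := by
  have hp : p.Prime := Fact.out
  haveI hQn : Q.Normal := Cfsg.Agent.S3808.normal_of_index_p p hS Q hQi
  obtain ⟨n, hn1, hn⟩ := Cfsg.Agent.S0095.result hQ
  have hcardS : Nat.card S = p ^ (2 + 2 * n) := by
    rw [← Subgroup.card_mul_index Q, hQi, hn, ← pow_succ]
    congr 1; omega
  have hqcard : Nat.card (S ⧸ Q) = p := hQi
  -- commutator S ≤ Q
  have hcomQ : commutator S ≤ Q := by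
    haveI : IsCyclic (S ⧸ Q) := isCyclic_of_prime_card hqcard
    letI : CommGroup (S ⧸ Q) := IsCyclic.commGroup
    have h1 := Abelianization.commutator_subset_ker (QuotientGroup.mk' Q)
    rwa [QuotientGroup.ker_mk'] at h1
  set ZQ := (Subgroup.center ↥Q).map Q.subtype with hZQ
  have hQQ : ⁅Q, Q⁆ ≤ ZQ := by
    rw [Subgroup.commutator_le]
    intro a ha b hb
    have h1 : ⁅(⟨a, ha⟩ : ↥Q), ⟨b, hb⟩⁆ ∈ commutator ↥Q := by
      rw [commutator_def]
      exact Subgroup.commutator_mem_commutator (Subgroup.mem_top _) (Subgroup.mem_top _)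
    rw [hQ.1.2.2] at h1
    exact ⟨_, h1, rfl⟩
  have hZZ : ⁅ZQ, ZQ⁆ = ⊥ := by
    rw [eq_bot_iff, Subgroup.commutator_le]
    intro a ha b hb
    rw [Subgroup.mem_bot, commutatorElement_eq_one_iff_mul_comm]
    exact ((Cfsg.Agent.S3808.mem_zq Q b).mp hb).2 a ((Cfsg.Agent.S3808.mem_zq Q a).mp ha).1
  have hd1 : derivedSeries S 1 ≤ Q := by
    rw [derivedSeries_succ, derivedSeries_zero]
    exact hcomQ
  have hd2 : derivedSeries S 2 ≤ ZQ := by
    rw [derivedSeries_succ]
    exact (Subgroup.commutator_mono hd1 hd1).trans hQQ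
  have hd3 : derivedSeries S 3 = ⊥ := by
    rw [eq_bot_iff, derivedSeries_succ, ← hZZ]
    exact Subgroup.commutator_mono hd2 hd2
  refine ⟨⟨n, hn1, hcardS⟩, hd3, fun x => ?_⟩
  have hxQ : x ^ p ∈ Q := by
    apply (QuotientGroup.eq_one_iff _).mp
    have h1 := pow_card_eq_one' (G := S ⧸ Q) (x := (x : S ⧸ Q))
    rw [hqcard] at h1
    exact h1
  have hQp : IsPGroup p ↥Q := hS.to_subgroup Q
  have h2 : (⟨x ^ p, hxQ⟩ : ↥Q) ^ p ∈ Subgroup.center ↥Q := by
    rw [← hQ.1.2.1]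
    exact (Cfsg.Agent.S0012.result p hQp).2 _
  have h3 := Cfsg.Agent.Helper1.pow_eq_one_of_mem_center_of_special hQ.1 _ h2
  have h4 : ((x ^ p) ^ p) ^ p = 1 := congrArg Subtype.val h3
  rw [← pow_mul, ← pow_mul] at h4
  have e : p ^ 3 = p * (p * p) := by ring
  rw [e]; exact h4

end Cfsg.Agent.S3809
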