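import Cfsg.Statements.S3810
import Mathlib
import Cfsg.Agent.S3808
import Cfsg.Agent.S0095
import Cfsg.Agent.Helper21.PGroupAb

set_option autoImplicit false
set_option linter.style.haveILetI false
open Cfsg

namespace Cfsg.Agent.S3810

theorem extraspecial_not_comm {Q : Type*} [Group Q] [Finite Q] {p : ℕ} [Fact p.Prime]
    (hQ : Cfsg.IsExtraspecial p Q) : ¬ IsMulCommutative Q := by
  have hp : p.Prime := Fact.out
  intro hc
  have h1 : Subgroup.center Q = ⊤ := by
    rw [eq_top_iff]
    intro x _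
    rw [Subgroup.mem_center_iff]
    intro g
    exact hc.is_comm.comm g x
  obtain ⟨n, hn1, hn⟩ := Cfsg.Agent.S0095.result hQ
  have h2 := hQ.2
  rw [h1, Subgroup.card_top, hn] at h2
  have h3 : p ^ 1 < p ^ (2 * n + 1) := Nat.pow_lt_pow_right hp.one_lt (by omega)
  rw [pow_one] at h3
  omega

/-- Let S be a finite p-group with an extraspecial subgroup of index p. Then S has an abelian subgroup of index p if and only if S has order p⁴. -/
theorem result {S : Type*} [Group S] [Finite S] (p : ℕ) [Fact p.Prime] (hS : IsPGroup p S) (Q : Subgroup S) (hQ : Cfsg.IsExtraspecial p ↥Q) (hQi : Q.index = p) :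
    (∃ A : Subgroup S, IsMulCommutative ↥A ∧ A.index = p) ↔ Nat.card S = p ^ 4 := by
  have hp : p.Prime := Fact.out
  have hQna := extraspecial_not_comm hQ
  constructor
  · rintro ⟨A, hA, hAi⟩
    haveI hAn : A.Normal := Cfsg.Agent.S3808.normal_of_index_p p hS A hAi
    have hAc : ∀ a ∈ A, ∀ b ∈ A, a * b = b * a := fun a ha b hb =>
      congrArg Subtype.val (hA.is_comm.comm ⟨a, ha⟩ ⟨b, hb⟩)
    have hQA : ¬ Q ≤ A := by
      intro h
      exact hQna ⟨⟨fun a b => Subtype.ext (hAc a (h a.2) b (h b.2))⟩⟩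
    have htop : Q ⊔ A = ⊤ := by
      rw [sup_comm]
      exact Cfsg.Agent.Helper21.eq_top_of_index_prime hp A hAi _ le_sup_left
        (fun h => hQA (le_sup_right.trans h))
    have hrel : A.relIndex Q = p := by
      rw [← Subgroup.relIndex_sup_right (H := Q) (K := A), htop, Subgroup.relIndex_top_right, hAi]
    have h1 := (Cfsg.Agent.Helper21.index_center_of_abelian_index_p p (hS.to_subgroup Q) hQna
      (A.subgroupOf Q)
      (fun a ha b hb => Subtype.ext (hAc a (Subgroup.mem_subgroupOf.mp ha) b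
        (Subgroup.mem_subgroupOf.mp hb))) hrel).2
    rw [hQ.1.2.2, hQ.2] at h1
    have h2 := Subgroup.card_mul_index (Subgroup.center ↥Q)
    rw [hQ.2, h1] at h2
    rw [← Subgroup.card_mul_index Q, hQi, ← h2]
    ring
  · intro hcard
    obtain ⟨E, hEc, hE⟩ := Cfsg.Agent.Helper21.exists_abelian_card_gt hS
      (show p ^ 3 < Nat.card S by rw [hcard]; exact Nat.pow_lt_pow_right hp.one_lt (by norm_num))
    refine ⟨E, hEc, ?_⟩
    obtain ⟨k, hk⟩ := IsPGroup.iff_card.mp (hS.to_subgroup E)
    have hk2 : 2 < k := by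
      rw [hk] at hE
      exact (Nat.pow_lt_pow_iff_right hp.one_lt).mp hE
    have hEtop : E ≠ ⊤ := by
      intro h
      apply hQna
      refine ⟨⟨fun a b => Subtype.ext ?_⟩⟩
      have ha : (a : S) ∈ E := by rw [h]; exact Subgroup.mem_top _
      have hb : (b : S) ∈ E := by rw [h]; exact Subgroup.mem_top _
      have h5 : (⟨(a : S), ha⟩ : ↥E) * ⟨(b : S), hb⟩ = ⟨(b : S), hb⟩ * ⟨(a : S), ha⟩ :=
        hEc.is_comm.comm _ _
      have h6 : (a : S) * (b : S) = (b : S) * (a : S) := congrArg Subtype.val h5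
      exact h6
    have hk4 : k < 4 := by
      by_contra hge
      have h1 : Nat.card S ≤ Nat.card E := by
        rw [hcard, hk]
        exact Nat.pow_le_pow_right hp.pos (by omega)
      exact hEtop (Subgroup.eq_top_of_le_card E h1)
    have hk3 : k = 3 := by omega
    have h1 := Subgroup.card_mul_index E
    rw [hk, hk3, hcard] at h1
    have e : p ^ 4 = p ^ 3 * p := by ring
    rw [e] at h1
    exact Nat.eq_of_mul_eq_mul_left (pow_pos hp.pos 3) h1

end Cfsg.Agent.S3810
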