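import Cfsg.Statements.S3811
import Cfsg.Agent.Helper17.SoftB

set_option autoImplicit false
open Cfsg

namespace Cfsg.Agent.S3811

/-- Let P be a finite p-group and E an abelian subgroup of P that contains its centralizer, has index p in its normalizer, and has index at least p² in P. Then the subgroups of P containing E are totally ordered by inclusion, each proper one has index p in its normalizer (so they form the normalizer tower of E, with all steps of index p), and the i-th member of the tower above E has nilpotency class i + 1 whenever it is a proper subgroup of P. -/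
theorem result {P : Type*} [Group P] [Finite P] (p : ℕ) [Fact p.Prime] (hP : IsPGroup p P)
    (E : Subgroup P) (hEab : IsMulCommutative ↥E) (hC : Subgroup.centralizer (E : Set P) ≤ E)
    (hN : (E.subgroupOf (Subgroup.normalizer (E : Set P))).index = p) (hidx : p ^ 2 ≤ E.index) :
    (∀ K L : Subgroup P, E ≤ K → E ≤ L → K ≤ L ∨ L ≤ K) ∧
      (∀ K : Subgroup P, E ≤ K → K ≠ ⊤ → (K.subgroupOf (Subgroup.normalizer (K : Set P))).index = p) ∧
      ∀ (i : ℕ) (K : Subgroup P) [Group.IsNilpotent ↥K], E ≤ K → K ≠ ⊤ → K.index * p ^ i = E.index →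
        Group.nilpotencyClass ↥K = i + 1 := by
  haveI := hEab
  have hE : Cfsg.Agent.Helper17.SoftSub.Soft p E :=
    ⟨fun a ha b hb => setLike_mul_comm ha hb, hC, hN⟩
  have hc := Cfsg.Agent.Helper17.SoftSub.softA p _ P rfl hP E hE
  refine ⟨hc.1, fun K hK hKtop => hc.2 K hK hKtop, ?_⟩
  intro i K _ hEK hKtop hidxK
  exact Cfsg.Agent.Helper17.SoftSub.soft_class hP hE i K hEK hKtop hidxK

end Cfsg.Agent.S3811
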