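import Cfsg.Statements.S3824
import Cfsg.Agent.Helper1.Burnside
import Mathlib

set_option autoImplicit false
open Cfsg

namespace Cfsg.Agent.S3824

universe u

theorem relIndex_dvd_index_of_normal_right {G : Type*} [Group G] [Finite G] (A N : Subgroup G)
    [N.Normal] : A.relIndex N ∣ A.index := by
  have h1 : Nat.card ↥(A ⊓ N) * A.relIndex N = Nat.card N := by
    have := Subgroup.relIndex_mul_relIndex (H := ⊥) (K := A ⊓ N) (L := N) bot_le inf_le_right
    rwa [Subgroup.relIndex_bot_left, Subgroup.relIndex_bot_left, Subgroup.inf_relIndex_right] at this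
  have h2 : Nat.card ↥(A ⊓ N) * N.relIndex A = Nat.card A := by
    have := Subgroup.relIndex_mul_relIndex (H := ⊥) (K := A ⊓ N) (L := A) bot_le inf_le_left
    rwa [Subgroup.relIndex_bot_left, Subgroup.relIndex_bot_left, Subgroup.inf_relIndex_left] at this
  have h3 : N.relIndex (A ⊔ N) = N.relIndex A := Subgroup.relIndex_sup_right A N
  have h4 : Nat.card N * N.relIndex (A ⊔ N) = Nat.card ↥(A ⊔ N) := by
    have := Subgroup.relIndex_mul_relIndex (H := ⊥) (K := N) (L := A ⊔ N) bot_le le_sup_right
    rwa [Subgroup.relIndex_bot_left, Subgroup.relIndex_bot_left] at this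
  have h5 : Nat.card A * A.relIndex (A ⊔ N) = Nat.card ↥(A ⊔ N) := by
    have := Subgroup.relIndex_mul_relIndex (H := ⊥) (K := A) (L := A ⊔ N) bot_le le_sup_left
    rwa [Subgroup.relIndex_bot_left, Subgroup.relIndex_bot_left] at this
  have h6 : A.relIndex N = A.relIndex (A ⊔ N) := by
    have hpos : 0 < Nat.card ↥(A ⊓ N) * N.relIndex A := by rw [h2]; exact Nat.card_pos
    apply Nat.eq_of_mul_eq_mul_left hpos
    calc Nat.card ↥(A ⊓ N) * N.relIndex A * A.relIndex N
        = (Nat.card ↥(A ⊓ N) * A.relIndex N) * N.relIndex A := by ring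
      _ = Nat.card ↥(A ⊔ N) := by rw [h1, ← h3, h4]
      _ = Nat.card ↥(A ⊓ N) * N.relIndex A * A.relIndex (A ⊔ N) := by rw [h2, h5]
  rw [h6]
  exact Subgroup.relIndex_dvd_index_of_le le_sup_left

theorem card_lt_of_ne_top' {G : Type*} [Group G] [Finite G] {L : Subgroup G} (hL : L ≠ ⊤) :
    Nat.card L < Nat.card G := by
  by_contra h
  push Not at h
  exact hL (Subgroup.eq_top_of_le_card L h)

theorem card_quotient_lt' {G : Type*} [Group G] [Finite G] {M : Subgroup G} (hM : M ≠ ⊥) :
    Nat.card (G ⧸ M) < Nat.card G := by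
  rw [← Subgroup.index_eq_card, ← Subgroup.card_mul_index M]
  have h1 : 1 < Nat.card M := by
    rw [Subgroup.one_lt_card_iff_ne_bot]
    exact hM
  have hpos : 0 < M.index := Nat.pos_of_ne_zero Subgroup.index_ne_zero_of_finite
  nlinarith

theorem aux : ∀ (n : ℕ) (G : Type u) [Group G] [Finite G], Nat.card G = n →
    ∀ A : Subgroup G, IsMulCommutative A → (∃ k : ℕ, A.index = 2 ^ k) → Group.IsSolvable G := by
  intro n
  induction n using Nat.strong_induction_on with
  | _ n ih =>
    intro G _ _ hn A hA ⟨k, hk⟩
    have hcomm := isMulCommutative_iff.mp hA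
    by_cases hN : ∃ N : Subgroup G, N.Normal ∧ N ≠ ⊥ ∧ N ≠ ⊤
    · obtain ⟨N, hNn, hNbot, hNtop⟩ := hN
      have := hNn
      have h1 : Group.IsSolvable ↥N := by
        apply ih (Nat.card N) (by rw [← hn]; exact card_lt_of_ne_top' hNtop) ↥N rfl (A.subgroupOf N)
        · rw [isMulCommutative_iff]
          intro a b
          have := hcomm ⟨a.1.1, a.2⟩ ⟨b.1.1, b.2⟩
          apply Subtype.ext
          apply Subtype.ext
          show (a.1.1 * b.1.1 : G) = b.1.1 * a.1.1
          exact congrArg Subtype.val this
        · have hd : A.relIndex N ∣ 2 ^ k := hk ▸ relIndex_dvd_index_of_normal_right A N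
          obtain ⟨j, -, hj⟩ := (Nat.dvd_prime_pow Nat.prime_two).mp hd
          exact ⟨j, hj⟩
      have h2 : Group.IsSolvable (G ⧸ N) := by
        apply ih (Nat.card (G ⧸ N)) (by rw [← hn]; exact card_quotient_lt' hNbot) (G ⧸ N) rfl
          (A.map (QuotientGroup.mk' N))
        · rw [isMulCommutative_iff]
          rintro ⟨a, ⟨x, hx, rfl⟩⟩ ⟨b, ⟨y, hy, rfl⟩⟩
          apply Subtype.ext
          show (QuotientGroup.mk' N) x * (QuotientGroup.mk' N) y
            = (QuotientGroup.mk' N) y * (QuotientGroup.mk' N) x
          rw [← map_mul, ← map_mul]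
          congr 1
          exact congrArg Subtype.val (hcomm ⟨x, hx⟩ ⟨y, hy⟩)
        · have hd : (A.map (QuotientGroup.mk' N)).index ∣ 2 ^ k :=
            hk ▸ Subgroup.index_map_dvd A (QuotientGroup.mk'_surjective N)
          obtain ⟨j, -, hj⟩ := (Nat.dvd_prime_pow Nat.prime_two).mp hd
          exact ⟨j, hj⟩
      exact Group.isSolvable_of_ker_le_range N.subtype (QuotientGroup.mk' N)
        (by rw [QuotientGroup.ker_mk', Subgroup.range_subtype])
    · push Not at hN
      rcases subsingleton_or_nontrivial G with hs | hnt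
      · infer_instance
      · have : IsSimpleGroup G := ⟨fun H hH => by
          by_contra hc
          push Not at hc
          exact hc.2 (hN H hH hc.1)⟩
        by_cases hAbot : A = ⊥
        · rw [hAbot, Subgroup.index_bot] at hk
          have : Fact (Nat.Prime 2) := ⟨Nat.prime_two⟩
          have : IsPGroup 2 G := IsPGroup.of_card hk
          have := this.isNilpotent
          infer_instance
        · obtain ⟨a, haA, ha1⟩ : ∃ a ∈ A, a ≠ 1 := by
            by_contra hc
            push Not at hc
            exact hAbot ((Subgroup.eq_bot_iff_forall A).mpr hc)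
          have hle : A ≤ Subgroup.centralizer ({a} : Set G) := by
            intro b hb
            rw [Subgroup.mem_centralizer_singleton_iff]
            exact congrArg Subtype.val (hcomm ⟨b, hb⟩ ⟨a, haA⟩)
          have hd : (Subgroup.centralizer ({a} : Set G)).index ∣ 2 ^ k :=
            hk ▸ Subgroup.index_dvd_of_le hle
          obtain ⟨j, -, hj⟩ := (Nat.dvd_prime_pow Nat.prime_two).mp hd
          haveI := Fintype.ofFinite G
          have hprime := Cfsg.Agent.Helper1.prime_card_of_prime_pow_class 2 j Nat.prime_two a ha1 hj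
          have : Fact (Nat.card G).Prime := ⟨hprime⟩
          have := isCyclic_of_prime_card (α := G) rfl
          letI := IsCyclic.commGroup (α := G)
          infer_instance

/-- Every finite group having an abelian subgroup whose index is a power of 2 is solvable. -/
theorem result {G : Type*} [Group G] [Finite G]
    (A : Subgroup G) (hA : IsMulCommutative A) (hidx : ∃ k : ℕ, A.index = 2 ^ k) : Group.IsSolvable G :=
  aux _ G rfl A hA hidx

end Cfsg.Agent.S3824
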