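import Cfsg.Statements.S3835
import Cfsg.Agent.S2795

set_option autoImplicit false
open Cfsg

namespace Cfsg.Agent.S3835


open Cfsg Cfsg.Agent.Helper5 Cfsg.Agent.Helper5.Qd Cfsg.Agent.Helper27.SL2E Cfsg.Agent.Helper1.Qd
open Cfsg.Agent.S2795

/-- `p`-subgroups of a symmetric group of degree `< p²` are commutative -/
theorem perm_pgroup_comm {α : Type*} [Finite α] {p : ℕ} [Fact p.Prime] (hα : Nat.card α < p ^ 2)
    (P : Subgroup (Equiv.Perm α)) (hP : IsPGroup p P) (σ τ : Equiv.Perm α) (hσ : σ ∈ P)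
    (hτ : τ ∈ P) : σ * τ = τ * σ := by
  have hpp := (Fact.out : p.Prime)
  classical
  haveI : Fintype α := Fintype.ofFinite α
  haveI : Finite (Equiv.Perm α) := inferInstance
  ext x
  obtain ⟨S, hS⟩ : ∃ S : Subgroup P, S = MulAction.stabilizer P x := ⟨_, rfl⟩
  have hmemS : ∀ g : P, g ∈ S ↔ (g : Equiv.Perm α) x = x := by
    intro g; rw [hS, MulAction.mem_stabilizer_iff]; rfl
  obtain ⟨k, hk⟩ := hP.index S
  have hle : S.index ≤ Nat.card α := by
    rw [hS, MulAction.index_stabilizer]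
    exact Set.ncard_le_card _
  have hk1 : k < 2 := by
    by_contra hk2
    push Not at hk2
    have : p ^ 2 ≤ p ^ k := Nat.pow_le_pow_right hpp.pos hk2
    omega
  have key : (⟨σ, hσ⟩ : P)⁻¹ * (⟨τ, hτ⟩ : P)⁻¹ * ⟨σ, hσ⟩ * ⟨τ, hτ⟩ ∈ S := by
    interval_cases k
    · rw [pow_zero, Subgroup.index_eq_one] at hk
      rw [hk]; trivial
    · rw [pow_one] at hk
      haveI : S.Normal := Subgroup.normal_of_index_eq_minFac_card (by
        rw [hk]
        obtain ⟨m, hm⟩ := IsPGroup.iff_card.mp hP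
        have hm0 : m ≠ 0 := by
          rintro rfl
          have h1 := Subgroup.index_dvd_card S
          rw [hk, hm, pow_zero] at h1
          exact hpp.one_lt.ne' (Nat.dvd_one.mp h1)
        rw [hm, hpp.pow_minFac hm0])
      have hc : Nat.card (P ⧸ S) = p := hk
      haveI := isCyclic_of_prime_card hc
      haveI : IsMulCommutative (P ⧸ S) := IsCyclic.isMulCommutative
      have hcomm : ∀ a b : P ⧸ S, a * b = b * a := fun a b => mul_comm' a b
      rw [← QuotientGroup.eq_one_iff]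
      simp only [QuotientGroup.mk_mul, QuotientGroup.mk_inv]
      rw [hcomm _ ((⟨τ, hτ⟩ : P) : P ⧸ S)⁻¹]
      group
  rw [hmemS] at key
  have key' : σ⁻¹ (τ⁻¹ (σ (τ x))) = x := key
  rw [Equiv.Perm.inv_eq_iff_eq, Equiv.Perm.inv_eq_iff_eq] at key'
  exact key'

/-- if all `p`-subgroups of `G` are commutative then so are the `p`-subgroups of its sections -/
theorem section_pgroup_comm {G : Type*} [Group G] [Finite G] {p : ℕ} [Fact p.Prime]
    (hG : ∀ P : Subgroup G, IsPGroup p P → ∀ a ∈ P, ∀ b ∈ P, a * b = b * a)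
    (K R : Subgroup G) [hn : (R.subgroupOf K).Normal]
    (Q : Subgroup (K ⧸ R.subgroupOf K)) (hQ : IsPGroup p Q) (a b : K ⧸ R.subgroupOf K)
    (ha : a ∈ Q) (hb : b ∈ Q) : a * b = b * a := by
  obtain ⟨Q', hQ'⟩ := hQ.exists_le_sylow
  obtain ⟨T⟩ : Nonempty (Sylow p K) := inferInstance
  have hsurj : Function.Surjective (QuotientGroup.mk' (R.subgroupOf K)) :=
    QuotientGroup.mk'_surjective _
  obtain ⟨g, hg⟩ := MulAction.exists_smul_eq (K ⧸ R.subgroupOf K) (T.mapSurjective hsurj) Q'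
  have hTc : ∀ s ∈ (T : Subgroup K), ∀ t ∈ (T : Subgroup K), s * t = t * s := by
    intro s hs t ht
    have hp' : IsPGroup p ((T : Subgroup K).map K.subtype) := T.2.map _
    have := hG _ hp' s ⟨s, hs, rfl⟩ t ⟨t, ht, rfl⟩
    exact Subtype.ext this
  have hmem : ∀ c ∈ Q, ∃ t ∈ (T : Subgroup K),
      c = g * (QuotientGroup.mk' (R.subgroupOf K) t) * g⁻¹ := by
    intro c hc
    have h1 : c ∈ ((g • T.mapSurjective hsurj : Sylow p _) : Subgroup _) := by
      rw [hg]; exact hQ' hc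
    rw [Sylow.coe_subgroup_smul, Subgroup.mem_pointwise_smul_iff_inv_smul_mem,
      Sylow.coe_mapSurjective] at h1
    obtain ⟨t, ht, hte⟩ := h1
    refine ⟨t, ht, ?_⟩
    rw [hte]
    simp only [MulAut.smul_def, MulAut.conj_inv_apply]
    group
  obtain ⟨s, hs, rfl⟩ := hmem a ha
  obtain ⟨t, ht, rfl⟩ := hmem b hb
  have h2 : QuotientGroup.mk' (R.subgroupOf K) s * QuotientGroup.mk' (R.subgroupOf K) t =
      QuotientGroup.mk' (R.subgroupOf K) t * QuotientGroup.mk' (R.subgroupOf K) s := by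
    rw [← map_mul, hTc s hs t ht, map_mul]
  calc g * (QuotientGroup.mk' (R.subgroupOf K) s) * g⁻¹ *
        (g * (QuotientGroup.mk' (R.subgroupOf K) t) * g⁻¹)
      = g * (QuotientGroup.mk' (R.subgroupOf K) s * QuotientGroup.mk' (R.subgroupOf K) t) * g⁻¹ := by
        group
    _ = g * (QuotientGroup.mk' (R.subgroupOf K) t * QuotientGroup.mk' (R.subgroupOf K) s) * g⁻¹ := by
        rw [h2]
    _ = _ := by group

/-- additivity of the matrix action -/
theorem act_add {p : ℕ} [Fact p.Prime] (M : SL2p p) (x y : ZMod p × ZMod p) :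
    act M (x + y) = act M x + act M y := by
  refine Prod.ext ?_ ?_ <;> simp [act] <;> ring

/-- the affine action of `Qd(p)` on the plane -/
def aff (p : ℕ) [Fact p.Prime] (y : ↥(Cfsg.qd p)) (x : ZMod p × ZMod p) : ZMod p × ZMod p :=
  act (Cfsg.Agent.S2795.beta p y) x + ((qdEquiv p) y).2

theorem aff_Qm {p : ℕ} [Fact p.Prime] (M : SL2p p) (v x : ZMod p × ZMod p) :
    aff p (Qm M v) x = act M x + v := by
  unfold aff
  rw [beta_Qm]
  show _ + ((qdEquiv p) ((qdEquiv p).symm (M, v))).2 = _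
  rw [Equiv.apply_symm_apply]

theorem aff_one {p : ℕ} [Fact p.Prime] (x : ZMod p × ZMod p) : aff p 1 x = x := by
  rw [← Qm_one, aff_Qm, act_one, add_zero]

theorem aff_mul {p : ℕ} [Fact p.Prime] (a b : ↥(Cfsg.qd p)) (x : ZMod p × ZMod p) :
    aff p (a * b) x = aff p a (aff p b x) := by
  obtain ⟨M, v, rfl⟩ := Qm_surj a
  obtain ⟨N, w, rfl⟩ := Qm_surj b
  rw [Qm_mul, aff_Qm, aff_Qm, aff_Qm, act_mul, act_add]
  abel

/-- the affine permutation representation of `Qd(p)` -/
def affHom (p : ℕ) [Fact p.Prime] : ↥(Cfsg.qd p) →* Equiv.Perm (ZMod p × ZMod p) where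
  toFun y := ⟨aff p y, aff p y⁻¹, fun x => by rw [← aff_mul, inv_mul_cancel, aff_one],
    fun x => by rw [← aff_mul, mul_inv_cancel, aff_one]⟩
  map_one' := Equiv.ext fun x => aff_one x
  map_mul' a b := Equiv.ext fun x => aff_mul a b x

theorem affHom_apply {p : ℕ} [Fact p.Prime] (y : ↥(Cfsg.qd p)) (x : ZMod p × ZMod p) :
    affHom p y x = aff p y x := rfl

theorem affHom_injective {p : ℕ} [Fact p.Prime] : Function.Injective (affHom p) := by
  rw [injective_iff_map_eq_one]
  intro y hy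
  obtain ⟨M, v, rfl⟩ := Qm_surj y
  have h : ∀ x, act M x + v = x := fun x => by
    have := congrArg (fun f : Equiv.Perm (ZMod p × ZMod p) => f x) hy
    simp only [affHom_apply, aff_Qm, Equiv.Perm.coe_one, id_eq] at this
    exact this
  have hv : v = 0 := by have := h 0; rwa [act_zero, zero_add] at this
  subst hv
  have hM : M = 1 := act_inj (fun x => by rw [act_one]; simpa using h x)
  rw [hM, Qm_one]

theorem hom_units_eq_one {H : Type*} [Group H] {p : ℕ} [Fact p.Prime] (hp : p ≠ 2) (χ : H →* ℤˣ)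
    (y : H) (hy : y ^ p = 1) : χ y = 1 := by
  have h1 : χ y ^ p = 1 := by rw [← map_pow, hy, map_one]
  rcases Int.units_eq_one_or (χ y) with h | h
  · exact h
  · rw [h, Odd.neg_one_pow ((Fact.out : p.Prime).odd_of_ne_two hp)] at h1
    exact absurd h1 (by decide)

/-- `Qd(p)`, `p` odd, has no nontrivial homomorphism to `{±1}` -/
theorem hom_units_trivial {p : ℕ} [Fact p.Prime] (hp : p ≠ 2) (χ : ↥(Cfsg.qd p) →* ℤˣ)
    (y : ↥(Cfsg.qd p)) : χ y = 1 := by
  obtain ⟨M, v, rfl⟩ := Qm_surj y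
  have h1 : Qm M v = Qm 1 v * Qm M 0 := by rw [Qm_mul, one_mul, act_one, add_zero]
  obtain ⟨ι₀, hι₀⟩ : ∃ ι₀ : SL2p p →* ↥(Cfsg.qd p), ∀ M, ι₀ M = Qm M 0 :=
    ⟨{ toFun := fun M => Qm M 0, map_one' := Qm_one,
       map_mul' := fun M N => by rw [Qm_mul, act_zero, add_zero] }, fun _ => rfl⟩
  have h2 : (χ.comp ι₀).ker = ⊤ := by
    rw [eq_top_iff, ← closure_eq_top (p := p), Subgroup.closure_le]
    rintro x (rfl | rfl)
    · rw [SetLike.mem_coe, MonoidHom.mem_ker]
      refine hom_units_eq_one hp _ _ ?_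
      rw [Cfsg.Agent.Helper5.QuadPair.Um_pow, ZMod.natCast_self, zero_mul, Um_zero]
    · rw [SetLike.mem_coe, MonoidHom.mem_ker]
      refine hom_units_eq_one hp _ _ ?_
      rw [Cfsg.Agent.Helper5.SL2.Lm_pow', ZMod.natCast_self, zero_mul, Lm_zero]
  rw [h1, map_mul, hom_units_eq_one hp χ _ (Qm_one_pow_p v), one_mul]
  have h3 : M ∈ (χ.comp ι₀).ker := h2 ▸ Subgroup.mem_top M
  have h4 := MonoidHom.mem_ker.mp h3
  rw [MonoidHom.comp_apply, hι₀] at h4
  exact h4

/-- Let p be an odd prime and n a natural number. The alternating group of degree n has a subgroup isomorphic to Qd(p) (the natural semidirect product of an elementary abelian group of order p² by SL₂(p)) if and only if n ≥ p²; and if n < p² then Qd(p) is not even involved in it. -/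
theorem result {p : ℕ} [Fact p.Prime] (hp : p ≠ 2) (n : ℕ) : ((∃ H : Subgroup (alternatingGroup (Fin n)), Nonempty (↥H ≃* ↥(Cfsg.qd p))) ↔ p ^ 2 ≤ n) ∧ (n < p ^ 2 → ¬ Cfsg.Involves ↥(Cfsg.qd p) ↥(alternatingGroup (Fin n))) := by
  have hpp := (Fact.out : p.Prime)
  haveI : NeZero p := ⟨hpp.ne_zero⟩
  haveI : Finite ↥(Cfsg.qd p) := inferInstance
  have part2 : n < p ^ 2 → ¬ Cfsg.Involves ↥(Cfsg.qd p) ↥(alternatingGroup (Fin n)) := by
    rintro hn ⟨K, R, hnorm, ⟨e⟩⟩
    have hG : ∀ P : Subgroup ↥(alternatingGroup (Fin n)), IsPGroup p P →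
        ∀ a ∈ P, ∀ b ∈ P, a * b = b * a := by
      intro P hP a ha b hb
      have := perm_pgroup_comm (α := Fin n)
        (by rw [Nat.card_eq_fintype_card, Fintype.card_fin]; exact hn)
        (P.map (alternatingGroup (Fin n)).subtype) (hP.map _) a b ⟨a, ha, rfl⟩ ⟨b, hb, rfl⟩
      exact Subtype.ext this
    obtain ⟨P⟩ : Nonempty (Sylow p ↥(Cfsg.qd p)) := inferInstance
    obtain ⟨hex, hcard, -⟩ := sylow_extraspecial p hp P
    have hcomm : ∀ a ∈ (P : Subgroup ↥(Cfsg.qd p)), ∀ b ∈ (P : Subgroup ↥(Cfsg.qd p)),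
        a * b = b * a := by
      intro a ha b hb
      have hQ : IsPGroup p ((P : Subgroup ↥(Cfsg.qd p)).comap e.toMonoidHom) :=
        P.2.comap_of_injective _ e.injective
      have h1 := section_pgroup_comm hG K R _ hQ (e.symm a) (e.symm b)
        (by rw [Subgroup.mem_comap]; simpa using ha) (by rw [Subgroup.mem_comap]; simpa using hb)
      have h2 := congrArg e h1
      simpa using h2
    have hcen : Subgroup.center ↥P = ⊤ := by
      rw [eq_top_iff]; intro x _; rw [Subgroup.mem_center_iff]; intro g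
      exact Subtype.ext (hcomm g g.2 x x.2)
    have h3 := hex.2
    rw [hcen, Subgroup.card_top] at h3
    have h4 : p ^ 3 = p ^ 1 := by rw [pow_one, ← hcard]; exact h3
    have := Nat.pow_right_injective hpp.two_le h4
    omega
  refine ⟨⟨?_, ?_⟩, part2⟩
  · rintro ⟨H, ⟨e⟩⟩
    by_contra hlt
    push Not at hlt
    apply part2 hlt
    haveI hN : ((⊥ : Subgroup ↥(alternatingGroup (Fin n))).subgroupOf H).Normal := by
      rw [Subgroup.bot_subgroupOf]; infer_instance
    exact ⟨H, ⊥, hN, ⟨((QuotientGroup.quotientMulEquivOfEq (Subgroup.bot_subgroupOf H)).trans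
      QuotientGroup.quotientBot).trans e⟩⟩
  · intro hn
    obtain ⟨emb⟩ := Function.Embedding.nonempty_of_card_le (α := ZMod p × ZMod p) (β := Fin n)
      (by rw [Fintype.card_prod, ZMod.card, Fintype.card_fin, ← sq]; exact hn)
    obtain ⟨F, hFdef⟩ : ∃ F : ↥(Cfsg.qd p) →* Equiv.Perm (Fin n),
        F = (Equiv.Perm.viaEmbeddingHom emb).comp (affHom p) := ⟨_, rfl⟩
    have hF : Function.Injective F := by
      rw [hFdef]
      exact (Equiv.Perm.viaEmbeddingHom_injective emb).comp affHom_injective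
    have hmem : ∀ y, F y ∈ alternatingGroup (Fin n) := fun y => by
      rw [Equiv.Perm.mem_alternatingGroup]
      exact hom_units_trivial hp (Equiv.Perm.sign.comp F) y
    have hF' : Function.Injective (F.codRestrict (alternatingGroup (Fin n)) hmem) := by
      intro a b hab
      apply hF
      have := congrArg Subtype.val hab
      exact this
    exact ⟨(F.codRestrict (alternatingGroup (Fin n)) hmem).range,
      ⟨(MonoidHom.ofInjective hF').symm⟩⟩

end Cfsg.Agent.S3835
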