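import Cfsg.Statements.S3838
import Mathlib
import Cfsg.Agent.S0001
import Cfsg.Agent.S3803
import Cfsg.Agent.Lead.Glauberman

set_option autoImplicit false
set_option linter.style.haveILetI false
open Cfsg
open scoped Pointwise

namespace Cfsg.Agent.S3838

universe u

theorem card_comap_mk {H : Type*} [Group H] [Finite H] (Q : Subgroup H) [Q.Normal]
    (X : Subgroup (H ⧸ Q)) :
    Nat.card (X.comap (QuotientGroup.mk' Q)) = Nat.card X * Nat.card Q := by
  have h1 := Subgroup.index_comap_of_surjective X (QuotientGroup.mk'_surjective Q)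
  have h2 := (X.comap (QuotientGroup.mk' Q)).card_mul_index
  have h3 := X.card_mul_index
  have h4 := Subgroup.card_eq_card_quotient_mul_card_subgroup Q
  rw [h1] at h2
  have h5 : 0 < X.index := Nat.pos_of_ne_zero Subgroup.index_ne_zero_of_finite
  have h6 : Nat.card (X.comap (QuotientGroup.mk' Q)) * X.index
      = (Nat.card X * Nat.card Q) * X.index := by
    rw [h2, h4, ← h3]; ring
  exact Nat.eq_of_mul_eq_mul_right h5 h6

theorem lemmaA {H : Type u} [Group H] [Finite H] {p : ℕ} [Fact p.Prime] (P : Sylow p H)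
    (Q : Subgroup H) [hQn : Q.Normal] (hQP : Q ≤ P)
    (hnc : ∀ n ∈ Subgroup.normalizer ((P : Subgroup H) : Set H), ∀ x ∈ (P : Subgroup H),
      n * x * n⁻¹ * x⁻¹ ∈ Q)
    (hng : ∀ R : Subgroup H, R ≤ P → (∀ x ∈ (P : Subgroup H), ∃ q ∈ Q, ∃ r ∈ R, x = q * r) →
      (P : Subgroup H) ≤ R) :
    Cfsg.HasNormalPComplement p H := by
  classical
  have hp := (Fact.out : p.Prime)
  obtain ⟨π, hπ⟩ : ∃ π : H →* H ⧸ Q, π = QuotientGroup.mk' Q := ⟨_, rfl⟩
  have hπs : Function.Surjective π := by rw [hπ]; exact QuotientGroup.mk'_surjective Q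
  have hπ1 : ∀ x, π x = 1 ↔ x ∈ Q := by
    intro x; rw [hπ]; exact QuotientGroup.eq_one_iff x
  obtain ⟨Pb, hPb⟩ : ∃ Pb : Sylow p (H ⧸ Q), (Pb : Subgroup (H ⧸ Q)) = (P : Subgroup H).map π :=
    ⟨P.mapSurjective hπs, Sylow.coe_mapSurjective hπs P⟩
  have hNC : Subgroup.normalizer ((Pb : Subgroup (H ⧸ Q)) : Set (H ⧸ Q)) ≤
      Subgroup.centralizer ((Pb : Subgroup (H ⧸ Q)) : Set (H ⧸ Q)) := by
    intro xb hxb
    obtain ⟨x, rfl⟩ := hπs xb
    have hxN : x ∈ Subgroup.normalizer ((P : Subgroup H) : Set H) := by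
      apply Cfsg.Agent.S3803.mem_normalizer_of_conj_mem'
      intro y hy
      have h1 : π x * π y * (π x)⁻¹ ∈ (Pb : Subgroup (H ⧸ Q)) :=
        (Subgroup.mem_normalizer_iff.mp hxb (π y)).mp
          (by rw [hPb]; exact Subgroup.mem_map_of_mem π hy)
      rw [hPb, ← map_inv, ← map_mul, ← map_mul, Subgroup.mem_map] at h1
      obtain ⟨z, hz, hzeq⟩ := h1
      have h2 : z⁻¹ * (x * y * x⁻¹) ∈ Q := by
        rw [← hπ1, map_mul, map_inv, hzeq, inv_mul_cancel]
      have h3 := (P : Subgroup H).mul_mem hz (hQP h2)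
      simpa using h3
    rw [Subgroup.mem_centralizer_iff]
    intro yb hyb
    rw [SetLike.mem_coe, hPb] at hyb
    obtain ⟨y, hy, rfl⟩ := Subgroup.mem_map.mp hyb
    have h2 := hnc x hxN y hy
    have h3 : π (x * y * x⁻¹ * y⁻¹) = 1 := (hπ1 _).mpr h2
    rw [map_mul, map_mul, map_mul, map_inv, map_inv] at h3
    calc π y * π x = (π x * π y * (π x)⁻¹ * (π y)⁻¹)⁻¹ * (π x * π y) := by group
      _ = π x * π y := by rw [h3]; group
  have hcompl := MonoidHom.ker_transferSylow_isComplement' Pb hNC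
  have hnd := MonoidHom.not_dvd_card_ker_transferSylow Pb hNC
  obtain ⟨Mb, hMb⟩ : ∃ Mb : Subgroup (H ⧸ Q), Mb = (MonoidHom.transferSylow Pb hNC).ker := ⟨_, rfl⟩
  rw [← hMb] at hcompl hnd
  haveI hMbn : Mb.Normal := by rw [hMb]; infer_instance
  obtain ⟨M, hM⟩ : ∃ M : Subgroup H, M = Mb.comap π := ⟨_, rfl⟩
  haveI hMn : M.Normal := by rw [hM]; infer_instance
  have hQM : Q ≤ M := by
    intro q hq
    rw [hM, Subgroup.mem_comap, (hπ1 q).mpr hq]
    exact one_mem _
  -- cardinalities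
  have hcM : Nat.card M = Nat.card Mb * Nat.card Q := by
    rw [hM, hπ]; exact card_comap_mk Q Mb
  have hPcomap : (P : Subgroup H) = ((Pb : Subgroup (H ⧸ Q))).comap π := by
    rw [hPb, Subgroup.comap_map_eq, hπ, QuotientGroup.ker_mk', sup_eq_left.mpr hQP]
  have hcP : Nat.card (P : Subgroup H) = Nat.card (Pb : Subgroup (H ⧸ Q)) * Nat.card Q := by
    conv_lhs => rw [hPcomap, hπ]
    exact card_comap_mk Q _
  have hcHq : Nat.card Mb * Nat.card (Pb : Subgroup (H ⧸ Q)) = Nat.card (H ⧸ Q) := hcompl.card_mul_card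
  have hcH : Nat.card H = Nat.card (H ⧸ Q) * Nat.card Q :=
    Subgroup.card_eq_card_quotient_mul_card_subgroup Q
  have hcopMb : (Nat.card Mb).Coprime p := (Nat.Prime.coprime_iff_not_dvd hp).mpr hnd |>.symm
  obtain ⟨k, hk⟩ := IsPGroup.iff_card.mp (P.2.to_le hQP)
  obtain ⟨kP, hkP⟩ := IsPGroup.iff_card.mp P.2
  -- Schur-Zassenhaus in M
  haveI hQMn : (Q.subgroupOf M).Normal := inferInstance
  have hcQM : Nat.card (Q.subgroupOf M) = Nat.card Q := Cfsg.Agent.S0001.card_subgroupOf_of_le hQM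
  have hidx : (Q.subgroupOf M).index = Nat.card Mb := by
    have h1 := (Q.subgroupOf M).card_mul_index
    rw [hcQM, hcM] at h1
    have hQpos : 0 < Nat.card Q := Nat.card_pos
    have : Nat.card Q * (Q.subgroupOf M).index = Nat.card Q * Nat.card Mb := by rw [h1]; ring
    exact Nat.eq_of_mul_eq_mul_left hQpos this
  have hcop : (Nat.card (Q.subgroupOf M)).Coprime (Q.subgroupOf M).index := by
    rw [hcQM, hidx, hk]
    exact Nat.Coprime.pow_left k hcopMb.symm
  obtain ⟨K₀, hK₀⟩ := Subgroup.exists_right_complement'_of_coprime hcop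
  have hcK₀ : Nat.card K₀ = (Q.subgroupOf M).index := (hK₀.symm.index_eq_card).symm
  have hsolv : Group.IsSolvable ↥(Q.subgroupOf M) := by
    haveI : Group.IsNilpotent ↥(Q.subgroupOf M) :=
      (IsPGroup.of_card (hcQM.trans hk)).isNilpotent
    infer_instance
  obtain ⟨K, hK⟩ : ∃ K : Subgroup H, K = K₀.map M.subtype := ⟨_, rfl⟩
  have hKM : K ≤ M := by rw [hK]; exact Subgroup.map_subtype_le _
  have hKsub : K.subgroupOf M = K₀ := by
    rw [hK]; exact Subgroup.comap_map_eq_self_of_injective M.subtype_injective K₀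
  have hcK : Nat.card K = Nat.card Mb := by
    rw [hK, Subgroup.card_map_of_injective M.subtype_injective, hcK₀, hidx]
  -- Frattini argument
  have hPN : (P : Subgroup H) ≤ Subgroup.normalizer (K : Set H) := by
    have hle := hng (Subgroup.normalizer (K : Set H) ⊓ (P : Subgroup H)) inf_le_right ?_
    · exact hle.trans inf_le_left
    intro x hx
    have hxK : MulAut.conj x • K ≤ M := by
      intro y hy
      rw [Cfsg.Agent.Lead.mem_conj_smul'] at hy
      have h1 := hMn.conj_mem _ (hKM hy) x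
      have h2 : x * (x⁻¹ * y * x) * x⁻¹ = y := by group
      rwa [h2] at h1
    have hc1 : Nat.card ((MulAut.conj x • K).subgroupOf M) = (Q.subgroupOf M).index := by
      rw [Cfsg.Agent.S0001.card_subgroupOf_of_le hxK, Cfsg.Agent.S0001.card_conj_smul, hcK, hidx]
    obtain ⟨m, hm⟩ := Cfsg.Agent.S0001.conj_of_card (Q.subgroupOf M) hcop (Or.inl hsolv)
      (K.subgroupOf M) ((MulAut.conj x • K).subgroupOf M) (by rw [hKsub, hcK₀]) hc1
    have hm' : MulAut.conj (m : H) • K = MulAut.conj x • K :=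
      Cfsg.Agent.S0001.conj_of_subgroupOf hKM hxK m hm
    -- decompose m = q * k
    obtain ⟨⟨⟨q, hq⟩, ⟨k₀, hk₀⟩⟩, hqk⟩ := hK₀.2 m
    have hqk' : (q : H) * (k₀ : H) = (m : H) := congrArg Subtype.val hqk
    have hqQ : (q : H) ∈ Q := hq
    have hk₀K : (k₀ : H) ∈ K := by rw [hK]; exact Subgroup.mem_map_of_mem _ hk₀
    refine ⟨(q : H), hqQ, (q : H)⁻¹ * x, ?_, by group⟩
    refine Subgroup.mem_inf.mpr ⟨?_, (P : Subgroup H).mul_mem ((P : Subgroup H).inv_mem (hQP hqQ)) hx⟩
    rw [Cfsg.Agent.Lead.mem_normalizer_iff_conj_smul]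
    have e1 : (q : H)⁻¹ * x = (k₀ : H) * ((m : H)⁻¹ * x) := by rw [← hqk']; group
    rw [e1, Cfsg.Agent.S0001.conj_mul_smul, Cfsg.Agent.S0001.conj_mul_smul, ← hm',
      ← Cfsg.Agent.S0001.conj_mul_smul (m : H)⁻¹, inv_mul_cancel, map_one, one_smul]
    exact Cfsg.Agent.Lead.conj_smul_eq_of_mem hk₀K
  -- K is normal
  have hcopKP : (Nat.card K).Coprime (Nat.card (P : Subgroup H)) := by
    rw [hcK, hkP]; exact Nat.Coprime.pow_right kP hcopMb
  have hcardKP : Nat.card K * Nat.card (P : Subgroup H) = Nat.card H := by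
    rw [hcK, hcP, hcH, ← hcHq]; ring
  have hKn : K.Normal := by
    rw [← Subgroup.normalizer_eq_top_iff]
    apply Subgroup.eq_top_of_le_card
    have h1 : (P : Subgroup H) ⊔ K ≤ Subgroup.normalizer (K : Set H) :=
      sup_le hPN Subgroup.le_normalizer
    have h2 : Nat.card K * Nat.card (P : Subgroup H) ∣ Nat.card ((P : Subgroup H) ⊔ K : Subgroup H) :=
      Nat.Coprime.mul_dvd_of_dvd_of_dvd hcopKP (Subgroup.card_dvd_of_le le_sup_right)
        (Subgroup.card_dvd_of_le le_sup_left)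
    rw [hcardKP] at h2
    exact (Nat.le_of_dvd Nat.card_pos h2).trans (Subgroup.card_le_of_le h1)
  exact ⟨P, K, hKn, Subgroup.isComplement'_of_coprime hcardKP hcopKP⟩

/-- Let G be a finite group with Sylow p-subgroup P such that N_G(P) has a normal p-complement. Then N_G(Q) has a normal p-complement for every subgroup Q with [P, P] ≤ Q ≤ Φ(P). -/
theorem result {G : Type*} [Group G] [Finite G] {p : ℕ} [Fact p.Prime] (P : Sylow p G) (hN : Cfsg.HasNormalPComplement p ↥(Subgroup.normalizer ((P : Subgroup G) : Set G))) (Q : Subgroup G) (h1 : (commutator ↥(P : Subgroup G)).map (P : Subgroup G).subtype ≤ Q) (h2 : Q ≤ (frattini ↥(P : Subgroup G)).map (P : Subgroup G).subtype) : Cfsg.HasNormalPComplement p ↥(Subgroup.normalizer (Q : Set G)) := by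
  classical
  have hQP : Q ≤ (P : Subgroup G) := h2.trans (Subgroup.map_subtype_le _)
  have hcomm : ∀ x ∈ (P : Subgroup G), ∀ y ∈ (P : Subgroup G), x * y * x⁻¹ * y⁻¹ ∈ Q := by
    intro x hx y hy
    apply h1
    refine ⟨(⟨x, hx⟩ : ↥(P : Subgroup G)) * ⟨y, hy⟩ * (⟨x, hx⟩ : ↥(P : Subgroup G))⁻¹ *
      (⟨y, hy⟩ : ↥(P : Subgroup G))⁻¹, ?_, rfl⟩
    have := Subgroup.commutator_mem_commutator (Subgroup.mem_top (⟨x, hx⟩ : ↥(P : Subgroup G)))
      (Subgroup.mem_top (⟨y, hy⟩ : ↥(P : Subgroup G)))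
    rw [commutatorElement_def] at this
    exact this
  have hPH : (P : Subgroup G) ≤ Subgroup.normalizer (Q : Set G) := by
    intro x hx
    apply Cfsg.Agent.S3803.mem_normalizer_of_conj_mem'
    intro y hy
    have := Q.mul_mem (hcomm x hx y (hQP hy)) hy
    simpa using this
  -- the normal p-complement of N_G(P) centralizes P
  obtain ⟨P₁, K₁, hK₁n, hK₁c⟩ := hN
  have hP₁ : (P₁ : Subgroup ↥(Subgroup.normalizer ((P : Subgroup G) : Set G))) =
      (P : Subgroup G).subgroupOf (Subgroup.normalizer ((P : Subgroup G) : Set G)) := by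
    have hnorm : ((P.subtype Subgroup.le_normalizer :
        Sylow p ↥(Subgroup.normalizer ((P : Subgroup G) : Set G))) :
        Subgroup ↥(Subgroup.normalizer ((P : Subgroup G) : Set G))).Normal := by
      rw [Sylow.coe_subtype]; infer_instance
    haveI := Sylow.unique_of_normal _ hnorm
    have : P₁ = P.subtype Subgroup.le_normalizer := Subsingleton.elim _ _
    rw [this, Sylow.coe_subtype]
  have hcentral : ∀ n ∈ Subgroup.normalizer ((P : Subgroup G) : Set G), ∀ x ∈ (P : Subgroup G),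
      n * x * n⁻¹ * x⁻¹ ∈ Q := by
    intro n hn x hx
    obtain ⟨⟨⟨k, hk⟩, ⟨y, hy⟩⟩, hky⟩ := hK₁c.2 ⟨n, hn⟩
    have hky' : (k : G) * (y : G) = n := congrArg Subtype.val hky
    rw [SetLike.mem_coe, hP₁, Subgroup.mem_subgroupOf] at hy
    -- k centralizes P
    have hkc : ∀ z ∈ (P : Subgroup G), (k : G) * z = z * (k : G) := by
      intro z hz
      have hzN : z ∈ Subgroup.normalizer ((P : Subgroup G) : Set G) := Subgroup.le_normalizer hz
      have hmem1 : k * ⟨z, hzN⟩ * k⁻¹ * (⟨z, hzN⟩ : ↥(Subgroup.normalizer ((P : Subgroup G) : Set G)))⁻¹ ∈ K₁ := by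
        have : k * ⟨z, hzN⟩ * k⁻¹ * (⟨z, hzN⟩ : ↥(Subgroup.normalizer ((P : Subgroup G) : Set G)))⁻¹
            = k * (⟨z, hzN⟩ * k⁻¹ * (⟨z, hzN⟩ : ↥(Subgroup.normalizer ((P : Subgroup G) : Set G)))⁻¹) := by group
        rw [this]
        exact K₁.mul_mem hk (hK₁n.conj_mem _ (K₁.inv_mem hk) _)
      have hmem2 : k * ⟨z, hzN⟩ * k⁻¹ * (⟨z, hzN⟩ : ↥(Subgroup.normalizer ((P : Subgroup G) : Set G)))⁻¹ ∈
          (P₁ : Subgroup ↥(Subgroup.normalizer ((P : Subgroup G) : Set G))) := by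
        rw [hP₁, Subgroup.mem_subgroupOf]
        have hkN : (k : G) ∈ Subgroup.normalizer ((P : Subgroup G) : Set G) := k.2
        have := (Subgroup.mem_normalizer_iff.mp hkN z).mp hz
        exact (P : Subgroup G).mul_mem this ((P : Subgroup G).inv_mem hz)
      have hbot := hK₁c.disjoint.le_bot (Subgroup.mem_inf.mpr ⟨hmem1, hmem2⟩)
      rw [Subgroup.mem_bot] at hbot
      have hbot' : (k : G) * z * (k : G)⁻¹ * z⁻¹ = 1 := congrArg Subtype.val hbot
      calc (k : G) * z = ((k : G) * z * (k : G)⁻¹ * z⁻¹) * z * (k : G) := by group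
        _ = z * (k : G) := by rw [hbot']; group
    have hyx : (y : G) * x * (y : G)⁻¹ ∈ (P : Subgroup G) :=
      (P : Subgroup G).mul_mem ((P : Subgroup G).mul_mem hy hx) ((P : Subgroup G).inv_mem hy)
    have e : n * x * n⁻¹ * x⁻¹ = (y : G) * x * (y : G)⁻¹ * x⁻¹ := by
      rw [← hky']
      calc (k : G) * (y : G) * x * ((k : G) * (y : G))⁻¹ * x⁻¹
          = ((k : G) * ((y : G) * x * (y : G)⁻¹)) * (k : G)⁻¹ * x⁻¹ := by group
        _ = (((y : G) * x * (y : G)⁻¹) * (k : G)) * (k : G)⁻¹ * x⁻¹ := by rw [hkc _ hyx]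
        _ = (y : G) * x * (y : G)⁻¹ * x⁻¹ := by group
    rw [e]
    exact hcomm _ hy _ hx
  -- apply lemma A in N_G(Q)
  haveI : (Q.subgroupOf (Subgroup.normalizer (Q : Set G))).Normal := Subgroup.normal_in_normalizer
  refine lemmaA (P.subtype hPH) (Q.subgroupOf (Subgroup.normalizer (Q : Set G))) ?_ ?_ ?_
  · rw [Sylow.coe_subtype]
    intro x hx
    rw [Subgroup.mem_subgroupOf] at hx ⊢
    exact hQP hx
  · intro n hn x hx
    rw [Sylow.coe_subtype] at hn hx
    rw [Subgroup.mem_subgroupOf] at hx ⊢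
    apply hcentral _ _ _ hx
    apply Cfsg.Agent.S3803.mem_normalizer_of_conj_mem'
    intro y hy
    have hyH : y ∈ Subgroup.normalizer (Q : Set G) := hPH hy
    have := (Subgroup.mem_normalizer_iff.mp hn ⟨y, hyH⟩).mp (by
      rw [Subgroup.mem_subgroupOf]; exact hy)
    rw [Subgroup.mem_subgroupOf] at this
    exact this
  · intro R hR hdec
    rw [Sylow.coe_subtype] at hR hdec ⊢
    -- transport R to a subgroup of P
    obtain ⟨R₀, hR₀⟩ : ∃ R₀ : Subgroup ↥(P : Subgroup G),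
        R₀ = (R.map (Subgroup.normalizer (Q : Set G)).subtype).subgroupOf (P : Subgroup G) := ⟨_, rfl⟩
    have htop : R₀ ⊔ frattini ↥(P : Subgroup G) = ⊤ := by
      rw [eq_top_iff]
      intro y _
      obtain ⟨q, hq, r, hr, hqr⟩ := hdec ⟨(y : G), hPH y.2⟩ (by rw [Subgroup.mem_subgroupOf]; exact y.2)
      rw [Subgroup.mem_subgroupOf] at hq
      obtain ⟨q₀, hq₀, hq₀eq⟩ := h2 hq
      have hrP : (r : G) ∈ (P : Subgroup G) := by
        have := hR hr
        rwa [Subgroup.mem_subgroupOf] at this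
      have hr₀ : (⟨(r : G), hrP⟩ : ↥(P : Subgroup G)) ∈ R₀ := by
        rw [hR₀, Subgroup.mem_subgroupOf]
        exact Subgroup.mem_map_of_mem _ hr
      have hy : y = q₀ * ⟨(r : G), hrP⟩ := by
        apply Subtype.ext
        have := congrArg Subtype.val hqr
        simp only [Subgroup.coe_mul] at this ⊢
        rw [this]
        congr 1
        exact hq₀eq.symm
      rw [hy]
      exact Subgroup.mul_mem _ (Subgroup.mem_sup_right hq₀) (Subgroup.mem_sup_left hr₀)
    have hR₀top := frattini_nongenerating htop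
    intro x hx
    rw [Subgroup.mem_subgroupOf] at hx
    have : (⟨(x : G), hx⟩ : ↥(P : Subgroup G)) ∈ R₀ := by rw [hR₀top]; trivial
    rw [hR₀, Subgroup.mem_subgroupOf] at this
    obtain ⟨r, hr, hreq⟩ := this
    have : r = x := Subtype.ext hreq
    rwa [← this]

end Cfsg.Agent.S3838
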