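import Cfsg.Statements.S3868
import Mathlib
import Cfsg.Agent.Helper21.MinNonClosed
import Cfsg.Agent.S0010

set_option autoImplicit false
set_option linter.style.haveILetI false
open Cfsg

namespace Cfsg.Agent.S3868

/-- Structure of the non-simple minimal non-p-closed groups. Call a finite group p-closed when its Sylow p-subgroups are normal, and minimal non-p-closed when it is not p-closed but every proper subgroup and every proper quotient is. If such a group G is not simple, then there is a prime q ≠ p such that G has order p · q^e, where e is the multiplicative order of q modulo p, and G has a normal subgroup A of order q^e that is elementary abelian and is a minimal normal subgroup of G (so G is the semidirect product of A by a group of order p acting irreducibly). -/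
theorem result {G : Type*} [Group G] [Finite G] {p : ℕ} [Fact p.Prime]
    (hnc : ¬ Cfsg.IsPClosed p G) (hsub : ∀ H : Subgroup G, H ≠ ⊤ → Cfsg.IsPClosed p ↥H)
    (hquo : ∀ (N : Subgroup G) [N.Normal], N ≠ ⊥ → Cfsg.IsPClosed p (G ⧸ N)) (hns : ¬ IsSimpleGroup G) :
    ∃ q : ℕ, q.Prime ∧ q ≠ p ∧ Nat.card G = p * q ^ orderOf (q : ZMod p) ∧
      ∃ A : Subgroup G, A.Normal ∧ Nat.card ↥A = q ^ orderOf (q : ZMod p) ∧ Cfsg.IsElementaryAbelian q A ∧
        ∀ B : Subgroup G, B.Normal → B ≤ A → B = ⊥ ∨ B = A := by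
  classical
  have hp := (Fact.out : p.Prime)
  obtain ⟨P, hPn⟩ : ∃ P : Sylow p G, ¬ (P : Subgroup G).Normal := by
    by_contra h
    apply hnc
    intro P
    by_contra hP
    exact h ⟨P, hP⟩
  have hQ : ∀ R : Subgroup G, R.Normal → R ≤ P → R = ⊥ := by
    intro R hRn hRP
    by_contra hR1
    haveI := hRn
    have hcl := hquo R hR1
    have hsurj := QuotientGroup.mk'_surjective R
    have h1 := hcl (P.mapSurjective hsurj)
    rw [Sylow.coe_mapSurjective] at h1
    have h2 : ((P : Subgroup G).map (QuotientGroup.mk' R)).comap (QuotientGroup.mk' R) = P := by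
      rw [Subgroup.comap_map_eq, QuotientGroup.ker_mk', sup_eq_left.mpr hRP]
    apply hPn
    rw [← h2]
    exact Subgroup.Normal.comap h1 _
  have hK : ∀ H : Subgroup G, H ≠ ⊤ → ∀ R : Subgroup G, R ≤ P → R ≤ H →
      (∀ S : Subgroup G, S ≤ H → IsPGroup p S → Nat.card S ≤ Nat.card R) →
      H ≤ Subgroup.normalizer (R : Set G) := by
    intro H hH R hRP hRH hmax
    have hcl := hsub H hH
    have hRp : IsPGroup p (R.subgroupOf H) := (P.2.to_le hRP).comap_subtype
    obtain ⟨S₁, hS₁⟩ := hRp.exists_le_sylow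
    have hS₁n := hcl S₁
    have hSle : (S₁ : Subgroup ↥H).map H.subtype ≤ H := Subgroup.map_subtype_le _
    have hSp : IsPGroup p ((S₁ : Subgroup ↥H).map H.subtype) := S₁.2.map _
    have hRS : R ≤ (S₁ : Subgroup ↥H).map H.subtype := by
      intro r hr
      exact ⟨⟨r, hRH hr⟩, hS₁ (by rw [Subgroup.mem_subgroupOf]; exact hr), rfl⟩
    have hSR : (S₁ : Subgroup ↥H).map H.subtype = R :=
      (Subgroup.eq_of_le_of_card_ge hRS (hmax _ hSle hSp)).symm
    intro h hh
    apply Cfsg.Agent.Helper21.ip_mem_normalizer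
    intro r hr
    rw [← hSR] at hr ⊢
    obtain ⟨r', hr', rfl⟩ := hr
    exact ⟨⟨h, hh⟩ * r' * ⟨h, hh⟩⁻¹, hS₁n.conj_mem r' hr' ⟨h, hh⟩, rfl⟩
  haveI : Nontrivial G := by
    by_contra hnt
    rw [not_nontrivial_iff_subsingleton] at hnt
    apply hPn
    refine ⟨fun n hn g => ?_⟩
    have : g * n * g⁻¹ = n := Subsingleton.elim _ _
    rw [this]; exact hn
  obtain ⟨N₀, hN₀n, hN₀1, hN₀top⟩ : ∃ N₀ : Subgroup G, N₀.Normal ∧ N₀ ≠ ⊥ ∧ N₀ ≠ ⊤ := by
    by_contra hcon
    apply hns
    exact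
      { exists_pair_ne := exists_pair_ne G
        eq_bot_or_eq_top_of_normal := fun H hH => by
          by_contra h
          rw [not_or] at h
          exact hcon ⟨H, hH, h.1, h.2⟩ }
  obtain ⟨N, hNn, hN1, hNle, hNmin⟩ : ∃ N : Subgroup G, N.Normal ∧ N ≠ ⊥ ∧ N ≤ N₀ ∧
      ∀ B : Subgroup G, B.Normal → B ≤ N → B = ⊥ ∨ B = N := by
    have hex : ∃ k, ∃ B : Subgroup G, B.Normal ∧ B ≠ ⊥ ∧ B ≤ N₀ ∧ Nat.card B = k :=
      ⟨_, N₀, hN₀n, hN₀1, le_rfl, rfl⟩
    obtain ⟨B, hBn, hB1, hBle, hBcard⟩ := Nat.find_spec hex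
    refine ⟨B, hBn, hB1, hBle, fun C hCn hCB => ?_⟩
    by_contra hC
    rw [not_or] at hC
    have hlt : Nat.card C < Nat.card B := Cfsg.Agent.S0001.card_lt_of_lt (lt_of_le_of_ne hCB hC.2)
    exact Nat.find_min hex (hBcard ▸ hlt) ⟨C, hCn, hC.1, hCB.trans hBle, rfl⟩
  have hNtop : N ≠ ⊤ := fun h => hN₀top (top_le_iff.mp (h ▸ hNle))
  haveI := hNn
  have hpN : ¬ p ∣ Nat.card ↥N := by
    intro hd
    have hcl := hsub N hNtop
    obtain ⟨S₁⟩ : Nonempty (Sylow p ↥N) := inferInstance
    have hS₁n := hcl S₁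
    have hS₁1 := S₁.ne_bot_of_dvd_card hd
    have hfr := Sylow.normalizer_sup_eq_top S₁
    have hNle' : N ≤ Subgroup.normalizer
        (((S₁ : Subgroup ↥N).map N.subtype : Subgroup G) : Set G) := by
      intro n hn
      apply Cfsg.Agent.Helper21.ip_mem_normalizer
      rintro _ ⟨r, hr, rfl⟩
      exact ⟨⟨n, hn⟩ * r * ⟨n, hn⟩⁻¹, hS₁n.conj_mem r hr ⟨n, hn⟩, rfl⟩
    have hSn : ((S₁ : Subgroup ↥N).map N.subtype).Normal := by
      rw [← Subgroup.normalizer_eq_top_iff, ← hfr, sup_eq_left.mpr hNle']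
    have hSp : IsPGroup p ((S₁ : Subgroup ↥N).map N.subtype) := S₁.2.map _
    have hSP : (S₁ : Subgroup ↥N).map N.subtype ≤ P :=
      (Cfsg.Agent.S0010.le_pCore p _ hSn hSp).trans (by
        rw [Cfsg.Agent.S0010.result]; exact iInf_le _ P)
    have := hQ _ hSn hSP
    exact hS₁1 ((Subgroup.map_eq_bot_iff_of_injective _ N.subtype_injective).mp this)
  have hPN : (P : Subgroup G) ⊔ N = ⊤ := by
    by_contra hne
    have hcl := hquo N hN1
    have hsurj := QuotientGroup.mk'_surjective N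
    have h1 := hcl (P.mapSurjective hsurj)
    rw [Sylow.coe_mapSurjective] at h1
    have h2 : ((P : Subgroup G).map (QuotientGroup.mk' N)).comap (QuotientGroup.mk' N) =
        (P : Subgroup G) ⊔ N := by
      rw [Subgroup.comap_map_eq, QuotientGroup.ker_mk']
    have hMn : ((P : Subgroup G) ⊔ N).Normal := by rw [← h2]; exact Subgroup.Normal.comap h1 _
    have hmaxP : ∀ S : Subgroup G, S ≤ (P : Subgroup G) ⊔ N → IsPGroup p S →
        Nat.card S ≤ Nat.card (P : Subgroup G) := by
      intro S _ hS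
      obtain ⟨P', hP'⟩ := hS.exists_le_sylow
      calc Nat.card S ≤ Nat.card (P' : Subgroup G) := Subgroup.card_le_of_le hP'
        _ = Nat.card (P : Subgroup G) := by
          rw [P'.card_eq_multiplicity, P.card_eq_multiplicity]
    have hnorm := hK _ hne (P : Subgroup G) le_rfl le_sup_left hmaxP
    haveI := hMn
    have hfr := Sylow.normalizer_sup_eq_top' P (le_sup_left : (P : Subgroup G) ≤ (P : Subgroup G) ⊔ N)
    apply hPn
    exact Subgroup.normalizer_eq_top_iff.mp (top_le_iff.mp (hfr.ge.trans (sup_le (le_refl _) hnorm)))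
  exact Cfsg.Agent.Helper21.min_structure P hPn N hpN hN1 hNmin hPN hK hQ

end Cfsg.Agent.S3868
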