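import Cfsg.Statements.S3870
import Mathlib

set_option autoImplicit false
open Cfsg
open scoped Pointwise

namespace Cfsg.Agent.S3870

theorem normalizer_grow {G : Type*} [Group G] [Finite G] {p : ℕ} [Fact p.Prime] (P D : Subgroup G)
    (hP : IsPGroup p P) (hD : D < P) :
    ∃ x ∈ P, x ∈ Subgroup.normalizer (D : Set G) ∧ x ∉ D := by
  have := hP.isNilpotent
  have nc := Group.normalizerCondition_of_isNilpotent (G := P)
  have hlt : D.subgroupOf P < ⊤ := by
    rw [lt_top_iff_ne_top, Ne, Subgroup.subgroupOf_eq_top]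
    exact not_le_of_gt hD
  have h := nc _ hlt
  obtain ⟨x, hx, hxD⟩ := SetLike.exists_of_lt h
  rw [← Subgroup.subgroupOf_normalizer_eq hD.le, Subgroup.mem_subgroupOf] at hx
  rw [Subgroup.mem_subgroupOf] at hxD
  exact ⟨x, x.2, hx, hxD⟩

theorem sylow_eq_of_le {G : Type*} [Group G] {p : ℕ} (P Q : Sylow p G)
    (h : (P : Subgroup G) ≤ Q) : P = Q :=
  Sylow.ext (P.is_maximal' Q.isPGroup' h).symm

/-- Let G be a finite simple group whose Sylow p-subgroups are not normal but such that every proper subgroup of G has a normal Sylow p-subgroup. Then any two distinct Sylow p-subgroups of G intersect trivially, and for every Sylow p-subgroup P the normalizer of every non-identity subgroup of P lies in the normalizer of P. -/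
theorem result {G : Type*} [Group G] [Finite G] [IsSimpleGroup G] {p : ℕ} [Fact p.Prime]
    (hnc : ¬ Cfsg.IsPClosed p G) (hsub : ∀ H : Subgroup G, H ≠ ⊤ → Cfsg.IsPClosed p ↥H) :
    (∀ P Q : Sylow p G, P ≠ Q → (P : Subgroup G) ⊓ (Q : Subgroup G) = ⊥) ∧
      ∀ (P : Sylow p G) (R : Subgroup G), R ≤ P → R ≠ ⊥ →
        Subgroup.normalizer (R : Set G) ≤ Subgroup.normalizer ((P : Subgroup G) : Set G) := by
  -- Step 0
  have step0 : ∀ D : Subgroup G, IsPGroup p D → D ≠ ⊥ → Subgroup.normalizer (D : Set G) ≠ ⊤ := by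
    intro D hD hD0 htop
    have hDn : D.Normal := Subgroup.normalizer_eq_top_iff.mp htop
    have hDtop : D = ⊤ := (hDn.eq_bot_or_eq_top).resolve_left hD0
    apply hnc
    intro P
    have : (P : Subgroup G) = ⊤ := by
      have := P.is_maximal' (hDtop ▸ hD) le_top
      exact this.symm
    rw [this]; infer_instance
  have TI : ∀ P Q : Sylow p G, P ≠ Q → (P : Subgroup G) ⊓ (Q : Subgroup G) = ⊥ := by
    by_contra hcon
    push Not at hcon
    obtain ⟨P0, Q0, hne0, hint0⟩ := hcon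
    let α := {pq : Sylow p G × Sylow p G //
      pq.1 ≠ pq.2 ∧ (pq.1 : Subgroup G) ⊓ (pq.2 : Subgroup G) ≠ ⊥}
    have : Nonempty α := ⟨⟨(P0, Q0), hne0, hint0⟩⟩
    obtain ⟨⟨⟨P, Q⟩, hne, hint⟩, hmax⟩ := Finite.exists_max
      (fun x : α => Nat.card ((x.1.1 : Subgroup G) ⊓ (x.1.2 : Subgroup G) : Subgroup G))
    simp only at hne hint hmax
    obtain ⟨D, hD⟩ : ∃ D, D = (P : Subgroup G) ⊓ (Q : Subgroup G) := ⟨_, rfl⟩
    rw [← hD] at hint hmax
    have hDP : D < (P : Subgroup G) := by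
      refine lt_of_le_of_ne (hD ▸ inf_le_left) ?_
      intro h
      have hPQ : (P : Subgroup G) ≤ Q := by rw [← h, hD]; exact inf_le_right
      exact hne (sylow_eq_of_le P Q hPQ)
    have hDQ : D < (Q : Subgroup G) := by
      refine lt_of_le_of_ne (hD ▸ inf_le_right) ?_
      intro h
      have hQP : (Q : Subgroup G) ≤ P := by rw [← h, hD]; exact inf_le_left
      exact hne (sylow_eq_of_le Q P hQP).symm
    have hDp : IsPGroup p D := P.isPGroup'.to_le hDP.le
    obtain ⟨N, hN⟩ : ∃ N, N = Subgroup.normalizer (D : Set G) := ⟨_, rfl⟩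
    have hNtop : N ≠ ⊤ := hN ▸ step0 D hDp hint
    have hNcl := hsub N hNtop
    have hDN : D ≤ N := hN ▸ Subgroup.le_normalizer
    obtain ⟨x, hxP, hxN, hxD⟩ := normalizer_grow (P : Subgroup G) D P.isPGroup' hDP
    obtain ⟨y, hyQ, hyN, hyD⟩ := normalizer_grow (Q : Subgroup G) D Q.isPGroup' hDQ
    rw [← hN] at hxN hyN
    have h1 : IsPGroup p (((P : Subgroup G) ⊓ N).subgroupOf N) :=
      (P.isPGroup'.to_le inf_le_left).comap_subtype
    have h2 : IsPGroup p (((Q : Subgroup G) ⊓ N).subgroupOf N) :=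
      (Q.isPGroup'.to_le inf_le_left).comap_subtype
    obtain ⟨S₁, hS₁⟩ := h1.exists_le_sylow
    obtain ⟨S₂, hS₂⟩ := h2.exists_le_sylow
    have hS₂n : (S₂ : Subgroup N).Normal := hNcl S₂
    have hS₂₁ : (S₂ : Subgroup N) ≤ S₁ := S₂.isPGroup'.le_sylow_of_normal S₁
    have hT : IsPGroup p ((S₁ : Subgroup N).map N.subtype) := S₁.isPGroup'.map _
    obtain ⟨P₁, hP₁⟩ := hT.exists_le_sylow
    have hPN : ∀ z : G, z ∈ (P : Subgroup G) → z ∈ N → z ∈ (P₁ : Subgroup G) := by
      intro z hzP hzN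
      apply hP₁
      refine ⟨⟨z, hzN⟩, hS₁ ?_, rfl⟩
      rw [Subgroup.mem_subgroupOf]
      exact ⟨hzP, hzN⟩
    have hQN : ∀ z : G, z ∈ (Q : Subgroup G) → z ∈ N → z ∈ (P₁ : Subgroup G) := by
      intro z hzQ hzN
      apply hP₁
      refine ⟨⟨z, hzN⟩, hS₂₁ (hS₂ ?_), rfl⟩
      rw [Subgroup.mem_subgroupOf]
      exact ⟨hzQ, hzN⟩
    -- generic step
    have gen : ∀ P' : Sylow p G, D ≤ (P' : Subgroup G) → ∀ z : G, z ∈ (P' : Subgroup G) →
        z ∈ (P₁ : Subgroup G) → z ∉ D → D ≤ (P₁ : Subgroup G) → P' = P₁ := by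
      intro P' hDP' z hzP' hzP₁ hzD hDP₁
      by_contra hne'
      have hle : D ≤ (P' : Subgroup G) ⊓ (P₁ : Subgroup G) := le_inf hDP' hDP₁
      have hne2 : (P' : Subgroup G) ⊓ (P₁ : Subgroup G) ≠ ⊥ := by
        intro h0
        rw [h0, le_bot_iff] at hle
        exact hint hle
      have hm := hmax ⟨(P', P₁), hne', hne2⟩
      simp only at hm
      have heq := Subgroup.eq_of_le_of_card_ge hle hm
      exact hzD (heq ▸ ⟨hzP', hzP₁⟩)
    have hDP₁ : D ≤ (P₁ : Subgroup G) := fun d hd => hPN d (hDP.le hd) (hDN hd)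
    have e1 := gen P hDP.le x hxP (hPN x hxP hxN) hxD hDP₁
    have e2 := gen Q hDQ.le y hyQ (hQN y hyQ hyN) hyD hDP₁
    exact hne (e1.trans e2.symm)
  refine ⟨TI, ?_⟩
  intro P R hRP hR0 g hg
  have hgP : g • P = P := by
    by_contra hne
    have h := TI (g • P) P hne
    apply hR0
    rw [eq_bot_iff, ← h]
    refine le_inf ?_ hRP
    intro r hr
    rw [Sylow.coe_subgroup_smul, Subgroup.mem_pointwise_smul_iff_inv_smul_mem]
    have h1 : g⁻¹ * r * g ∈ R := (Subgroup.mem_set_normalizer_iff''.mp hg r).mp hr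
    have h2 : (MulAut.conj g)⁻¹ • r = g⁻¹ * r * g := by
      simp [MulAut.smul_def, ← map_inv, MulAut.conj_apply]
    rw [h2]
    exact hRP h1
  exact Sylow.smul_eq_iff_mem_normalizer.mp hgP

end Cfsg.Agent.S3870
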