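import Cfsg.Statements.S3872
import Mathlib
import Cfsg.Agent.Helper21.Collect
import Cfsg.Agent.S0586
import Cfsg.Agent.Lead.Cyc

set_option autoImplicit false
set_option linter.style.haveILetI false
open Cfsg

namespace Cfsg.Agent.S3872

/-- Say that a finite group is p-exponent closed when its elements of order dividing p form a subgroup. Let G be a finite p-group that is not p-exponent closed, but all of whose proper subgroups and proper quotients are. Then G is generated by two elements, has nilpotency class at least p, has exponent p², has cyclic center, and has order at least p^(p+1). -/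
theorem result {G : Type*} [Group G] [Finite G] {p : ℕ} [Fact p.Prime] (hG : IsPGroup p G)
    (hnc : ¬ (∃ H : Subgroup G, (H : Set G) = {g : G | g ^ p = 1})) (hsub : ∀ K : Subgroup G, K ≠ ⊤ → (∃ H : Subgroup ↥K, (H : Set ↥K) = {g : ↥K | g ^ p = 1}))
    (hquo : ∀ (N : Subgroup G) [N.Normal], N ≠ ⊥ → (∃ H : Subgroup (G ⧸ N), (H : Set (G ⧸ N)) = {g : (G ⧸ N) | g ^ p = 1})) :
    (∃ x y : G, Subgroup.closure ({x, y} : Set G) = ⊤) ∧ (⊤ : Subgroup G).lowerCentralSeries (p - 1) ≠ ⊥ ∧
      Monoid.exponent G = p ^ 2 ∧ IsCyclic ↥(Subgroup.center G) ∧ p ^ (p + 1) ≤ Nat.card G := by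
  have hp : p.Prime := Fact.out
  have hxy : ∃ x y : G, x ^ p = 1 ∧ y ^ p = 1 ∧ (x * y) ^ p ≠ 1 := by
    by_contra hcon
    push Not at hcon
    apply hnc
    exact ⟨{ carrier := {g | g ^ p = 1}
             mul_mem' := fun {a b} ha hb => hcon a b ha hb
             one_mem' := one_pow p
             inv_mem' := fun {a} ha => by
               show (a⁻¹) ^ p = 1
               rw [inv_pow, show a ^ p = 1 from ha, inv_one] }, rfl⟩
  obtain ⟨x, y, hx, hy, hxy⟩ := hxy
  have hprop : ∀ K : Subgroup G, K ≠ ⊤ → ∀ a ∈ K, ∀ b ∈ K, a ^ p = 1 → b ^ p = 1 →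
      (a * b) ^ p = 1 := by
    intro K hK a ha b hb hap hbp
    obtain ⟨H, hH⟩ := hsub K hK
    have h1 : (⟨a, ha⟩ : K) ∈ (H : Set K) := by
      rw [hH]; exact Subtype.ext (by simpa using hap)
    have h2 : (⟨b, hb⟩ : K) ∈ (H : Set K) := by
      rw [hH]; exact Subtype.ext (by simpa using hbp)
    have h3 : (⟨a, ha⟩ * ⟨b, hb⟩ : K) ∈ (H : Set K) := H.mul_mem h1 h2
    rw [hH] at h3
    have h4 := congrArg Subtype.val (show ((⟨a, ha⟩ * ⟨b, hb⟩ : K)) ^ p = 1 from h3)
    simpa using h4
  have hgen : Subgroup.closure ({x, y} : Set G) = ⊤ := by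
    by_contra hne
    exact hxy (hprop _ hne x (Subgroup.subset_closure (by simp)) y
      (Subgroup.subset_closure (by simp)) hx hy)
  have hpowN : ∀ (N : Subgroup G) [N.Normal], N ≠ ⊥ → ∀ g : G, g ^ p ∈ N := by
    intro N _ hN g
    obtain ⟨H, hH⟩ := hquo N hN
    have hx' : (QuotientGroup.mk' N x) ∈ H := by
      have : (QuotientGroup.mk' N x) ∈ (H : Set (G ⧸ N)) := by
        rw [hH]
        show (QuotientGroup.mk' N x) ^ p = 1
        rw [← map_pow, hx, map_one]
      exact this
    have hy' : (QuotientGroup.mk' N y) ∈ H := by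
      have : (QuotientGroup.mk' N y) ∈ (H : Set (G ⧸ N)) := by
        rw [hH]
        show (QuotientGroup.mk' N y) ^ p = 1
        rw [← map_pow, hy, map_one]
      exact this
    have htop : H = ⊤ := by
      have h1 : (Subgroup.closure ({x, y} : Set G)).map (QuotientGroup.mk' N) ≤ H := by
        rw [MonoidHom.map_closure, Subgroup.closure_le]
        rintro _ ⟨z, hz, rfl⟩
        rcases hz with rfl | rfl
        · exact hx'
        · exact hy'
      rw [hgen, ← MonoidHom.range_eq_map,
        MonoidHom.range_eq_top.mpr (QuotientGroup.mk'_surjective N)] at h1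
      exact top_le_iff.mp h1
    have h2 : (QuotientGroup.mk' N g) ∈ (H : Set (G ⧸ N)) := by rw [htop]; trivial
    rw [hH] at h2
    have h3 : QuotientGroup.mk' N (g ^ p) = 1 := by rw [map_pow]; exact h2
    exact (QuotientGroup.eq_one_iff _).mp h3
  haveI hnt : Nontrivial G := by
    by_contra h
    rw [not_nontrivial_iff_subsingleton] at h
    exact hxy (Subsingleton.elim _ _)
  haveI : Group.IsNilpotent G := hG.isNilpotent
  have hcn : ∀ A : Subgroup G, A ≤ Subgroup.center G → A.Normal := by
    intro A hA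
    refine ⟨fun n hn g => ?_⟩
    have hc := Subgroup.mem_center_iff.mp (hA hn) g
    rw [hc, mul_inv_cancel_right]
    exact hn
  obtain ⟨z, hzc, hzo⟩ : ∃ z ∈ Subgroup.center G, orderOf z = p := by
    haveI := hG.center_nontrivial
    have hcard : p ∣ Nat.card (Subgroup.center G) := by
      obtain ⟨k, hk⟩ := IsPGroup.iff_card.mp (hG.to_subgroup (Subgroup.center G))
      have h1 : 1 < Nat.card (Subgroup.center G) := Finite.one_lt_card
      rw [hk] at h1 ⊢
      have : k ≠ 0 := by
        rintro rfl
        simp at h1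
      exact dvd_pow_self p this
    obtain ⟨z, hz⟩ := exists_prime_orderOf_dvd_card' p hcard
    exact ⟨z, z.2, by rw [Subgroup.orderOf_coe]; exact hz⟩
  have hzp : z ^ p = 1 := by rw [← hzo]; exact pow_orderOf_eq_one z
  have hzN : (Subgroup.zpowers z).Normal := hcn _ (by rw [Subgroup.zpowers_le]; exact hzc)
  have hzne : Subgroup.zpowers z ≠ ⊥ := by
    intro h
    have : z = 1 := by rw [← Subgroup.zpowers_eq_bot]; exact h
    rw [this, orderOf_one] at hzo
    exact hp.one_lt.ne hzo
  have hp2 : ∀ g : G, g ^ (p ^ 2) = 1 := by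
    intro g
    haveI := hzN
    obtain ⟨k, hk⟩ := hpowN (Subgroup.zpowers z) hzne g
    have hk' : z ^ k = g ^ p := hk
    rw [pow_two, pow_mul, ← hk', ← zpow_natCast, ← zpow_mul, mul_comm, zpow_mul, zpow_natCast,
      hzp, one_zpow]
  have hexp : Monoid.exponent G = p ^ 2 := by
    have h1 : Monoid.exponent G ∣ p ^ 2 := Monoid.exponent_dvd_of_forall_pow_eq_one hp2
    obtain ⟨k, hk, hk2⟩ := (Nat.dvd_prime_pow hp).mp h1
    have : k = 2 := by
      by_contra hne
      have hk1 : k ≤ 1 := by omega
      have h3 : Monoid.exponent G ∣ p := by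
        rw [hk2]
        calc p ^ k ∣ p ^ 1 := pow_dvd_pow p hk1
          _ = p := pow_one p
      apply hxy
      obtain ⟨c, hc⟩ := h3
      rw [hc, pow_mul, Monoid.pow_exponent_eq_one, one_pow]
    rw [hk2, this]
  have hcyc : IsCyclic ↥(Subgroup.center G) := by
    letI : CommGroup ↥(Subgroup.center G) :=
      { (inferInstance : Group ↥(Subgroup.center G)) with
        mul_comm := fun a b => Subtype.ext (Subgroup.mem_center_iff.mp b.2 a) }
    refine @Cfsg.Agent.Lead.isCyclic_of_unique_order_p_comm ↥(Subgroup.center G) _ _ p _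
      (hG.to_subgroup _) ?_
    intro H K hH hK
    by_contra hne
    have hdisj : H ⊓ K = ⊥ := by
      have h1 : Nat.card ↥(H ⊓ K) ∣ p := by
        rw [← hH]; exact Subgroup.card_dvd_of_le inf_le_left
      rcases (Nat.dvd_prime hp).mp h1 with h | h
      · exact Subgroup.card_eq_one.mp h
      · exfalso
        have e1 : H ⊓ K = H := Subgroup.eq_of_le_of_card_ge inf_le_left (by rw [h, hH])
        have e2 : H ⊓ K = K := Subgroup.eq_of_le_of_card_ge inf_le_right (by rw [h, hK])
        exact hne (e1.symm.trans e2)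
    have hmapN : ∀ A : Subgroup ↥(Subgroup.center G), Nat.card A = p →
        ∀ g : G, ∃ a ∈ A, (a : G) = g ^ p := by
      intro A hA g
      haveI : (A.map (Subgroup.center G).subtype).Normal := hcn _ (by
        rintro _ ⟨a, _, rfl⟩
        exact a.2)
      have hne' : A.map (Subgroup.center G).subtype ≠ ⊥ := by
        intro h
        rw [Subgroup.map_eq_bot_iff_of_injective _ (Subgroup.subtype_injective _)] at h
        rw [h, Subgroup.card_bot] at hA
        exact hp.one_lt.ne hA
      obtain ⟨a, ha, hag⟩ := hpowN _ hne' g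
      exact ⟨a, ha, hag⟩
    obtain ⟨a, ha, hag⟩ := hmapN H hH (x * y)
    obtain ⟨b, hb, hbg⟩ := hmapN K hK (x * y)
    have hab : a = b := Subtype.ext (hag.trans hbg.symm)
    have h1 : a ∈ H ⊓ K := ⟨ha, hab ▸ hb⟩
    rw [hdisj, Subgroup.mem_bot] at h1
    apply hxy
    rw [← hag, h1]
    rfl
  have hM : ∀ w : G, Subgroup.zpowers w ⊔ commutator G ≠ ⊤ := by
    intro w hw
    have h1 : Subgroup.zpowers w ⊔ frattini G = ⊤ := by
      apply top_le_iff.mp
      rw [← hw]
      exact sup_le_sup_left Cfsg.Agent.S0586.comm_le_frattini _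
    have h2 := frattini_nongenerating h1
    have hx' : x ∈ Subgroup.zpowers w := by rw [h2]; trivial
    have hy' : y ∈ Subgroup.zpowers w := by rw [h2]; trivial
    obtain ⟨i, hi⟩ := hx'
    obtain ⟨j, hj⟩ := hy'
    apply hxy
    have hcomm : Commute x y := by
      rw [← hi, ← hj]
      exact (Commute.refl w).zpow_zpow i j
    rw [hcomm.mul_pow, hx, hy, one_mul]
  have hclass : (⊤ : Subgroup G).lowerCentralSeries (p - 1) ≠ ⊥ := by
    intro hcl
    obtain ⟨M, hMdef⟩ : ∃ M : Subgroup G, M = Subgroup.zpowers x ⊔ commutator G := ⟨_, rfl⟩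
    have hMne : M ≠ ⊤ := by rw [hMdef]; exact hM x
    have hMnorm : ∀ g m, m ∈ M → g * m * g⁻¹ ∈ M := by
      intro g m hm
      have : g * m * g⁻¹ = (g * m * g⁻¹ * m⁻¹) * m := by group
      rw [this]
      refine M.mul_mem ?_ hm
      rw [hMdef]
      apply Subgroup.mem_sup_right
      rw [commutator_def]
      exact Subgroup.commutator_mem_commutator (Subgroup.mem_top g) (Subgroup.mem_top m)
    let Ω : Subgroup G :=
      { carrier := {m | m ∈ M ∧ m ^ p = 1}
        mul_mem' := fun {a b} ha hb =>
          ⟨M.mul_mem ha.1 hb.1, hprop M hMne a ha.1 b hb.1 ha.2 hb.2⟩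
        one_mem' := ⟨M.one_mem, one_pow p⟩
        inv_mem' := fun {a} ha => ⟨M.inv_mem ha.1, by rw [inv_pow, ha.2, inv_one]⟩ }
    haveI hΩN : Ω.Normal :=
      ⟨fun n hn g => ⟨hMnorm g n hn.1, by rw [conj_pow, hn.2, mul_one, mul_inv_cancel]⟩⟩
    have hxΩ : x ∈ Ω :=
      ⟨by rw [hMdef]; exact Subgroup.mem_sup_left (Subgroup.mem_zpowers x), hx⟩
    have hall : ∀ g : G, ∃ k : ℤ, QuotientGroup.mk' Ω g = (QuotientGroup.mk' Ω y) ^ k := by
      intro g
      have hg : g ∈ Subgroup.closure ({x, y} : Set G) := by rw [hgen]; trivial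
      induction hg using Subgroup.closure_induction with
      | mem w hw =>
        rcases hw with rfl | rfl
        · exact ⟨0, by rw [zpow_zero]; exact (QuotientGroup.eq_one_iff _).mpr hxΩ⟩
        · exact ⟨1, by rw [zpow_one]⟩
      | one => exact ⟨0, by simp⟩
      | mul a b _ _ ha hb =>
        obtain ⟨k, hk⟩ := ha
        obtain ⟨l, hl⟩ := hb
        exact ⟨k + l, by rw [map_mul, hk, hl, zpow_add]⟩
      | inv a _ ha =>
        obtain ⟨k, hk⟩ := ha
        exact ⟨-k, by rw [map_inv, hk, zpow_neg]⟩
    have hcommΩ : ∀ d ∈ commutator G, d ^ p = 1 := by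
      have hle : commutator G ≤ Ω := by
        rw [commutator_def, Subgroup.commutator_le]
        intro a _ b _
        obtain ⟨k, hk⟩ := hall a
        obtain ⟨l, hl⟩ := hall b
        rw [commutatorElement_def]
        apply (QuotientGroup.eq_one_iff _).mp
        show QuotientGroup.mk' Ω (a * b * a⁻¹ * b⁻¹) = 1
        rw [map_mul, map_mul, map_mul, map_inv, map_inv, hk, hl]
        group
      intro d hd
      exact (hle hd).2
    have h := Cfsg.Agent.Helper21.class_lt_pow_mul hp hcl ⊥
      (fun d hd => by rw [Subgroup.mem_bot]; exact hcommΩ d hd) x y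
    rw [Subgroup.mem_bot, inv_pow, inv_pow, hx, hy, inv_one, one_mul, one_mul] at h
    exact hxy h
  have hcard : p ^ (p + 1) ≤ Nat.card G := by
    obtain ⟨c, hc⟩ := Subgroup.nilpotent_iff_lowerCentralSeries.mp
      (inferInstance : Group.IsNilpotent G)
    have hstrict : ∀ i, (⊤ : Subgroup G).lowerCentralSeries i ≠ ⊥ →
        (⊤ : Subgroup G).lowerCentralSeries (i + 1) ≠ (⊤ : Subgroup G).lowerCentralSeries i := by
      intro i hi heq
      have hall : ∀ k, (⊤ : Subgroup G).lowerCentralSeries (i + k) =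
          (⊤ : Subgroup G).lowerCentralSeries i := by
        intro k
        induction k with
        | zero => rfl
        | succ k ih =>
          rw [← add_assoc, Subgroup.lowerCentralSeries_succ, ih,
            ← Subgroup.lowerCentralSeries_succ, heq]
      apply hi
      have h1 := Subgroup.lowerCentralSeries_antitone (⊤ : Subgroup G) (show c ≤ i + c by omega)
      rw [hall c, hc] at h1
      exact le_bot_iff.mp h1
    have hgrow : ∀ H K : Subgroup G, H ≤ K → H ≠ K → p * Nat.card H ≤ Nat.card K := by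
      intro H K hle hne
      obtain ⟨a, ha⟩ := IsPGroup.iff_card.mp (hG.to_subgroup H)
      obtain ⟨b, hb⟩ := IsPGroup.iff_card.mp (hG.to_subgroup K)
      have h1 : Nat.card H ≤ Nat.card K := Subgroup.card_le_of_le hle
      have h2 : Nat.card H ≠ Nat.card K := fun h =>
        hne (Subgroup.eq_of_le_of_card_ge hle (le_of_eq h.symm))
      rw [ha, hb] at h1 h2 ⊢
      have h3 : a ≤ b := (Nat.pow_le_pow_iff_right hp.one_lt).mp h1
      have h4 : a ≠ b := fun h => h2 (by rw [h])
      calc p * p ^ a = p ^ (a + 1) := by ring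
        _ ≤ p ^ b := Nat.pow_le_pow_right hp.pos (by omega)
    have hA : ∀ j, j ≤ p - 1 →
        p ^ (j + 1) ≤ Nat.card ((⊤ : Subgroup G).lowerCentralSeries (p - 1 - j)) := by
      intro j
      induction j with
      | zero =>
        intro _
        have := hgrow ⊥ _ bot_le (Ne.symm hclass)
        simpa using this
      | succ j ih =>
        intro hj
        have h1 := ih (by omega)
        have hne : (⊤ : Subgroup G).lowerCentralSeries (p - 1 - (j + 1)) ≠ ⊥ := by
          intro h
          have := Subgroup.lowerCentralSeries_antitone (⊤ : Subgroup G)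
            (show p - 1 - (j + 1) ≤ p - 1 by omega)
          rw [h] at this
          exact hclass (le_bot_iff.mp this)
        have h2 := hstrict _ hne
        have e : p - 1 - (j + 1) + 1 = p - 1 - j := by omega
        rw [e] at h2
        have h3 := hgrow _ _ (Subgroup.lowerCentralSeries_antitone (⊤ : Subgroup G)
          (show p - 1 - (j + 1) ≤ p - 1 - j by omega)) h2
        calc p ^ (j + 1 + 1) = p * p ^ (j + 1) := by ring
          _ ≤ p * Nat.card _ := Nat.mul_le_mul_left p h1
          _ ≤ _ := h3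
    have hL1 : p ^ (p - 1) ≤ Nat.card (commutator G) := by
      have := hA (p - 2) (by omega)
      have e1 : p - 2 + 1 = p - 1 := by have := hp.two_le; omega
      have e2 : p - 1 - (p - 2) = 1 := by have := hp.two_le; omega
      rw [e1, e2] at this
      exact this
    have hidx : p ^ 2 * Nat.card (commutator G) ≤ Nat.card G := by
      have hlt : commutator G < ⊤ := Group.IsSolvable.commutator_lt_top_of_nontrivial G
      obtain ⟨w, -, hw⟩ := SetLike.exists_of_lt hlt
      have h1 := hgrow (commutator G) (Subgroup.zpowers w ⊔ commutator G) le_sup_right (by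
        intro h
        apply hw
        rw [h]
        exact Subgroup.mem_sup_left (Subgroup.mem_zpowers w))
      have h2 := hgrow (Subgroup.zpowers w ⊔ commutator G) ⊤ le_top (hM w)
      rw [Subgroup.card_top] at h2
      calc p ^ 2 * Nat.card (commutator G) = p * (p * Nat.card (commutator G)) := by ring
        _ ≤ p * Nat.card ↥(Subgroup.zpowers w ⊔ commutator G) := Nat.mul_le_mul_left p h1
        _ ≤ _ := h2
    calc p ^ (p + 1) = p ^ 2 * p ^ (p - 1) := by
          rw [← pow_add]; congr 1; have := hp.two_le; omega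
      _ ≤ p ^ 2 * Nat.card (commutator G) := Nat.mul_le_mul_left _ hL1
      _ ≤ _ := hidx
  exact ⟨⟨x, y, hgen⟩, hclass, hexp, hcyc, hcard⟩

end Cfsg.Agent.S3872
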