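import Cfsg.Statements.S3873
import Mathlib
import Cfsg.Agent.Helper21.MinNonClosed

set_option autoImplicit false
set_option linter.style.haveILetI false
open Cfsg

namespace Cfsg.Agent.S3873

/-- Say that a finite group is p-exponent closed when its elements of order dividing p form a subgroup. Let G be a finite group that is not p-exponent closed, but all of whose proper subgroups and proper quotients are, and suppose G is neither simple nor a p-group. Then there is a prime q ≠ p such that G has order p · q^e, where e is the multiplicative order of q modulo p, and G has a normal elementary abelian subgroup of order q^e that is a minimal normal subgroup of G. -/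
theorem result {G : Type*} [Group G] [Finite G] {p : ℕ} [Fact p.Prime]
    (hnc : ¬ (∃ H : Subgroup G, (H : Set G) = {g : G | g ^ p = 1})) (hsub : ∀ K : Subgroup G, K ≠ ⊤ → (∃ H : Subgroup ↥K, (H : Set ↥K) = {g : ↥K | g ^ p = 1}))
    (hquo : ∀ (N : Subgroup G) [N.Normal], N ≠ ⊥ → (∃ H : Subgroup (G ⧸ N), (H : Set (G ⧸ N)) = {g : (G ⧸ N) | g ^ p = 1}))
    (hns : ¬ IsSimpleGroup G) (hnp : ¬ IsPGroup p G) :
    ∃ q : ℕ, q.Prime ∧ q ≠ p ∧ Nat.card G = p * q ^ orderOf (q : ZMod p) ∧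
      ∃ A : Subgroup G, A.Normal ∧ Nat.card ↥A = q ^ orderOf (q : ZMod p) ∧ Cfsg.IsElementaryAbelian q A ∧
        ∀ B : Subgroup G, B.Normal → B ≤ A → B = ⊥ ∨ B = A := by
  classical
  have hp := (Fact.out : p.Prime)
  obtain ⟨x, y, hx, hy, hxy⟩ : ∃ x y : G, x ^ p = 1 ∧ y ^ p = 1 ∧ (x * y) ^ p ≠ 1 := by
    by_contra hcon
    apply hnc
    refine ⟨{ carrier := {g | g ^ p = 1}, mul_mem' := ?_, one_mem' := one_pow p, inv_mem' := ?_ }, rfl⟩
    · intro a b ha hb
      by_contra hab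
      exact hcon ⟨a, b, ha, hb, hab⟩
    · intro a ha
      show a⁻¹ ^ p = 1
      rw [inv_pow, show a ^ p = 1 from ha, inv_one]
  have hgen : Subgroup.closure ({x, y} : Set G) = ⊤ := by
    by_contra hne
    obtain ⟨H, hH⟩ := hsub _ hne
    have hxK : x ∈ Subgroup.closure ({x, y} : Set G) := Subgroup.subset_closure (by simp)
    have hyK : y ∈ Subgroup.closure ({x, y} : Set G) := Subgroup.subset_closure (by simp)
    have hxH : (⟨x, hxK⟩ : ↥(Subgroup.closure ({x, y} : Set G))) ∈ H := by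
      have : (⟨x, hxK⟩ : ↥(Subgroup.closure ({x, y} : Set G))) ∈ (H : Set _) := by
        rw [hH]; exact Subtype.ext hx
      exact this
    have hyH : (⟨y, hyK⟩ : ↥(Subgroup.closure ({x, y} : Set G))) ∈ H := by
      have : (⟨y, hyK⟩ : ↥(Subgroup.closure ({x, y} : Set G))) ∈ (H : Set _) := by
        rw [hH]; exact Subtype.ext hy
      exact this
    have h2 : (⟨x, hxK⟩ * ⟨y, hyK⟩ : ↥(Subgroup.closure ({x, y} : Set G))) ∈ (H : Set _) :=
      H.mul_mem hxH hyH
    rw [hH] at h2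
    exact hxy (congrArg Subtype.val h2)
  have hexp : ∀ (M : Subgroup G) [M.Normal], M ≠ ⊥ → ∀ g : G, g ^ p ∈ M := by
    intro M hMn hM g
    obtain ⟨H, hH⟩ := hquo M hM
    have hmemH : ∀ z : G, z ^ p = 1 → (QuotientGroup.mk z : G ⧸ M) ∈ H := by
      intro z hz
      have : (QuotientGroup.mk z : G ⧸ M) ∈ (H : Set (G ⧸ M)) := by
        rw [hH]
        show (QuotientGroup.mk z : G ⧸ M) ^ p = 1
        rw [← QuotientGroup.mk_pow, hz]; rfl
      exact this
    have hle : Subgroup.closure ({x, y} : Set G) ≤ H.comap (QuotientGroup.mk' M) := by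
      rw [Subgroup.closure_le]
      intro z hz
      rcases hz with h | h
      · rw [h]; exact hmemH _ hx
      · rw [Set.mem_singleton_iff] at h
        rw [h]; exact hmemH _ hy
    rw [hgen] at hle
    have hg : (QuotientGroup.mk g : G ⧸ M) ∈ (H : Set (G ⧸ M)) := hle (Subgroup.mem_top g)
    rw [hH] at hg
    have hg' : (QuotientGroup.mk g : G ⧸ M) ^ p = 1 := hg
    rw [← QuotientGroup.mk_pow] at hg'
    exact (QuotientGroup.eq_one_iff _).mp hg'
  haveI : Nontrivial G := by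
    by_contra hnt
    rw [not_nontrivial_iff_subsingleton] at hnt
    apply hnp
    intro g
    exact ⟨0, Subsingleton.elim _ _⟩
  obtain ⟨N₀, hN₀n, hN₀1, hN₀top⟩ : ∃ N₀ : Subgroup G, N₀.Normal ∧ N₀ ≠ ⊥ ∧ N₀ ≠ ⊤ := by
    by_contra hcon
    apply hns
    exact
      { exists_pair_ne := exists_pair_ne G
        eq_bot_or_eq_top_of_normal := fun H hH => by
          by_contra h
          rw [not_or] at h
          exact hcon ⟨H, hH, h.1, h.2⟩ }
  obtain ⟨N, hNn, hN1, hNle, hNmin⟩ : ∃ N : Subgroup G, N.Normal ∧ N ≠ ⊥ ∧ N ≤ N₀ ∧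
      ∀ B : Subgroup G, B.Normal → B ≤ N → B = ⊥ ∨ B = N := by
    have hex : ∃ k, ∃ B : Subgroup G, B.Normal ∧ B ≠ ⊥ ∧ B ≤ N₀ ∧ Nat.card B = k :=
      ⟨_, N₀, hN₀n, hN₀1, le_rfl, rfl⟩
    obtain ⟨B, hBn, hB1, hBle, hBcard⟩ := Nat.find_spec hex
    refine ⟨B, hBn, hB1, hBle, fun C hCn hCB => ?_⟩
    by_contra hC
    rw [not_or] at hC
    have hlt : Nat.card C < Nat.card B := Cfsg.Agent.S0001.card_lt_of_lt (lt_of_le_of_ne hCB hC.2)
    exact Nat.find_min hex (hBcard ▸ hlt) ⟨C, hCn, hC.1, hCB.trans hBle, rfl⟩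
  have hNtop : N ≠ ⊤ := fun h => hN₀top (top_le_iff.mp (h ▸ hNle))
  haveI := hNn
  have hpN : ¬ p ∣ Nat.card ↥N := by
    intro hd
    obtain ⟨H, hH⟩ := hsub N hNtop
    have hΩn : (H.map N.subtype).Normal := by
      refine ⟨fun a ha g => ?_⟩
      obtain ⟨a', ha', rfl⟩ := ha
      have ha'p : a' ^ p = 1 := by
        have : a' ∈ (H : Set ↥N) := ha'
        rw [hH] at this; exact this
      refine ⟨⟨g * a' * g⁻¹, hNn.conj_mem _ a'.2 g⟩, ?_, rfl⟩
      have : (⟨g * a' * g⁻¹, hNn.conj_mem _ a'.2 g⟩ : ↥N) ∈ (H : Set ↥N) := by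
        rw [hH]
        apply Subtype.ext
        show (g * (a' : G) * g⁻¹) ^ p = 1
        rw [conj_pow]
        have : (a' : G) ^ p = 1 := congrArg Subtype.val ha'p
        rw [this, mul_one, mul_inv_cancel]
      exact this
    have hΩ1 : H.map N.subtype ≠ ⊥ := by
      obtain ⟨u, hu⟩ := exists_prime_orderOf_dvd_card' (G := ↥N) p hd
      intro h
      have huH : u ∈ (H : Set ↥N) := by
        rw [hH]
        show u ^ p = 1
        rw [← hu]; exact pow_orderOf_eq_one u
      have : (u : G) ∈ H.map N.subtype := ⟨u, huH, rfl⟩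
      rw [h, Subgroup.mem_bot] at this
      have hu1 : u = 1 := Subtype.ext this
      rw [hu1, orderOf_one] at hu
      exact hp.one_lt.ne hu
    have hΩeq := (hNmin _ hΩn (Subgroup.map_subtype_le _)).resolve_left hΩ1
    have hNexp : ∀ n ∈ N, n ^ p = 1 := by
      intro n hn
      have : n ∈ H.map N.subtype := by rw [hΩeq]; exact hn
      obtain ⟨n', hn', rfl⟩ := this
      have : n' ∈ (H : Set ↥N) := hn'
      rw [hH] at this
      exact congrArg Subtype.val (show n' ^ p = 1 from this)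
    apply hnp
    intro g
    refine ⟨2, ?_⟩
    have h1 := hexp N hN1 g
    have h2 := hNexp _ h1
    rw [pow_two, pow_mul]; exact h2
  obtain ⟨P⟩ : Nonempty (Sylow p G) := inferInstance
  obtain ⟨kP, hkP⟩ := IsPGroup.iff_card.mp P.2
  have hcopPN : (Nat.card (P : Subgroup G)).Coprime (Nat.card N) := by
    rw [hkP]; exact Nat.Coprime.pow_left _ ((Nat.Prime.coprime_iff_not_dvd hp).mpr hpN)
  have hPNbot : (P : Subgroup G) ⊓ N = ⊥ := Cfsg.Agent.Lead.inf_eq_bot_of_coprime hcopPN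
  have hPN : (P : Subgroup G) ⊔ N = ⊤ := by
    have hqp : IsPGroup p (G ⧸ N) := by
      intro g
      obtain ⟨g, rfl⟩ := QuotientGroup.mk_surjective g
      refine ⟨1, ?_⟩
      rw [pow_one, ← QuotientGroup.mk_pow]
      exact (QuotientGroup.eq_one_iff _).mpr (hexp N hN1 g)
    obtain ⟨k, hk⟩ := IsPGroup.iff_card.mp hqp
    have hidxN : N.index = p ^ k := hk
    rw [← Subgroup.index_eq_one]
    have h1 : ((P : Subgroup G) ⊔ N).index ∣ p ^ k := by
      rw [← hidxN]; exact Subgroup.index_dvd_of_le le_sup_right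
    have h2 : ¬ p ∣ ((P : Subgroup G) ⊔ N).index :=
      fun h => P.not_dvd_index (h.trans (Subgroup.index_dvd_of_le le_sup_left))
    obtain ⟨j, -, hj⟩ := (Nat.dvd_prime_pow hp).mp h1
    rcases Nat.eq_zero_or_pos j with h0 | hpos
    · rw [hj, h0, pow_zero]
    · exact absurd (hj ▸ dvd_pow_self p hpos.ne') h2
  have hPexp : ∀ u ∈ (P : Subgroup G), u ^ p = 1 := by
    intro u hu
    have h1 := hexp N hN1 u
    have h2 : u ^ p ∈ (P : Subgroup G) ⊓ N := ⟨Subgroup.pow_mem _ hu _, h1⟩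
    rw [hPNbot, Subgroup.mem_bot] at h2
    exact h2
  have hPn : ¬ (P : Subgroup G).Normal := by
    intro hn
    apply hnc
    refine ⟨P, ?_⟩
    ext g
    constructor
    · intro hg; exact hPexp g hg
    · intro hg
      have hg' : g ^ p = 1 := hg
      have hz : IsPGroup p (Subgroup.zpowers g) := by
        rintro ⟨_, i, rfl⟩
        refine ⟨1, ?_⟩
        apply Subtype.ext
        show (g ^ i) ^ p ^ 1 = 1
        rw [pow_one, ← zpow_natCast, ← zpow_mul, mul_comm, zpow_mul, zpow_natCast, hg', one_zpow]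
      obtain ⟨P', hP'⟩ := hz.exists_le_sylow
      haveI := Sylow.unique_of_normal P hn
      have : P' = P := Subsingleton.elim _ _
      rw [← this]; exact hP' (Subgroup.mem_zpowers g)
  have hQ : ∀ R : Subgroup G, R.Normal → R ≤ P → R = ⊥ := by
    intro R hRn hRP
    by_contra hR1
    haveI := hRn
    obtain ⟨⟨n, hnN⟩, hn1⟩ := (Subgroup.ne_bot_iff_exists_ne_one).mp hN1
    have hn1' : n ≠ 1 := fun h => hn1 (Subtype.ext h)
    have h1 := hexp R hR1 n
    have h2 : n ^ p ∈ (P : Subgroup G) ⊓ N := ⟨hRP h1, Subgroup.pow_mem _ hnN _⟩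
    rw [hPNbot, Subgroup.mem_bot] at h2
    have h3 : orderOf n = p := orderOf_eq_prime h2 hn1'
    apply hpN
    have := orderOf_dvd_natCard (⟨n, hnN⟩ : ↥N)
    rwa [Subgroup.orderOf_mk, h3] at this
  have hK : ∀ H : Subgroup G, H ≠ ⊤ → ∀ R : Subgroup G, R ≤ P → R ≤ H →
      (∀ S : Subgroup G, S ≤ H → IsPGroup p S → Nat.card S ≤ Nat.card R) →
      H ≤ Subgroup.normalizer (R : Set G) := by
    intro H hH R hRP hRH hmax
    obtain ⟨T₁, hT₁⟩ := hsub H hH
    have hTmem : ∀ t : G, t ∈ T₁.map H.subtype ↔ (t ∈ H ∧ t ^ p = 1) := by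
      intro t
      constructor
      · rintro ⟨t', ht', rfl⟩
        have : t' ∈ (T₁ : Set ↥H) := ht'
        rw [hT₁] at this
        exact ⟨t'.2, congrArg Subtype.val (show t' ^ p = 1 from this)⟩
      · rintro ⟨htH, htp⟩
        refine ⟨⟨t, htH⟩, ?_, rfl⟩
        have : (⟨t, htH⟩ : ↥H) ∈ (T₁ : Set ↥H) := by rw [hT₁]; exact Subtype.ext htp
        exact this
    have hTp : IsPGroup p (T₁.map H.subtype) := by
      rintro ⟨t, ht⟩
      refine ⟨1, ?_⟩
      apply Subtype.ext
      show t ^ p ^ 1 = 1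
      rw [pow_one]; exact ((hTmem t).mp ht).2
    have hRT : R ≤ T₁.map H.subtype :=
      fun r hr => (hTmem r).mpr ⟨hRH hr, hPexp r (hRP hr)⟩
    have hTR : T₁.map H.subtype = R :=
      (Subgroup.eq_of_le_of_card_ge hRT (hmax _ (Subgroup.map_subtype_le _) hTp)).symm
    intro h hh
    apply Cfsg.Agent.Helper21.ip_mem_normalizer
    intro r hr
    rw [← hTR, hTmem] at hr ⊢
    exact ⟨H.mul_mem (H.mul_mem hh hr.1) (H.inv_mem hh),
      by rw [conj_pow, hr.2, mul_one, mul_inv_cancel]⟩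
  exact Cfsg.Agent.Helper21.min_structure P hPn N hpN hN1 hNmin hPN hK hQ

end Cfsg.Agent.S3873
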