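import Cfsg.Statements.S3880
import Mathlib
import Cfsg.Agent.Helper21.Metacyclic

set_option autoImplicit false
set_option linter.style.haveILetI false
open Cfsg

namespace Cfsg.Agent.S3880

/-- Let p be an odd prime and G a finite metacyclic p-group (G has a cyclic normal subgroup with cyclic quotient). Then a subgroup L of G is abelian if and only if |L| ≤ |G : G'|, and L is a maximal abelian subgroup of G if and only if |L| = |G : G'|. -/
theorem result {G : Type*} [Group G] [Finite G] {p : ℕ} [Fact p.Prime] (hp : p ≠ 2) (hG : IsPGroup p G) (hmc : Cfsg.IsMetacyclic G) (L : Subgroup G) :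
    (IsMulCommutative ↥L ↔ Nat.card ↥L ≤ (commutator G).index) ∧
      (Maximal (fun K : Subgroup G => IsMulCommutative ↥K) L ↔ Nat.card ↥L = (commutator G).index) := by
  have hpp : p.Prime := Fact.out
  have hcomm_iff : ∀ K : Subgroup G, IsMulCommutative ↥K ↔ ∀ x ∈ K, ∀ y ∈ K, x * y = y * x := by
    intro K
    constructor
    · intro h x hx y hy
      have e : (⟨x, hx⟩ : K) * ⟨y, hy⟩ = ⟨y, hy⟩ * ⟨x, hx⟩ := h.is_comm.comm _ _
      exact congrArg Subtype.val e
    · intro h
      exact ⟨⟨fun a b => Subtype.ext (h a a.2 b b.2)⟩⟩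
  have key : ∀ K : Subgroup G, IsMulCommutative ↥K ↔ Nat.card ↥K ≤ (commutator G).index := by
    intro K
    by_cases hab : ∀ x y : G, x * y = y * x
    · have h1 : Subgroup.center G = ⊤ := by
        rw [eq_top_iff]; intro x _; rw [Subgroup.mem_center_iff]; intro g; exact hab g x
      have h2 : commutator G = ⊥ := (commutator_eq_bot_iff_center_eq_top G).mpr h1
      rw [h2, Subgroup.index_bot, hcomm_iff]
      exact ⟨fun _ => Subgroup.card_le_card_group K, fun _ x _ y _ => hab x y⟩
    · obtain ⟨D⟩ := Cfsg.Agent.Helper21.exists_mcdata hG hmc hab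
      rw [hcomm_iff, D.index_commutator hp]
      exact D.abelian_iff hp K
  refine ⟨key L, ?_⟩
  obtain ⟨e, he⟩ := IsPGroup.iff_card.mp hG
  obtain ⟨i, hi⟩ : ∃ i, (commutator G).index = p ^ i := by
    have h1 := Subgroup.index_dvd_card (commutator G)
    rw [he] at h1
    obtain ⟨i, -, hi⟩ := (Nat.dvd_prime_pow hpp).mp h1
    exact ⟨i, hi⟩
  constructor
  · intro hmax
    have h1 := (key L).mp hmax.1
    by_contra hne
    have hlt : Nat.card L < (commutator G).index := lt_of_le_of_ne h1 hne
    obtain ⟨j, hj⟩ : ∃ j, Nat.card L = p ^ j := by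
      have h2 := Subgroup.card_subgroup_dvd_card L
      rw [he] at h2
      obtain ⟨j, -, hj⟩ := (Nat.dvd_prime_pow hpp).mp h2
      exact ⟨j, hj⟩
    rw [hi, hj] at hlt
    have hji : j < i := (Nat.pow_lt_pow_iff_right hpp.one_lt).mp hlt
    have hdvd : p ^ (j + 1) ∣ Nat.card G := by
      have h3 : p ^ (j + 1) ∣ p ^ i := pow_dvd_pow p hji
      exact h3.trans (by rw [← hi]; exact Subgroup.index_dvd_card _)
    obtain ⟨K, hK, hLK⟩ := Sylow.exists_subgroup_card_pow_succ hdvd hj
    have hKab : IsMulCommutative ↥K := by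
      rw [key K, hK, hi]
      exact Nat.pow_le_pow_right hpp.pos hji
    have h4 := hmax.2 hKab hLK
    have h5 := Subgroup.card_le_of_le h4
    rw [hK, hj] at h5
    have := Nat.pow_lt_pow_right hpp.one_lt (show j < j + 1 by omega)
    omega
  · intro hcard
    refine ⟨(key L).mpr hcard.le, ?_⟩
    intro K hK hLK
    have h1 := (key K).mp hK
    rw [← hcard] at h1
    exact (Subgroup.eq_of_le_of_card_ge hLK h1).ge

end Cfsg.Agent.S3880
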