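import Cfsg.Statements.S3881
import Mathlib
import Cfsg.Agent.Helper21.Metacyclic

set_option autoImplicit false
set_option linter.style.haveILetI false
open Cfsg

namespace Cfsg.Agent.S3881

/-- Let p be an odd prime and G a finite metacyclic p-group (G has a cyclic normal subgroup with cyclic quotient). Suppose G is non-abelian with |G'| = p^n. Then for 1 ≤ i ≤ n the number of elements of G whose conjugacy class has exactly p^i elements is |Z(G)| · (p^(2i) − p^(2i−2)). -/
theorem result {G : Type*} [Group G] [Finite G] {p : ℕ} [Fact p.Prime] (hp : p ≠ 2) (hG : IsPGroup p G) (hmc : Cfsg.IsMetacyclic G) (n : ℕ) (hn : n ≠ 0) (hGn : Nat.card ↥(commutator G) = p ^ n) (i : ℕ) (hi : 1 ≤ i) (hin : i ≤ n) :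
    Nat.card {g : G // (Subgroup.centralizer ({g} : Set G)).index = p ^ i} =
      Nat.card ↥(Subgroup.center G) * (p ^ (2 * i) - p ^ (2 * i - 2)) := by
  have hpp : p.Prime := Fact.out
  by_cases hab : ∀ x y : G, x * y = y * x
  · exfalso
    have h1 : Subgroup.center G = ⊤ := by
      rw [eq_top_iff]; intro x _; rw [Subgroup.mem_center_iff]; intro g; exact hab g x
    have h2 : commutator G = ⊥ := (commutator_eq_bot_iff_center_eq_top G).mpr h1
    rw [h2, Subgroup.card_bot] at hGn
    have := Nat.one_lt_pow hn hpp.one_lt
    omega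
  · obtain ⟨D⟩ := Cfsg.Agent.Helper21.exists_mcdata hG hmc hab
    have hDn : D.n = n := by
      have := D.card_commutator hp
      rw [hGn] at this
      exact (Nat.pow_right_injective hpp.two_le this).symm
    subst hDn
    have hset : {g : G | (Subgroup.centralizer ({g} : Set G)).index = p ^ i}
        = (D.M (D.n - i) : Set G) \ (D.M (D.n - i + 1) : Set G) := by
      ext g
      simp only [Set.mem_ofPred_eq, Set.mem_sdiff, SetLike.mem_coe]
      rw [D.mem_M_iff hp (D.n - i) (by omega) g, D.mem_M_iff hp (D.n - i + 1) (by omega) g]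
      have e1 : D.n - (D.n - i) = i := by omega
      have e2 : D.n - (D.n - i + 1) = i - 1 := by omega
      rw [e1, e2]
      obtain ⟨j, hj⟩ : ∃ j, (Subgroup.centralizer ({g} : Set G)).index = p ^ j := by
        obtain ⟨e, he⟩ := IsPGroup.iff_card.mp hG
        have h1 := Subgroup.index_dvd_card (Subgroup.centralizer ({g} : Set G))
        rw [he] at h1
        obtain ⟨j, -, hj⟩ := (Nat.dvd_prime_pow hpp).mp h1
        exact ⟨j, hj⟩
      rw [hj, Nat.pow_le_pow_iff_right hpp.one_lt, Nat.pow_le_pow_iff_right hpp.one_lt]
      constructor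
      · intro h
        have := Nat.pow_right_injective hpp.two_le h
        omega
      · intro h
        congr 1
        omega
    have hle : (D.M (D.n - i + 1) : Set G) ⊆ (D.M (D.n - i) : Set G) := by
      intro g hg
      have h1 := (D.mem_M_iff hp (D.n - i + 1) (by omega) g).mp hg
      apply (D.mem_M_iff hp (D.n - i) (by omega) g).mpr
      exact h1.trans (Nat.pow_le_pow_right hpp.pos (by omega))
    have hcard : Nat.card {g : G // (Subgroup.centralizer ({g} : Set G)).index = p ^ i}
        = Nat.card (D.M (D.n - i)) - Nat.card (D.M (D.n - i + 1)) := by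
      have h1 : Nat.card {g : G // (Subgroup.centralizer ({g} : Set G)).index = p ^ i}
          = ({g : G | (Subgroup.centralizer ({g} : Set G)).index = p ^ i}).ncard :=
        Nat.card_coe_set_eq _
      rw [h1, hset, Set.ncard_sdiff hle (Set.toFinite _)]
      rw [← Nat.card_coe_set_eq, ← Nat.card_coe_set_eq]
      rfl
    rw [hcard, D.card_center hp, D.card_M hp _ (by omega), D.card_M hp _ (by omega)]
    have hm := D.n_le_m
    have hk := D.n_le_k hp
    rw [Nat.mul_sub, ← pow_add, ← pow_add, ← pow_add, ← pow_add, ← pow_add]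
    congr 2 <;> omega

end Cfsg.Agent.S3881
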