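import Cfsg.Statements.S3882
import Mathlib
import Cfsg.Agent.Helper21.Metacyclic

set_option autoImplicit false
set_option linter.style.haveILetI false
open Cfsg

namespace Cfsg.Agent.S3882

/-- Let p be an odd prime and G a finite metacyclic p-group (G has a cyclic normal subgroup with cyclic quotient). Suppose |G'| = p^n and 0 ≤ s ≤ n. Then an element g lies in the subgroup generated by the p^s-th powers if and only if its conjugacy class has at most p^(n−s) elements; in particular the subgroup generated by the p^n-th powers is the center of G. -/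
theorem result {G : Type*} [Group G] [Finite G] {p : ℕ} [Fact p.Prime] (hp : p ≠ 2) (hG : IsPGroup p G) (hmc : Cfsg.IsMetacyclic G) (n : ℕ) (hGn : Nat.card ↥(commutator G) = p ^ n) (s : ℕ) (hs : s ≤ n) (g : G) :
    (g ∈ Subgroup.closure {x : G | ∃ y : G, y ^ p ^ s = x} ↔ (Subgroup.centralizer ({g} : Set G)).index ≤ p ^ (n - s)) ∧
      Subgroup.closure {x : G | ∃ y : G, y ^ p ^ n = x} = Subgroup.center G := by
  have hpp : p.Prime := Fact.out
  by_cases hab : ∀ x y : G, x * y = y * x
  · have h1 : Subgroup.center G = ⊤ := by
      rw [eq_top_iff]; intro x _; rw [Subgroup.mem_center_iff]; intro g; exact hab g x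
    have h2 : commutator G = ⊥ := (commutator_eq_bot_iff_center_eq_top G).mpr h1
    rw [h2, Subgroup.card_bot] at hGn
    have hn : n = 0 := by
      by_contra h
      have := Nat.one_lt_pow h hpp.one_lt
      omega
    subst hn
    have hs0 : s = 0 := by omega
    subst hs0
    have hcl : Subgroup.closure {x : G | ∃ y : G, y ^ p ^ 0 = x} = ⊤ := by
      rw [eq_top_iff]; intro x _; exact Subgroup.subset_closure ⟨x, by simp⟩
    refine ⟨?_, by rw [hcl, h1]⟩
    rw [hcl]
    have h3 : Subgroup.centralizer ({g} : Set G) = ⊤ := by
      rw [Subgroup.centralizer_eq_top_iff_subset, h1]; exact Set.subset_univ _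
    rw [h3, Subgroup.index_top]
    simp
  · obtain ⟨D⟩ := Cfsg.Agent.Helper21.exists_mcdata hG hmc hab
    have hn : D.n = n := by
      have := D.card_commutator hp
      rw [hGn] at this
      exact (Nat.pow_right_injective hpp.two_le this).symm
    rw [D.agemo_eq hp s, D.agemo_eq hp n, D.center_eq hp, ← hn]
    exact ⟨D.mem_M_iff hp s (by rw [hn]; exact hs) g, rfl⟩

end Cfsg.Agent.S3882
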