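import Cfsg.Statements.S3883
import Mathlib
import Cfsg.Agent.Helper21.Metacyclic
import Cfsg.Agent.S0012
import Cfsg.Agent.S0013

set_option autoImplicit false
set_option linter.style.haveILetI false
open Cfsg

namespace Cfsg.Agent.S3883

/-- Let p be an odd prime and G a finite metacyclic p-group (G has a cyclic normal subgroup with cyclic quotient). Suppose G is non-abelian. Then an element g of G lies outside the Frattini subgroup if and only if its centralizer C_G(g) is abelian. -/
theorem result {G : Type*} [Group G] [Finite G] {p : ℕ} [Fact p.Prime] (hp : p ≠ 2) (hG : IsPGroup p G) (hmc : Cfsg.IsMetacyclic G) (hna : ¬ IsMulCommutative G) (g : G) :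
    g ∉ frattini G ↔ IsMulCommutative ↥(Subgroup.centralizer ({g} : Set G)) := by
  have hpp : p.Prime := Fact.out
  have hab : ¬ ∀ x y : G, x * y = y * x := fun h => hna ⟨⟨h⟩⟩
  obtain ⟨D⟩ := Cfsg.Agent.Helper21.exists_mcdata hG hmc hab
  have hn : 1 ≤ D.n := by
    by_contra h
    have h0 : D.n = 0 := by omega
    have h1 := D.card_commutator hp
    rw [h0, pow_zero] at h1
    have h2 : commutator G = ⊥ := Subgroup.card_eq_one.mp h1
    have h3 : Subgroup.center G = ⊤ := (commutator_eq_bot_iff_center_eq_top G).mp h2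
    apply hab
    intro x y
    have : y ∈ Subgroup.center G := by rw [h3]; exact Subgroup.mem_top y
    exact Subgroup.mem_center_iff.mp this x
  have hfr : frattini G = D.M 1 := by
    apply le_antisymm
    · haveI : (D.M 1).Normal := by
        rw [← D.agemo_eq hp 1]; exact Cfsg.Agent.Helper21.closure_pow_normal _
      apply Cfsg.Agent.S0013.result p hG (D.M 1)
      · rw [commutator_def, Subgroup.commutator_le]
        intro g₁ _ g₂ _
        have h1 := D.comm_mem_T hp 0 g₂ (by rw [D.M_zero]; exact Subgroup.mem_top _) g₁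
        have h2 : Subgroup.zpowers (D.a ^ p ^ (D.t + 0)) ≤ D.M 1 := by
          rw [Subgroup.zpowers_le]
          apply Subgroup.mem_sup_left
          apply Cfsg.Agent.Helper21.pow_mem_zpowers_of_dvd
          exact pow_dvd_pow p (by have := D.one_le_t; omega)
        rw [commutatorElement_def]
        exact h2 h1
      · intro x
        have := D.pow_mem_M hp 1 x
        rwa [pow_one] at this
    · have h12 := (Cfsg.Agent.S0012.result p hG).2
      apply sup_le
      · rw [Subgroup.zpowers_le, pow_one]; exact h12 D.a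
      · rw [Subgroup.zpowers_le, pow_one]; exact h12 D.b
  have hcomm_iff : ∀ K : Subgroup G, IsMulCommutative ↥K ↔ ∀ x ∈ K, ∀ y ∈ K, x * y = y * x := by
    intro K
    constructor
    · intro h x hx y hy
      have e : (⟨x, hx⟩ : K) * ⟨y, hy⟩ = ⟨y, hy⟩ * ⟨x, hx⟩ := h.is_comm.comm _ _
      exact congrArg Subtype.val e
    · intro h
      exact ⟨⟨fun a b => Subtype.ext (h a a.2 b b.2)⟩⟩
  rw [hfr, D.mem_M_iff hp 1 hn g, hcomm_iff, D.abelian_iff hp]
  have hC := Subgroup.card_mul_index (Subgroup.centralizer ({g} : Set G))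
  rw [D.card_G hp] at hC
  obtain ⟨j, hj⟩ : ∃ j, (Subgroup.centralizer ({g} : Set G)).index = p ^ j := by
    have h1 := Subgroup.index_dvd_card (Subgroup.centralizer ({g} : Set G))
    rw [D.card_G hp, ← pow_add] at h1
    obtain ⟨j, -, hj⟩ := (Nat.dvd_prime_pow hpp).mp h1
    exact ⟨j, hj⟩
  have hjn : j ≤ D.n := by
    have h1 := D.index_le_of_mem hp 0 (Nat.zero_le _) g
      (by rw [D.M_zero]; exact Subgroup.mem_top _)
    rw [hj, Nat.sub_zero] at h1
    exact (Nat.pow_le_pow_iff_right hpp.one_lt).mp h1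
  obtain ⟨c, hc⟩ : ∃ c, Nat.card (Subgroup.centralizer ({g} : Set G)) = p ^ c := by
    have h1 := Subgroup.card_subgroup_dvd_card (Subgroup.centralizer ({g} : Set G))
    rw [D.card_G hp, ← pow_add] at h1
    obtain ⟨c, -, hc⟩ := (Nat.dvd_prime_pow hpp).mp h1
    exact ⟨c, hc⟩
  rw [hj, hc, ← pow_add, ← pow_add] at hC
  have hcj : c + j = D.m + D.k := Nat.pow_right_injective hpp.two_le hC
  rw [hj, hc, Nat.pow_le_pow_iff_right hpp.one_lt, Nat.pow_le_pow_iff_right hpp.one_lt]
  have := D.n_le_m
  omega

end Cfsg.Agent.S3883
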