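import Cfsg.Statements.S3887
import Mathlib
import Cfsg.Agent.Helper21.Metacyclic2

set_option autoImplicit false
set_option linter.style.haveILetI false
open Cfsg

namespace Cfsg.Agent.S3887

/-- Let p be an odd prime and G a finite metacyclic p-group (G has a cyclic normal subgroup with cyclic quotient). Then a subgroup R of G maximizes |R| · |C_G(R)| over all subgroups of G if and only if R contains the center of G. -/
theorem result {G : Type*} [Group G] [Finite G] {p : ℕ} [Fact p.Prime] (hp : p ≠ 2) (hG : IsPGroup p G) (hmc : Cfsg.IsMetacyclic G) (R : Subgroup G) : Cfsg.IsCentralizerLarge R ↔ Subgroup.center G ≤ R := by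
  have key : ∃ V : ℕ,
      (∀ R : Subgroup G, Nat.card R * Nat.card (Subgroup.centralizer (R : Set G)) ≤ V) ∧
      (∀ R : Subgroup G, Subgroup.center G ≤ R →
        Nat.card R * Nat.card (Subgroup.centralizer (R : Set G)) = V) := by
    by_cases hab : ∀ x y : G, x * y = y * x
    · refine ⟨Nat.card G * Nat.card G, ?_, ?_⟩
      · intro R
        exact Nat.mul_le_mul (Subgroup.card_le_card_group R) (Subgroup.card_le_card_group _)
      · intro R hR
        have h1 : Subgroup.center G = ⊤ := by
          rw [eq_top_iff]; intro x _; rw [Subgroup.mem_center_iff]; intro g; exact hab g x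
        have h2 : R = ⊤ := by rw [h1] at hR; exact top_le_iff.mp hR
        have h3 : Subgroup.centralizer (R : Set G) = ⊤ := by
          rw [Subgroup.centralizer_eq_top_iff_subset, h1]; exact Set.subset_univ _
        rw [h3, h2, Subgroup.card_top]
    · obtain ⟨D⟩ := Cfsg.Agent.Helper21.exists_mcdata hG hmc hab
      exact ⟨_, D.centralizer_bound hp, D.centralizer_eq hp⟩
  obtain ⟨V, hle, heq⟩ := key
  have hmax : Cfsg.maxCentralizerProduct G = V := by
    unfold Cfsg.maxCentralizerProduct
    apply IsGreatest.csSup_eq
    constructor
    · exact ⟨⊤, heq ⊤ le_top⟩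
    · rintro k ⟨R, rfl⟩
      exact hle R
  unfold Cfsg.IsCentralizerLarge
  rw [hmax]
  constructor
  · intro h
    by_contra hZ
    have h1 : Subgroup.centralizer ((R ⊔ Subgroup.center G : Subgroup G) : Set G)
        = Subgroup.centralizer (R : Set G) := by
      apply le_antisymm
      · exact Subgroup.centralizer_le (SetLike.coe_subset_coe.mpr le_sup_left)
      · intro g hg
        have h2 : R ⊔ Subgroup.center G ≤ Subgroup.centralizer ({g} : Set G) := by
          apply sup_le
          · intro y hy
            rw [Subgroup.mem_centralizer_iff]
            intro z hz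
            rw [Set.mem_singleton_iff] at hz
            rw [hz]
            exact (Subgroup.mem_centralizer_iff.mp hg y hy).symm
          · intro y hy
            rw [Subgroup.mem_centralizer_iff]
            intro z hz
            rw [Set.mem_singleton_iff] at hz
            rw [hz]
            exact Subgroup.mem_center_iff.mp hy g
        rw [Subgroup.mem_centralizer_iff]
        intro y hy
        exact (Subgroup.mem_centralizer_iff.mp (h2 hy) g (Set.mem_singleton g)).symm
    have h3 : R < R ⊔ Subgroup.center G :=
      lt_of_le_of_ne le_sup_left (fun he => hZ (le_sup_right.trans he.ge))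
    have h4 : Nat.card R < Nat.card (R ⊔ Subgroup.center G : Subgroup G) := by
      by_contra hc
      push Not at hc
      exact h3.ne (Subgroup.eq_of_le_of_card_ge h3.le hc)
    have h5 := hle (R ⊔ Subgroup.center G)
    rw [h1] at h5
    have hpos : 0 < Nat.card (Subgroup.centralizer (R : Set G)) := Nat.card_pos
    have h6 := Nat.mul_lt_mul_of_pos_right h4 hpos
    omega
  · exact heq R

end Cfsg.Agent.S3887
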