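import Cfsg.Statements.S3885
import Mathlib
import Cfsg.Agent.S3887

set_option autoImplicit false
set_option linter.style.haveILetI false
open Cfsg

namespace Cfsg.Agent.S3885

/-- Let p be an odd prime and G a finite metacyclic p-group (G has a cyclic normal subgroup with cyclic quotient). Then every abelian subgroup K of G containing the center of G is the center of its own centralizer: K = Z(C_G(K)). -/
theorem result {G : Type*} [Group G] [Finite G] {p : ℕ} [Fact p.Prime] (hp : p ≠ 2) (hG : IsPGroup p G) (hmc : Cfsg.IsMetacyclic G) (K : Subgroup G) (hK : IsMulCommutative ↥K) (hZ : Subgroup.center G ≤ K) :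
    K = Subgroup.centralizer (K : Set G) ⊓ Subgroup.centralizer (Subgroup.centralizer (K : Set G) : Set G) := by
  have h87 := fun R => Cfsg.Agent.S3887.result hp hG hmc R
  have hZC : Subgroup.center G ≤ Subgroup.centralizer (K : Set G) :=
    Subgroup.center_le_centralizer _
  have e1 := (h87 K).mpr hZ
  have e2 := (h87 (Subgroup.centralizer (K : Set G))).mpr hZC
  unfold Cfsg.IsCentralizerLarge at e1 e2
  rw [← e1] at e2
  have hpos : 0 < Nat.card (Subgroup.centralizer (K : Set G)) := Nat.card_pos
  have e3 : Nat.card (Subgroup.centralizer (Subgroup.centralizer (K : Set G) : Set G))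
      = Nat.card K := by
    rw [mul_comm (Nat.card K)] at e2
    exact Nat.eq_of_mul_eq_mul_left hpos e2
  have hKC : K ≤ Subgroup.centralizer (K : Set G) := by
    intro x hx
    rw [Subgroup.mem_centralizer_iff]
    intro y hy
    have e : (⟨y, hy⟩ : K) * ⟨x, hx⟩ = ⟨x, hx⟩ * ⟨y, hy⟩ := hK.is_comm.comm _ _
    exact congrArg Subtype.val e
  have hKCC : K ≤ Subgroup.centralizer (Subgroup.centralizer (K : Set G) : Set G) := by
    intro x hx
    rw [Subgroup.mem_centralizer_iff]
    intro y hy
    exact (Subgroup.mem_centralizer_iff.mp hy x hx).symm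
  have heq : K = Subgroup.centralizer (Subgroup.centralizer (K : Set G) : Set G) :=
    Subgroup.eq_of_le_of_card_ge hKCC e3.le
  exact le_antisymm (le_inf hKC hKCC) (inf_le_right.trans heq.ge)

end Cfsg.Agent.S3885
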