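import Cfsg.Statements.S3886
import Mathlib
import Cfsg.Agent.Helper21.Metacyclic
import Cfsg.Agent.S3879
import Cfsg.Agent.S3880

set_option autoImplicit false
set_option linter.style.haveILetI false
open Cfsg

namespace Cfsg.Agent.S3886

/-- Let p be an odd prime and G a finite metacyclic p-group (G has a cyclic normal subgroup with cyclic quotient). Then the largest value of |R| · |Z(R)| over subgroups R of G is |G : G'|², and the subgroups attaining it (the centrally large subgroups) are exactly the non-abelian subgroups together with the maximal abelian subgroups of G. -/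
theorem result {G : Type*} [Group G] [Finite G] {p : ℕ} [Fact p.Prime] (hp : p ≠ 2) (hG : IsPGroup p G) (hmc : Cfsg.IsMetacyclic G) : Cfsg.maxCentralProduct G = (commutator G).index ^ 2 ∧
    ∀ R : Subgroup G, Cfsg.IsCentrallyLarge R ↔ (¬ IsMulCommutative ↥R ∨ Maximal (fun K : Subgroup G => IsMulCommutative ↥K) R) := by
  have hpp : p.Prime := Fact.out
  obtain ⟨e, he⟩ := IsPGroup.iff_card.mp hG
  obtain ⟨i, hi⟩ : ∃ i, (commutator G).index = p ^ i := by
    have h1 := Subgroup.index_dvd_card (commutator G)
    rw [he] at h1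
    obtain ⟨i, -, hi⟩ := (Nat.dvd_prime_pow hpp).mp h1
    exact ⟨i, hi⟩
  have hG1 := fun L => (Cfsg.Agent.S3880.result hp hG hmc L).1
  have hG2 := fun L => (Cfsg.Agent.S3880.result hp hG hmc L).2
  have habv : ∀ R : Subgroup G, IsMulCommutative ↥R →
      Nat.card ↥R * Nat.card ↥(Subgroup.center ↥R) = Nat.card ↥R ^ 2 := by
    intro R hR
    have h1 : Subgroup.center ↥R = ⊤ := by
      rw [eq_top_iff]; intro x _; rw [Subgroup.mem_center_iff]; intro g
      exact hR.is_comm.comm g x
    rw [h1, Subgroup.card_top, sq]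
  have hnav : ∀ R : Subgroup G, ¬ IsMulCommutative ↥R →
      Nat.card ↥R * Nat.card ↥(Subgroup.center ↥R) = (commutator G).index ^ 2 := by
    intro R hR
    have hRp : IsPGroup p ↥R := hG.to_subgroup R
    have hRm : Cfsg.IsMetacyclic ↥R := Cfsg.Agent.Helper21.isMetacyclic_subgroup hmc R
    have h79 := Cfsg.Agent.S3879.result hp hRp hRm
    have hR1 := fun L => (Cfsg.Agent.S3880.result hp hRp hRm L).1
    have hbig : (commutator G).index < Nat.card ↥R := by
      by_contra h
      push Not at h
      exact hR ((hG1 R).mpr h)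
    obtain ⟨c, hc⟩ := IsPGroup.iff_card.mp hRp
    obtain ⟨j, hj⟩ : ∃ j, (commutator ↥R).index = p ^ j := by
      have h1 := Subgroup.index_dvd_card (commutator ↥R)
      rw [hc] at h1
      obtain ⟨j, -, hj⟩ := (Nat.dvd_prime_pow hpp).mp h1
      exact ⟨j, hj⟩
    have htr : ∀ E' : Subgroup ↥R,
        IsMulCommutative ↥E' ↔ IsMulCommutative ↥(E'.map R.subtype) := by
      intro E'
      constructor
      · intro h
        refine ⟨⟨?_⟩⟩
        rintro ⟨_, ⟨x, hx, rfl⟩⟩ ⟨_, ⟨y, hy, rfl⟩⟩
        apply Subtype.ext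
        have e : (⟨x, hx⟩ : E') * ⟨y, hy⟩ = ⟨y, hy⟩ * ⟨x, hx⟩ := h.is_comm.comm _ _
        have e2 : x * y = y * x := congrArg Subtype.val e
        show R.subtype x * R.subtype y = R.subtype y * R.subtype x
        rw [← map_mul, ← map_mul, e2]
      · intro h
        refine ⟨⟨?_⟩⟩
        intro x y
        have e : (⟨R.subtype x, ⟨x, x.2, rfl⟩⟩ : E'.map R.subtype) * ⟨R.subtype y, ⟨y, y.2, rfl⟩⟩
            = ⟨R.subtype y, ⟨y, y.2, rfl⟩⟩ * ⟨R.subtype x, ⟨x, x.2, rfl⟩⟩ := h.is_comm.comm _ _
        have e2 : R.subtype x * R.subtype y = R.subtype y * R.subtype x :=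
          congrArg Subtype.val e
        apply Subtype.ext
        apply Subtype.ext
        exact e2
    have hcardmap : ∀ E' : Subgroup ↥R, Nat.card ↥(E'.map R.subtype) = Nat.card ↥E' :=
      fun E' => Subgroup.card_map_of_injective R.subtype_injective
    have hji : j = i := by
      apply le_antisymm
      · have hd : p ^ j ∣ Nat.card ↥R := by rw [← hj]; exact Subgroup.index_dvd_card _
        obtain ⟨E', hE'⟩ := Sylow.exists_subgroup_card_pow_prime p hd
        have h1 : IsMulCommutative ↥E' := (hR1 E').mpr (by rw [hE', hj])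
        have h2 := (hG1 _).mp ((htr E').mp h1)
        rw [hcardmap, hE', hi] at h2
        exact (Nat.pow_le_pow_iff_right hpp.one_lt).mp h2
      · have hd : p ^ i ∣ Nat.card ↥R := by
          rw [hi, hc] at hbig
          rw [hc]
          exact pow_dvd_pow p ((Nat.pow_lt_pow_iff_right hpp.one_lt).mp hbig).le
        obtain ⟨E', hE'⟩ := Sylow.exists_subgroup_card_pow_prime p hd
        have h1 : IsMulCommutative ↥(E'.map R.subtype) :=
          (hG1 _).mpr (by rw [hcardmap, hE', hi])
        have h2 := (hR1 E').mp ((htr E').mpr h1)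
        rw [hE', hj] at h2
        exact (Nat.pow_le_pow_iff_right hpp.one_lt).mp h2
    have e1 := Subgroup.card_mul_index (Subgroup.center ↥R)
    have e2 := Subgroup.card_mul_index (commutator ↥R)
    rw [h79] at e1
    rw [hj, hji] at e2
    rw [hi]
    have hdpos : 0 < Nat.card ↥(commutator ↥R) := Nat.card_pos
    have e3 : Nat.card ↥(Subgroup.center ↥R) * Nat.card ↥(commutator ↥R) = p ^ i := by
      apply Nat.eq_of_mul_eq_mul_left hdpos
      rw [e2, ← e1]; ring
    rw [← e2, ← e3]; ring
  have hle : ∀ R : Subgroup G,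
      Nat.card ↥R * Nat.card ↥(Subgroup.center ↥R) ≤ (commutator G).index ^ 2 := by
    intro R
    by_cases hR : IsMulCommutative ↥R
    · rw [habv R hR]
      exact Nat.pow_le_pow_left ((hG1 R).mp hR) 2
    · rw [hnav R hR]
  have hex : ∃ R : Subgroup G,
      Nat.card ↥R * Nat.card ↥(Subgroup.center ↥R) = (commutator G).index ^ 2 := by
    have hd : p ^ i ∣ Nat.card G := by rw [← hi]; exact Subgroup.index_dvd_card _
    obtain ⟨E, hE⟩ := Sylow.exists_subgroup_card_pow_prime p hd
    have h1 : IsMulCommutative ↥E := (hG1 E).mpr (by rw [hE, hi])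
    exact ⟨E, by rw [habv E h1, hE, hi]⟩
  have hmax : Cfsg.maxCentralProduct G = (commutator G).index ^ 2 := by
    unfold Cfsg.maxCentralProduct
    apply IsGreatest.csSup_eq
    constructor
    · exact hex
    · rintro k ⟨R, rfl⟩
      exact hle R
  refine ⟨hmax, ?_⟩
  intro R
  unfold Cfsg.IsCentrallyLarge
  rw [hmax]
  by_cases hR : IsMulCommutative ↥R
  · rw [habv R hR, hG2 R]
    constructor
    · intro h
      right
      exact Nat.pow_left_injective two_ne_zero h
    · rintro (h | h)
      · exact absurd hR h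
      · rw [h]
  · rw [hnav R hR]
    simp [hR]

end Cfsg.Agent.S3886
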