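import Cfsg.Statements.S3889
import Mathlib

set_option autoImplicit false
open Cfsg

namespace Cfsg.Agent.S3889

/-- A finite abelian group that is the union of a family of proper subgroups any two of which intersect trivially is elementary abelian: its exponent is a prime. -/
theorem result {G : Type*} [CommGroup G] [Finite G] (𝓑 : Set (Subgroup G)) (hprop : ∀ B ∈ 𝓑, B ≠ ⊤)
    (hcov : ∀ g : G, ∃ B ∈ 𝓑, g ∈ B) (hdisj : ∀ B ∈ 𝓑, ∀ C ∈ 𝓑, B ≠ C → B ⊓ C = ⊥) :
    (Monoid.exponent G).Prime := by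
  -- sub-lemma A
  have hA : ∀ A ∈ 𝓑, ∀ B ∈ 𝓑, A ≠ B → ∀ a ∈ A, ∀ b ∈ B, a ≠ 1 → ∀ n : ℕ, a ^ n = 1 → b ^ n = 1 := by
    intro A hAm B hBm hAB a ha b hb ha1 n han
    by_contra hbn
    obtain ⟨C, hCm, hC⟩ := hcov (a * b)
    have h1 : (a * b) ^ n = b ^ n := by rw [mul_pow, han, one_mul]
    have h2 : b ^ n ∈ B ⊓ C := ⟨B.pow_mem hb n, h1 ▸ C.pow_mem hC n⟩
    have hBC : B = C := by
      by_contra hne
      rw [hdisj B hBm C hCm hne, Subgroup.mem_bot] at h2
      exact hbn h2
    subst hBC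
    have haB : a ∈ B := by
      have := B.mul_mem hC (B.inv_mem hb)
      simpa using this
    have : a ∈ A ⊓ B := ⟨ha, haB⟩
    rw [hdisj A hAm B hBm hAB, Subgroup.mem_bot] at this
    exact ha1 this
  have hord : ∀ A ∈ 𝓑, ∀ B ∈ 𝓑, A ≠ B → ∀ a ∈ A, ∀ b ∈ B, a ≠ 1 → b ≠ 1 → orderOf a = orderOf b := by
    intro A hAm B hBm hAB a ha b hb ha1 hb1
    apply Nat.dvd_antisymm
    · exact orderOf_dvd_of_pow_eq_one
        (hA B hBm A hAm (Ne.symm hAB) b hb a ha hb1 _ (pow_orderOf_eq_one b))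
    · exact orderOf_dvd_of_pow_eq_one
        (hA A hAm B hBm hAB a ha b hb ha1 _ (pow_orderOf_eq_one a))
  have hall : ∀ a b : G, a ≠ 1 → b ≠ 1 → orderOf a = orderOf b := by
    intro a b ha1 hb1
    obtain ⟨A, hAm, ha⟩ := hcov a
    obtain ⟨B, hBm, hb⟩ := hcov b
    by_cases hAB : A = B
    · subst hAB
      -- pick c outside A
      have hne := hprop A hAm
      obtain ⟨c, hc⟩ : ∃ c : G, c ∉ A := by
        by_contra hcon
        push Not at hcon
        exact hne (eq_top_iff.mpr fun x _ => hcon x)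
      have hc1 : c ≠ 1 := by
        rintro rfl
        exact hc A.one_mem
      obtain ⟨C, hCm, hcC⟩ := hcov c
      have hAC : A ≠ C := by
        rintro rfl
        exact hc hcC
      rw [hord A hAm C hCm hAC a ha c hcC ha1 hc1, hord A hAm C hCm hAC b hb c hcC hb1 hc1]
    · exact hord A hAm B hBm hAB a ha b hb ha1 hb1
  -- G is nontrivial
  obtain ⟨B0, hB0m, -⟩ := hcov 1
  obtain ⟨g, hg⟩ : ∃ c : G, c ∉ B0 := by
    by_contra hcon
    push Not at hcon
    exact hprop B0 hB0m (eq_top_iff.mpr fun x _ => hcon x)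
  have hg1 : g ≠ 1 := by
    rintro rfl
    exact hg B0.one_mem
  obtain ⟨n, hn⟩ : ∃ n, n = orderOf g := ⟨_, rfl⟩
  have hnpos : 0 < n := hn ▸ orderOf_pos g
  have hn1 : n ≠ 1 := by
    intro h
    exact hg1 (orderOf_eq_one_iff.mp (hn ▸ h))
  have hnprime : n.Prime := by
    have hq : (n.minFac).Prime := Nat.minFac_prime hn1
    have hqd : n.minFac ∣ n := Nat.minFac_dvd n
    obtain ⟨m, hm⟩ := hqd
    have hmpos : 0 < m := by
      rcases Nat.eq_zero_or_pos m with h0 | h0
      · rw [h0, mul_zero] at hm; omega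
      · exact h0
    have hmlt : m < n := by
      rw [hm]
      have := hq.two_le
      nlinarith
    have hx1 : g ^ m ≠ 1 := by
      intro h
      have := orderOf_dvd_of_pow_eq_one h
      rw [← hn] at this
      exact absurd (Nat.le_of_dvd hmpos this) (by omega)
    have hxq : (g ^ m) ^ n.minFac = 1 := by
      rw [← pow_mul, mul_comm, ← hm, hn]
      exact pow_orderOf_eq_one g
    have h1 : orderOf (g ^ m) = n := by rw [hn]; exact hall _ _ hx1 hg1
    have h2 : n ∣ n.minFac := by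
      have := orderOf_dvd_of_pow_eq_one hxq
      rwa [h1] at this
    have h3 : n = n.minFac := by
      rcases (Nat.dvd_prime hq).mp h2 with h | h
      · exact absurd h hn1
      · exact h
    rw [h3]; exact hq
  have hexp : Monoid.exponent G = n := by
    apply Nat.dvd_antisymm
    · apply Monoid.exponent_dvd_of_forall_pow_eq_one
      intro x
      by_cases hx : x = 1
      · rw [hx, one_pow]
      · rw [hn, ← hall x g hx hg1]
        exact pow_orderOf_eq_one x
    · rw [hn]; exact Monoid.order_dvd_exponent g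
  rw [hexp]
  exact hnprime

end Cfsg.Agent.S3889
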