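import Cfsg.Statements.S3890
import Mathlib
import Cfsg.Agent.Helper18.NilCover

set_option autoImplicit false
open Cfsg

namespace Cfsg.Agent.S3890

/-- A cover of a group is a finite set of proper subgroups whose union is the whole group; it is minimal when no cover has fewer members, and nilpotent when all its members are nilpotent. Let G be a finite group with trivial center admitting a nilpotent minimal cover 𝓐, and let P be an abelian Sylow p-subgroup of G that is not normal. Then either P is elementary abelian of order greater than p, or P is a Sylow p-subgroup of some member A of 𝓐, the normalizer N of P is a maximal subgroup of G, N meets each of its conjugates by elements outside N in a subgroup of order prime to p, and the centralizer of P equals A. -/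
theorem result {G : Type*} [Group G] [Finite G] (hZ : Subgroup.center G = ⊥) (𝓐 : Finset (Subgroup G))
    (h𝓐 : ((∀ A ∈ 𝓐, A ≠ ⊤) ∧ (∀ g : G, ∃ A ∈ 𝓐, g ∈ A)) ∧ (∀ 𝓑 : Finset (Subgroup G), (∀ A ∈ 𝓑, A ≠ ⊤) ∧ (∀ g : G, ∃ A ∈ 𝓑, g ∈ A) → 𝓐.card ≤ 𝓑.card) ∧ (∀ A ∈ 𝓐, Group.IsNilpotent ↥A)) {p : ℕ} [Fact p.Prime] (P : Sylow p G) (hab : IsMulCommutative ↥(P : Subgroup G))
    (hnn : ¬ (P : Subgroup G).Normal) :
    (Cfsg.IsElementaryAbelian p (P : Subgroup G) ∧ p < Nat.card ↥(P : Subgroup G)) ∨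
    (∃ A ∈ 𝓐, (P : Subgroup G) ≤ A ∧ ¬ p ∣ ((P : Subgroup G).subgroupOf A).index ∧
      IsCoatom (Subgroup.normalizer ((P : Subgroup G) : Set G)) ∧
      (∀ g : G, g ∉ Subgroup.normalizer ((P : Subgroup G) : Set G) →
        ¬ p ∣ Nat.card ↥(Subgroup.normalizer ((P : Subgroup G) : Set G) ⊓
          (Subgroup.normalizer ((P : Subgroup G) : Set G)).map (MulAut.conj g).toMonoidHom)) ∧
      Subgroup.centralizer ((P : Subgroup G) : Set G) = A) := by
  classical
  obtain ⟨⟨hprop, hcov⟩, hmin, hnil⟩ := h𝓐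
  have hp := (Fact.out : p.Prime)
  have hPab : ∀ a ∈ (P : Subgroup G), ∀ b ∈ (P : Subgroup G), a * b = b * a :=
    fun a ha b hb => congrArg Subtype.val (hab.is_comm.comm ⟨a, ha⟩ ⟨b, hb⟩)
  by_cases hE : Cfsg.IsElementaryAbelian p (P : Subgroup G) ∧ p < Nat.card ↥(P : Subgroup G)
  · exact Or.inl hE
  right
  have hPbot : (P : Subgroup G) ≠ ⊥ := fun h => hnn (by rw [h]; infer_instance)
  obtain ⟨x, hxP, hx1, hx⟩ : ∃ x, x ∈ (P : Subgroup G) ∧ x ≠ 1 ∧
      ((P : Subgroup G) ≤ Subgroup.zpowers x ∨ x ^ p ≠ 1) := by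
    by_cases hel : ∀ a ∈ (P : Subgroup G), a ^ p = 1
    · have hcard : Nat.card ↥(P : Subgroup G) ≤ p := by
        by_contra h
        exact hE ⟨⟨hab, hel⟩, by omega⟩
      obtain ⟨⟨x, hxP⟩, hx1'⟩ := (Subgroup.ne_bot_iff_exists_ne_one).mp hPbot
      have hx1 : x ≠ 1 := fun h => hx1' (Subtype.ext h)
      refine ⟨x, hxP, hx1, Or.inl ?_⟩
      have hzle : Subgroup.zpowers x ≤ (P : Subgroup G) := by
        rw [Subgroup.zpowers_le]; exact hxP
      have hox : orderOf x = p := orderOf_eq_prime (hel x hxP) hx1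
      have hcz : Nat.card ↥(Subgroup.zpowers x) = p := by rw [Nat.card_zpowers, hox]
      have heq : Subgroup.zpowers x = (P : Subgroup G) :=
        Subgroup.eq_of_le_of_card_ge hzle (by rw [hcz]; exact hcard)
      rw [heq]
    · have hex : ∃ a ∈ (P : Subgroup G), a ^ p ≠ 1 := by
        by_contra hcon
        apply hel
        intro a ha
        by_contra h
        exact hcon ⟨a, ha, h⟩
      obtain ⟨a, ha, hap⟩ := hex
      exact ⟨a, ha, fun h => hap (by rw [h, one_pow]), Or.inr hap⟩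
  obtain ⟨A, hA, hPA, hcent, hco, -, hTI⟩ :=
    Cfsg.Agent.Helper18.nc_all hZ 𝓐 hprop hcov hmin hnil P hPab hnn hxP hx1 hx
  refine ⟨A, hA, hPA, ?_, hco, hTI, hcent⟩
  intro hdvd
  have h1 : (P : Subgroup G).relIndex A * A.index = (P : Subgroup G).index :=
    Subgroup.relIndex_mul_index hPA
  exact P.not_dvd_index (h1 ▸ Dvd.dvd.mul_right hdvd _)

end Cfsg.Agent.S3890
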