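import Cfsg.Statements.S3891
import Mathlib
import Cfsg.Agent.Helper18.NilCover

set_option autoImplicit false
open Cfsg

namespace Cfsg.Agent.S3891

/-- A cover of a group is a finite set of proper subgroups whose union is the whole group; it is minimal when no cover has fewer members, and nilpotent when all its members are nilpotent. Let G be a finite group with trivial center admitting a nilpotent minimal cover, and let P be a non-normal Sylow p-subgroup of G that is cyclic, or abelian but not elementary abelian. Then the centralizer of P is nilpotent and the normalizer of P is the unique maximal subgroup of G containing the centralizer of P. -/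
theorem result {G : Type*} [Group G] [Finite G] (hZ : Subgroup.center G = ⊥) (𝓐 : Finset (Subgroup G))
    (h𝓐 : ((∀ A ∈ 𝓐, A ≠ ⊤) ∧ (∀ g : G, ∃ A ∈ 𝓐, g ∈ A)) ∧ (∀ 𝓑 : Finset (Subgroup G), (∀ A ∈ 𝓑, A ≠ ⊤) ∧ (∀ g : G, ∃ A ∈ 𝓑, g ∈ A) → 𝓐.card ≤ 𝓑.card) ∧ (∀ A ∈ 𝓐, Group.IsNilpotent ↥A)) {p : ℕ} [Fact p.Prime] (P : Sylow p G)
    (hP : IsCyclic ↥(P : Subgroup G) ∨ (IsMulCommutative ↥(P : Subgroup G) ∧ ¬ Cfsg.IsElementaryAbelian p (P : Subgroup G)))
    (hnn : ¬ (P : Subgroup G).Normal) :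
    Group.IsNilpotent ↥(Subgroup.centralizer ((P : Subgroup G) : Set G)) ∧
      IsCoatom (Subgroup.normalizer ((P : Subgroup G) : Set G)) ∧
      ∀ M : Subgroup G, IsCoatom M → Subgroup.centralizer ((P : Subgroup G) : Set G) ≤ M →
        M = Subgroup.normalizer ((P : Subgroup G) : Set G) := by
  classical
  obtain ⟨⟨hprop, hcov⟩, hmin, hnil⟩ := h𝓐
  have hPab : ∀ a ∈ (P : Subgroup G), ∀ b ∈ (P : Subgroup G), a * b = b * a := by
    intro a ha b hb
    rcases hP with hc | ⟨hc, -⟩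
    · haveI := hc
      obtain ⟨g, hg⟩ := IsCyclic.exists_generator (α := ↥(P : Subgroup G))
      obtain ⟨i, hi⟩ := Subgroup.mem_zpowers_iff.mp (hg ⟨a, ha⟩)
      obtain ⟨j, hj⟩ := Subgroup.mem_zpowers_iff.mp (hg ⟨b, hb⟩)
      have h1 : (⟨a, ha⟩ : ↥(P : Subgroup G)) * ⟨b, hb⟩ = ⟨b, hb⟩ * ⟨a, ha⟩ := by
        rw [← hi, ← hj, ← zpow_add, ← zpow_add, add_comm]
      exact congrArg Subtype.val h1
    · exact congrArg Subtype.val (hc.is_comm.comm ⟨a, ha⟩ ⟨b, hb⟩)
  obtain ⟨x, hxP, hx1, hx⟩ : ∃ x, x ∈ (P : Subgroup G) ∧ x ≠ 1 ∧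
      ((P : Subgroup G) ≤ Subgroup.zpowers x ∨ x ^ p ≠ 1) := by
    rcases hP with hc | ⟨hc, hne⟩
    · haveI := hc
      obtain ⟨g, hg⟩ := IsCyclic.exists_generator (α := ↥(P : Subgroup G))
      have hgen : ∀ y ∈ (P : Subgroup G), ∃ i : ℤ, (g : G) ^ i = y := by
        intro y hy
        obtain ⟨i, hi⟩ := Subgroup.mem_zpowers_iff.mp (hg ⟨y, hy⟩)
        refine ⟨i, ?_⟩
        have h1 := congrArg Subtype.val hi
        rwa [Subgroup.coe_zpow] at h1
      refine ⟨g.1, g.2, ?_, Or.inl ?_⟩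
      · intro h1
        apply hnn
        have hbot : (P : Subgroup G) = ⊥ := by
          rw [Subgroup.eq_bot_iff_forall]
          intro y hy
          obtain ⟨i, hi⟩ := hgen y hy
          rw [← hi, h1, one_zpow]
        rw [hbot]; infer_instance
      · intro y hy
        obtain ⟨i, hi⟩ := hgen y hy
        rw [Subgroup.mem_zpowers_iff]
        exact ⟨i, hi⟩
    · have hex : ∃ a ∈ (P : Subgroup G), a ^ p ≠ 1 := by
        by_contra hcon
        apply hne
        refine ⟨hc, fun a ha => ?_⟩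
        by_contra h
        exact hcon ⟨a, ha, h⟩
      obtain ⟨a, ha, hap⟩ := hex
      exact ⟨a, ha, fun h => hap (by rw [h, one_pow]), Or.inr hap⟩
  obtain ⟨A, hA, -, hcent, hco, hU, -⟩ :=
    Cfsg.Agent.Helper18.nc_all hZ 𝓐 hprop hcov hmin hnil P hPab hnn hxP hx1 hx
  refine ⟨?_, hco, hU⟩
  rw [hcent]
  exact hnil A hA

end Cfsg.Agent.S3891
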