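import Cfsg.Statements.S3892
import Mathlib
import Cfsg.Agent.Helper21.NilCovPerm

set_option autoImplicit false
set_option linter.style.haveILetI false
open Cfsg

namespace Cfsg.Agent.S3892

/-- A cover of a group is a finite set of proper subgroups whose union is the whole group; it is minimal when no cover has fewer members, and nilpotent when all its members are nilpotent. The alternating groups of degree at least 5 and the symmetric groups of degree at least 4 have no nilpotent minimal cover. -/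
theorem result (n : ℕ) :
    (5 ≤ n → ¬ ∃ 𝓐 : Finset (Subgroup ↥(alternatingGroup (Fin n))), ((∀ A ∈ 𝓐, A ≠ ⊤) ∧ (∀ g : ↥(alternatingGroup (Fin n)), ∃ A ∈ 𝓐, g ∈ A)) ∧ (∀ 𝓑 : Finset (Subgroup ↥(alternatingGroup (Fin n))), (∀ A ∈ 𝓑, A ≠ ⊤) ∧ (∀ g : ↥(alternatingGroup (Fin n)), ∃ A ∈ 𝓑, g ∈ A) → 𝓐.card ≤ 𝓑.card) ∧ (∀ A ∈ 𝓐, Group.IsNilpotent ↥A)) ∧
    (4 ≤ n → ¬ ∃ 𝓐 : Finset (Subgroup (Equiv.Perm (Fin n))), ((∀ A ∈ 𝓐, A ≠ ⊤) ∧ (∀ g : (Equiv.Perm (Fin n)), ∃ A ∈ 𝓐, g ∈ A)) ∧ (∀ 𝓑 : Finset (Subgroup (Equiv.Perm (Fin n))), (∀ A ∈ 𝓑, A ≠ ⊤) ∧ (∀ g : (Equiv.Perm (Fin n)), ∃ A ∈ 𝓑, g ∈ A) → 𝓐.card ≤ 𝓑.card) ∧ (∀ A ∈ 𝓐, Group.IsNilpotent ↥A)) := by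
  constructor
  · intro hn
    rcases Nat.lt_or_ge n 6 with h6 | h6
    · have h5 : n = 5 := by omega
      subst h5
      exact Cfsg.Agent.Helper21.nc_alt5
    · obtain ⟨p, hp, hp5, hpn, hn2p⟩ := Cfsg.Agent.Helper21.bertrand_mid n h6
      have hfact : Fact p.Prime := ⟨hp⟩
      exact Cfsg.Agent.Helper21.nc_perm n (alternatingGroup (Fin n)).subtype
        (Subgroup.subtype_injective _) (by rw [Subgroup.range_subtype]) p hp5 hpn hn2p
  · intro hn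
    rcases Nat.lt_or_ge n 6 with h6 | h6
    · have h45 : n = 4 ∨ n = 5 := by omega
      rcases h45 with rfl | rfl
      · exact Cfsg.Agent.Helper21.nc_sym4
      · exact Cfsg.Agent.Helper21.nc_sym5
    · obtain ⟨p, hp, hp5, hpn, hn2p⟩ := Cfsg.Agent.Helper21.bertrand_mid n h6
      have hfact : Fact p.Prime := ⟨hp⟩
      exact Cfsg.Agent.Helper21.nc_perm n (MonoidHom.id _) Function.injective_id
        (fun g _ => ⟨g, rfl⟩) p hp5 hpn hn2p

end Cfsg.Agent.S3892
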