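import Cfsg.Statements.S3910
import Mathlib
import Cfsg.Agent.S3939
import Cfsg.Agent.Lead.Cyc

set_option autoImplicit false
set_option linter.style.haveILetI false
open Cfsg

namespace Cfsg.Agent.S3910

theorem sylow_comm {G : Type*} [Group G] [Finite G]
    (hB : ∀ A B : Subgroup G, IsMulCommutative ↥A → IsMulCommutative ↥B →
      Nat.card ↥A = Nat.card ↥B → ∃ g : G, B = A.map (MulAut.conj g).toMonoidHom)
    (hnil : Group.IsNilpotent G) (p : ℕ) [Fact p.Prime] (P : Sylow p G) :
    ∀ x ∈ (P : Subgroup G), ∀ y ∈ (P : Subgroup G), x * y = y * x := by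
  classical
  have hp : p.Prime := Fact.out
  haveI hPn : (P : Subgroup G).Normal :=
    (Group.isNilpotent_of_finite_tfae.out 0 3 rfl rfl).mp hnil p inferInstance P
  obtain ⟨A, -, hAmax⟩ := Finite.exists_le_maximal
    (p := fun A : Subgroup G => A.Normal ∧ A ≤ (P : Subgroup G) ∧
      ∀ x ∈ A, ∀ y ∈ A, x * y = y * x)
    (a := ⊥) ⟨inferInstance, bot_le, by
      intro x hx y hy
      rw [Subgroup.mem_bot] at hx hy
      rw [hx, hy]⟩
  obtain ⟨hAn, hAP, hAc⟩ := hAmax.prop
  haveI := hAn
  suffices h : (P : Subgroup G) ≤ A from fun x hx y hy => hAc x (h hx) y (h hy)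
  by_contra hPA
  -- (i) C_P(A) ≤ A
  have hCA : (P : Subgroup G) ⊓ Subgroup.centralizer (A : Set G) ≤ A := by
    by_contra hcon
    set C := (P : Subgroup G) ⊓ Subgroup.centralizer (A : Set G) with hC
    haveI : C.Normal := by rw [hC]; infer_instance
    let π := QuotientGroup.mk' A
    have hπ : Function.Surjective π := QuotientGroup.mk'_surjective A
    haveI : (C.map π).Normal := Subgroup.Normal.map inferInstance π hπ
    haveI : Group.IsNilpotent (G ⧸ A) := Group.nilpotent_of_surjective π hπ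
    have hne : C.map π ≠ ⊥ := by
      intro h0
      apply hcon
      intro x hx
      have : π x ∈ C.map π := Subgroup.mem_map_of_mem π hx
      rw [h0, Subgroup.mem_bot] at this
      exact (QuotientGroup.eq_one_iff x).mp this
    obtain ⟨w, hw, hw1, hwc⟩ := Cfsg.Agent.S3939.normal_inf_center_ne_bot (C.map π) hne
    obtain ⟨g, hgC, rfl⟩ := Subgroup.mem_map.mp hw
    have hgA : g ∉ A := fun h => hw1 ((QuotientGroup.eq_one_iff g).mpr h)
    haveI hzn : (Subgroup.zpowers (π g)).Normal := ⟨fun n hn t => by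
      obtain ⟨i, hi⟩ := Subgroup.mem_zpowers_iff.mp hn
      have h1 : Commute t (π g) := hwc t
      have h2 : t * n * t⁻¹ = n := by
        rw [← hi]
        exact mul_inv_eq_iff_eq_mul.mpr (h1.zpow_right i).eq
      rw [h2]; exact hn⟩
    let B : Subgroup G := (Subgroup.zpowers (π g)).comap π
    haveI hBn : B.Normal := hzn.comap π
    have hBmem : ∀ x, x ∈ B → ∃ i : ℤ, ∃ a ∈ A, x = g ^ i * a := by
      intro x hx
      obtain ⟨i, hi⟩ := Subgroup.mem_zpowers_iff.mp (Subgroup.mem_comap.mp hx)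
      refine ⟨i, (g ^ i)⁻¹ * x, ?_, by group⟩
      apply (QuotientGroup.eq_one_iff _).mp
      show π ((g ^ i)⁻¹ * x) = 1
      rw [map_mul, map_inv, map_zpow, hi, inv_mul_cancel]
    have hgc : g ∈ Subgroup.centralizer (A : Set G) := hgC.2
    have hgcen : ∀ (i : ℤ), ∀ a ∈ A, a * g ^ i = g ^ i * a := fun i a ha =>
      Subgroup.mem_centralizer_iff.mp (Subgroup.zpow_mem _ hgc i) a ha
    have hBle : B ≤ A := by
      apply hAmax.le_of_ge
      · refine ⟨hBn, ?_, ?_⟩
        · intro x hx
          obtain ⟨i, a, ha, rfl⟩ := hBmem x hx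
          have hgP' : g ∈ (P : Subgroup G) := hgC.1
          exact mul_mem (Subgroup.zpow_mem _ hgP' i) (hAP ha)
        · intro x hx y hy
          obtain ⟨i, a, ha, rfl⟩ := hBmem x hx
          obtain ⟨j, a', ha', rfl⟩ := hBmem y hy
          have h1 := hgcen j a ha
          have h2 := hgcen i a' ha'
          have h3 : g ^ i * g ^ j = g ^ j * g ^ i := by
            rw [← zpow_add, ← zpow_add, add_comm]
          calc g ^ i * a * (g ^ j * a') = g ^ i * (a * g ^ j) * a' := by group
            _ = g ^ i * (g ^ j * a) * a' := by rw [h1]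
            _ = (g ^ i * g ^ j) * (a * a') := by group
            _ = (g ^ j * g ^ i) * (a' * a) := by rw [h3, hAc a ha a' ha']
            _ = g ^ j * (g ^ i * a') * a := by group
            _ = g ^ j * (a' * g ^ i) * a := by rw [h2]
            _ = g ^ j * a' * (g ^ i * a) := by group
      · intro a ha
        show π a ∈ Subgroup.zpowers (π g)
        have h1 : π a = 1 := (QuotientGroup.eq_one_iff a).mpr ha
        rw [h1]
        exact one_mem _
    exact hgA (hBle (show π g ∈ Subgroup.zpowers (π g) from Subgroup.mem_zpowers _))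
  -- (ii)
  obtain ⟨h, hhP, hhA⟩ := SetLike.not_le_iff_exists.mp hPA
  have hpow : ∃ i, h ^ p ^ i ∈ A := by
    obtain ⟨k, hk⟩ := P.isPGroup' ⟨h, hhP⟩
    have hk' : h ^ p ^ k = 1 := by simpa using congrArg Subtype.val hk
    exact ⟨k, by rw [hk']; exact one_mem A⟩
  have hi : h ^ p ^ (Nat.find hpow) ∈ A := Nat.find_spec hpow
  have hi0 : Nat.find hpow ≠ 0 := by
    intro h0
    rw [h0, pow_zero, pow_one] at hi
    exact hhA hi
  set g := h ^ p ^ (Nat.find hpow - 1) with hg
  have hgA : g ∉ A := Nat.find_min hpow (by omega : Nat.find hpow - 1 < Nat.find hpow)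
  have hgp : g ^ p ∈ A := by
    rw [hg, ← pow_mul, ← pow_succ]
    have : Nat.find hpow - 1 + 1 = Nat.find hpow := by omega
    rw [this]; exact hi
  have hgP : g ∈ (P : Subgroup G) := pow_mem hhP _
  obtain ⟨j, hj⟩ : ∃ j, orderOf g = p ^ j := by
    obtain ⟨k, hk⟩ := P.isPGroup' ⟨g, hgP⟩
    have hk' : g ^ p ^ k = 1 := by simpa using congrArg Subtype.val hk
    obtain ⟨j, -, hj⟩ := (Nat.dvd_prime_pow hp).mp (orderOf_dvd_of_pow_eq_one hk')
    exact ⟨j, hj⟩
  have hj0 : j ≠ 0 := by
    rintro rfl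
    rw [pow_zero, orderOf_eq_one_iff] at hj
    exact hgA (hj ▸ one_mem A)
  obtain ⟨a, ha⟩ := IsPGroup.iff_card.mp (P.isPGroup'.to_le hAP)
  have hordp : orderOf (g ^ p) = p ^ (j - 1) := by
    rw [orderOf_pow_of_dvd hp.ne_zero (by rw [hj]; exact dvd_pow_self p hj0), hj]
    have : p ^ j = p ^ (j - 1) * p := by
      rw [← pow_succ]; congr 1; omega
    rw [this, Nat.mul_div_cancel _ hp.pos]
  have hja : j ≤ a := by
    have h1 : Nat.card (Subgroup.zpowers (g ^ p)) ∣ Nat.card A :=
      Subgroup.card_dvd_of_le (Subgroup.zpowers_le.mpr hgp)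
    rw [Nat.card_zpowers, hordp, ha] at h1
    have h2 : j - 1 ≤ a := (Nat.pow_dvd_pow_iff_le_right hp.one_lt).mp h1
    by_contra hlt
    have h3 : j - 1 = a := by omega
    have h4 : Subgroup.zpowers (g ^ p) = A :=
      Subgroup.eq_of_le_of_card_ge (Subgroup.zpowers_le.mpr hgp)
        (by rw [Nat.card_zpowers, hordp, ha, h3])
    apply hgA
    apply hCA
    refine ⟨hgP, ?_⟩
    show g ∈ Subgroup.centralizer (A : Set G)
    rw [Subgroup.mem_centralizer_iff]
    intro x hx
    rw [← h4] at hx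
    obtain ⟨k, rfl⟩ := Subgroup.mem_zpowers_iff.mp hx
    have hc : Commute (g ^ p) g := (Commute.refl g).pow_left p
    exact (hc.zpow_left k).eq
  obtain ⟨K, hK⟩ := Sylow.exists_subgroup_card_pow_prime p
    (show p ^ j ∣ Nat.card A by rw [ha]; exact pow_dvd_pow p hja)
  let A₀ : Subgroup G := K.map A.subtype
  have hA₀card : Nat.card A₀ = p ^ j := by rw [Subgroup.card_subtype]; exact hK
  have hA₀A : A₀ ≤ A := Subgroup.map_subtype_le K
  have hA₀c : IsMulCommutative A₀ :=
    ⟨⟨fun x y => Subtype.ext (hAc x (hA₀A x.2) y (hA₀A y.2))⟩⟩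
  obtain ⟨t, ht⟩ := hB A₀ (Subgroup.zpowers g) hA₀c inferInstance
    (by rw [hA₀card, Nat.card_zpowers, hj])
  have hgm : g ∈ A₀.map (MulAut.conj t).toMonoidHom := by
    rw [← ht]; exact Subgroup.mem_zpowers g
  obtain ⟨u, hu, hug⟩ := hgm
  apply hgA
  rw [← hug]
  show t * u * t⁻¹ ∈ A
  exact hAn.conj_mem u (hA₀A hu) t

/-- A finite nilpotent group in which any two abelian subgroups of the same order are conjugate is cyclic. -/
theorem result {G : Type*} [Group G] [Finite G] (hB : ∀ A B : Subgroup G, IsMulCommutative ↥A → IsMulCommutative ↥B → Nat.card ↥A = Nat.card ↥B → ∃ g : G, B = A.map (MulAut.conj g).toMonoidHom) (hnil : Group.IsNilpotent G) : IsCyclic G := by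
  classical
  obtain ⟨e⟩ := (Group.isNilpotent_of_finite_tfae.out 0 4 rfl rfl).mp hnil
  have hcomm : ∀ a b : G, a * b = b * a := by
    intro a b
    obtain ⟨x, rfl⟩ := e.surjective a
    obtain ⟨y, rfl⟩ := e.surjective b
    rw [← map_mul, ← map_mul]
    congr 1
    funext p P
    haveI : Fact (p : ℕ).Prime := ⟨Nat.prime_of_mem_primeFactors p.2⟩
    exact Subtype.ext (sylow_comm hB hnil (p : ℕ) P _ (x p P).2 _ (y p P).2)
  letI : CommGroup G := { (inferInstance : Group G) with mul_comm := hcomm }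
  apply Cfsg.Agent.Lead.isCyclic_of_card_pow_ker_le
  intro p hp
  by_cases hex : ∃ x : G, x ≠ 1 ∧ x ^ p = 1
  · obtain ⟨x₀, hx₀, hx₀p⟩ := hex
    haveI : Fact p.Prime := ⟨hp⟩
    have hord : orderOf x₀ = p := orderOf_eq_prime hx₀p hx₀
    have hle : (powMonoidHom p : G →* G).ker ≤ Subgroup.zpowers x₀ := by
      intro x hx
      rw [MonoidHom.mem_ker, powMonoidHom_apply] at hx
      by_cases hx1 : x = 1
      · rw [hx1]; exact one_mem _
      · have hordx : orderOf x = p := orderOf_eq_prime hx hx1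
        obtain ⟨t, ht⟩ := hB (Subgroup.zpowers x₀) (Subgroup.zpowers x) inferInstance
          inferInstance (by rw [Nat.card_zpowers, Nat.card_zpowers, hord, hordx])
        have hxm : x ∈ (Subgroup.zpowers x₀).map (MulAut.conj t).toMonoidHom := by
          rw [← ht]; exact Subgroup.mem_zpowers x
        obtain ⟨u, hu, hux⟩ := hxm
        have h1 : t * u * t⁻¹ = u := by rw [hcomm t u, mul_inv_cancel_right]
        rw [← hux]
        show t * u * t⁻¹ ∈ _
        rw [h1]; exact hu
    calc Nat.card (powMonoidHom p : G →* G).ker ≤ Nat.card (Subgroup.zpowers x₀) :=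
          Subgroup.card_le_of_le hle
      _ = p := by rw [Nat.card_zpowers, hord]
  · have hbot : (powMonoidHom p : G →* G).ker = ⊥ := by
      rw [eq_bot_iff]
      intro x hx
      rw [MonoidHom.mem_ker, powMonoidHom_apply] at hx
      rw [Subgroup.mem_bot]
      by_contra hx1
      exact hex ⟨x, hx1, hx⟩
    rw [hbot, Subgroup.card_bot]
    exact hp.one_lt.le

end Cfsg.Agent.S3910
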