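import Cfsg.Statements.S3918
import Mathlib
import Cfsg.Agent.Helper4.SelfCentOdd

set_option autoImplicit false
open Cfsg

namespace Cfsg.Agent.S3918

open Cfsg.Agent.Helper4.SelfCentOdd

/-- Say that a group has self-centralizing non-cyclic subgroups when every non-cyclic subgroup H satisfies C_G(H) ≤ H. For an odd prime p, a finite non-abelian p-group has self-centralizing non-cyclic subgroups if and only if it has order p³. -/
theorem result {G : Type*} [Group G] [Finite G] {p : ℕ} [Fact p.Prime] (hp : p ≠ 2) (hG : IsPGroup p G) (hna : ¬ IsMulCommutative G) :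
    (∀ H : Subgroup G, ¬ IsCyclic ↥H → Subgroup.centralizer (H : Set G) ≤ H) ↔ Nat.card G = p ^ 3 := by
  have hpp : p.Prime := Fact.out
  obtain ⟨n, hn⟩ := IsPGroup.iff_card.mp hG
  have hn3 : 3 ≤ n := by
    by_contra hlt
    apply hna
    have : n = 0 ∨ n = 1 ∨ n = 2 := by omega
    rcases this with rfl | rfl | rfl
    · have hsub : Subsingleton G := Finite.card_le_one_iff_subsingleton.mp (by rw [hn]; norm_num)
      exact ⟨⟨fun x y => Subsingleton.elim _ _⟩⟩
    · have : IsCyclic G := isCyclic_of_prime_card (p := p) (by rw [hn]; norm_num)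
      exact IsCyclic.isMulCommutative
    · exact IsPGroup.isMulCommutative_of_card_eq_prime_sq (p := p) (by rw [hn])
  constructor
  · intro hstar
    have hnc : ¬ IsCyclic G := fun h => hna IsCyclic.isMulCommutative
    obtain ⟨B, hBn, hBc, hBe, hBcard⟩ :=
      Cfsg.Agent.Helper1.exists_normal_elem_abelian_sq hp hG hnc
    have hBnc : ¬ IsCyclic B := by
      intro hcyc
      obtain ⟨g, hg⟩ := hcyc.exists_generator
      have hord := orderOf_eq_card_of_forall_mem_zpowers hg
      rw [hBcard] at hord
      have hgp : g ^ p = 1 := by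
        apply Subtype.ext
        rw [Subgroup.coe_pow]
        exact hBe _ g.2
      have := orderOf_dvd_of_pow_eq_one hgp
      rw [hord] at this
      have h5 := Nat.le_of_dvd hpp.pos this
      have h6 : p * 2 ≤ p ^ 2 := by rw [pow_two]; exact Nat.mul_le_mul_left p hpp.two_le
      have := hpp.pos
      omega
    have h1 := card_le_of_normal_sq hG B hBcard
    have h2 := Subgroup.card_le_of_le (hstar B hBnc)
    rw [hBcard] at h2
    have h3 : Nat.card G ≤ p ^ 3 := by
      calc Nat.card G ≤ p * Nat.card (Subgroup.centralizer (B : Set G)) := h1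
        _ ≤ p * p ^ 2 := Nat.mul_le_mul_left p h2
        _ = p ^ 3 := by ring
    rw [hn] at h3 ⊢
    have hn' : n ≤ 3 := (Nat.pow_le_pow_iff_right hpp.one_lt).mp h3
    have : n = 3 := by omega
    rw [this]
  · intro hcard H hH
    have hn' : n = 3 := Nat.pow_right_injective hpp.two_le (hn.symm.trans hcard)
    have hHd : Nat.card H ∣ p ^ 3 := hcard ▸ Subgroup.card_subgroup_dvd_card H
    obtain ⟨k, hk, hk2⟩ := (Nat.dvd_prime_pow hpp).mp hHd
    have hk01 : k ≠ 0 := by
      rintro rfl
      apply hH
      have hsub : Subsingleton H := Finite.card_le_one_iff_subsingleton.mp (by rw [hk2]; norm_num)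
      infer_instance
    have hk1 : k ≠ 1 := by
      rintro rfl
      apply hH
      exact isCyclic_of_prime_card (p := p) (by rw [hk2]; norm_num)
    by_cases hk3 : k = 3
    · have : H = ⊤ := by
        apply Subgroup.eq_top_of_card_eq
        rw [hk2, hk3, hcard]
      rw [this]; exact le_top
    have hk2' : k = 2 := by omega
    subst hk2'
    have hHc : IsMulCommutative H := IsPGroup.isMulCommutative_of_card_eq_prime_sq (p := p) hk2
    have hle : H ≤ Subgroup.centralizer (H : Set G) := by
      intro x hx
      rw [Subgroup.mem_centralizer_iff]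
      intro y hy
      have := hHc.is_comm.comm ⟨y, hy⟩ ⟨x, hx⟩
      exact congrArg Subtype.val this
    have hCd : Nat.card (Subgroup.centralizer (H : Set G)) ∣ p ^ 3 :=
      hcard ▸ Subgroup.card_subgroup_dvd_card _
    obtain ⟨j, hj, hj2⟩ := (Nat.dvd_prime_pow hpp).mp hCd
    have hj3 : j ≠ 3 := by
      rintro rfl
      have htop : Subgroup.centralizer (H : Set G) = ⊤ := by
        apply Subgroup.eq_top_of_card_eq
        rw [hj2, hcard]
      -- H is central
      have hHZ : H ≤ Subgroup.center G := by
        intro x hx
        rw [Subgroup.mem_center_iff]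
        intro g
        have hg : g ∈ Subgroup.centralizer (H : Set G) := by rw [htop]; exact Subgroup.mem_top g
        exact (Subgroup.mem_centralizer_iff.mp hg x hx).symm
      have hZ2 := Subgroup.card_le_of_le hHZ
      rw [hk2] at hZ2
      have hmul := Subgroup.card_eq_card_quotient_mul_card_subgroup (Subgroup.center G)
      rw [hcard] at hmul
      have hZd : Nat.card (Subgroup.center G) ∣ p ^ 3 := Dvd.intro_left _ hmul.symm
      obtain ⟨i, hi, hi2⟩ := (Nat.dvd_prime_pow hpp).mp hZd
      have hi2' : 2 ≤ i := by
        rw [hi2] at hZ2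
        exact (Nat.pow_le_pow_iff_right hpp.one_lt).mp hZ2
      have hQ : Nat.card (G ⧸ Subgroup.center G) = p ^ (3 - i) := by
        rw [hi2] at hmul
        have e : p ^ 3 = p ^ (3 - i) * p ^ i := by rw [← pow_add]; congr 1; omega
        rw [e] at hmul
        exact (Nat.eq_of_mul_eq_mul_right (pow_pos hpp.pos i) hmul).symm
      have hcyc : IsCyclic (G ⧸ Subgroup.center G) := by
        have hi3 : i = 2 ∨ i = 3 := by omega
        rcases hi3 with rfl | rfl
        · exact isCyclic_of_prime_card (p := p) (by rw [hQ]; norm_num)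
        · have hsub : Subsingleton (G ⧸ Subgroup.center G) :=
            Finite.card_le_one_iff_subsingleton.mp (by rw [hQ]; norm_num)
          infer_instance
      exact hna (MonoidHom.isMulCommutative_of_isCyclic_of_ker_le_center
        (QuotientGroup.mk' (Subgroup.center G)) (by rw [QuotientGroup.ker_mk']))
    have hj2'' : 2 ≤ j := by
      have := Subgroup.card_le_of_le hle
      rw [hk2, hj2] at this
      exact (Nat.pow_le_pow_iff_right hpp.one_lt).mp this
    have hj2''' : j = 2 := by omega
    have heq : H = Subgroup.centralizer (H : Set G) := by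
      apply Subgroup.eq_of_le_of_card_ge hle
      rw [hj2, hj2''', hk2]
    exact heq.symm.le

end Cfsg.Agent.S3918
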