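import Cfsg.Statements.S3919
import Mathlib
import Cfsg.Agent.Helper4.SelfCent

set_option autoImplicit false
open Cfsg

namespace Cfsg.Agent.S3919

/-- Say that a group has self-centralizing non-cyclic subgroups when every non-cyclic subgroup H satisfies C_G(H) ≤ H. A finite non-abelian 2-group G of order 2^n has self-centralizing non-cyclic subgroups if and only if G has nilpotency class n − 1 (that is, G is dihedral, semidihedral or generalized quaternion). -/
theorem result {G : Type*} [Group G] [Finite G] (hna : ¬ IsMulCommutative G) (n : ℕ) (hG : Nat.card G = 2 ^ n) :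
    (∀ H : Subgroup G, ¬ IsCyclic ↥H → Subgroup.centralizer (H : Set G) ≤ H) ↔ (⊤ : Subgroup G).lowerCentralSeries (n - 2) ≠ ⊥ := by
  constructor
  · intro hstar
    exact Cfsg.Agent.Helper4.SelfCent.forward hna n hG hstar
  · intro hlcs H hH
    exact Cfsg.Agent.Helper4.SelfCent.backward hna n hG hlcs H hH

end Cfsg.Agent.S3919
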