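import Cfsg.Statements.S3998
import Mathlib
import Cfsg.Agent.S3997
import Cfsg.Agent.S0582
import Cfsg.Agent.Helper4.Supersolvable

set_option autoImplicit false
open Cfsg

namespace Cfsg.Agent.S3998

universe u v

/-- number of solutions of `x ^ n = 1` -/
noncomputable def cnt (X : Type*) [Group X] (n : ℕ) : ℕ := Nat.card {x : X // x ^ n = 1}

theorem cnt_quot {X : Type*} [Group X] [Finite X] (N : Subgroup X) [N.Normal] (q : ℕ)
    (hN : ∀ x : X, x ∈ N ↔ x ^ q = 1) (m : ℕ) :
    cnt X (m * q) = Nat.card N * cnt (X ⧸ N) m := by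
  unfold cnt
  have e := QuotientGroup.preimageMkEquivSubgroupProdSet N {y : X ⧸ N | y ^ m = 1}
  have h1 : {x : X // x ^ (m * q) = 1} ≃
      ((QuotientGroup.mk : X → X ⧸ N) ⁻¹' {y : X ⧸ N | y ^ m = 1}) := by
    refine Equiv.subtypeEquivRight ?_
    intro x
    simp only [Set.mem_preimage, Set.mem_setOf_eq]
    rw [← QuotientGroup.mk_pow, QuotientGroup.eq_one_iff, hN, pow_mul]
  rw [Nat.card_congr (h1.trans e), Nat.card_prod]
  rfl

theorem normal_sylow_mem {X : Type*} [Group X] [Finite X] (p : ℕ) [Fact p.Prime] (P : Sylow p X)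
    (hP : (P : Subgroup X).Normal) :
    ∀ x : X, x ∈ (P : Subgroup X) ↔ x ^ Nat.card (P : Subgroup X) = 1 := by
  intro x
  constructor
  · intro hx
    have h5 := congrArg Subtype.val (pow_card_eq_one' (G := (P : Subgroup X)) (x := ⟨x, hx⟩))
    rw [Subgroup.coe_pow, Subgroup.coe_one] at h5
    exact h5
  · intro hx
    have hpg : IsPGroup p (Subgroup.zpowers x) := by
      rw [P.card_eq_multiplicity] at hx
      have hd : orderOf x ∣ p ^ (Nat.card X).factorization p := orderOf_dvd_of_pow_eq_one hx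
      obtain ⟨j, -, hj⟩ := (Nat.dvd_prime_pow Fact.out).1 hd
      exact IsPGroup.of_card (n := j) (by rw [Nat.card_zpowers, hj])
    obtain ⟨P', hP'⟩ := hpg.exists_le_sylow
    have := Sylow.unique_of_normal P hP
    have : P' = P := Subsingleton.elim _ _
    rw [this] at hP'
    exact hP' (Subgroup.mem_zpowers x)

theorem sylow_eq_of_cnt {X : Type*} [Group X] [Finite X] (p : ℕ) [Fact p.Prime] (Q : Sylow p X)
    (h : cnt X (Nat.card (Q : Subgroup X)) = Nat.card (Q : Subgroup X)) :
    ∀ x : X, x ∈ (Q : Subgroup X) ↔ x ^ Nat.card (Q : Subgroup X) = 1 := by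
  classical
  have hmem : ∀ y : (Q : Subgroup X), (y : X) ^ Nat.card (Q : Subgroup X) = 1 := by
    intro y
    have h5 := congrArg Subtype.val (pow_card_eq_one' (G := (Q : Subgroup X)) (x := y))
    rw [Subgroup.coe_pow, Subgroup.coe_one] at h5
    exact h5
  let f : ↥(Q : Subgroup X) → {x : X // x ^ Nat.card (Q : Subgroup X) = 1} := fun y => ⟨y.1, hmem y⟩
  have hf : Function.Injective f := fun a b hab => Subtype.ext (by have h6 := congrArg Subtype.val hab; exact h6)
  have hs : Function.Surjective f :=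
    ((Nat.bijective_iff_injective_and_card f).2 ⟨hf, h.symm⟩).2
  intro x
  constructor
  · intro hx; exact hmem ⟨x, hx⟩
  · intro hx
    obtain ⟨y, hy⟩ := hs ⟨x, hx⟩
    have : y.1 = x := congrArg Subtype.val hy
    rw [← this]; exact y.2

theorem main : ∀ (n : ℕ) (G : Type u) (H : Type v) [Group G] [Finite G] [Group H] [Finite H],
    Nat.card H = n → (∀ m, cnt G m = cnt H m) → Cfsg.IsSupersolvable G → Group.IsSolvable H := by
  intro n
  induction n using Nat.strong_induction_on with
  | _ n ih =>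
  intro G H _ _ _ _ hn hc hG
  have hcard : Nat.card G = Nat.card H := by
    have h0 := hc 0
    unfold cnt at h0
    simpa using h0
  by_cases htriv : Nat.card H = 1
  · have hss : Subsingleton H := (Nat.card_eq_one_iff_unique.mp htriv).1
    exact Group.isSolvable_of_comm (fun a b => Subsingleton.elim _ _)
  have hGpos : 0 < Nat.card G := Nat.card_pos
  have hne : (Nat.card G).primeFactors.Nonempty := by
    rw [Nat.nonempty_primeFactors]; omega
  obtain ⟨p, hpmem, hpmax⟩ : ∃ p ∈ (Nat.card G).primeFactors,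
      ∀ q ∈ (Nat.card G).primeFactors, q ≤ p :=
    ⟨_, Finset.max'_mem _ hne, fun q hq => Finset.le_max' _ q hq⟩
  have hp : p.Prime := Nat.prime_of_mem_primeFactors hpmem
  have hpd : p ∣ Nat.card G := Nat.dvd_of_mem_primeFactors hpmem
  haveI : Fact p.Prime := ⟨hp⟩
  obtain ⟨P⟩ : Nonempty (Sylow p G) := inferInstance
  have hPn : (P : Subgroup G).Normal :=
    Cfsg.Agent.S0582.sylow_normal_of_supersolvable p _ G rfl hG
      (fun q hq hqd => hpmax q (Nat.mem_primeFactors.2 ⟨hq, hqd, hGpos.ne'⟩)) P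
  have hPc : Nat.card (P : Subgroup G) = p ^ (Nat.card G).factorization p := P.card_eq_multiplicity
  obtain ⟨Q⟩ : Nonempty (Sylow p H) := inferInstance
  have hQc : Nat.card (Q : Subgroup H) = p ^ (Nat.card H).factorization p := Q.card_eq_multiplicity
  have hPQ : Nat.card (P : Subgroup G) = Nat.card (Q : Subgroup H) := by rw [hPc, hQc, hcard]
  have hPmem := normal_sylow_mem p P hPn
  have hcG : cnt G (Nat.card (P : Subgroup G)) = Nat.card (P : Subgroup G) := by
    unfold cnt
    exact Nat.card_congr (Equiv.subtypeEquivRight (fun x => (hPmem x).symm))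
  have hcH : cnt H (Nat.card (Q : Subgroup H)) = Nat.card (Q : Subgroup H) := by
    rw [← hPQ, ← hc, hcG]
  have hQmem := sylow_eq_of_cnt p Q hcH
  have hQn : (Q : Subgroup H).Normal := by
    constructor
    intro x hx g
    rw [hQmem] at hx ⊢
    rw [conj_pow, hx]; simp
  have := hPn
  have := hQn
  have hQpos : 0 < Nat.card (Q : Subgroup H) := Nat.card_pos
  have hq : ∀ m, cnt (G ⧸ (P : Subgroup G)) m = cnt (H ⧸ (Q : Subgroup H)) m := by
    intro m
    have h1 := cnt_quot (P : Subgroup G) _ hPmem m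
    have h2 := cnt_quot (Q : Subgroup H) _ hQmem m
    rw [hPQ, hc, h2] at h1
    exact (Nat.eq_of_mul_eq_mul_left hQpos h1).symm
  have hlt : Nat.card (H ⧸ (Q : Subgroup H)) < n := by
    have h3 := Subgroup.card_eq_card_quotient_mul_card_subgroup (Q : Subgroup H)
    have hQ1 : 1 < Nat.card (Q : Subgroup H) := by
      rw [hQc]
      have h4 : 0 < (Nat.card H).factorization p :=
        hp.factorization_pos_of_dvd (hcard ▸ hGpos.ne') (hcard ▸ hpd)
      exact Nat.one_lt_pow h4.ne' hp.one_lt
    have hpos : 0 < Nat.card (H ⧸ (Q : Subgroup H)) := Nat.card_pos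
    rw [← hn, h3]; nlinarith
  have hsolvQ : Group.IsSolvable (H ⧸ (Q : Subgroup H)) :=
    ih _ hlt (G ⧸ (P : Subgroup G)) (H ⧸ (Q : Subgroup H)) rfl hq
      (Cfsg.Agent.Helper4.isSupersolvable_quotient _ hG)
  have hsolvN : Group.IsSolvable (Q : Subgroup H) := by
    have hnil : Group.IsNilpotent (Q : Subgroup H) := Q.isPGroup'.isNilpotent
    exact @IsNilpotent.to_isSolvable _ _ hnil
  exact Group.isSolvable_of_ker_le_range (Q : Subgroup H).subtype
    (QuotientGroup.mk' (Q : Subgroup H)) (by simp)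

/-- Let G and H be finite groups with the same order type (for every m the same number of elements of order m). If G is supersolvable then H is solvable. -/
theorem result {G H : Type*} [Group G] [Finite G] [Group H] [Finite H] (hT : (∀ m : ℕ, Nat.card {g : G // orderOf g = m} = Nat.card {h : H // orderOf h = m})) (hG : Cfsg.IsSupersolvable G) :
    Group.IsSolvable H := by
  obtain ⟨φ, hφ⟩ := Cfsg.Agent.S3997.exists_equiv hT
  refine main _ G H rfl ?_ hG
  intro m
  unfold cnt
  refine Nat.card_congr (φ.subtypeEquiv ?_)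
  intro g
  rw [← orderOf_dvd_iff_pow_eq_one, ← orderOf_dvd_iff_pow_eq_one, hφ]

end Cfsg.Agent.S3998
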