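import Cfsg.Statements.S4001
import Cfsg.Agent.Helper17.TwoFrob
-- import your own Cfsg.Agent.* helpers here

set_option autoImplicit false
open Cfsg

namespace Cfsg.Agent.S4001

open Cfsg.Agent.Helper17.TwoFrob
set_option maxHeartbeats 1000000


/-- Let G be a 2-Frobenius group: it has normal subgroups H < K with K a Frobenius group with kernel H and G/H a Frobenius group with kernel K/H. Then G is solvable; K/H has odd order coprime to the order of H and to the order of G/K (it is the image of an odd-order Hall subgroup); G/K is cyclic; and the prime graph of G has exactly two connected components, both complete: for distinct primes p, q dividing the order of G, G has an element of order pq exactly when p and q either both divide the order of K/H or both do not. -/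
theorem result {G : Type*} [Group G] [Finite G] (H K : Subgroup G) [H.Normal] [K.Normal] (hlt : H < K)
    (hK : ∃ C : Subgroup ↥K, Cfsg.IsFrobeniusComplement C ∧ Cfsg.frobeniusKernel C = (H.subgroupOf K : Set ↥K))
    (hGH : ∃ C : Subgroup (G ⧸ H), Cfsg.IsFrobeniusComplement C ∧ Cfsg.frobeniusKernel C = (K.map (QuotientGroup.mk' H) : Set (G ⧸ H))) :
    Group.IsSolvable G ∧ Odd (Nat.card (↥K ⧸ H.subgroupOf K)) ∧
      Nat.Coprime (Nat.card (↥K ⧸ H.subgroupOf K)) (Nat.card ↥H * Nat.card (G ⧸ K)) ∧ IsCyclic (G ⧸ K) ∧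
      ∀ p q : ℕ, p.Prime → q.Prime → p ≠ q → p ∣ Nat.card G → q ∣ Nat.card G →
        ((∃ g : G, orderOf g = p * q) ↔ (p ∣ Nat.card (↥K ⧸ H.subgroupOf K) ↔ q ∣ Nat.card (↥K ⧸ H.subgroupOf K))) := by
  classical
  obtain ⟨C, hC, hCker⟩ := hK
  obtain ⟨C', hC', hC'ker⟩ := hGH
  have hHn : H.Normal := inferInstance
  have hKn : K.Normal := inferInstance
  have hle : H ≤ K := hlt.le
  have dK := frobData_of (H.subgroupOf K) C hC hCker
  have dG := frobData_of (K.map (QuotientGroup.mk' H)) C' hC' hC'ker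
  obtain ⟨m, hm⟩ : ∃ m : ℕ, m = Nat.card (↥K ⧸ H.subgroupOf K) := ⟨_, rfl⟩
  rw [← hm]
  -- cardinalities
  have hcHk : Nat.card (H.subgroupOf K) = Nat.card H :=
    Nat.card_congr (Subgroup.subgroupOfEquivOfLe hle).toEquiv
  have hK1 : m * Nat.card H = Nat.card K := by
    rw [hm, ← hcHk]
    exact (Subgroup.card_eq_card_quotient_mul_card_subgroup (H.subgroupOf K)).symm
  have hHpos : 0 < Nat.card H := Nat.card_pos
  have hmpos : 0 < m := by rw [hm]; exact Nat.card_pos
  have hmC : m = Nat.card C := by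
    have h1 := dK.card_mul
    rw [hcHk, ← hK1, mul_comm] at h1
    exact (Nat.eq_of_mul_eq_mul_right hHpos h1).symm
  have hmKb : Nat.card (K.map (QuotientGroup.mk' H)) = m := by
    obtain ⟨φ, hφ⟩ : ∃ φ : ↥K →* G ⧸ H, φ = (QuotientGroup.mk' H).comp K.subtype := ⟨_, rfl⟩
    have hker : φ.ker = H.subgroupOf K := by
      ext x
      rw [MonoidHom.mem_ker, Subgroup.mem_subgroupOf, hφ]
      show (QuotientGroup.mk' H) (x : G) = 1 ↔ _
      rw [QuotientGroup.mk'_apply, QuotientGroup.eq_one_iff]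
    have hrange : φ.range = K.map (QuotientGroup.mk' H) := by
      rw [hφ, MonoidHom.range_comp, Subgroup.range_subtype]
    rw [← hrange, ← Subgroup.index_ker, hker, hm, Subgroup.index_eq_card]
  have hGK : Nat.card (G ⧸ K) = Nat.card C' := by
    have h1 := dG.card_mul
    rw [hmKb] at h1
    have h2 := Subgroup.card_eq_card_quotient_mul_card_subgroup H
    have h3 := Subgroup.card_eq_card_quotient_mul_card_subgroup K
    rw [← hK1] at h3
    rw [← h1] at h2
    have h4 : Nat.card (G ⧸ K) * (m * Nat.card H) = Nat.card C' * (m * Nat.card H) := by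
      rw [← h3, h2]; ring
    exact Nat.eq_of_mul_eq_mul_right (Nat.mul_pos hmpos hHpos) h4
  have hcardG : Nat.card G = Nat.card H * m * Nat.card (G ⧸ K) := by
    have h3 := Subgroup.card_eq_card_quotient_mul_card_subgroup K
    rw [← hK1] at h3
    rw [h3]; ring
  have hcop1 : m.Coprime (Nat.card H) := by
    have := dK.cop
    rw [hcHk, ← hmC] at this
    exact this.symm
  have hcop2 : m.Coprime (Nat.card (G ⧸ K)) := by
    have := dG.cop
    rw [hmKb, ← hGK] at this
    exact this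
  -- elements of the image of K
  have hmkH : ∀ g : G, (QuotientGroup.mk' H) g = 1 ↔ g ∈ H := by
    intro g
    rw [QuotientGroup.mk'_apply, QuotientGroup.eq_one_iff]
  have hKbC : ∀ u ∈ K.map (QuotientGroup.mk' H),
      ∃ c : ↥K, c ∈ C ∧ (QuotientGroup.mk' H) (c : G) = u := by
    intro u hu
    obtain ⟨k, hk, rfl⟩ := Subgroup.mem_map.mp hu
    obtain ⟨n, hn, c, hc, hkc⟩ := dK.exists_mul ⟨k, hk⟩
    refine ⟨c, hc, ?_⟩
    have e : k = (n : G) * (c : G) := congrArg Subtype.val hkc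
    rw [e, map_mul, (hmkH _).mpr (Subgroup.mem_subgroupOf.mp hn), one_mul]
  have hCKb : ∀ c : ↥K, (QuotientGroup.mk' H) (c : G) ∈ K.map (QuotientGroup.mk' H) :=
    fun c => Subgroup.mem_map.mpr ⟨c, c.2, rfl⟩
  have hCH1 : ∀ c : ↥K, c ∈ C → (c : G) ∈ H → c = 1 := by
    intro c hc hcH
    exact dK.eq_one_of_mem (Subgroup.mem_subgroupOf.mpr hcH) hc
  have hodd : Odd m := by
    by_contra hnot
    have heven : 2 ∣ Nat.card C := by
      rw [← hmC]; exact even_iff_two_dvd.mp (Nat.not_odd_iff_even.mp hnot)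
    haveI : Fact (Nat.Prime 2) := ⟨Nat.prime_two⟩
    obtain ⟨t, ht⟩ := exists_prime_orderOf_dvd_card' 2 heven
    have ht1 : (t : ↥K) ≠ 1 := by
      intro h
      have : t = 1 := Subtype.ext h
      rw [this, orderOf_one] at ht
      omega
    have htt : (t : ↥K) * (t : ↥K) = 1 := by
      have h := pow_orderOf_eq_one t
      rw [ht, pow_two] at h
      exact congrArg Subtype.val h
    obtain ⟨tb, htb⟩ : ∃ tb : G ⧸ H, tb = (QuotientGroup.mk' H) ((t : ↥K) : G) := ⟨_, rfl⟩
    have htbK : tb ∈ K.map (QuotientGroup.mk' H) := by rw [htb]; exact hCKb _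
    have htb1 : tb ≠ 1 := by
      intro h
      rw [htb, hmkH] at h
      exact ht1 (hCH1 _ t.2 h)
    have htbtb : tb * tb = 1 := by
      rw [htb, ← map_mul, ← Subgroup.coe_mul, htt, Subgroup.coe_one, map_one]
    have huniq : ∀ u ∈ K.map (QuotientGroup.mk' H), u * u = 1 → u ≠ 1 → u = tb := by
      intro u hu huu hu1
      obtain ⟨c, hc, rfl⟩ := hKbC u hu
      have hcc : c * c = 1 := by
        apply hCH1 _ (C.mul_mem hc hc)
        rw [← hmkH, Subgroup.coe_mul, map_mul]; exact huu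
      have hc1 : c ≠ 1 := by
        rintro rfl
        exact hu1 (by rw [Subgroup.coe_one, map_one])
      rw [htb, dK.invol_unique hc t.2 hc1 ht1 hcc htt]
    obtain ⟨c', hc', hc'1⟩ : ∃ c' ∈ C', c' ≠ 1 := by
      by_contra hcon
      apply dG.C_ne
      rw [eq_bot_iff]
      intro y hy
      by_contra hy1
      exact hcon ⟨y, hy, fun h => hy1 (Subgroup.mem_bot.mpr h)⟩
    have h1 : c' * tb * c'⁻¹ = tb := by
      apply huniq _ (dG.normal.conj_mem tb htbK c')
      · have e : c' * tb * c'⁻¹ * (c' * tb * c'⁻¹) = c' * (tb * tb) * c'⁻¹ := by group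
        rw [e, htbtb, mul_one, mul_inv_cancel]
      · intro h
        apply htb1
        have e : tb = c'⁻¹ * (c' * tb * c'⁻¹) * c' := by group
        rw [e, h]; group
    have h2 : c' * tb = tb * c' := by
      calc c' * tb = (c' * tb * c'⁻¹) * c' := by group
        _ = tb * c' := by rw [h1]
    exact htb1 (dG.fpf c' hc' hc'1 tb htbK h2)
  have hmkK : ∀ g : G, (QuotientGroup.mk' K) g = 1 ↔ g ∈ K := by
    intro g
    rw [QuotientGroup.mk'_apply, QuotientGroup.eq_one_iff]
  have hcycc : ∀ (A : Type _) [Group A] [IsCyclic A] (a b : A), a * b = b * a := by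
    intro A _ _ a b
    letI := IsCyclic.commGroup (α := A)
    exact mul_comm a b
  -- C is nilpotent, hence cyclic
  obtain ⟨f, hf⟩ : ∃ f : ↥C →* G ⧸ H,
      f = (QuotientGroup.mk' H).comp (K.subtype.comp C.subtype) := ⟨_, rfl⟩
  have hfapp : ∀ c : ↥C, f c = (QuotientGroup.mk' H) ((c : ↥K) : G) := by
    intro c; rw [hf]; rfl
  have hfmem : ∀ c : ↥C, f c ∈ K.map (QuotientGroup.mk' H) := by
    intro c; rw [hfapp]; exact hCKb _
  obtain ⟨ψ, hψ⟩ : ∃ ψ : ↥C →* ↥(K.map (QuotientGroup.mk' H)),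
      ∀ c, ((ψ c : ↥(K.map (QuotientGroup.mk' H))) : G ⧸ H) = f c :=
    ⟨f.codRestrict _ hfmem, fun c => rfl⟩
  have hψinj : Function.Injective ψ := by
    rw [injective_iff_map_eq_one]
    intro c hc
    have h1 : f c = 1 := by rw [← hψ, hc]; rfl
    rw [hfapp, hmkH] at h1
    exact Subtype.ext (hCH1 _ c.2 h1)
  have hψsurj : Function.Surjective ψ := by
    intro u
    obtain ⟨c, hc, hcu⟩ := hKbC u u.2
    refine ⟨⟨c, hc⟩, Subtype.ext ?_⟩
    rw [hψ, hfapp]; exact hcu
  have hCnil : Group.IsNilpotent C := Cfsg.Agent.Lead.Kegel.nil_of_injective ψ hψinj dG.nil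
  haveI hCcyc : IsCyclic C := dK.cyclic_of_odd_nilpotent (by rw [← hmC]; exact hodd) hCnil
  haveI hKbcyc : IsCyclic (K.map (QuotientGroup.mk' H)) := isCyclic_of_surjective ψ hψsurj
  -- C' is abelian, hence cyclic
  obtain ⟨g, hg⟩ := IsCyclic.exists_generator (α := ↥(K.map (QuotientGroup.mk' H)))
  have hgK : (g : G ⧸ H) ∈ K.map (QuotientGroup.mk' H) := g.2
  have hgen : ∀ y ∈ K.map (QuotientGroup.mk' H), ∃ i : ℤ, y = (g : G ⧸ H) ^ i := by
    intro y hy
    obtain ⟨i, hi⟩ := Subgroup.mem_zpowers_iff.mp (hg ⟨y, hy⟩)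
    exact ⟨i, by rw [← Subgroup.coe_zpow, hi]⟩
  have hg1 : (g : G ⧸ H) ≠ 1 := by
    intro h
    apply dG.N_ne
    rw [eq_bot_iff]
    intro y hy
    obtain ⟨i, rfl⟩ := hgen y hy
    rw [h, one_zpow]; exact Subgroup.mem_bot.mpr rfl
  have hC'comm : ∀ a b : G ⧸ H, a ∈ C' → b ∈ C' → a * b = b * a := by
    intro a b ha hb
    obtain ⟨i, hi⟩ := hgen _ (dG.normal.conj_mem _ hgK a)
    obtain ⟨j, hj⟩ := hgen _ (dG.normal.conj_mem _ hgK b)
    have hw : (b * a)⁻¹ * (a * b) * (g : G ⧸ H) = (g : G ⧸ H) * ((b * a)⁻¹ * (a * b)) := by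
      have e1 : a * b * (g : G ⧸ H) * (a * b)⁻¹ = (g : G ⧸ H) ^ (j * i) := by
        calc a * b * (g : G ⧸ H) * (a * b)⁻¹ = a * (b * g * b⁻¹) * a⁻¹ := by group
          _ = a * (g : G ⧸ H) ^ j * a⁻¹ := by rw [hj]
          _ = (a * g * a⁻¹) ^ j := by rw [conj_zpow]
          _ = (g : G ⧸ H) ^ (j * i) := by rw [hi, ← zpow_mul, mul_comm i j]
      have e2 : b * a * (g : G ⧸ H) * (b * a)⁻¹ = (g : G ⧸ H) ^ (j * i) := by
        calc b * a * (g : G ⧸ H) * (b * a)⁻¹ = b * (a * g * a⁻¹) * b⁻¹ := by group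
          _ = b * (g : G ⧸ H) ^ i * b⁻¹ := by rw [hi]
          _ = (b * g * b⁻¹) ^ i := by rw [conj_zpow]
          _ = (g : G ⧸ H) ^ (j * i) := by rw [hj, ← zpow_mul]
      calc (b * a)⁻¹ * (a * b) * (g : G ⧸ H)
          = (b * a)⁻¹ * (a * b * g * (a * b)⁻¹) * (a * b) := by group
        _ = (b * a)⁻¹ * (b * a * g * (b * a)⁻¹) * (a * b) := by rw [e1, e2]
        _ = (g : G ⧸ H) * ((b * a)⁻¹ * (a * b)) := by group
    by_contra hne
    have hw1 : (b * a)⁻¹ * (a * b) ≠ 1 := by
      intro h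
      exact hne (inv_mul_eq_one.mp h).symm
    exact hg1 (dG.fpf _ (C'.mul_mem (C'.inv_mem (C'.mul_mem hb ha)) (C'.mul_mem ha hb)) hw1 _ hgK hw)
  haveI hC'ab : IsMulCommutative C' := ⟨⟨fun a b => Subtype.ext (hC'comm a b a.2 b.2)⟩⟩
  haveI hKbab : IsMulCommutative (K.map (QuotientGroup.mk' H)) := ⟨⟨fun a b => hcycc _ a b⟩⟩
  haveI hKbn := dG.normal
  haveI hC'cyc : IsCyclic C' :=
    Cfsg.Agent.S0041.result C' (K.map (QuotientGroup.mk' H)) dG.N_ne
      (by rw [Subgroup.normalizer_eq_top]; exact le_top) dG.fpf' (Or.inl hC'ab)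
  -- G / K is cyclic
  obtain ⟨θ, hθ⟩ : ∃ θ : G ⧸ H →* G ⧸ K,
      ∀ x : G, θ (QuotientGroup.mk' H x) = QuotientGroup.mk' K x :=
    ⟨QuotientGroup.map H K (MonoidHom.id G) (by intro x hx; exact hle hx), fun x => rfl⟩
  have hθsurj : Function.Surjective (θ.comp C'.subtype) := by
    intro y
    obtain ⟨x, rfl⟩ := QuotientGroup.mk'_surjective K y
    obtain ⟨n, hn, c, hc, hnc⟩ := dG.exists_mul (QuotientGroup.mk' H x)
    obtain ⟨k, hk, rfl⟩ := Subgroup.mem_map.mp hn
    refine ⟨⟨c, hc⟩, ?_⟩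
    show θ c = _
    have e : c = (QuotientGroup.mk' H k)⁻¹ * QuotientGroup.mk' H x := by rw [hnc]; group
    rw [e, map_mul, map_inv, hθ, hθ, (hmkK k).mpr hk, inv_one, one_mul]
  haveI hGKcyc : IsCyclic (G ⧸ K) := isCyclic_of_surjective (θ.comp C'.subtype) hθsurj
  -- solvability
  have hsolK : Group.IsSolvable ↥K := by
    haveI : Group.IsNilpotent (H.subgroupOf K) := dK.nil
    haveI : Group.IsSolvable (↥K ⧸ H.subgroupOf K) := by
      have hs : Function.Surjective ((QuotientGroup.mk' (H.subgroupOf K)).comp C.subtype) := by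
        intro y
        obtain ⟨x, rfl⟩ := QuotientGroup.mk'_surjective _ y
        obtain ⟨n, hn, c, hc, hnc⟩ := dK.exists_mul x
        refine ⟨⟨c, hc⟩, ?_⟩
        show (QuotientGroup.mk' (H.subgroupOf K)) c = _
        have h1 : (QuotientGroup.mk' (H.subgroupOf K)) n = 1 := by
          rw [QuotientGroup.mk'_apply, QuotientGroup.eq_one_iff]; exact hn
        rw [hnc, map_mul, h1, one_mul]
      haveI : IsCyclic (↥K ⧸ H.subgroupOf K) := isCyclic_of_surjective _ hs
      exact Group.isSolvable_of_comm (fun a b => hcycc _ a b)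
    exact Group.isSolvable_of_ker_le_range (H.subgroupOf K).subtype
      (QuotientGroup.mk' (H.subgroupOf K)) (by rw [QuotientGroup.ker_mk', Subgroup.range_subtype])
  have hsolG : Group.IsSolvable G := by
    haveI := hsolK
    haveI : Group.IsSolvable (G ⧸ K) := Group.isSolvable_of_comm (fun a b => hcycc _ a b)
    exact Group.isSolvable_of_ker_le_range K.subtype (QuotientGroup.mk' K)
      (by rw [QuotientGroup.ker_mk', Subgroup.range_subtype])
  refine ⟨hsolG, hodd, Nat.Coprime.mul_right hcop1 hcop2, hGKcyc, ?_⟩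
  have hord : ∀ (S : Subgroup G) (x : G), x ∈ S → orderOf x ∣ Nat.card S := by
    intro S x hx
    rw [← Subgroup.orderOf_mk x hx]; exact orderOf_dvd_natCard _
  have hord' : ∀ (S : Subgroup (G ⧸ H)) (x : G ⧸ H), x ∈ S → orderOf x ∣ Nat.card S := by
    intro S x hx
    rw [← Subgroup.orderOf_mk x hx]; exact orderOf_dvd_natCard _
  have hdvdG : ∀ r : ℕ, r.Prime → r ∣ Nat.card G →
      r ∣ Nat.card H ∨ r ∣ m ∨ r ∣ Nat.card (G ⧸ K) := by
    intro r hr hrG
    rw [hcardG] at hrG
    rcases (Nat.Prime.dvd_mul hr).mp hrG with h | h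
    · rcases (Nat.Prime.dvd_mul hr).mp h with h | h
      · exact Or.inl h
      · exact Or.inr (Or.inl h)
    · exact Or.inr (Or.inr h)
  -- no element of order p q when exactly one of p, q divides m
  have hE : ∀ p q : ℕ, p.Prime → q.Prime → p ≠ q → p ∣ m → ¬ q ∣ m →
      ∀ g : G, orderOf g = p * q → False := by
    intro p q hp hq hpq hpm hqm g hg
    haveI : Fact p.Prime := ⟨hp⟩
    haveI : Fact q.Prime := ⟨hq⟩
    have hpH : ¬ p ∣ Nat.card H := by
      intro h
      have := Nat.dvd_gcd hpm h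
      rw [hcop1.gcd_eq_one] at this
      exact hp.one_lt.ne' (Nat.dvd_one.mp this)
    have hpGK : ¬ p ∣ Nat.card (G ⧸ K) := by
      intro h
      have := Nat.dvd_gcd hpm h
      rw [hcop2.gcd_eq_one] at this
      exact hp.one_lt.ne' (Nat.dvd_one.mp this)
    have hgpow : g ^ (p * q) = 1 := by rw [← hg]; exact pow_orderOf_eq_one g
    obtain ⟨x, hx⟩ : ∃ x : G, x = g ^ q := ⟨_, rfl⟩
    obtain ⟨y, hy⟩ : ∃ y : G, y = g ^ p := ⟨_, rfl⟩
    have hxp : x ^ p = 1 := by rw [hx, ← pow_mul, mul_comm]; exact hgpow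
    have hyq : y ^ q = 1 := by rw [hy, ← pow_mul]; exact hgpow
    have hx1 : x ≠ 1 := by
      intro h
      rw [hx] at h
      have h1 := orderOf_dvd_of_pow_eq_one h
      rw [hg] at h1
      have h2 : p * q ∣ 1 * q := by rwa [one_mul]
      have h3 : p ∣ 1 := Nat.dvd_of_mul_dvd_mul_right hq.pos h2
      exact hp.one_lt.ne' (Nat.dvd_one.mp h3)
    have hy1 : y ≠ 1 := by
      intro h
      rw [hy] at h
      have h1 := orderOf_dvd_of_pow_eq_one h
      rw [hg] at h1
      have h2 : p * q ∣ p * 1 := by rwa [mul_one]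
      have h3 : q ∣ 1 := Nat.dvd_of_mul_dvd_mul_left hp.pos h2
      exact hq.one_lt.ne' (Nat.dvd_one.mp h3)
    have hox : orderOf x = p := orderOf_eq_prime hxp hx1
    have hgx : g * x = x * g := by rw [hx]; exact (Commute.pow_right (Commute.refl g) q).eq
    have hgy : g * y = y * g := by rw [hy]; exact (Commute.pow_right (Commute.refl g) p).eq
    have hxK : x ∈ K := by
      rw [← hmkK]
      have h1 : (QuotientGroup.mk' K x) ^ p = 1 := by rw [← map_pow, hxp, map_one]
      have h2 : orderOf (QuotientGroup.mk' K x) ∣ p := orderOf_dvd_of_pow_eq_one h1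
      rcases (Nat.dvd_prime hp).mp h2 with h3 | h3
      · exact orderOf_eq_one_iff.mp h3
      · exfalso
        apply hpGK
        rw [← h3]; exact orderOf_dvd_natCard _
    have hxH : x ∉ H := by
      intro h
      apply hpH
      rw [← hox]
      exact hord H x h
    have hgK : g ∈ K := by
      by_contra hgK
      have hnot : (QuotientGroup.mk' H g) ∉ K.map (QuotientGroup.mk' H) := by
        intro hmem
        obtain ⟨k, hk, hkg⟩ := Subgroup.mem_map.mp hmem
        have h1 : k⁻¹ * g ∈ H := by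
          rw [← hmkH, map_mul, map_inv, hkg, inv_mul_cancel]
        apply hgK
        have e : g = k * (k⁻¹ * g) := by group
        rw [e]; exact K.mul_mem hk (hle h1)
      have h1 := dG.outside _ hnot (QuotientGroup.mk' H x) (Subgroup.mem_map.mpr ⟨x, hxK, rfl⟩)
        (by rw [← map_mul, ← map_mul, hgx])
      exact hxH ((hmkH x).mp h1)
    have hyK : y ∈ K := by rw [hy]; exact K.pow_mem hgK p
    have hyH : y ∈ H := by
      rw [← hmkH]
      have h1 : (QuotientGroup.mk' H y) ^ q = 1 := by rw [← map_pow, hyq, map_one]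
      have h2 : orderOf (QuotientGroup.mk' H y) ∣ q := orderOf_dvd_of_pow_eq_one h1
      rcases (Nat.dvd_prime hq).mp h2 with h3 | h3
      · exact orderOf_eq_one_iff.mp h3
      · exfalso
        apply hqm
        rw [← h3, ← hmKb]
        exact hord' _ _ (Subgroup.mem_map.mpr ⟨y, hyK, rfl⟩)
    have hgH : g ∈ H := by
      by_contra hgH
      have hnot : (⟨g, hgK⟩ : ↥K) ∉ H.subgroupOf K := by
        rw [Subgroup.mem_subgroupOf]; exact hgH
      have h1 := dK.outside ⟨g, hgK⟩ hnot ⟨y, hyK⟩ (Subgroup.mem_subgroupOf.mpr hyH)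
        (Subtype.ext hgy)
      exact hy1 (congrArg Subtype.val h1)
    exact hxH (by rw [hx]; exact H.pow_mem hgH q)
  have hA : ∀ p q : ℕ, p.Prime → q.Prime → p ≠ q → p ∣ m → q ∣ m →
      ∃ g : G, orderOf g = p * q := by
    intro p q hp hq hpq hpm hqm
    have hdvd : p * q ∣ Nat.card C := by
      rw [← hmC]
      exact Nat.Coprime.mul_dvd_of_dvd_of_dvd ((Nat.coprime_primes hp hq).mpr hpq) hpm hqm
    obtain ⟨x, hx⟩ := exists_orderOf_of_cyclic (A := ↥C) hdvd
    exact ⟨((x : ↥K) : G), by rw [Subgroup.orderOf_coe, Subgroup.orderOf_coe, hx]⟩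
  have hB : ∀ p q : ℕ, p.Prime → q.Prime → p ≠ q → p ∣ Nat.card H → q ∣ Nat.card H →
      ∃ g : G, orderOf g = p * q := by
    intro p q hp hq hpq hpH hqH
    obtain ⟨x, hx⟩ := exists_orderOf_mul_of_nilpotent dK.nil hp hq hpq
      (by rw [hcHk]; exact hpH) (by rw [hcHk]; exact hqH)
    exact ⟨((x : ↥K) : G), by rw [Subgroup.orderOf_coe, Subgroup.orderOf_coe, hx]⟩
  have hCc : ∀ p q : ℕ, p.Prime → q.Prime → p ≠ q → p ∣ Nat.card (G ⧸ K) →
      q ∣ Nat.card (G ⧸ K) → ∃ g : G, orderOf g = p * q := by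
    intro p q hp hq hpq hpGK hqGK
    have hdvd : p * q ∣ Nat.card (G ⧸ K) :=
      Nat.Coprime.mul_dvd_of_dvd_of_dvd ((Nat.coprime_primes hp hq).mpr hpq) hpGK hqGK
    obtain ⟨xb, hxb⟩ := exists_orderOf_of_cyclic (A := G ⧸ K) hdvd
    obtain ⟨x, rfl⟩ := QuotientGroup.mk'_surjective K xb
    have h1 : p * q ∣ orderOf x := by rw [← hxb]; exact orderOf_map_dvd _ x
    obtain ⟨y, hy, -⟩ := exists_orderOf_of_dvd_orderOf (orderOf_pos x) h1
    exact ⟨y, hy⟩
  have hD : ∀ p q : ℕ, p.Prime → q.Prime → p ≠ q → ¬ p ∣ m → p ∣ Nat.card H →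
      q ∣ Nat.card (G ⧸ K) → ∃ g : G, orderOf g = p * q := by
    intro p q hp hq hpq hpm hpH hqGK
    haveI : Fact p.Prime := ⟨hp⟩
    haveI : Fact q.Prime := ⟨hq⟩
    obtain ⟨z₀, hz₀, hz₀c⟩ := exists_central_of_nilpotent dK.nil hp (by rw [hcHk]; exact hpH)
    obtain ⟨z, hz⟩ : ∃ z : G, z = ((z₀ : ↥K) : G) := ⟨_, rfl⟩
    have hzH : z ∈ H := by rw [hz]; exact Subgroup.mem_subgroupOf.mp z₀.2
    have hzo : orderOf z = p := by rw [hz, Subgroup.orderOf_coe, Subgroup.orderOf_coe, hz₀]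
    have hzc : ∀ h ∈ H, h * z = z * h := by
      intro h hh
      have h1 := hz₀c ⟨⟨h, hle hh⟩, Subgroup.mem_subgroupOf.mpr hh⟩
      have h2 := congrArg (fun w : ↥(H.subgroupOf K) => ((w : ↥K) : G)) h1
      rw [hz]; exact h2
    obtain ⟨V, hV⟩ : ∃ V : Subgroup G, V = Cfsg.Agent.Lead.Th.omegaZ p H := ⟨_, rfl⟩
    haveI hVn : V.Normal := by rw [hV]; exact Cfsg.Agent.Lead.Th.omegaZ_normal p H
    have hVmem : ∀ v : G, v ∈ V ↔
        v ∈ H ∧ v ∈ Subgroup.centralizer (H : Set G) ∧ v ^ p = 1 := by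
      intro v; rw [hV]; exact Cfsg.Agent.Lead.Th.mem_omegaZ
    have hzV : z ∈ V := by
      rw [hVmem]
      refine ⟨hzH, ?_, ?_⟩
      · rw [Subgroup.mem_centralizer_iff]; exact hzc
      · rw [← hzo]; exact pow_orderOf_eq_one z
    have hkerφ : H ≤ (MulAut.conjNormal (H := V)).ker := by
      intro h hh
      rw [MonoidHom.mem_ker]
      apply MulEquiv.ext
      intro v
      apply Subtype.ext
      rw [MulAut.conjNormal_apply]
      have hv := (hVmem _).mp v.2
      have e := Subgroup.mem_centralizer_iff.mp hv.2.1 h hh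
      rw [e, mul_inv_cancel_right]
      rfl
    obtain ⟨Ψ, hΨ⟩ : ∃ Ψ : G ⧸ H →* MulAut V,
        ∀ (x : G) (v : V), ((Ψ (QuotientGroup.mk' H x) v : V) : G) = x * v * x⁻¹ :=
      ⟨QuotientGroup.lift H (MulAut.conjNormal (H := V)) hkerφ, fun x v => by
        rw [QuotientGroup.mk'_apply, QuotientGroup.lift_mk, MulAut.conjNormal_apply]⟩
    have hex : ∃ a : V, a ≠ 1 ∧ ∀ h ∈ C', Ψ h a = a := by
      by_contra hcon
      letI : CommGroup V :=
        { (inferInstance : Group V) with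
          mul_comm := fun a b => Subtype.ext (by
            have ha := (hVmem _).mp a.2
            have hb := (hVmem _).mp b.2
            show (a : G) * (b : G) = (b : G) * (a : G)
            exact Subgroup.mem_centralizer_iff.mp hb.2.1 a ha.1) }
      have key : ∀ a : V, a ^ Nat.card (K.map (QuotientGroup.mk' H)) = 1 := by
        intro a
        refine Cfsg.Agent.Lead.FrobAvg.frob_avg Ψ (K.map (QuotientGroup.mk' H)) C' ?_ ?_ ?_ ?_ a
        · intro h _ k hk
          exact dG.normal.conj_mem k hk h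
        · exact dG.fpf
        · intro a ha
          obtain ⟨c₀, hc₀, hc₀1⟩ : ∃ c ∈ C, c ≠ 1 := by
            by_contra hcon'
            apply dK.C_ne
            rw [eq_bot_iff]
            intro y hy
            by_contra hy1
            exact hcon' ⟨y, hy, fun h => hy1 (Subgroup.mem_bot.mpr h)⟩
          have h1 := ha _ (hCKb c₀)
          have h2 : ((c₀ : ↥K) : G) * (a : G) * ((c₀ : ↥K) : G)⁻¹ = a := by rw [← hΨ, h1]
          have haH : (a : G) ∈ H := ((hVmem _).mp a.2).1
          have h3 := dK.fpf c₀ hc₀ hc₀1 ⟨a, hle haH⟩ (Subgroup.mem_subgroupOf.mpr haH)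
            (Subtype.ext (by
              show ((c₀ : ↥K) : G) * (a : G) = (a : G) * ((c₀ : ↥K) : G)
              calc ((c₀ : ↥K) : G) * (a : G)
                  = (((c₀ : ↥K) : G) * (a : G) * ((c₀ : ↥K) : G)⁻¹) * ((c₀ : ↥K) : G) := by group
                _ = (a : G) * ((c₀ : ↥K) : G) := by rw [h2]))
          have h4 : (a : G) = 1 := congrArg (Subtype.val : ↥K → G) h3
          exact Subtype.ext h4
        · intro a ha
          by_contra ha1
          exact hcon ⟨a, ha1, ha⟩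
      have h1 := key ⟨z, hzV⟩
      rw [hmKb] at h1
      have h2 : orderOf (⟨z, hzV⟩ : V) ∣ m := orderOf_dvd_of_pow_eq_one h1
      have h3 : orderOf (⟨z, hzV⟩ : V) = orderOf z := Subgroup.orderOf_mk z hzV
      rw [h3, hzo] at h2
      exact hpm h2
    obtain ⟨a, ha1, ha⟩ := hex
    have hqC' : q ∣ Nat.card C' := by rw [← hGK]; exact hqGK
    obtain ⟨yb, hyb⟩ := exists_prime_orderOf_dvd_card' q hqC'
    obtain ⟨y, hy⟩ := QuotientGroup.mk'_surjective H (yb : G ⧸ H)
    have hya : y * (a : G) * y⁻¹ = a := by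
      rw [← hΨ, hy, ha _ yb.2]
    have hcomm : Commute y (a : G) := by
      show y * (a : G) = (a : G) * y
      calc y * (a : G) = (y * (a : G) * y⁻¹) * y := by group
        _ = (a : G) * y := by rw [hya]
    have hqy : q ∣ orderOf y := by
      have h1 : orderOf (QuotientGroup.mk' H y) = q := by rw [hy, Subgroup.orderOf_coe, hyb]
      rw [← h1]; exact orderOf_map_dvd _ y
    obtain ⟨y', hy', k, rfl⟩ := exists_orderOf_of_dvd_orderOf (orderOf_pos y) hqy
    have hao : orderOf (a : G) = p := by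
      apply orderOf_eq_prime
      · exact ((hVmem _).mp a.2).2.2
      · intro h; exact ha1 (Subtype.ext h)
    refine ⟨(a : G) * y ^ k, ?_⟩
    have hc2 : Commute (a : G) (y ^ k) := (hcomm.pow_left k).symm
    rw [hc2.orderOf_mul_eq_mul_orderOf_of_coprime
      (by rw [hao, hy']; exact (Nat.coprime_primes hp hq).mpr hpq), hao, hy']
  intro p q hp hq hpq hpG hqG
  constructor
  · rintro ⟨g, hg⟩
    by_cases h1 : p ∣ m
    · by_cases h2 : q ∣ m
      · exact ⟨fun _ => h2, fun _ => h1⟩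
      · exact False.elim (hE p q hp hq hpq h1 h2 g hg)
    · by_cases h2 : q ∣ m
      · exact False.elim (hE q p hq hp hpq.symm h2 h1 g (by rw [hg, mul_comm]))
      · exact ⟨fun h => absurd h h1, fun h => absurd h h2⟩
  · intro hiff
    by_cases h1 : p ∣ m
    · exact hA p q hp hq hpq h1 (hiff.mp h1)
    · have h2 : ¬ q ∣ m := fun h => h1 (hiff.mpr h)
      rcases hdvdG p hp hpG with h | h | h
      · rcases hdvdG q hq hqG with h' | h' | h'
        · exact hB p q hp hq hpq h h'
        · exact absurd h' h2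
        · exact hD p q hp hq hpq h1 h h'
      · exact absurd h h1
      · rcases hdvdG q hq hqG with h' | h' | h'
        · obtain ⟨g, hg⟩ := hD q p hq hp hpq.symm h2 h' h
          exact ⟨g, by rw [hg, mul_comm]⟩
        · exact absurd h' h2
        · exact hCc p q hp hq hpq h h'

end Cfsg.Agent.S4001
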