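import Mathlib
import Cfsg.Statements.S4029
import Cfsg.Agent.S0160
import Cfsg.Agent.S0650
import Cfsg.Agent.Helper1.CharClass
import Cfsg.Agent.Helper1.CharBasic
import Cfsg.Agent.Helper25.CharKer
import Cfsg.Agent.Helper9.Recog

set_option autoImplicit false
open Cfsg

namespace Cfsg.Agent.S4029

/-- Let P be a finite 2-group in which N_P(⟨y⟩) = C_P(y) for every y ∈ P. If s is the number of conjugacy classes of involutions of P, then #(P/Φ(P)) ≤ s + 1; in particular the subgroup generated by the involutions of P has order at least #(P/Φ(P)). -/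
theorem result {P : Type*} [Group P] [Finite P] (hP : IsPGroup 2 P)
    (hirr : ∀ y : P, Subgroup.normalizer ((Subgroup.zpowers y : Subgroup P) : Set P) ≤ Subgroup.centralizer {y}) :
    Nat.card (P ⧸ frattini P) ≤ Nat.card {c : ConjClasses P // ∃ y : P, ConjClasses.mk y = c ∧ orderOf y = 2} + 1 ∧
    Nat.card (P ⧸ frattini P) ≤ Nat.card (Subgroup.closure {y : P | orderOf y = 2}) := by
  classical
  haveI : Fintype P := Fintype.ofFinite P
  haveI : Fintype (P ⧸ frattini P) := Fintype.ofFinite _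
  have hsq : ∀ x : P, x ^ 2 ∈ frattini P := by
    intro x
    rw [frattini, Order.radical]
    simp only [Subgroup.mem_iInf]
    intro M hM
    exact Subgroup.sq_mem_of_index_two (Cfsg.Agent.Helper9.index_two_of_isCoatom hP M hM) x
  have hE2 : ∀ e : P ⧸ frattini P, e ^ 2 = 1 := by
    intro e
    obtain ⟨x, rfl⟩ := QuotientGroup.mk_surjective e
    rw [← QuotientGroup.mk_pow, QuotientGroup.eq_one_iff]
    exact hsq x
  have hEinv : ∀ e : P ⧸ frattini P, e⁻¹ = e := by
    intro e
    rw [inv_eq_iff_mul_eq_one, ← pow_two]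
    exact hE2 e
  have hEcomm : ∀ a b : P ⧸ frattini P, a * b = b * a := by
    intro a b
    have h2 : a * b = (a * b)⁻¹ := (hEinv _).symm
    rw [h2, mul_inv_rev, hEinv, hEinv]
  have hcc : Nat.card (ConjClasses (P ⧸ frattini P)) = Nat.card (P ⧸ frattini P) := by
    symm
    apply Nat.card_congr
    refine Equiv.ofBijective ConjClasses.mk ⟨?_, ConjClasses.mk_surjective⟩
    intro a b hab
    obtain ⟨c, hc⟩ := isConj_iff.mp (ConjClasses.mk_eq_mk_iff_isConj.mp hab)
    rw [← hc, hEcomm c a, mul_inv_cancel_right]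
  have hreal : ∀ ψ : IrrCharacter (P ⧸ frattini P), ∀ e : P ⧸ frattini P,
      ((ψ : P ⧸ frattini P → ℂ) e).im = 0 := by
    intro ψ e
    obtain ⟨n, ρ, -, hρ⟩ := ψ.2
    have h1 := Cfsg.Agent.Helper1.char_inv ρ e
    rw [hEinv e, hρ] at h1
    have h2 := congrArg Complex.im h1
    rw [Complex.conj_im] at h2
    linarith
  haveI : Finite (IrrCharacter P) := Nat.finite_of_card_ne_zero (by
    rw [Cfsg.Agent.Helper1.card_irr]; exact Nat.card_pos.ne')
  obtain ⟨f, hfdef⟩ : ∃ f : IrrCharacter (P ⧸ frattini P) →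
      {χ : IrrCharacter P // ∀ g : P, ((χ : P → ℂ) g).im = 0},
      ∀ ψ, ∀ g : P, (((f ψ).1 : IrrCharacter P) : P → ℂ) g = (ψ : P ⧸ frattini P → ℂ) (g : P ⧸ frattini P) :=
    ⟨fun ψ => ⟨Cfsg.Agent.Helper25.irrComp ψ (QuotientGroup.mk' (frattini P))
      (QuotientGroup.mk'_surjective _), fun g => hreal ψ _⟩, fun ψ g => rfl⟩
  have hf : Function.Injective f := by
    intro ψ₁ ψ₂ h
    apply Subtype.ext
    funext e
    obtain ⟨x, rfl⟩ := QuotientGroup.mk_surjective e
    rw [← hfdef ψ₁ x, ← hfdef ψ₂ x, h]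
  have h1 : Nat.card (P ⧸ frattini P) ≤
      Nat.card {χ : IrrCharacter P // ∀ g : P, ((χ : P → ℂ) g).im = 0} := by
    rw [← hcc, ← Cfsg.Agent.Helper1.card_irr]
    exact Nat.card_le_card_of_injective f hf
  rw [Cfsg.Agent.S0160.result] at h1
  have two_of : ∀ g : P, g ^ 2 = 1 → g ≠ 1 → orderOf g = 2 := by
    intro g hg2 hg1
    rcases (Nat.dvd_prime Nat.prime_two).mp (orderOf_dvd_of_pow_eq_one hg2) with h1 | h1
    · exact absurd (orderOf_eq_one_iff.mp h1) hg1
    · exact h1
  have hrc : ∀ C : ConjClasses P, (∀ g : P, ConjClasses.mk g = C → IsConj g g⁻¹) →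
      (∃ y : P, ConjClasses.mk y = C ∧ orderOf y = 2) ∨ C = ConjClasses.mk 1 := by
    intro C hC
    obtain ⟨g, rfl⟩ := ConjClasses.mk_surjective C
    obtain ⟨c, hc⟩ := isConj_iff.mp (hC g rfl)
    have hcn : c ∈ Subgroup.normalizer ((Subgroup.zpowers g : Subgroup P) : Set P) := by
      apply Cfsg.Agent.S0650.mem_normalizer_of_conj
      intro x hx
      obtain ⟨k, rfl⟩ := Subgroup.mem_zpowers_iff.mp hx
      have : c * g ^ k * c⁻¹ = (c * g * c⁻¹) ^ k := by
        rw [conj_zpow]
      rw [this, hc]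
      exact Subgroup.zpow_mem _ (Subgroup.inv_mem _ (Subgroup.mem_zpowers g)) k
    have hcen := hirr g hcn
    rw [Subgroup.mem_centralizer_iff] at hcen
    have h2 : g * c = c * g := hcen g rfl
    have h3 : g = g⁻¹ := by
      have h4 := hc
      rw [← h2, mul_inv_cancel_right] at h4
      exact h4
    have h4 : g ^ 2 = 1 := by
      rw [pow_two]
      nth_rewrite 1 [h3]
      simp
    by_cases hg1 : g = 1
    · right; rw [hg1]
    · left; exact ⟨g, rfl, two_of g h4 hg1⟩
  obtain ⟨g', hg'def⟩ : ∃ g' : {C : ConjClasses P // ∀ g : P, ConjClasses.mk g = C → IsConj g g⁻¹} →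
      Option {c : ConjClasses P // ∃ y : P, ConjClasses.mk y = c ∧ orderOf y = 2},
      ∀ C, g' C = if h : ∃ y : P, ConjClasses.mk y = C.1 ∧ orderOf y = 2 then some ⟨C.1, h⟩ else none :=
    ⟨fun C => if h : ∃ y : P, ConjClasses.mk y = C.1 ∧ orderOf y = 2 then some ⟨C.1, h⟩ else none,
      fun C => rfl⟩
  have hg' : Function.Injective g' := by
    intro C D hCD
    rw [hg'def C, hg'def D] at hCD
    by_cases hC : ∃ y : P, ConjClasses.mk y = C.1 ∧ orderOf y = 2
    · by_cases hD : ∃ y : P, ConjClasses.mk y = D.1 ∧ orderOf y = 2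
      · rw [dif_pos hC, dif_pos hD] at hCD
        simp only [Option.some.injEq, Subtype.mk.injEq] at hCD
        exact Subtype.ext hCD
      · rw [dif_pos hC, dif_neg hD] at hCD
        exact absurd hCD (by simp)
    · by_cases hD : ∃ y : P, ConjClasses.mk y = D.1 ∧ orderOf y = 2
      · rw [dif_neg hC, dif_pos hD] at hCD
        exact absurd hCD (by simp)
      · apply Subtype.ext
        rw [(hrc C.1 C.2).resolve_left hC, (hrc D.1 D.2).resolve_left hD]
  have h2 : Nat.card {C : ConjClasses P // ∀ g : P, ConjClasses.mk g = C → IsConj g g⁻¹} ≤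
      Nat.card {c : ConjClasses P // ∃ y : P, ConjClasses.mk y = c ∧ orderOf y = 2} + 1 := by
    rw [← Finite.card_option]
    exact Nat.card_le_card_of_injective g' hg'
  have h3 := h1.trans h2
  refine ⟨h3, h3.trans ?_⟩
  rw [← Finite.card_option]
  obtain ⟨k, hkn, hks⟩ : ∃ k : Option {c : ConjClasses P // ∃ y : P, ConjClasses.mk y = c ∧ orderOf y = 2} →
      (Subgroup.closure {y : P | orderOf y = 2}),
      ((k none : Subgroup.closure {y : P | orderOf y = 2}) : P) = 1 ∧
      ∀ c, orderOf ((k (some c) : Subgroup.closure {y : P | orderOf y = 2}) : P) = 2 ∧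
        ConjClasses.mk ((k (some c) : Subgroup.closure {y : P | orderOf y = 2}) : P) = c.1 := by
    refine ⟨fun o => match o with
      | none => 1
      | some c => ⟨c.2.choose, Subgroup.subset_closure c.2.choose_spec.2⟩, rfl, fun c => ?_⟩
    exact ⟨c.2.choose_spec.2, c.2.choose_spec.1⟩
  apply Nat.card_le_card_of_injective k
  intro a b hab
  rcases a with _ | a <;> rcases b with _ | b
  · rfl
  · exfalso
    have h5 := (hks b).1
    rw [← hab, hkn, orderOf_one] at h5
    omega
  · exfalso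
    have h5 := (hks a).1
    rw [hab, hkn, orderOf_one] at h5
    omega
  · have h5 := (hks a).2
    rw [hab, (hks b).2] at h5
    rw [Subtype.ext h5.symm]

end Cfsg.Agent.S4029
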