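import Cfsg.Statements.S4089
import Mathlib
import Cfsg.Agent.S0010
import Cfsg.Agent.S0650
import Cfsg.Agent.S0064
import Cfsg.Agent.S2961
-- import your own Cfsg.Agent.* helpers here

set_option autoImplicit false
open Cfsg

namespace Cfsg.Agent.S4089


open scoped Pointwise

/-- a subgroup normalizes the image of its own `p`-core -/
theorem map_pCore_normalizer {G : Type*} [Group G] [Finite G] (p : ℕ) (X : Subgroup G) :
    X ≤ Subgroup.normalizer (((Cfsg.pCore p X).map X.subtype : Subgroup G) : Set G) := by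
  intro n hn
  apply Cfsg.Agent.S0650.mem_normalizer_of_conj
  rintro _ ⟨c, hc, rfl⟩
  have h1 := (Cfsg.Agent.S0010.pCore_normal (G := X) p).conj_mem c hc ⟨n, hn⟩
  exact ⟨_, h1, rfl⟩

/-- a `p`-subgroup contained in a `p`-subgroup normalized by `g` is subnormal in `⟨H, g⟩` -/
theorem sub_of_le_normalized {G : Type*} [Group G] [Finite G] (p : ℕ) [Fact p.Prime]
    (H R : Subgroup G) (hR : IsPGroup p R) (hHR : H ≤ R) (g : G)
    (hg : g ∈ Subgroup.normalizer (R : Set G)) :
    (H.subgroupOf (H ⊔ Subgroup.zpowers g)).IsSubnormal := by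
  obtain ⟨X, hX⟩ : ∃ X, X = H ⊔ Subgroup.zpowers g := ⟨_, rfl⟩
  rw [← hX]
  have hXN : X ≤ Subgroup.normalizer (R : Set G) := by
    rw [hX]
    apply sup_le
    · exact hHR.trans Subgroup.le_normalizer
    · rw [Subgroup.zpowers_le]; exact hg
  obtain ⟨N, hN⟩ : ∃ N, N = R.subgroupOf X := ⟨_, rfl⟩
  have hNn : N.Normal := by
    rw [hN]
    constructor
    intro n hn x
    rw [Subgroup.mem_subgroupOf] at hn ⊢
    have h1 := (Subgroup.mem_normalizer_iff.mp (hXN x.2) (n : G)).mp hn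
    exact h1
  have hNp : IsPGroup p N := by rw [hN]; exact hR.comap_subtype
  have hnil : Group.IsNilpotent N := hNp.isNilpotent
  have hle : H.subgroupOf X ≤ N := by
    rw [hN]
    intro x hx
    rw [Subgroup.mem_subgroupOf] at hx ⊢
    exact hHR hx
  have h1 : ((H.subgroupOf X).subgroupOf N).IsSubnormal := (Cfsg.Agent.S0064.result.mp hnil) _
  exact Subgroup.IsSubnormal.trans hle h1 hNn.isSubnormal

/-- every `p`-subgroup lies in a radical `p`-subgroup with a larger normalizer -/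
theorem exists_radical {G : Type*} [Group G] [Finite G] (p : ℕ) [Fact p.Prime]
    (R₀ : Subgroup G) (hR₀ : IsPGroup p R₀) :
    ∃ R : Subgroup G, R₀ ≤ R ∧ IsPGroup p R ∧
      (Cfsg.pCore p (Subgroup.normalizer (R : Set G))).map
        (Subgroup.normalizer (R : Set G)).subtype = R ∧
      Subgroup.normalizer (R₀ : Set G) ≤ Subgroup.normalizer (R : Set G) := by
  obtain ⟨R, hR₀R, hmax⟩ := Finite.exists_le_maximal
    (p := fun R : Subgroup G => IsPGroup p R ∧
      Subgroup.normalizer (R₀ : Set G) ≤ Subgroup.normalizer (R : Set G))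
    (a := R₀) ⟨hR₀, le_rfl⟩
  obtain ⟨⟨hRp, hRN⟩, hmax'⟩ := hmax
  refine ⟨R, hR₀R, hRp, ?_, hRN⟩
  obtain ⟨N, hN⟩ : ∃ N, N = Subgroup.normalizer (R : Set G) := ⟨_, rfl⟩
  rw [← hN]
  obtain ⟨R', hR'⟩ : ∃ R', R' = (Cfsg.pCore p N).map N.subtype := ⟨_, rfl⟩
  rw [← hR']
  have hR'p : IsPGroup p R' := by
    rw [hR']; exact (Cfsg.Agent.S0010.pCore_isPGroup p).map _
  have hRN' : R ≤ N := hN ▸ Subgroup.le_normalizer
  have hRR' : R ≤ R' := by
    have hn : (R.subgroupOf N).Normal := by rw [hN]; infer_instance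
    have h1 : R.subgroupOf N ≤ Cfsg.pCore p N :=
      Cfsg.Agent.S0010.le_pCore p _ hn hRp.comap_subtype
    intro r hr
    rw [hR']
    exact ⟨⟨r, hRN' hr⟩, h1 (Subgroup.mem_subgroupOf.mpr hr), rfl⟩
  have hNR' : N ≤ Subgroup.normalizer (R' : Set G) := by
    rw [hR']; exact map_pCore_normalizer p N
  have h2 := hmax' (y := R') ⟨hR'p, hRN.trans (hN ▸ hNR')⟩ hRR'
  exact le_antisymm h2 hRR'

/-- characterization of the subnormalizer by radical subgroups -/
theorem sub_iff {G : Type*} [Group G] [Finite G] (p : ℕ) [Fact p.Prime]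
    (H : Subgroup G) (hH : IsPGroup p H) (g : G) :
    (H.subgroupOf (H ⊔ Subgroup.zpowers g)).IsSubnormal ↔
      ∃ R : Subgroup G, H ≤ R ∧ (Cfsg.pCore p (Subgroup.normalizer (R : Set G))).map
        (Subgroup.normalizer (R : Set G)).subtype = R ∧ g ∈ Subgroup.normalizer (R : Set G) := by
  constructor
  · intro hsub
    obtain ⟨X, hX⟩ : ∃ X, X = H ⊔ Subgroup.zpowers g := ⟨_, rfl⟩
    rw [← hX] at hsub
    have hHX : H ≤ X := hX ▸ le_sup_left
    have hgX : g ∈ X := hX ▸ (le_sup_right : Subgroup.zpowers g ≤ _) (Subgroup.mem_zpowers g)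
    have h1 : H.subgroupOf X ≤ Cfsg.pCore p X :=
      Cfsg.Agent.S2961.subnormal_pGroup_le_pCore _ hsub hH.comap_subtype
    obtain ⟨R₀, hR₀⟩ : ∃ R₀, R₀ = (Cfsg.pCore p X).map X.subtype := ⟨_, rfl⟩
    have hR₀p : IsPGroup p R₀ := by
      rw [hR₀]; exact (Cfsg.Agent.S0010.pCore_isPGroup p).map _
    have hHR₀ : H ≤ R₀ := by
      intro x hx
      rw [hR₀]
      exact ⟨⟨x, hHX hx⟩, h1 (Subgroup.mem_subgroupOf.mpr hx), rfl⟩
    have hgR₀ : g ∈ Subgroup.normalizer (R₀ : Set G) := by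
      rw [hR₀]; exact map_pCore_normalizer p X hgX
    obtain ⟨R, hR₀R, -, hrad, hNN⟩ := exists_radical p R₀ hR₀p
    exact ⟨R, hHR₀.trans hR₀R, hrad, hNN hgR₀⟩
  · rintro ⟨R, hHR, hrad, hg⟩
    have hRp : IsPGroup p R := by
      rw [← hrad]; exact (Cfsg.Agent.S0010.pCore_isPGroup p).map _
    exact sub_of_le_normalized p H R hRp hHR g hg

/-- a radical `p`-subgroup is the intersection of the Sylow `p`-subgroups containing it -/
theorem radical_eq_sInf {G : Type*} [Group G] [Finite G] (p : ℕ) [Fact p.Prime]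
    (R : Subgroup G)
    (hrad : (Cfsg.pCore p (Subgroup.normalizer (R : Set G))).map
        (Subgroup.normalizer (R : Set G)).subtype = R) :
    sInf {K : Subgroup G | ∃ Q : Sylow p G, R ≤ (Q : Subgroup G) ∧ K = (Q : Subgroup G)} ≤ R := by
  have hRp : IsPGroup p R := by
    rw [← hrad]; exact (Cfsg.Agent.S0010.pCore_isPGroup p).map _
  obtain ⟨T, hT⟩ : ∃ T, T =
    sInf {K : Subgroup G | ∃ Q : Sylow p G, R ≤ (Q : Subgroup G) ∧ K = (Q : Subgroup G)} := ⟨_, rfl⟩
  rw [← hT]
  obtain ⟨N, hN⟩ : ∃ N, N = Subgroup.normalizer (R : Set G) := ⟨_, rfl⟩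
  rw [← hN] at hrad
  have hRN : R ≤ N := hN ▸ Subgroup.le_normalizer
  have hRT : R ≤ T := by
    rw [hT]
    apply le_sInf
    rintro K ⟨Q, hQ, rfl⟩
    exact hQ
  obtain ⟨Q₀, hQ₀⟩ := hRp.exists_le_sylow
  have hTQ₀ : T ≤ (Q₀ : Subgroup G) := by
    rw [hT]; exact sInf_le ⟨Q₀, hQ₀, rfl⟩
  have hTp : IsPGroup p T := Q₀.2.to_le hTQ₀
  -- T ⊓ N ≤ R
  have hTN : ∀ x ∈ T, x ∈ N → x ∈ R := by
    intro x hxT hxN
    rw [← hrad]
    have hkey : ∀ S : Sylow p N, (⟨x, hxN⟩ : N) ∈ (S : Subgroup N) := by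
      intro S
      have hSp : IsPGroup p ((S : Subgroup N).map N.subtype) := S.2.map _
      obtain ⟨P, hP⟩ := hSp.exists_le_sylow
      have hn : (R.subgroupOf N).Normal := by rw [hN]; infer_instance
      have hRpN : IsPGroup p (R.subgroupOf N) := hRp.comap_subtype
      have hRS : R.subgroupOf N ≤ (S : Subgroup N) := by
        haveI := hn
        exact hRpN.le_sylow_of_normal S
      have hRP : R ≤ (P : Subgroup G) := by
        intro r hr
        exact hP ⟨⟨r, hRN hr⟩, hRS (Subgroup.mem_subgroupOf.mpr hr), rfl⟩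
      have hTP : T ≤ (P : Subgroup G) := by
        rw [hT]; exact sInf_le ⟨P, hRP, rfl⟩
      have hEq : (P : Subgroup G).subgroupOf N = (S : Subgroup N) := by
        have hPN : IsPGroup p ((P : Subgroup G).subgroupOf N) := P.2.comap_subtype
        apply S.is_maximal' hPN
        intro s hs
        exact Subgroup.mem_subgroupOf.mpr (hP ⟨s, hs, rfl⟩)
      have h1 : (⟨x, hxN⟩ : N) ∈ (P : Subgroup G).subgroupOf N :=
        Subgroup.mem_subgroupOf.mpr (hTP hxT)
      rw [hEq] at h1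
      exact h1
    have hgoal : (⟨x, hxN⟩ : N) ∈ Cfsg.pCore p N := by
      rw [Cfsg.Agent.S0010.result p, Subgroup.mem_iInf]
      intro S
      exact hkey S
    exact ⟨⟨x, hxN⟩, hgoal, rfl⟩
  -- normalizer condition in T
  haveI : Group.IsNilpotent T := hTp.isNilpotent
  have hnc : NormalizerCondition T := Group.normalizerCondition_of_isNilpotent
  rw [normalizerCondition_iff_only_full_group_self_normalizing] at hnc
  have htop : R.subgroupOf T = ⊤ := by
    apply hnc
    apply le_antisymm _ Subgroup.le_normalizer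
    intro t ht
    rw [Subgroup.mem_subgroupOf]
    apply hTN _ t.2
    rw [hN]
    apply Cfsg.Agent.S0650.mem_normalizer_of_conj
    intro x hx
    have h1 := (Subgroup.mem_normalizer_iff.mp ht ⟨x, hRT hx⟩).mp (Subgroup.mem_subgroupOf.mpr hx)
    exact Subgroup.mem_subgroupOf.mp h1
  rw [Subgroup.subgroupOf_eq_top] at htop
  exact htop


/-- Let G be a finite group, p a prime and H a p-subgroup of G. Then the set of elements g of G such that H is subnormal in the subgroup generated by H and g is the union of the normalizers N_G(R) over the subgroups R of G containing H with R = O_p(N_G(R)); and this set does not change when H is replaced by the intersection of all Sylow p-subgroups of G containing H. -/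
theorem result {G : Type*} [Group G] [Finite G] (p : ℕ) [Fact p.Prime]
    (H : Subgroup G) (hH : IsPGroup p H) :
    {g : G | ((H).subgroupOf (H ⊔ Subgroup.zpowers g)).IsSubnormal} =
      {g : G | ∃ R : Subgroup G, H ≤ R ∧ (Cfsg.pCore p (Subgroup.normalizer (R : Set G))).map (Subgroup.normalizer (R : Set G)).subtype = R ∧ g ∈ Subgroup.normalizer (R : Set G)} ∧
    ∀ g : G, (((H).subgroupOf (H ⊔ Subgroup.zpowers g)).IsSubnormal ↔
      (((sInf {K : Subgroup G | ∃ Q : Sylow p G, H ≤ (Q : Subgroup G) ∧ K = (Q : Subgroup G)})).subgroupOf ((sInf {K : Subgroup G | ∃ Q : Sylow p G, H ≤ (Q : Subgroup G) ∧ K = (Q : Subgroup G)}) ⊔ Subgroup.zpowers g)).IsSubnormal) := by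
  refine ⟨?_, ?_⟩
  · ext g
    exact sub_iff p H hH g
  · intro g
    obtain ⟨Hs, hHs⟩ : ∃ Hs, Hs =
      sInf {K : Subgroup G | ∃ Q : Sylow p G, H ≤ (Q : Subgroup G) ∧ K = (Q : Subgroup G)} :=
      ⟨_, rfl⟩
    rw [← hHs]
    have hHHs : H ≤ Hs := by
      rw [hHs]
      apply le_sInf
      rintro K ⟨Q, hQ, rfl⟩
      exact hQ
    obtain ⟨Q₀, hQ₀⟩ := hH.exists_le_sylow
    have hHsp : IsPGroup p Hs := by
      apply Q₀.2.to_le
      rw [hHs]; exact sInf_le ⟨Q₀, hQ₀, rfl⟩
    constructor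
    · intro hsub
      obtain ⟨R, hHR, hrad, hg⟩ := (sub_iff p H hH g).mp hsub
      have hRp : IsPGroup p R := by
        rw [← hrad]; exact (Cfsg.Agent.S0010.pCore_isPGroup p).map _
      have hle : Hs ≤ R := by
        refine le_trans ?_ (radical_eq_sInf p R hrad)
        rw [hHs]
        apply le_sInf
        rintro K ⟨Q, hQ, rfl⟩
        exact sInf_le ⟨Q, hHR.trans hQ, rfl⟩
      exact sub_of_le_normalized p Hs R hRp hle g hg
    · intro hsub
      obtain ⟨R, hHR, hrad, hg⟩ := (sub_iff p Hs hHsp g).mp hsub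
      have hRp : IsPGroup p R := by
        rw [← hrad]; exact (Cfsg.Agent.S0010.pCore_isPGroup p).map _
      exact sub_of_le_normalized p H R hRp (hHHs.trans hHR) g hg

end Cfsg.Agent.S4089
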