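import Mathlib
import Cfsg.Statements.S4113
import Cfsg.Agent.Helper22.ConjSmul

set_option autoImplicit false
open Cfsg

namespace Cfsg.Agent.S4113

/-- Let G be a finite group, M ≤ N non-trivial proper normal subgroups, and H a subgroup with HM = G and H ∩ M = 1. Then every element of G outside N acts fixed-point-freely on M (C_G(x) ≤ N for every x ∈ M, x ≠ 1) if and only if H ∩ gHg⁻¹ ≤ H ∩ N for every g outside H, with H proper and non-trivial and H ∩ N proper in H. -/
theorem result {G : Type*} [Group G] [Finite G] (N M : Subgroup G) [N.Normal] [M.Normal] (hMN : M ≤ N) (hM1 : M ≠ ⊥) (hN2 : N ≠ ⊤)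
    (H : Subgroup G) (hHM : H ⊔ M = ⊤) (hHM' : H ⊓ M = ⊥) :
    (∀ x ∈ M, x ≠ 1 → Subgroup.centralizer ({x} : Set G) ≤ N) ↔
      (H ≠ ⊥ ∧ H ≠ ⊤ ∧ H ⊓ N < H ∧ ∀ g : G, g ∉ H → H ⊓ H.map (MulAut.conj g).toMonoidHom ≤ N) := by
  have hdisj : ∀ y : G, y ∈ H → y ∈ M → y = 1 := by
    intro y hyH hyM
    have : y ∈ H ⊓ M := Subgroup.mem_inf.mpr ⟨hyH, hyM⟩
    rw [hHM', Subgroup.mem_bot] at this
    exact this
  -- decomposition g = m * h
  have hdec : ∀ g : G, ∃ m ∈ M, ∃ h ∈ H, g = m * h := by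
    intro g
    have hg : g ∈ M ⊔ H := by rw [sup_comm, hHM]; trivial
    obtain ⟨m, hm, h, hh, e⟩ := Subgroup.mem_sup_of_normal_left.mp hg
    exact ⟨m, hm, h, hh, e.symm⟩
  have hHN : ¬ H ≤ N := by
    intro h
    apply hN2
    rw [eq_top_iff, ← hHM]
    exact sup_le h hMN
  constructor
  · intro h1
    refine ⟨?_, ?_, ?_, ?_⟩
    · rintro rfl
      rw [bot_sup_eq] at hHM
      apply hN2
      rw [eq_top_iff, ← hHM]; exact hMN
    · rintro rfl
      rw [top_inf_eq] at hHM'
      exact hM1 hHM'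
    · refine lt_of_le_of_ne inf_le_left ?_
      intro h
      apply hHN
      rw [← h]; exact inf_le_right
    · intro g hg y hy
      obtain ⟨hy1, hy2⟩ := Subgroup.mem_inf.mp hy
      obtain ⟨y', hy', e⟩ := Subgroup.mem_map.mp hy2
      have e' : g * y' * g⁻¹ = y := e
      obtain ⟨m, hm, h, hh, hgmh⟩ := hdec g
      have hm1 : m ≠ 1 := by
        rintro rfl
        rw [one_mul] at hgmh
        exact hg (hgmh ▸ hh)
      -- y = m * y'' * m⁻¹ with y'' = h y' h⁻¹ ∈ H
      have hy'' : h * y' * h⁻¹ ∈ H := H.mul_mem (H.mul_mem hh hy') (H.inv_mem hh)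
      have e2 : y = m * (h * y' * h⁻¹) * m⁻¹ := by rw [← e', hgmh]; group
      have h3 : y * (h * y' * h⁻¹)⁻¹ ∈ M := by
        have e3 : y * (h * y' * h⁻¹)⁻¹ = m * ((h * y' * h⁻¹) * m⁻¹ * (h * y' * h⁻¹)⁻¹) := by
          rw [e2]; group
        rw [e3]
        exact M.mul_mem hm (Subgroup.Normal.conj_mem inferInstance _ (M.inv_mem hm) _)
      have h4 := hdisj _ (H.mul_mem hy1 (H.inv_mem hy'')) h3
      have h5 : y = h * y' * h⁻¹ := by
        have : y = y * (h * y' * h⁻¹)⁻¹ * (h * y' * h⁻¹) := by group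
        rw [this, h4, one_mul]
      -- y commutes with m
      apply h1 m hm hm1
      rw [Subgroup.mem_centralizer_iff]
      intro z hz
      rw [Set.mem_singleton_iff] at hz
      rw [hz]
      have e4 : y = m * y * m⁻¹ := by
        conv_lhs => rw [e2, ← h5]
      have e5 : m * y = m * y * m⁻¹ * m := by group
      rw [e5, ← e4]
  · rintro ⟨_, _, _, h4⟩ x hxM hx1 c hc
    rw [Subgroup.mem_centralizer_iff] at hc
    have hcx : x * c = c * x := hc x (Set.mem_singleton x)
    -- c = m' * h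
    obtain ⟨m', hm', h, hh, hcmh⟩ := hdec c
    suffices hhN : h ∈ N by
      rw [hcmh]; exact N.mul_mem (hMN hm') hhN
    -- h has a nontrivial fixed point in M
    have hfix : ∃ m1 ∈ M, m1 ≠ 1 ∧ h * m1 = m1 * h := by
      by_contra hno
      push Not at hno
      have hfpf : ∀ n ∈ M, h * n = n * h → n = 1 := by
        intro n hn hc'
        by_contra hn1
        exact hno n hn hn1 hc'
      obtain ⟨m, hm, e⟩ := Cfsg.Agent.Helper22.exists_conj_of_fixed_point_free M h hfpf m' hm'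
      -- c = m h m⁻¹ centralizes x, so h centralizes m⁻¹ x m
      have hc2 : c = m * h * m⁻¹ := by rw [hcmh, e]
      have h5 : h * (m⁻¹ * x * m) = (m⁻¹ * x * m) * h := by
        have e1 : h * (m⁻¹ * x * m) = m⁻¹ * ((m * h * m⁻¹) * x) * m := by group
        have e2 : (m⁻¹ * x * m) * h = m⁻¹ * (x * (m * h * m⁻¹)) * m := by group
        rw [e1, e2, ← hc2, hcx]
      have h6 := hfpf _ (by
        have := Subgroup.Normal.conj_mem (inferInstance : M.Normal) x hxM m⁻¹
        simpa using this) h5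
      apply hx1
      have : x = m * (m⁻¹ * x * m) * m⁻¹ := by group
      rw [this, h6]; group
    obtain ⟨m1, hm1, hm11, hcomm⟩ := hfix
    have hm1H : m1 ∉ H := fun hm1H => hm11 (hdisj m1 hm1H hm1)
    apply h4 m1 hm1H
    refine Subgroup.mem_inf.mpr ⟨hh, ?_⟩
    refine Subgroup.mem_map.mpr ⟨h, hh, ?_⟩
    show m1 * h * m1⁻¹ = h
    rw [← hcomm]; group

end Cfsg.Agent.S4113
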