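import Cfsg.Statements.S4261

set_option autoImplicit false
open Cfsg
open scoped commutatorElement

namespace Cfsg.Agent.S4261

universe u

theorem card_mul_relIndex {G : Type*} [Group G] (A B : Subgroup G) :
    Nat.card (A ⊓ B : Subgroup G) * A.relIndex B = Nat.card B := by
  rw [← Subgroup.inf_relIndex_right, Subgroup.relIndex, ← Subgroup.card_mul_index ((A ⊓ B).subgroupOf B)]
  congr 1
  exact Nat.card_congr (Subgroup.subgroupOfEquivOfLe inf_le_right).toEquiv.symm

theorem relIndex_sup_of_normal {G : Type*} [Group G] [Finite G] (H K : Subgroup G) [H.Normal] :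
    K.relIndex (K ⊔ H) = K.relIndex H := by
  have hK : K ≤ K ⊔ H := le_sup_left
  have hH : H ≤ K ⊔ H := le_sup_right
  have e1 := card_mul_relIndex K (K ⊔ H)
  rw [inf_of_le_left hK] at e1
  have e2 := card_mul_relIndex K H
  have e3 := card_mul_relIndex H (K ⊔ H)
  rw [inf_of_le_left hH] at e3
  have e4 := card_mul_relIndex H K
  have e5 : H.relIndex (K ⊔ H) = H.relIndex K := Subgroup.relIndex_sup_right K H
  rw [e5] at e3
  rw [inf_comm] at e4
  have hpos1 : 0 < Nat.card K := Nat.card_pos
  have hpos2 : 0 < Nat.card (K ⊓ H : Subgroup G) := Nat.card_pos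
  have h1 : Nat.card K * Nat.card (K ⊓ H : Subgroup G) * K.relIndex (K ⊔ H) =
      Nat.card K * Nat.card (K ⊓ H : Subgroup G) * K.relIndex H := by
    calc Nat.card K * Nat.card (K ⊓ H : Subgroup G) * K.relIndex (K ⊔ H)
        = Nat.card (K ⊓ H : Subgroup G) * (Nat.card K * K.relIndex (K ⊔ H)) := by ring
      _ = Nat.card (K ⊓ H : Subgroup G) * Nat.card (K ⊔ H : Subgroup G) := by rw [e1]
      _ = Nat.card (K ⊓ H : Subgroup G) * (Nat.card H * H.relIndex K) := by rw [e3]
      _ = Nat.card H * (Nat.card (K ⊓ H : Subgroup G) * H.relIndex K) := by ring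
      _ = Nat.card H * Nat.card K := by rw [e4]
      _ = Nat.card K * (Nat.card (K ⊓ H : Subgroup G) * K.relIndex H) := by rw [e2]; ring
      _ = Nat.card K * Nat.card (K ⊓ H : Subgroup G) * K.relIndex H := by ring
  exact Nat.eq_of_mul_eq_mul_left (Nat.mul_pos hpos1 hpos2) h1

theorem comap_map_mk {G : Type*} [Group G] (N M : Subgroup G) [N.Normal] (hNM : N ≤ M) :
    (M.map (QuotientGroup.mk' N)).comap (QuotientGroup.mk' N) = M := by
  rw [Subgroup.comap_map_eq, QuotientGroup.ker_mk', sup_of_le_left hNM]

theorem coatom_map {G : Type*} [Group G] (N M : Subgroup G) [N.Normal] (hNM : N ≤ M)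
    (hM : IsCoatom M) : IsCoatom (M.map (QuotientGroup.mk' N)) := by
  have hsurj : Function.Surjective (QuotientGroup.mk' N) := QuotientGroup.mk'_surjective N
  constructor
  · intro htop
    apply hM.1
    rw [← comap_map_mk N M hNM, htop, Subgroup.comap_top]
  · intro K hK
    have h1 : M ≤ K.comap (QuotientGroup.mk' N) := by
      rw [← comap_map_mk N M hNM]
      exact Subgroup.comap_mono hK.le
    have h2 : M ≠ K.comap (QuotientGroup.mk' N) := by
      intro h
      apply hK.ne
      rw [h, Subgroup.map_comap_eq_self_of_surjective hsurj]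
    have h3 := hM.2 _ (lt_of_le_of_ne h1 h2)
    rw [← Subgroup.map_comap_eq_self_of_surjective hsurj K, h3, Subgroup.map_top_of_surjective _ hsurj]

theorem normal_of_map_normal {G : Type*} [Group G] (N M : Subgroup G) [N.Normal] (hNM : N ≤ M)
    (h : (M.map (QuotientGroup.mk' N)).Normal) : M.Normal := by
  rw [← comap_map_mk N M hNM]
  exact h.comap _

/-- a nontrivial finite solvable group has a nontrivial normal abelian subgroup -/
theorem exists_normal_abelian {G : Type*} [Group G] [Nontrivial G] (hG : Group.IsSolvable G) :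
    ∃ A : Subgroup G, A.Normal ∧ A ≠ ⊥ ∧ ∀ a ∈ A, ∀ b ∈ A, a * b = b * a := by
  classical
  have hex : ∃ n, derivedSeries G n = ⊥ := hG.solvable
  have h0 : Nat.find hex ≠ 0 := by
    intro h0
    have := Nat.find_spec hex
    rw [h0, derivedSeries_zero] at this
    exact top_ne_bot this
  obtain ⟨k, hk⟩ := Nat.exists_eq_succ_of_ne_zero h0
  refine ⟨derivedSeries G k, derivedSeries_normal G k, ?_, ?_⟩
  · apply Nat.find_min hex
    omega
  · have h1 := Nat.find_spec hex
    rw [hk, Nat.succ_eq_add_one, derivedSeries_succ, Subgroup.commutator_eq_bot_iff_le_centralizer] at h1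
    intro a ha b hb
    have := h1 ha
    rw [Subgroup.mem_centralizer_iff] at this
    exact (this b hb).symm

/-- a nontrivial finite solvable group has a nontrivial normal `p`-subgroup -/
theorem exists_normal_pgroup {G : Type*} [Group G] [Finite G] [Nontrivial G] (hG : Group.IsSolvable G) :
    ∃ (p : ℕ) (V : Subgroup G), p.Prime ∧ V.Normal ∧ V ≠ ⊥ ∧ IsPGroup p V := by
  classical
  obtain ⟨A, hAn, hA1, hAc⟩ := exists_normal_abelian hG
  have hcard : Nat.card A ≠ 1 := by
    intro h; exact hA1 (Subgroup.card_eq_one.mp h)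
  obtain ⟨p, hp, hpA⟩ := Nat.exists_prime_and_dvd hcard
  have : Fact p.Prime := ⟨hp⟩
  let V : Subgroup G :=
    { carrier := {a | a ∈ A ∧ a ^ p = 1}
      one_mem' := ⟨A.one_mem, one_pow p⟩
      mul_mem' := by
        rintro a b ⟨ha, hap⟩ ⟨hb, hbp⟩
        refine ⟨A.mul_mem ha hb, ?_⟩
        have hc : Commute a b := hAc a ha b hb
        rw [hc.mul_pow, hap, hbp, one_mul]
      inv_mem' := by
        rintro a ⟨ha, hap⟩
        exact ⟨A.inv_mem ha, by rw [inv_pow, hap, inv_one]⟩ }
  refine ⟨p, V, hp, ?_, ?_, ?_⟩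
  · constructor
    rintro a ⟨ha, hap⟩ g
    refine ⟨hAn.conj_mem a ha g, ?_⟩
    rw [conj_pow, hap]; simp
  · obtain ⟨x, hx⟩ := exists_prime_orderOf_dvd_card' p hpA
    intro hbot
    have hxV : (x : G) ∈ V := by
      refine ⟨x.2, ?_⟩
      have := pow_orderOf_eq_one x
      rw [hx] at this
      have h2 := congrArg Subtype.val this
      simpa using h2
    rw [hbot, Subgroup.mem_bot] at hxV
    have hx1 : x = 1 := Subtype.ext hxV
    rw [hx1, orderOf_one] at hx
    exact hp.one_lt.ne hx
  · intro v
    refine ⟨1, ?_⟩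
    apply Subtype.ext
    rw [pow_one]
    simpa using v.2.2

theorem main : ∀ (n : ℕ) (G : Type u) [Group G] [Finite G], Nat.card G = n → Group.IsSolvable G →
    ∀ M : Subgroup G, IsCoatom M → (∀ x : G, x ^ M.index ∈ M) → M.Normal := by
  intro n
  induction n using Nat.strong_induction_on with
  | _ n ih =>
  intro G _ _ hn hG M hM hexp
  classical
  have hnt : Nontrivial G := by
    by_contra h
    rw [not_nontrivial_iff_subsingleton] at h
    exact hM.1 (Subsingleton.elim _ _)
  obtain ⟨p, V, hp, hVn, hV1, hVp⟩ := exists_normal_pgroup hG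
  have : Fact p.Prime := ⟨hp⟩
  by_cases hVM : V ≤ M
  · -- pass to the quotient by V
    apply normal_of_map_normal V M hVM
    have hcard : Nat.card (G ⧸ V) < n := by
      rw [← hn, ← Subgroup.index_eq_card, ← Subgroup.card_mul_index V]
      have h1 : 1 < Nat.card V := by
        rcases Nat.lt_or_ge 1 (Nat.card V) with h | h
        · exact h
        · exfalso
          have hpos : 0 < Nat.card V := Nat.card_pos
          exact hV1 (Subgroup.card_eq_one.mp (by omega))
      have h2 : 0 < V.index := Nat.pos_of_ne_zero (Subgroup.index_ne_zero_of_finite)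
      nlinarith
    refine ih _ hcard (G ⧸ V) rfl inferInstance _ (coatom_map V M hVM hM) ?_
    intro x
    induction x using QuotientGroup.induction_on with
    | H x =>
    have hidx : (M.map (QuotientGroup.mk' V)).index = M.index :=
      Subgroup.index_map_eq M (QuotientGroup.mk'_surjective V) (by rw [QuotientGroup.ker_mk']; exact hVM)
    rw [hidx]
    exact ⟨x ^ M.index, hexp x, rfl⟩
  · -- M ⊔ V = ⊤, so the index is a power of p
    have hsup : M ⊔ V = ⊤ := by
      apply hM.2
      refine lt_of_le_of_ne le_sup_left ?_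
      intro h
      apply hVM
      rw [h]
      exact le_sup_right
    have hidx : M.index ∣ Nat.card V := by
      have h1 := relIndex_sup_of_normal V M
      rw [hsup, Subgroup.relIndex_top_right] at h1
      rw [h1]
      exact Subgroup.relIndex_dvd_card _ _
    obtain ⟨a, ha⟩ := (IsPGroup.iff_card.mp hVp)
    rw [ha] at hidx
    obtain ⟨k, -, hk⟩ := (Nat.dvd_prime_pow hp).mp hidx
    -- elements of order prime to p lie in the core
    have hcore : ∀ x : G, ¬ p ∣ orderOf x → x ∈ M.normalCore := by
      intro x hx b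
      have hord : orderOf (b * x * b⁻¹) = orderOf x := by
        simpa [MulAut.conj_apply] using (MulAut.conj b).orderOf_eq x
      have hcop : (orderOf (b * x * b⁻¹)).Coprime M.index := by
        rw [hord, hk]
        exact Nat.Coprime.pow_right _ ((Nat.Prime.coprime_iff_not_dvd hp).mpr hx).symm
      have h1 := Nat.gcd_eq_gcd_ab (orderOf (b * x * b⁻¹)) M.index
      rw [hcop.gcd_eq_one] at h1
      set y := b * x * b⁻¹ with hy
      have h2 : y = (y ^ orderOf y) ^ (Nat.gcdA (orderOf y) M.index) * (y ^ M.index) ^ (Nat.gcdB (orderOf y) M.index) := by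
        rw [← zpow_natCast y (orderOf y), ← zpow_natCast y M.index, ← zpow_mul, ← zpow_mul, ← zpow_add, ← h1]
        simp
      rw [h2, pow_orderOf_eq_one]
      simp only [one_zpow, one_mul]
      exact M.zpow_mem (hexp y) _
    -- the quotient by the core is a p-group
    have hPG : IsPGroup p (G ⧸ M.normalCore) := by
      intro x
      induction x using QuotientGroup.induction_on with
      | H x =>
      have hpos : orderOf x ≠ 0 := (orderOf_pos x).ne'
      obtain ⟨j, b, hb, hjb⟩ := Nat.exists_eq_pow_mul_and_not_dvd hpos p hp.ne_one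
      refine ⟨j, ?_⟩
      have h1 : x ^ p ^ j ∈ M.normalCore := by
        apply hcore
        intro hdvd
        apply hb
        have h2 : (x ^ p ^ j) ^ b = 1 := by
          rw [← pow_mul, ← hjb, pow_orderOf_eq_one]
        exact hdvd.trans (orderOf_dvd_of_pow_eq_one h2)
      rw [← QuotientGroup.mk_pow]
      exact (QuotientGroup.eq_one_iff _).mpr h1
    have hnil : Group.IsNilpotent (G ⧸ M.normalCore) := hPG.isNilpotent
    apply normal_of_map_normal M.normalCore M M.normalCore_le
    exact Subgroup.NormalizerCondition.normal_of_coatom _ Group.normalizerCondition_of_isNilpotent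
      (coatom_map _ M M.normalCore_le hM)

theorem result {G : Type*} [Group G] [Finite G] (hG : Group.IsSolvable G) (M : Subgroup G) (hM : IsCoatom M)
    (hexp : ∀ x : G, x ^ M.index ∈ M) : M.Normal :=
  main _ G rfl hG M hM hexp

end Cfsg.Agent.S4261
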