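import Cfsg.Statements.S4153
import Cfsg.Agent.S4261
import Mathlib

set_option autoImplicit false
open Cfsg

namespace Cfsg.Agent.S4153

theorem exists_pow_of_mem_pgroup {G : Type*} [Group G] {p : ℕ} [Fact p.Prime] {H : Subgroup G}
    (hH : IsPGroup p H) {g : G} (hg : g ∈ H) : ∃ k : ℕ, orderOf g = p ^ k := by
  obtain ⟨k, hk⟩ := hH ⟨g, hg⟩
  have h1 : g ^ p ^ k = 1 := by simpa using congrArg Subtype.val hk
  obtain ⟨i, -, hi⟩ := (Nat.dvd_prime_pow Fact.out).mp (orderOf_dvd_of_pow_eq_one h1)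
  exact ⟨i, hi⟩

theorem isPGroup_zpowers {G : Type*} [Group G] {p : ℕ} [Fact p.Prime] {x : G}
    (hx : ∃ k, orderOf x = p ^ k) : IsPGroup p (Subgroup.zpowers x) := by
  obtain ⟨k, hk⟩ := hx
  exact IsPGroup.of_card (n := k) (by rw [Nat.card_zpowers, hk])

/-- every `p`-element of `G ⧸ N` lifts to a `p`-element of `G`. -/
theorem exists_lift {G : Type*} [Group G] [Finite G] {p : ℕ} [Fact p.Prime] (N : Subgroup G)
    [N.Normal] (y : G ⧸ N) (hy : ∃ k, orderOf y = p ^ k) :
    ∃ x : G, (QuotientGroup.mk x : G ⧸ N) = y ∧ ∃ k, orderOf x = p ^ k := by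
  have hp : p.Prime := Fact.out
  obtain ⟨j, hj⟩ := hy
  obtain ⟨g, rfl⟩ := QuotientGroup.mk_surjective y
  have ho : orderOf g ≠ 0 := (orderOf_pos g).ne'
  obtain ⟨k, m, hm, hkm⟩ := Nat.exists_eq_pow_mul_and_not_dvd ho p hp.ne_one
  have hcop : Nat.Coprime m (p ^ j) :=
    Nat.Coprime.pow_right j ((Nat.Prime.coprime_iff_not_dvd hp).mpr hm).symm
  have he : m ^ Nat.totient (p ^ j) ≡ 1 [MOD p ^ j] := Nat.ModEq.pow_totient hcop
  refine ⟨g ^ (m ^ Nat.totient (p ^ j)), ?_, ?_⟩
  · rw [QuotientGroup.mk_pow]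
    have h1 : (QuotientGroup.mk g : G ⧸ N) ^ (m ^ Nat.totient (p ^ j)) =
        (QuotientGroup.mk g : G ⧸ N) ^ 1 := by
      rw [pow_eq_pow_iff_modEq, hj]
      exact he
    rw [h1, pow_one]
  · have hpos : 0 < Nat.totient (p ^ j) := Nat.totient_pos.mpr (pow_pos hp.pos j)
    obtain ⟨t, ht⟩ : ∃ t, Nat.totient (p ^ j) = t + 1 := ⟨_, (Nat.succ_pred_eq_of_pos hpos).symm⟩
    have h1 : (g ^ (m ^ Nat.totient (p ^ j))) ^ p ^ k = 1 := by
      rw [← pow_mul]
      have h2 : m ^ Nat.totient (p ^ j) * p ^ k = orderOf g * m ^ t := by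
        rw [hkm, ht, pow_succ]
        ring
      rw [h2, pow_mul, pow_orderOf_eq_one, one_pow]
    obtain ⟨i, -, hi⟩ := (Nat.dvd_prime_pow hp).mp (orderOf_dvd_of_pow_eq_one h1)
    exact ⟨i, hi⟩

/-- Let G be a finite group, p a prime, N a normal subgroup, P a Sylow p-subgroup of G and P̄ a Sylow p-subgroup of G/N. Count the elements of p-power order, the identity included. Then (number of such elements of G/N)/#P̄ ≤ (number of such elements of G)/#P, stated as a cross-multiplied inequality, with equality when N is central. -/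
theorem result {G : Type*} [Group G] [Finite G] (p : ℕ) [Fact p.Prime] (N : Subgroup G) [N.Normal]
    (P : Sylow p G) (Pbar : Sylow p (G ⧸ N)) :
    Nat.card {g : (G ⧸ N) // ∃ k : ℕ, orderOf g = p ^ k} * Nat.card (P : Subgroup G) ≤ Nat.card {g : G // ∃ k : ℕ, orderOf g = p ^ k} * Nat.card (Pbar : Subgroup (G ⧸ N)) ∧
    (N ≤ Subgroup.center G → Nat.card {g : (G ⧸ N) // ∃ k : ℕ, orderOf g = p ^ k} * Nat.card (P : Subgroup G) = Nat.card {g : G // ∃ k : ℕ, orderOf g = p ^ k} * Nat.card (Pbar : Subgroup (G ⧸ N))) := by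
  classical
  have hp : p.Prime := Fact.out
  let R : Sylow p N := default
  have hcards : Nat.card (P : Subgroup G) =
      Nat.card (R : Subgroup N) * Nat.card (Pbar : Subgroup (G ⧸ N)) := by
    rw [Sylow.card_eq_multiplicity, Sylow.card_eq_multiplicity, Sylow.card_eq_multiplicity,
      ← pow_add]
    congr 1
    have h1 : Nat.card G = Nat.card N * Nat.card (G ⧸ N) := (Subgroup.card_mul_index N).symm
    rw [h1, Nat.factorization_mul Nat.card_pos.ne' Nat.card_pos.ne']
    rfl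
  have hlift : ∀ y : {g : (G ⧸ N) // ∃ k : ℕ, orderOf g = p ^ k},
      ∃ x : G, (QuotientGroup.mk x : G ⧸ N) = y.1 ∧ ∃ k, orderOf x = p ^ k :=
    fun y => exists_lift N y.1 y.2
  choose x hx1 hx2 using hlift
  have hS : ∀ y : {g : (G ⧸ N) // ∃ k : ℕ, orderOf g = p ^ k},
      ∃ S : Sylow p G, x y ∈ (S : Subgroup G) := by
    intro y
    obtain ⟨S, hS⟩ := (isPGroup_zpowers (hx2 y)).exists_le_sylow
    exact ⟨S, hS (Subgroup.mem_zpowers _)⟩
  choose S hS using hS
  have hSN : ∀ y : {g : (G ⧸ N) // ∃ k : ℕ, orderOf g = p ^ k},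
      Nat.card (R : Subgroup N) ≤ Nat.card ((S y : Subgroup G) ⊓ N : Subgroup G) := by
    intro y
    have h1 := Cfsg.Agent.S4261.card_mul_relIndex N (S y : Subgroup G)
    have h2 : N.relIndex (S y : Subgroup G) ∣ N.index :=
      Subgroup.relIndex_dvd_index_of_normal N (S y : Subgroup G)
    have h3 : N.relIndex (S y : Subgroup G) ∣ Nat.card (S y : Subgroup G) :=
      Subgroup.relIndex_dvd_card N (S y : Subgroup G)
    rw [Sylow.card_eq_multiplicity] at h3
    obtain ⟨e, -, he⟩ := (Nat.dvd_prime_pow hp).mp h3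
    have h4 : N.relIndex (S y : Subgroup G) ∣ Nat.card (Pbar : Subgroup (G ⧸ N)) := by
      rw [Sylow.card_eq_multiplicity, he]
      apply pow_dvd_pow
      have h5 : p ^ e ∣ Nat.card (G ⧸ N) := he ▸ h2
      exact (hp.pow_dvd_iff_le_factorization Nat.card_pos.ne').mp h5
    have h5 : N.relIndex (S y : Subgroup G) ≤ Nat.card (Pbar : Subgroup (G ⧸ N)) :=
      Nat.le_of_dvd Nat.card_pos h4
    have h6 : 0 < N.relIndex (S y : Subgroup G) := by
      rw [he]
      exact pow_pos hp.pos e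
    have h7 : Nat.card (S y : Subgroup G) = Nat.card (P : Subgroup G) := by
      rw [Sylow.card_eq_multiplicity, Sylow.card_eq_multiplicity]
    rw [h7, hcards, inf_comm] at h1
    by_contra hcon
    push Not at hcon
    have h8 : Nat.card ((S y : Subgroup G) ⊓ N : Subgroup G) * N.relIndex (S y : Subgroup G) <
        Nat.card (R : Subgroup N) * Nat.card (Pbar : Subgroup (G ⧸ N)) :=
      calc Nat.card ((S y : Subgroup G) ⊓ N : Subgroup G) * N.relIndex (S y : Subgroup G)
          < Nat.card (R : Subgroup N) * N.relIndex (S y : Subgroup G) :=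
            Nat.mul_lt_mul_of_pos_right hcon h6
        _ ≤ _ := Nat.mul_le_mul_left _ h5
    omega
  have hemb : ∀ y : {g : (G ⧸ N) // ∃ k : ℕ, orderOf g = p ^ k},
      Nonempty ((R : Subgroup N) ↪ ((S y : Subgroup G) ⊓ N : Subgroup G)) := by
    intro y
    haveI : Fintype (R : Subgroup N) := Fintype.ofFinite _
    haveI : Fintype ((S y : Subgroup G) ⊓ N : Subgroup G) := Fintype.ofFinite _
    apply Function.Embedding.nonempty_of_card_le
    rw [← Nat.card_eq_fintype_card, ← Nat.card_eq_fintype_card]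
    exact hSN y
  have emb : ∀ y : {g : (G ⧸ N) // ∃ k : ℕ, orderOf g = p ^ k},
      ((R : Subgroup N) ↪ ((S y : Subgroup G) ⊓ N : Subgroup G)) := fun y => (hemb y).some
  let f : {g : (G ⧸ N) // ∃ k : ℕ, orderOf g = p ^ k} × (R : Subgroup N) →
      {g : G // ∃ k : ℕ, orderOf g = p ^ k} := fun z => ⟨x z.1 * (emb z.1 z.2 : G), by
      apply exists_pow_of_mem_pgroup (S z.1).isPGroup'
      exact Subgroup.mul_mem _ (hS z.1) (emb z.1 z.2).2.1⟩
  have hf : Function.Injective f := by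
    rintro ⟨y, u⟩ ⟨y', u'⟩ h
    have h1 : x y * (emb y u : G) = x y' * (emb y' u' : G) := congrArg Subtype.val h
    have h2 : y = y' := by
      apply Subtype.ext
      rw [← hx1 y, ← hx1 y']
      have h3 := congrArg (QuotientGroup.mk : G → G ⧸ N) h1
      rw [QuotientGroup.mk_mul, QuotientGroup.mk_mul,
        (QuotientGroup.eq_one_iff _).mpr (emb y u).2.2,
        (QuotientGroup.eq_one_iff _).mpr (emb y' u').2.2, mul_one, mul_one] at h3
      exact h3
    subst h2
    have h3 : (emb y u : G) = (emb y u' : G) := mul_left_cancel h1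
    have h4 : u = u' := (emb y).injective (Subtype.ext h3)
    rw [h4]
  have hle : Nat.card {g : (G ⧸ N) // ∃ k : ℕ, orderOf g = p ^ k} * Nat.card (R : Subgroup N) ≤
      Nat.card {g : G // ∃ k : ℕ, orderOf g = p ^ k} := by
    rw [← Nat.card_prod]
    exact Nat.card_le_card_of_injective f hf
  constructor
  · rw [hcards, ← mul_assoc]
    exact Nat.mul_le_mul_right _ hle
  · intro hcent
    rw [hcards, ← mul_assoc]
    congr 1
    apply le_antisymm hle
    have hcomm : ∀ (z : G), z ∈ N → ∀ g : G, g * z = z * g :=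
      fun z hz g => (Subgroup.mem_center_iff.mp (hcent hz)) g
    have hRn : (R : Subgroup N).Normal := ⟨fun n hn g => by
      have h1 : g * n * g⁻¹ = n := by
        apply Subtype.ext
        have h2 := hcomm n n.2 g
        simp [h2]
      rw [h1]
      exact hn⟩
    have hRall : ∀ z : N, (∃ k, orderOf z = p ^ k) → z ∈ (R : Subgroup N) := by
      intro z hz
      obtain ⟨R', hR'⟩ := (isPGroup_zpowers hz).exists_le_sylow
      have h1 : R' = R := by
        haveI := Sylow.unique_of_normal R hRn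
        exact Subsingleton.elim _ _
      rw [← h1]
      exact hR' (Subgroup.mem_zpowers z)
    have hmkY : ∀ g : {g : G // ∃ k : ℕ, orderOf g = p ^ k},
        ∃ k, orderOf (QuotientGroup.mk g.1 : G ⧸ N) = p ^ k := by
      intro g
      obtain ⟨k, hk⟩ := g.2
      have h1 : (QuotientGroup.mk g.1 : G ⧸ N) ^ p ^ k = 1 := by
        rw [← QuotientGroup.mk_pow, ← hk, pow_orderOf_eq_one]
        rfl
      obtain ⟨i, -, hi⟩ := (Nat.dvd_prime_pow hp).mp (orderOf_dvd_of_pow_eq_one h1)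
      exact ⟨i, hi⟩
    let yof : {g : G // ∃ k : ℕ, orderOf g = p ^ k} →
        {g : (G ⧸ N) // ∃ k : ℕ, orderOf g = p ^ k} := fun g => ⟨QuotientGroup.mk g.1, hmkY g⟩
    have hzN : ∀ g : {g : G // ∃ k : ℕ, orderOf g = p ^ k}, (x (yof g))⁻¹ * g.1 ∈ N := by
      intro g
      rw [← QuotientGroup.eq]
      exact hx1 (yof g)
    have hzp : ∀ g : {g : G // ∃ k : ℕ, orderOf g = p ^ k},
        ∃ k, orderOf (⟨(x (yof g))⁻¹ * g.1, hzN g⟩ : N) = p ^ k := by
      intro g
      obtain ⟨k1, hk1⟩ := hx2 (yof g)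
      obtain ⟨k2, hk2⟩ := g.2
      have hc : Commute (x (yof g))⁻¹ g.1 := by
        have hz := hcomm _ (hzN g) (x (yof g))
        have h0 : g.1 = (x (yof g))⁻¹ * g.1 * x (yof g) := by simpa using hz
        show (x (yof g))⁻¹ * g.1 = g.1 * (x (yof g))⁻¹
        rw [eq_mul_inv_iff_mul_eq]
        exact h0.symm
      have h1 : ((x (yof g))⁻¹ * g.1) ^ p ^ (k1 + k2) = 1 := by
        rw [hc.mul_pow, inv_pow, pow_add, pow_mul, ← hk1, pow_orderOf_eq_one, one_pow, inv_one,
          one_mul, mul_comm (orderOf (x (yof g))), pow_mul, ← hk2, pow_orderOf_eq_one, one_pow]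
      have h2 : (⟨(x (yof g))⁻¹ * g.1, hzN g⟩ : N) ^ p ^ (k1 + k2) = 1 :=
        Subtype.ext (by simpa using h1)
      obtain ⟨i, -, hi⟩ := (Nat.dvd_prime_pow hp).mp (orderOf_dvd_of_pow_eq_one h2)
      exact ⟨i, hi⟩
    let h : {g : G // ∃ k : ℕ, orderOf g = p ^ k} →
        {g : (G ⧸ N) // ∃ k : ℕ, orderOf g = p ^ k} × (R : Subgroup N) :=
      fun g => (yof g, ⟨⟨(x (yof g))⁻¹ * g.1, hzN g⟩, hRall _ (hzp g)⟩)
    have hinj : Function.Injective h := by
      intro g g' hgg
      have h1 : yof g = yof g' := congrArg Prod.fst hgg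
      have h2 : (x (yof g))⁻¹ * g.1 = (x (yof g'))⁻¹ * g'.1 :=
        congrArg (fun t => ((t.2 : N) : G)) hgg
      rw [h1] at h2
      exact Subtype.ext (mul_left_cancel h2)
    rw [← Nat.card_prod]
    exact Nat.card_le_card_of_injective h hinj

end Cfsg.Agent.S4153
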