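import Cfsg.Statements.S4155
import Mathlib
import Cfsg.Agent.S3939
import Cfsg.Agent.S3977
import Cfsg.Agent.Lead.Quat

set_option autoImplicit false
open Cfsg

namespace Cfsg.Agent.S4155

/-- if `x ∉ N` and `x ^ q ∈ N`, then `x` is a `q`-element. -/
theorem isq_of_pow_mem {G : Type*} [Group G] [Finite G] (N : Subgroup G)
    (heq : ∀ x : G, x ∉ N → ∀ n ∈ N, orderOf (x * n) = orderOf x) (q : ℕ) [Fact q.Prime]
    (x : G) (hx : x ∉ N) (hxq : x ^ q ∈ N) : ∃ k, orderOf x = q ^ k := by
  have hq : q.Prime := Fact.out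
  have ho : 0 < orderOf x := orderOf_pos x
  obtain ⟨k, m, hm, hkm⟩ := Nat.exists_eq_pow_mul_and_not_dvd ho.ne' q hq.ne_one
  have hcopqm : Nat.Coprime q m := (Nat.Prime.coprime_iff_not_dvd hq).mpr hm
  have hk : k ≠ 0 := by
    rintro rfl
    rw [pow_zero, one_mul] at hkm
    apply hx
    by_cases h1 : orderOf x = 1
    · rw [orderOf_eq_one_iff.mp h1]; exact N.one_mem
    · have h1' : 1 < orderOf x := by omega
      obtain ⟨c, -, hc⟩ := Nat.exists_mul_mod_eq_one_of_coprime (n := q) (k := orderOf x)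
        (by rw [hkm]; exact hcopqm) h1'
      have : x = (x ^ q) ^ c := by
        rw [← pow_mul, ← pow_mod_orderOf, hc, pow_one]
      rw [this]
      exact N.pow_mem hxq c
  have hwN : x ^ (q ^ k) ∈ N := by
    obtain ⟨k', rfl⟩ := Nat.exists_eq_succ_of_ne_zero hk
    rw [pow_succ', pow_mul]
    exact N.pow_mem hxq _
  by_cases hm1 : m = 1
  · exact ⟨k, by rw [hkm, hm1, mul_one]⟩
  · exfalso
    have hmpos : 0 < m := by
      rcases Nat.eq_zero_or_pos m with h | h
      · rw [h, mul_zero] at hkm; omega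
      · exact h
    have hm1' : 1 < m := by omega
    obtain ⟨j, -, hj⟩ := Nat.exists_mul_mod_eq_one_of_coprime (n := q ^ k) (k := m)
      (Nat.Coprime.pow_left k hcopqm) hm1'
    have hmod : (1 + q ^ k * (j * (m - 1))) % m = 0 := by
      have e1 : q ^ k * (j * (m - 1)) = (q ^ k * j) * (m - 1) := by ring
      rw [e1, Nat.add_mod, Nat.mul_mod, hj, one_mul, Nat.mod_mod, ← Nat.add_mod]
      have : 1 + (m - 1) = m := by omega
      rw [this, Nat.mod_self]
    obtain ⟨e', he'⟩ := Nat.dvd_of_mod_eq_zero hmod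
    have hn : (x ^ (q ^ k)) ^ (j * (m - 1)) ∈ N := N.pow_mem hwN _
    have h1 := heq x hx _ hn
    have h2 : (x * (x ^ (q ^ k)) ^ (j * (m - 1))) ^ (q ^ k) = 1 := by
      have e2 : x * (x ^ (q ^ k)) ^ (j * (m - 1)) = x ^ (1 + q ^ k * (j * (m - 1))) := by
        rw [← pow_mul, pow_add, pow_one]
      rw [e2, he', ← pow_mul]
      have e3 : m * e' * q ^ k = orderOf x * e' := by rw [hkm]; ring
      rw [e3, pow_mul, pow_orderOf_eq_one, one_pow]
    have h3 := orderOf_dvd_of_pow_eq_one h2
    rw [h1, hkm] at h3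
    have h4 : q ^ k * m ∣ q ^ k * 1 := by rwa [mul_one]
    have h5 := Nat.dvd_of_mul_dvd_mul_left (pow_pos hq.pos k) h4
    exact hm1 (Nat.dvd_one.mp h5)

/-- elements outside `N` of prime order modulo `N` centralize no nontrivial `q'`-element of
`N`. -/
theorem fpf {G : Type*} [Group G] [Finite G] (N : Subgroup G)
    (heq : ∀ x : G, x ∉ N → ∀ n ∈ N, orderOf (x * n) = orderOf x) (q : ℕ) [Fact q.Prime]
    (x : G) (hx : x ∉ N) (hxq : x ^ q ∈ N) (v : G) (hv : v ∈ N) (hc : Commute x v)
    (hcop : (orderOf v).Coprime q) : v = 1 := by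
  obtain ⟨k, hk⟩ := isq_of_pow_mem N heq q x hx hxq
  have h1 := hc.orderOf_mul_eq_mul_orderOf_of_coprime
    (by rw [hk]; exact (Nat.Coprime.pow_right k hcop).symm)
  rw [heq x hx v hv] at h1
  have h2 : orderOf v = 1 := by
    have := orderOf_pos x
    nlinarith
  exact orderOf_eq_one_iff.mp h2

/-- a nontrivial central `q'`-element of `N`. -/
theorem exists_central {G : Type*} [Group G] [Finite G] (N : Subgroup G)
    (hnil : Group.IsNilpotent N) (hN1 : N ≠ ⊥) (hnpp : ¬ IsPrimePow (Nat.card N))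
    (q : ℕ) [Fact q.Prime] :
    ∃ w ∈ N, w ≠ 1 ∧ (∀ n ∈ N, n * w = w * n) ∧ (orderOf w).Coprime q := by
  have hq : q.Prime := Fact.out
  have hcard1 : Nat.card N ≠ 1 := by
    intro h
    exact hN1 (Subgroup.card_eq_one.mp h)
  have hex : ∃ r : ℕ, r.Prime ∧ r ∣ Nat.card N ∧ r ≠ q := by
    by_contra hcon
    push_neg at hcon
    have h1 := Nat.eq_prime_pow_of_unique_prime_dvd (n := Nat.card N) (p := q)
      Nat.card_pos.ne' (fun {d} hd hdvd => hcon d hd hdvd)
    apply hnpp
    rw [h1]
    apply IsPrimePow.pow hq.isPrimePow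
    intro h0
    rw [h0, pow_zero] at h1
    exact hcard1 h1
  obtain ⟨r, hr, hrdvd, hrq⟩ := hex
  haveI : Fact r.Prime := ⟨hr⟩
  have hnorm : ∀ (p : ℕ) (_hp : Fact p.Prime) (P : Sylow p N), (↑P : Subgroup N).Normal :=
    (isNilpotent_of_finite_tfae (G := N)).out 0 3 |>.mp hnil
  obtain ⟨S⟩ : Nonempty (Sylow r N) := inferInstance
  haveI := hnorm r inferInstance S
  have hS : (S : Subgroup N) ≠ ⊥ := by
    intro h
    have h1 := S.card_eq_multiplicity
    rw [h, Subgroup.card_bot] at h1
    have h2 : r ∣ r ^ (Nat.card N).factorization r :=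
      dvd_pow_self r (by
        have := (Nat.Prime.factorization_pos_of_dvd hr Nat.card_pos.ne' hrdvd)
        omega)
    rw [← h1] at h2
    exact hr.one_lt.ne' (Nat.dvd_one.mp h2)
  obtain ⟨w, hwS, hw1, hwc⟩ := Cfsg.Agent.S3939.normal_inf_center_ne_bot (S : Subgroup N) hS
  refine ⟨(w : G), w.2, fun h => hw1 (Subtype.ext h), fun n hn => ?_, ?_⟩
  · have := hwc ⟨n, hn⟩
    exact congrArg Subtype.val this
  · rw [Subgroup.orderOf_coe]
    obtain ⟨k, hk⟩ := S.isPGroup' ⟨w, hwS⟩
    have hk' : w ^ r ^ k = 1 := by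
      have := congrArg Subtype.val hk
      simpa using this
    have h1 := orderOf_dvd_of_pow_eq_one hk'
    exact Nat.Coprime.coprime_dvd_left h1
      (Nat.Coprime.pow_left k ((Nat.coprime_primes hr hq).mpr hrq))

/-- the `m`-torsion of the centre of `N`. -/
def Vsub {G : Type*} [Group G] (N : Subgroup G) (m : ℕ) : Subgroup G where
  carrier := {v | v ∈ N ∧ (∀ n ∈ N, n * v = v * n) ∧ v ^ m = 1}
  mul_mem' := by
    rintro u v ⟨hu, huc, hum⟩ ⟨hv, hvc, hvm⟩
    refine ⟨N.mul_mem hu hv, fun n hn => ?_, ?_⟩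
    · rw [← mul_assoc, huc n hn, mul_assoc, hvc n hn, mul_assoc]
    · have : Commute u v := hvc u hu
      rw [this.mul_pow, hum, hvm, one_mul]
  one_mem' := ⟨N.one_mem, fun n _ => by simp, one_pow m⟩
  inv_mem' := by
    rintro v ⟨hv, hvc, hvm⟩
    refine ⟨N.inv_mem hv, fun n hn => ?_, by rw [inv_pow, hvm, inv_one]⟩
    have := hvc n hn
    calc n * v⁻¹ = v⁻¹ * (v * n) * v⁻¹ := by group
      _ = v⁻¹ * (n * v) * v⁻¹ := by rw [this]
      _ = v⁻¹ * n := by group

theorem Vsub_normal {G : Type*} [Group G] (N : Subgroup G) [hN : N.Normal] (m : ℕ) :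
    (Vsub N m).Normal := by
  constructor
  rintro v ⟨hv, hvc, hvm⟩ g
  refine ⟨hN.conj_mem v hv g, fun n hn => ?_, ?_⟩
  · have h1 : g⁻¹ * n * g ∈ N := by
      have := hN.conj_mem n hn g⁻¹
      simpa using this
    have h2 := hvc _ h1
    calc n * (g * v * g⁻¹) = g * ((g⁻¹ * n * g) * v) * g⁻¹ := by group
      _ = g * (v * (g⁻¹ * n * g)) * g⁻¹ := by rw [h2]
      _ = g * v * g⁻¹ * n := by group
  · rw [conj_pow, hvm]; group

theorem ring_aux {R : Type*} [Ring R] (q : ℕ) (hq : 1 < q) (A B : R) (hAB : Commute A B)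
    (hA : A ^ q = 1) (hB : B ^ q = 1)
    (hinj : ∀ i j : ℕ, ¬ (q ∣ i ∧ q ∣ j) → ∀ Y : R, (A ^ i * B ^ j - 1) * Y = 0 → Y = 0) :
    (q : R) = 0 := by
  have geom : ∀ i j : ℕ, ¬ (q ∣ i ∧ q ∣ j) →
      ∑ k ∈ Finset.range q, (A ^ i * B ^ j) ^ k = 0 := by
    intro i j hij
    apply hinj i j hij
    rw [mul_geom_sum]
    have : (A ^ i * B ^ j) ^ q = 1 := by
      rw [(hAB.pow_pow i j).mul_pow, ← pow_mul, ← pow_mul, mul_comm i q, mul_comm j q, pow_mul,
        pow_mul, hA, hB, one_pow, one_pow, one_mul]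
    rw [this, sub_self]
  have h1 : ∑ j ∈ Finset.range q, ∑ k ∈ Finset.range q, (A ^ 1 * B ^ j) ^ k = 0 := by
    apply Finset.sum_eq_zero
    intro j _
    apply geom 1 j
    rintro ⟨h, -⟩
    have := Nat.le_of_dvd Nat.one_pos h
    omega
  rw [Finset.sum_comm] at h1
  have h2 : ∀ k ∈ Finset.range q, ∑ j ∈ Finset.range q, (A ^ 1 * B ^ j) ^ k =
      if k = 0 then (q : R) else 0 := by
    intro k hk
    have hkk : ∀ j, (A ^ 1 * B ^ j) ^ k = A ^ k * (A ^ 0 * B ^ k) ^ j := by
      intro j
      rw [pow_one, pow_zero, one_mul, (hAB.pow_right j).mul_pow, ← pow_mul, ← pow_mul,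
        mul_comm j k]
    simp_rw [hkk]
    rw [← Finset.mul_sum]
    split_ifs with hk0
    · subst hk0; simp
    · rw [geom 0 k (by
        rintro ⟨-, h⟩
        exact hk0 (Nat.eq_zero_of_dvd_of_lt h (Finset.mem_range.mp hk))), mul_zero]
  rw [Finset.sum_congr rfl h2, Finset.sum_ite_eq'] at h1
  rw [if_pos (Finset.mem_range.mpr (by omega))] at h1
  exact h1

theorem mod_aux {G M : Type*} [Group G] [AddCommGroup M] (Φ : G →* AddMonoid.End M) (q : ℕ)
    (hq : 1 < q) (a b : G)
    (hAq : Φ (a ^ q) = 1) (hBq : Φ (b ^ q) = 1) (hcomm : Φ (a * b) = Φ (b * a))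
    (hfix : ∀ i j : ℕ, ¬ (q ∣ i ∧ q ∣ j) → ∀ v : M, Φ (a ^ i * b ^ j) v = v → v = 0) :
    ∀ v : M, q • v = 0 := by
  have key := ring_aux q hq (Φ a) (Φ b)
    (by
      show Φ a * Φ b = Φ b * Φ a
      rw [← map_mul, ← map_mul, hcomm])
    (by rw [← map_pow, hAq]) (by rw [← map_pow, hBq]) ?_
  · intro v
    have h := congrArg (fun f : AddMonoid.End M => f v) key
    simpa using h
  · intro i j hij Y hY
    ext v
    have h := congrArg (fun f : AddMonoid.End M => f v) hY
    simp only [AddMonoid.End.zero_apply] at h ⊢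
    apply hfix i j hij
    rw [map_mul, map_pow, map_pow]
    have h' : (Φ a ^ i * Φ b ^ j) (Y v) - Y v = 0 := h
    exact sub_eq_zero.mp h'

theorem no_rank_two {G : Type*} [Group G] [Finite G] (N : Subgroup G) [hN : N.Normal]
    (heq : ∀ x : G, x ∉ N → ∀ n ∈ N, orderOf (x * n) = orderOf x) (q : ℕ) [Fact q.Prime]
    (w : G) (hwN : w ∈ N) (hw1 : w ≠ 1) (hwc : ∀ n ∈ N, n * w = w * n)
    (hwq : (orderOf w).Coprime q)
    (a b : G) (ha : a ^ q ∈ N) (hb : b ^ q ∈ N) (hab : a * b * (b * a)⁻¹ ∈ N)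
    (hind : ∀ i j : ℕ, ¬ (q ∣ i ∧ q ∣ j) → a ^ i * b ^ j ∉ N) : False := by
  have hq : q.Prime := Fact.out
  obtain ⟨V, hV⟩ : ∃ V, V = Vsub N (orderOf w) := ⟨_, rfl⟩
  haveI hVn : V.Normal := by rw [hV]; exact Vsub_normal N _
  have hVmem : ∀ v : G, v ∈ V ↔ v ∈ N ∧ (∀ n ∈ N, n * v = v * n) ∧ v ^ orderOf w = 1 := by
    intro v; rw [hV]; rfl
  letI : CommGroup V :=
    { (inferInstance : Group V) with
      mul_comm := fun x y =>
        Subtype.ext (((hVmem y.1).mp y.2).2.1 x.1 ((hVmem x.1).mp x.2).1) }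
  let Φ : G →* AddMonoid.End (Additive V) :=
    { toFun := fun g => MonoidHom.toAdditive ((MulAut.conjNormal g : MulAut V).toMonoidHom)
      map_one' := by
        refine AddMonoidHom.ext fun v => ?_
        show MonoidHom.toAdditive ((MulAut.conjNormal (1 : G) : MulAut V).toMonoidHom) v = v
        rw [map_one]; rfl
      map_mul' := by
        intro g h
        refine AddMonoidHom.ext fun v => ?_
        show MonoidHom.toAdditive ((MulAut.conjNormal (g * h) : MulAut V).toMonoidHom) v =
          MonoidHom.toAdditive ((MulAut.conjNormal g : MulAut V).toMonoidHom)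
            (MonoidHom.toAdditive ((MulAut.conjNormal h : MulAut V).toMonoidHom) v)
        rw [map_mul]; rfl }
  have hΦ : ∀ (g : G) (v : V), Φ g (Additive.ofMul v) =
      Additive.ofMul ⟨g * v * g⁻¹, hVn.conj_mem v.1 v.2 g⟩ := by
    intro g v
    rfl
  have hΦN : ∀ n ∈ N, Φ n = 1 := by
    intro n hn
    ext v
    obtain ⟨v, rfl⟩ := Additive.ofMul.surjective v
    rw [hΦ]
    simp only [AddMonoid.End.coe_one, id]
    congr 1
    apply Subtype.ext
    show n * v.1 * n⁻¹ = v.1
    rw [((hVmem v.1).mp v.2).2.1 n hn]; group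
  have hquot : ∀ i j : ℕ, (a ^ i * b ^ j) ^ q ∈ N := by
    intro i j
    rw [← QuotientGroup.eq_one_iff]
    have h1 : ((a : G) : G ⧸ N) ^ q = 1 := by
      rw [← QuotientGroup.mk_pow]; exact (QuotientGroup.eq_one_iff _).mpr ha
    have h2 : ((b : G) : G ⧸ N) ^ q = 1 := by
      rw [← QuotientGroup.mk_pow]; exact (QuotientGroup.eq_one_iff _).mpr hb
    have h3 : Commute ((a : G) : G ⧸ N) ((b : G) : G ⧸ N) := by
      have := (QuotientGroup.eq_one_iff _).mpr hab
      rw [QuotientGroup.mk_mul, QuotientGroup.mk_inv, mul_inv_eq_one] at this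
      show _ * _ = _ * _
      simpa using this
    rw [QuotientGroup.mk_pow, QuotientGroup.mk_mul, QuotientGroup.mk_pow, QuotientGroup.mk_pow,
      (h3.pow_pow i j).mul_pow, ← pow_mul, ← pow_mul, mul_comm i q, mul_comm j q, pow_mul,
      pow_mul, h1, h2, one_pow, one_pow, one_mul]
  have key := mod_aux Φ q hq.one_lt a b (hΦN _ ha) (hΦN _ hb) ?_ ?_
  · have hwV : w ∈ V := (hVmem w).mpr ⟨hwN, hwc, pow_orderOf_eq_one w⟩
    have h1 := key (Additive.ofMul ⟨w, hwV⟩)
    have h2 : (⟨w, hwV⟩ : V) ^ q = 1 := by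
      have := congrArg Additive.toMul h1
      simpa using this
    have h3 : w ^ q = 1 := by
      have := congrArg Subtype.val h2
      simpa using this
    have h4 := orderOf_dvd_of_pow_eq_one h3
    have h5 : orderOf w ∣ Nat.gcd (orderOf w) q := Nat.dvd_gcd dvd_rfl h4
    rw [Nat.Coprime.gcd_eq_one hwq, Nat.dvd_one, orderOf_eq_one_iff] at h5
    exact hw1 h5
  · have : a * b = (a * b * (b * a)⁻¹) * (b * a) := by group
    rw [this, map_mul, hΦN _ hab, one_mul]
  · intro i j hij v hv
    obtain ⟨v, rfl⟩ := Additive.ofMul.surjective v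
    rw [hΦ] at hv
    have hv' := congrArg Subtype.val (Additive.ofMul.injective hv)
    have hvm := (hVmem v.1).mp v.2
    have h1 : (v : G) = 1 := by
      apply fpf N heq q (a ^ i * b ^ j) (hind i j hij) (hquot i j) v.1 hvm.1
      · show a ^ i * b ^ j * v.1 = v.1 * (a ^ i * b ^ j)
        have : a ^ i * b ^ j * ↑v * (a ^ i * b ^ j)⁻¹ = ↑v := hv'
        calc a ^ i * b ^ j * v.1
            = (a ^ i * b ^ j * ↑v * (a ^ i * b ^ j)⁻¹) * (a ^ i * b ^ j) := by group
          _ = v.1 * (a ^ i * b ^ j) := by rw [this]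
      · exact Nat.Coprime.coprime_dvd_left (orderOf_dvd_of_pow_eq_one hvm.2.2) hwq
    have : v = 1 := Subtype.ext h1
    rw [this]; rfl

/-- Let G be a finite group and N a proper non-trivial normal nilpotent subgroup whose order is not a prime power, such that for every x outside N all elements of the coset xN have the same order as x. Then N is the Fitting subgroup of G, and for every prime q every Sylow q-subgroup of G/N is cyclic or generalized quaternion. -/
theorem result {G : Type*} [Group G] [Finite G] (N : Subgroup G) [N.Normal] (hN1 : N ≠ ⊥) (hN2 : N ≠ ⊤)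
    (heq : ∀ x : G, x ∉ N → ∀ n ∈ N, orderOf (x * n) = orderOf x)
    (hnil : Group.IsNilpotent N) (hnpp : ¬ IsPrimePow (Nat.card N)) :
    N = Cfsg.fittingSubgroup G ∧
    ∀ (q : ℕ) [Fact q.Prime] (Q : Sylow q (G ⧸ N)), IsCyclic (Q : Subgroup (G ⧸ N)) ∨ ∃ n : ℕ, Nonempty ((Q : Subgroup (G ⧸ N)) ≃* QuaternionGroup (2 ^ n)) := by
  constructor
  · apply le_antisymm
    · exact le_sSup ⟨inferInstance, hnil⟩
    · apply sSup_le
      rintro K ⟨hKn, hKnil⟩
      by_contra hKN
      obtain ⟨x₀, hx₀K, hx₀N⟩ := SetLike.not_le_iff_exists.mp hKN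
      have hex : ∃ d : ℕ, 0 < d ∧ x₀ ^ d ∈ N :=
        ⟨orderOf x₀, orderOf_pos x₀, by rw [pow_orderOf_eq_one]; exact N.one_mem⟩
      classical
      obtain ⟨hdpos, hdN⟩ := Nat.find_spec hex
      have hdmin : ∀ e, e < Nat.find hex → ¬ (0 < e ∧ x₀ ^ e ∈ N) :=
        fun e he => Nat.find_min hex he
      obtain ⟨d, hd⟩ : ∃ d, d = Nat.find hex := ⟨_, rfl⟩
      rw [← hd] at hdpos hdN hdmin
      have hd1 : d ≠ 1 := by
        rintro rfl
        rw [pow_one] at hdN
        exact hx₀N hdN
      obtain ⟨q, hq, hqd⟩ := Nat.exists_prime_and_dvd hd1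
      haveI : Fact q.Prime := ⟨hq⟩
      obtain ⟨t, ht⟩ := hqd
      have htpos : 0 < t := by
        rcases Nat.eq_zero_or_pos t with h | h
        · rw [h, mul_zero] at ht; omega
        · exact h
      have htd : t < d := by
        rw [ht]; nlinarith [hq.one_lt]
      obtain ⟨x, hx⟩ : ∃ x, x = x₀ ^ t := ⟨_, rfl⟩
      have hxK : x ∈ K := by rw [hx]; exact K.pow_mem hx₀K t
      have hxN : x ∉ N := by
        rw [hx]; intro h
        exact hdmin t htd ⟨htpos, h⟩
      have hxq : x ^ q ∈ N := by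
        rw [hx, ← pow_mul, mul_comm, ← ht]; exact hdN
      obtain ⟨w, hwN, hw1, hwc, hwq⟩ := exists_central N hnil hN1 hnpp q
      obtain ⟨k, hk⟩ := isq_of_pow_mem N heq q x hxN hxq
      haveI hVn : (Vsub N (orderOf w)).Normal := Vsub_normal N _
      have hwV : w ∈ Vsub N (orderOf w) := ⟨hwN, hwc, pow_orderOf_eq_one w⟩
      obtain ⟨c, hc⟩ : ∃ c, c = x * w * x⁻¹ * w⁻¹ := ⟨_, rfl⟩
      have hcV : c ∈ Vsub N (orderOf w) := by
        rw [hc]
        exact Subgroup.mul_mem _ (hVn.conj_mem w hwV x) (Subgroup.inv_mem _ hwV)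
      have hcK : c ∈ K := by
        rw [hc]
        have : x * w * x⁻¹ * w⁻¹ = x * (w * x⁻¹ * w⁻¹) := by group
        rw [this]
        exact K.mul_mem hxK (hKn.conj_mem _ (K.inv_mem hxK) w)
      have hco : (orderOf c).Coprime q :=
        Nat.Coprime.coprime_dvd_left (orderOf_dvd_of_pow_eq_one hcV.2.2) hwq
      have hcx : x * c = c * x := by
        haveI := hKnil
        have h := Cfsg.Agent.S3939.commute_of_coprime_nilpotent K ⟨x, hxK⟩ ⟨c, hcK⟩ (by
          rw [Subgroup.orderOf_mk, Subgroup.orderOf_mk, hk]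
          exact (Nat.Coprime.pow_right k hco).symm)
        exact congrArg Subtype.val h
      have hpow : ∀ j : ℕ, x ^ j * w * (x ^ j)⁻¹ = c ^ j * w := by
        intro j
        induction j with
        | zero => simp
        | succ j ih =>
          have hcj : x * c ^ j = c ^ j * x :=
            (Commute.pow_right (show Commute x c from hcx) j).eq
          calc x ^ (j + 1) * w * (x ^ (j + 1))⁻¹ = x * (x ^ j * w * (x ^ j)⁻¹) * x⁻¹ := by
                rw [pow_succ']; group
            _ = x * (c ^ j * w) * x⁻¹ := by rw [ih]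
            _ = (x * c ^ j) * x⁻¹ * (x * w * x⁻¹ * w⁻¹) * w := by group
            _ = (c ^ j * x) * x⁻¹ * c * w := by rw [hcj, ← hc]
            _ = c ^ (j + 1) * w := by rw [pow_succ]; group
      have h1 := hpow (orderOf x)
      rw [pow_orderOf_eq_one, one_mul, inv_one, mul_one] at h1
      have h2 : c ^ orderOf x = 1 := by
        have := congrArg (· * w⁻¹) h1
        simpa using this.symm
      have h3 : orderOf c = 1 :=
        (Nat.Coprime.pow_right k hco).eq_one_of_dvd (hk ▸ orderOf_dvd_of_pow_eq_one h2)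
      have h4 : c = 1 := orderOf_eq_one_iff.mp h3
      have h5 : Commute x w := by
        show x * w = w * x
        rw [hc] at h4
        calc x * w = (x * w * x⁻¹ * w⁻¹) * w * x := by group
          _ = w * x := by rw [h4, one_mul]
      exact hw1 (fpf N heq q x hxN hxq w hwN h5 hwq)
  · intro q _ Q
    have hq : q.Prime := Fact.out
    obtain ⟨w, hwN, hw1, hwc, hwq⟩ := exists_central N hnil hN1 hnpp q
    have huniq : ∀ H K : Subgroup (Q : Subgroup (G ⧸ N)),
        Nat.card H = q → Nat.card K = q → H = K := by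
      by_contra hcon
      push_neg at hcon
      obtain ⟨H, K, hH, hK, hHK⟩ := hcon
      haveI : Nontrivial (Q : Subgroup (G ⧸ N)) := by
        rw [← Finite.one_lt_card_iff_nontrivial]
        have h1 := Subgroup.card_le_card_group H
        have := hq.one_lt
        omega
      haveI hZnt : Nontrivial (Subgroup.center (Q : Subgroup (G ⧸ N))) :=
        IsPGroup.center_nontrivial Q.isPGroup'
      have hdvd : q ∣ Nat.card (Subgroup.center (Q : Subgroup (G ⧸ N))) := by
        obtain ⟨k, hk⟩ := IsPGroup.iff_card.mp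
          (Q.isPGroup'.to_subgroup (Subgroup.center (Q : Subgroup (G ⧸ N))))
        rw [hk]
        apply dvd_pow_self
        rintro rfl
        rw [pow_zero] at hk
        have := Finite.one_lt_card_iff_nontrivial.mpr hZnt
        omega
      obtain ⟨z, hz⟩ := exists_prime_orderOf_dvd_card' q hdvd
      have hz' : orderOf (z : (Q : Subgroup (G ⧸ N))) = q := by
        rw [Subgroup.orderOf_coe]; exact hz
      have hzc : ∀ g : (Q : Subgroup (G ⧸ N)), g * (z : (Q : Subgroup (G ⧸ N))) = z * g :=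
        fun g => Subgroup.mem_center_iff.mp z.2 g
      have key : ∀ H : Subgroup (Q : Subgroup (G ⧸ N)), Nat.card H = q →
          H ≠ Subgroup.zpowers (z : (Q : Subgroup (G ⧸ N))) →
          ∃ y : (Q : Subgroup (G ⧸ N)), orderOf y = q ∧
            y ∉ Subgroup.zpowers (z : (Q : Subgroup (G ⧸ N))) := by
        intro H hH hne
        by_contra hall
        push_neg at hall
        apply hne
        apply Subgroup.eq_of_le_of_card_ge
        · intro h hh
          by_cases h1 : h = 1
          · rw [h1]; exact one_mem _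
          · apply hall h
            have := Subgroup.orderOf_dvd_natCard H hh
            rw [hH] at this
            rcases (Nat.dvd_prime hq).mp this with h' | h'
            · exact absurd (orderOf_eq_one_iff.mp h') h1
            · exact h'
        · rw [hH, Nat.card_zpowers, hz']
      have hy : ∃ y : (Q : Subgroup (G ⧸ N)), orderOf y = q ∧
            y ∉ Subgroup.zpowers (z : (Q : Subgroup (G ⧸ N))) := by
        by_cases h1 : H = Subgroup.zpowers (z : (Q : Subgroup (G ⧸ N)))
        · apply key K hK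
          intro h2
          exact hHK (h1.trans h2.symm)
        · exact key H hH h1
      obtain ⟨y, hyo, hyz⟩ := hy
      obtain ⟨a, ha⟩ := QuotientGroup.mk_surjective (((z : (Q : Subgroup (G ⧸ N))) : G ⧸ N))
      obtain ⟨b, hb⟩ := QuotientGroup.mk_surjective ((y : G ⧸ N))
      have hzq : (z : (Q : Subgroup (G ⧸ N))) ^ q = 1 := by
        have := pow_orderOf_eq_one (z : (Q : Subgroup (G ⧸ N)))
        rwa [hz'] at this
      have hyq : y ^ q = 1 := by
        have := pow_orderOf_eq_one y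
        rwa [hyo] at this
      apply no_rank_two N heq q w hwN hw1 hwc hwq a b
      · rw [← QuotientGroup.eq_one_iff, QuotientGroup.mk_pow, ha, ← Subgroup.coe_pow, hzq]
        rfl
      · rw [← QuotientGroup.eq_one_iff, QuotientGroup.mk_pow, hb, ← Subgroup.coe_pow, hyq]
        rfl
      · rw [← QuotientGroup.eq_one_iff, QuotientGroup.mk_mul, QuotientGroup.mk_inv,
          QuotientGroup.mk_mul, QuotientGroup.mk_mul, ha, hb, mul_inv_eq_one]
        have := hzc y
        have h2 := congrArg Subtype.val this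
        simpa using h2.symm
      · intro i j hij hmem
        rw [← QuotientGroup.eq_one_iff, QuotientGroup.mk_mul, QuotientGroup.mk_pow,
          QuotientGroup.mk_pow, ha, hb] at hmem
        have h1 : (z : (Q : Subgroup (G ⧸ N))) ^ i * y ^ j = 1 := by
          apply Subtype.ext
          simpa using hmem
        apply hij
        by_cases hj : q ∣ j
        · refine ⟨?_, hj⟩
          have h2 : y ^ j = 1 := by
            rw [← hyo] at hj
            exact orderOf_dvd_iff_pow_eq_one.mp hj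
          rw [h2, mul_one] at h1
          rw [← hz']
          exact orderOf_dvd_of_pow_eq_one h1
        · exfalso
          apply hyz
          have h2 : y ^ j = ((z : (Q : Subgroup (G ⧸ N))) ^ i)⁻¹ := by
            rw [eq_inv_iff_mul_eq_one, ← h1]
            exact ((Commute.pow_left (show Commute (z : (Q : Subgroup (G ⧸ N))) (y ^ j) from
              (hzc (y ^ j)).symm) i).eq).symm
          have h3 : y ^ j ∈ Subgroup.zpowers (z : (Q : Subgroup (G ⧸ N))) := by
            rw [h2]
            exact Subgroup.inv_mem _ (Subgroup.pow_mem _ (Subgroup.mem_zpowers _) i)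
          have hcop : Nat.Coprime j (orderOf y) := by
            rw [hyo]
            exact ((Nat.Prime.coprime_iff_not_dvd hq).mpr hj).symm
          obtain ⟨c, -, hc⟩ := Nat.exists_mul_mod_eq_one_of_coprime (n := j) (k := orderOf y)
            hcop (by rw [hyo]; exact hq.one_lt)
          have : y = (y ^ j) ^ c := by
            rw [← pow_mul, ← pow_mod_orderOf, hc, pow_one]
          rw [this]
          exact Subgroup.pow_mem _ h3 c
    by_cases h2 : q = 2
    · subst h2
      exact Cfsg.Agent.Lead.cyclic_or_quaternion_of_unique_involution Q.isPGroup' huniq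
    · left
      obtain ⟨m, hm⟩ := IsPGroup.iff_card.mp Q.isPGroup'
      by_cases hm1 : m ≤ 1
      · interval_cases m
        · rw [pow_zero] at hm
          haveI : Subsingleton (Q : Subgroup (G ⧸ N)) := (Nat.card_eq_one_iff_unique.mp hm).1
          exact isCyclic_of_subsingleton
        · rw [pow_one] at hm
          exact isCyclic_of_prime_card hm
      · exact Cfsg.Agent.S3977.result q m 1 hq hm le_rfl (by omega) (Or.inl h2)
          (by simpa using huniq)

end Cfsg.Agent.S4155
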