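import Cfsg.Statements.S4314
import Mathlib
import Cfsg.Agent.S4134

set_option autoImplicit false
open Cfsg

namespace Cfsg.Agent.S4314

open Cfsg.Agent.S4134 (mem_cent center_le_cent eq_of_le_of_index_eq dvd_card_of_stabilizer)

variable {G : Type*} [Group G]

theorem mem_center_iff_idx (x : G) :
    x ∈ Subgroup.center G ↔ (Subgroup.centralizer ({x} : Set G)).index = 1 := by
  rw [Subgroup.index_eq_one]
  constructor
  · intro hmem
    rw [eq_top_iff]
    intro g _
    rw [mem_cent]
    exact (Subgroup.mem_center_iff.mp hmem g).symm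
  · intro h1
    rw [Subgroup.mem_center_iff]
    intro g
    have : g ∈ Subgroup.centralizer ({x} : Set G) := by rw [h1]; trivial
    exact (mem_cent.mp this).symm

theorem conj_eq_iff (g b b' : G) :
    b * g * b⁻¹ = b' * g * b'⁻¹ ↔ g * (b⁻¹ * b') = b⁻¹ * b' * g := by
  constructor
  · intro hh
    calc g * (b⁻¹ * b') = b⁻¹ * (b * g * b⁻¹) * b' := by group
      _ = b⁻¹ * (b' * g * b'⁻¹) * b' := by rw [hh]
      _ = b⁻¹ * b' * g := by group
  · intro hh
    calc b * g * b⁻¹ = b * (g * (b⁻¹ * b')) * b'⁻¹ := by group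
      _ = b * (b⁻¹ * b' * g) * b'⁻¹ := by rw [hh]
      _ = b' * g * b'⁻¹ := by group

theorem ncard_range_conj [Finite G] (g : G) :
    (Set.range (fun b : G => b * g * b⁻¹)).ncard =
      (Subgroup.centralizer ({g} : Set G)).index := by
  have e : (G ⧸ Subgroup.centralizer ({g} : Set G)) ≃ Set.range (fun b : G => b * g * b⁻¹) := by
    refine Equiv.ofBijective (fun c => Quotient.liftOn' c
      (fun b => (⟨b * g * b⁻¹, b, rfl⟩ : Set.range (fun b : G => b * g * b⁻¹))) ?_) ⟨?_, ?_⟩
    · intro b b' hbb'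
      rw [QuotientGroup.leftRel_apply, mem_cent] at hbb'
      exact Subtype.ext ((conj_eq_iff g b b').mpr hbb')
    · intro c c'
      refine Quotient.inductionOn₂' c c' ?_
      intro b b' hbb'
      apply Quotient.sound'
      rw [QuotientGroup.leftRel_apply, mem_cent]
      exact (conj_eq_iff g b b').mp (congrArg Subtype.val hbb')
    · rintro ⟨_, b, rfl⟩
      exact ⟨QuotientGroup.mk b, rfl⟩
  rw [← Nat.card_coe_set_eq]
  exact (Nat.card_congr e).symm

theorem index_inf_of_coprime [Finite G] (H K : Subgroup G)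
    (hcop : Nat.Coprime H.index K.index) : (H ⊓ K).index = H.index * K.index := by
  apply Nat.le_antisymm Subgroup.index_inf_le
  apply Nat.le_of_dvd (Nat.pos_of_ne_zero Subgroup.index_ne_zero_of_finite)
  exact Nat.Coprime.mul_dvd_of_dvd_of_dvd hcop (Subgroup.index_dvd_of_le inf_le_left)
    (Subgroup.index_dvd_of_le inf_le_right)

theorem exists_mul_of_coprime [Finite G] (H K : Subgroup G)
    (hcop : Nat.Coprime H.index K.index) (g : G) : ∃ t ∈ H, ∃ s ∈ K, g = t * s := by
  have hrel : K.relIndex H = K.index := by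
    have h1 := Subgroup.relIndex_mul_index (inf_le_right : K ⊓ H ≤ H)
    rw [Subgroup.inf_relIndex_right, inf_comm, index_inf_of_coprime H K hcop, mul_comm] at h1
    have hH0 : 0 < H.index := Nat.pos_of_ne_zero Subgroup.index_ne_zero_of_finite
    exact Nat.eq_of_mul_eq_mul_left hH0 h1
  have hstab : MulAction.stabilizer H (QuotientGroup.mk (1 : G) : G ⧸ K) = K.subgroupOf H := by
    ext t
    rw [MulAction.mem_stabilizer_iff, Subgroup.mem_subgroupOf]
    show (QuotientGroup.mk ((t : G) * 1) : G ⧸ K) = QuotientGroup.mk 1 ↔ (t : G) ∈ K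
    rw [QuotientGroup.eq]
    simp
  have horb := MulAction.index_stabilizer H (QuotientGroup.mk (1 : G) : G ⧸ K)
  rw [hstab] at horb
  have huniv : MulAction.orbit H (QuotientGroup.mk (1 : G) : G ⧸ K) = Set.univ := by
    apply Set.eq_of_subset_of_ncard_le (Set.subset_univ _) _ (Set.toFinite _)
    rw [Set.ncard_univ, ← horb]
    exact hrel.ge
  have hg : (QuotientGroup.mk g : G ⧸ K) ∈
      MulAction.orbit H (QuotientGroup.mk (1 : G) : G ⧸ K) := by
    rw [huniv]; trivial
  obtain ⟨t, ht⟩ := hg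
  have ht' : (QuotientGroup.mk ((t : G) * 1) : G ⧸ K) = QuotientGroup.mk g := ht
  rw [QuotientGroup.eq] at ht'
  refine ⟨t, t.2, _, ht', ?_⟩
  group

/-- the pair lemma -/
theorem pair_lemma [Finite G] (q : ℕ) (hq : q.Prime)
    (hmax : ∀ g : G, (Subgroup.centralizer ({g} : Set G)).index ≤ q)
    (x y : G) (hcop : Nat.Coprime (Subgroup.centralizer ({x} : Set G)).index q)
    (hxZ : x ∉ Subgroup.center G) (hy : (Subgroup.centralizer ({y} : Set G)).index = q) :
    Nat.card (Subgroup.closure (Set.range fun a : G => x⁻¹ * a * x * a⁻¹)) = q ∧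
    ∀ b : G, b * y * b⁻¹ * y⁻¹ ∈ Subgroup.closure (Set.range fun a : G => x⁻¹ * a * x * a⁻¹) := by
  obtain ⟨N, hN⟩ : ∃ N : Subgroup G,
    N = Subgroup.closure (Set.range fun a : G => x⁻¹ * a * x * a⁻¹) := ⟨_, rfl⟩
  rw [← hN]
  obtain ⟨Y, hY⟩ : ∃ Y : Set G, Y = Set.range (fun b : G => b * y * b⁻¹) := ⟨_, rfl⟩
  have hYcard : Y.ncard = q := by rw [hY, ncard_range_conj, hy]
  -- step 2
  have hstep2 : ∀ a b : G, ∃ g : G, a * x * a⁻¹ * (b * y * b⁻¹) = g * (x * y) * g⁻¹ := by
    intro a b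
    obtain ⟨t, ht, s, hs, hts⟩ := exists_mul_of_coprime (Subgroup.centralizer ({x} : Set G))
      (Subgroup.centralizer ({y} : Set G)) (by rw [hy]; exact hcop) (a⁻¹ * b)
    rw [mem_cent] at ht hs
    have hb : b = a * t * s := by rw [mul_assoc, ← hts]; group
    have e1 : s * y * s⁻¹ = y := by rw [← hs, mul_inv_cancel_right]
    have e2 : t * x * t⁻¹ = x := by rw [← ht, mul_inv_cancel_right]
    refine ⟨a * t, ?_⟩
    rw [hb]
    calc a * x * a⁻¹ * ((a * t * s) * y * (a * t * s)⁻¹)
        = a * x * (t * (s * y * s⁻¹) * t⁻¹) * a⁻¹ := by group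
      _ = a * (t * x * t⁻¹) * (t * y * t⁻¹) * a⁻¹ := by rw [e1, e2]
      _ = (a * t) * (x * y) * (a * t)⁻¹ := by group
  -- step 3
  have hS : (fun v => x * v) '' Y = Set.range (fun g : G => g * (x * y) * g⁻¹) := by
    apply Set.eq_of_subset_of_ncard_le _ _ (Set.toFinite _)
    · rintro _ ⟨v, hv, rfl⟩
      rw [hY] at hv
      obtain ⟨b, rfl⟩ := hv
      obtain ⟨g, hg⟩ := hstep2 1 b
      refine ⟨g, ?_⟩
      show g * (x * y) * g⁻¹ = x * (b * y * b⁻¹)
      rw [← hg]; group
    · rw [ncard_range_conj, Set.ncard_image_of_injective _ (mul_right_injective x), hYcard]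
      exact hmax _
  have hstep3 : ∀ a : G, ∀ v ∈ Y, (x⁻¹ * a * x * a⁻¹) * v ∈ Y := by
    intro a v hv
    rw [hY] at hv
    obtain ⟨b, rfl⟩ := hv
    obtain ⟨g, hg⟩ := hstep2 a b
    have hmem : a * x * a⁻¹ * (b * y * b⁻¹) ∈ (fun v => x * v) '' Y := by
      rw [hS, hg]; exact ⟨g, rfl⟩
    obtain ⟨v', hv', hv'e⟩ := hmem
    have : x⁻¹ * a * x * a⁻¹ * (b * y * b⁻¹) = v' := by
      have e : x⁻¹ * a * x * a⁻¹ * (b * y * b⁻¹) = x⁻¹ * (a * x * a⁻¹ * (b * y * b⁻¹)) := by
        group
      rw [e, ← hv'e]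
      show x⁻¹ * (x * v') = v'
      rw [inv_mul_cancel_left]
    rw [this]; exact hv'
  -- step 4
  have hpow : ∀ k : G, (∀ v ∈ Y, k * v ∈ Y) → ∀ j : ℕ, ∀ v ∈ Y, k ^ j * v ∈ Y := by
    intro k hk j
    induction j with
    | zero => intro v hv; simpa using hv
    | succ j ih =>
      intro v hv
      rw [pow_succ, mul_assoc]
      exact ih _ (hk v hv)
  have hNY : ∀ k ∈ N, ∀ v ∈ Y, k * v ∈ Y := by
    intro k hk
    rw [hN] at hk
    induction hk using Subgroup.closure_induction with
    | mem k hk =>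
      obtain ⟨a, rfl⟩ := hk
      exact hstep3 a
    | one => intro v hv; simpa using hv
    | mul k₁ k₂ _ _ ih₁ ih₂ =>
      intro v hv
      rw [mul_assoc]
      exact ih₁ _ (ih₂ v hv)
    | inv k _ ih =>
      intro v hv
      have : k⁻¹ = k ^ (orderOf k - 1) := by
        apply inv_eq_of_mul_eq_one_right
        rw [← pow_succ', Nat.sub_add_cancel (orderOf_pos k), pow_orderOf_eq_one]
      rw [this]
      exact hpow k ih _ v hv
  -- the action
  letI : MulAction N G := MulAction.compHom G N.subtype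
  have hsmul : ∀ (k : N) (v : G), k • v = (k : G) * v := fun k v => rfl
  let S : SubMulAction N G :=
    { carrier := Y
      smul_mem' := by
        intro k v hv
        rw [hsmul]
        exact hNY k k.2 v hv }
  have hScard : Nat.card S = q := by
    have e1 : Nat.card S = (S : Set G).ncard := Nat.card_coe_set_eq (S : Set G)
    rw [e1]; exact hYcard
  haveI : Finite S := Finite.of_injective (fun u : S => (u : G)) Subtype.val_injective
  have hdvd : Nat.card N ∣ q := by
    rw [← hScard]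
    apply dvd_card_of_stabilizer (A := N)
    intro u
    have : MulAction.stabilizer N u = ⊥ := by
      rw [eq_bot_iff]
      intro k hk
      rw [MulAction.mem_stabilizer_iff] at hk
      have h1 : (k : G) * (u : G) = (u : G) := congrArg Subtype.val hk
      rw [Subgroup.mem_bot]
      apply Subtype.ext
      simpa using h1
    rw [this, Subgroup.index_bot]
  have hNne : Nat.card N ≠ 1 := by
    intro h1
    apply hxZ
    rw [Subgroup.mem_center_iff]
    intro a
    have hmem : x⁻¹ * a * x * a⁻¹ ∈ N := by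
      rw [hN]; exact Subgroup.subset_closure ⟨a, rfl⟩
    have hbot : N = ⊥ := Subgroup.card_eq_one.mp h1
    rw [hbot, Subgroup.mem_bot] at hmem
    have : a * x = x * a := by
      calc a * x = x * (x⁻¹ * a * x * a⁻¹) * a := by group
        _ = x * a := by rw [hmem, mul_one]
    exact this
  have hNcard : Nat.card N = q := by
    rcases (Nat.dvd_prime hq).mp hdvd with h1 | h1
    · exact absurd h1 hNne
    · exact h1
  refine ⟨hNcard, ?_⟩
  have hyY : y ∈ Y := by rw [hY]; exact ⟨1, by simp⟩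
  have himg : (fun k => k * y) '' (N : Set G) = Y := by
    apply Set.eq_of_subset_of_ncard_le _ _ (Set.toFinite _)
    · rintro _ ⟨k, hk, rfl⟩
      exact hNY k hk y hyY
    · rw [Set.ncard_image_of_injective _ (mul_left_injective y), hYcard]
      have e3 : Nat.card N = (N : Set G).ncard := Nat.card_coe_set_eq (N : Set G)
      rw [← e3, hNcard]
  intro b
  have hb : b * y * b⁻¹ ∈ Y := by rw [hY]; exact ⟨b, rfl⟩
  rw [← himg] at hb
  obtain ⟨k, hk, hke⟩ := hb
  have : b * y * b⁻¹ * y⁻¹ = k := by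
    rw [← hke]
    show k * y * y⁻¹ = k
    rw [mul_inv_cancel_right]
  rw [this]; exact hk

theorem cent_inv (g : G) :
    Subgroup.centralizer ({g⁻¹} : Set G) = Subgroup.centralizer ({g} : Set G) := by
  ext u
  rw [mem_cent, mem_cent]
  constructor
  · intro hu
    calc g * u = g * (u * g⁻¹) * g := by group
      _ = g * (g⁻¹ * u) * g := by rw [hu]
      _ = u * g := by group
  · intro hu
    calc g⁻¹ * u = g⁻¹ * (u * g) * g⁻¹ := by group
      _ = g⁻¹ * (g * u) * g⁻¹ := by rw [hu]
      _ = u * g⁻¹ := by group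

theorem eq_zpowers_of_prime_card (N : Subgroup G) (q : ℕ) (hq : q.Prime)
    (hN : Nat.card N = q) (w : G) (hw : w ∈ N) (hw1 : w ≠ 1) : N = Subgroup.zpowers w := by
  haveI := Fact.mk hq
  have h1 : Subgroup.zpowers (⟨w, hw⟩ : N) = ⊤ :=
    zpowers_eq_top_of_prime_card hN (by intro h; exact hw1 (congrArg Subtype.val h))
  apply le_antisymm
  · intro u hu
    have : (⟨u, hu⟩ : N) ∈ Subgroup.zpowers (⟨w, hw⟩ : N) := by rw [h1]; trivial
    obtain ⟨i, hi⟩ := this
    exact ⟨i, by have := congrArg Subtype.val hi; simpa using this⟩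
  · rw [Subgroup.zpowers_le]; exact hw

theorem star [Finite G]
    (h : ∀ x : G, (Subgroup.centralizer ({x} : Set G)).index = 1 ∨
      ((Subgroup.centralizer ({x} : Set G)).index).Prime)
    (q : ℕ) (hq : q.Prime) (hmax : ∀ g : G, (Subgroup.centralizer ({g} : Set G)).index ≤ q)
    (x₀ y : G) (hx₀Z : x₀ ∉ Subgroup.center G)
    (hx₀q : (Subgroup.centralizer ({x₀} : Set G)).index ≠ q)
    (hy : (Subgroup.centralizer ({y} : Set G)).index = q) :
    ∀ g a : G, g⁻¹ * a * g * a⁻¹ ∈
      Subgroup.closure (Set.range fun a : G => x₀⁻¹ * a * x₀ * a⁻¹) := by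
  have hcop : ∀ g : G, g ∉ Subgroup.center G →
      (Subgroup.centralizer ({g} : Set G)).index ≠ q →
      Nat.Coprime (Subgroup.centralizer ({g} : Set G)).index q := by
    intro g hgZ hgq
    rcases h g with h1 | h1
    · exact absurd ((mem_center_iff_idx g).mpr h1) hgZ
    · exact (Nat.coprime_primes h1 hq).mpr hgq
  obtain ⟨hNcard, hNy⟩ := pair_lemma q hq hmax x₀ y (hcop x₀ hx₀Z hx₀q) hx₀Z hy
  intro g a
  by_cases hgZ : g ∈ Subgroup.center G
  · have : g⁻¹ * a * g * a⁻¹ = 1 := by
      rw [mul_assoc g⁻¹, Subgroup.mem_center_iff.mp hgZ a]; group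
    rw [this]; exact Subgroup.one_mem _
  by_cases hgq : (Subgroup.centralizer ({g} : Set G)).index = q
  · have hg' : (Subgroup.centralizer ({g⁻¹} : Set G)).index = q := by rw [cent_inv]; exact hgq
    have h1 := (pair_lemma q hq hmax x₀ g⁻¹ (hcop x₀ hx₀Z hx₀q) hx₀Z hg').2 a
    have h2 := Subgroup.inv_mem _ h1
    have e : (a * g⁻¹ * a⁻¹ * g⁻¹⁻¹)⁻¹ = g⁻¹ * a * g * a⁻¹ := by group
    rw [e] at h2; exact h2
  · obtain ⟨hNg, hNgy⟩ := pair_lemma q hq hmax g y (hcop g hgZ hgq) hgZ hy
    have hyZ : y ∉ Subgroup.center G := by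
      intro hmem; rw [mem_center_iff_idx, hy] at hmem; exact hq.one_lt.ne' hmem
    obtain ⟨b, hb⟩ : ∃ b, b * y * b⁻¹ * y⁻¹ ≠ 1 := by
      by_contra hcon
      push_neg at hcon
      apply hyZ
      rw [Subgroup.mem_center_iff]
      intro b
      have := hcon b
      calc b * y = (b * y * b⁻¹ * y⁻¹) * y * b := by group
        _ = y * b := by rw [this, one_mul]
    have e1 := eq_zpowers_of_prime_card _ q hq hNcard _ (hNy b) hb
    have e2 := eq_zpowers_of_prime_card _ q hq hNg _ (hNgy b) hb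
    rw [e1, ← e2]
    exact Subgroup.subset_closure ⟨a, rfl⟩

theorem case_B [Finite G]
    (h : ∀ x : G, (Subgroup.centralizer ({x} : Set G)).index = 1 ∨
      ((Subgroup.centralizer ({x} : Set G)).index).Prime)
    (q : ℕ) (hq : q.Prime) (hmax : ∀ g : G, (Subgroup.centralizer ({g} : Set G)).index ≤ q)
    (x₀ y : G) (hx₀Z : x₀ ∉ Subgroup.center G)
    (hx₀q : (Subgroup.centralizer ({x₀} : Set G)).index ≠ q)
    (hy : (Subgroup.centralizer ({y} : Set G)).index = q) :
    Nat.card (G ⧸ Subgroup.center G) = (Subgroup.centralizer ({x₀} : Set G)).index * q ∧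
      ¬ IsMulCommutative (G ⧸ Subgroup.center G) := by
  obtain ⟨N, hN⟩ : ∃ N : Subgroup G,
    N = Subgroup.closure (Set.range fun a : G => x₀⁻¹ * a * x₀ * a⁻¹) := ⟨_, rfl⟩
  have hstar : ∀ g a : G, g⁻¹ * a * g * a⁻¹ ∈ N := by
    rw [hN]; exact star h q hq hmax x₀ y hx₀Z hx₀q hy
  have hp : ((Subgroup.centralizer ({x₀} : Set G)).index).Prime :=
    (h x₀).resolve_left (fun h1 => hx₀Z ((mem_center_iff_idx x₀).mpr h1))
  have hcop : Nat.Coprime (Subgroup.centralizer ({x₀} : Set G)).index q :=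
    (Nat.coprime_primes hp hq).mpr hx₀q
  have hNcard : Nat.card N = q := by
    rw [hN]; exact (pair_lemma q hq hmax x₀ y hcop hx₀Z hy).1
  have hK1 : ∀ g a b : G, g⁻¹ * (a * b) * g * (a * b)⁻¹ =
      (g⁻¹ * a * g * a⁻¹) * (a * (g⁻¹ * b * g * b⁻¹) * a⁻¹) := by
    intro g a b; group
  have hhom : ∀ (g : G) (L : Subgroup G), (∀ a ∈ L, ∀ m ∈ N, a * m = m * a) →
      (Subgroup.centralizer ({g} : Set G)).index < q →
      L ≤ Subgroup.centralizer ({g} : Set G) := by
    intro g L hL hlt
    let ψ : L →* N := MonoidHom.mk' (fun a => ⟨g⁻¹ * (a : G) * g * (a : G)⁻¹, hstar g a⟩) (by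
      intro a b
      apply Subtype.ext
      show g⁻¹ * ((a : G) * (b : G)) * g * ((a : G) * (b : G))⁻¹ =
        (g⁻¹ * (a : G) * g * (a : G)⁻¹) * (g⁻¹ * (b : G) * g * (b : G)⁻¹)
      rw [hK1]
      congr 1
      have := hL a a.2 _ (hstar g b)
      rw [this, mul_inv_cancel_right])
    have hψ : ∀ a : L, ((ψ a : N) : G) = g⁻¹ * (a : G) * g * (a : G)⁻¹ := fun a => rfl
    haveI : Fact (Nat.card N).Prime := ⟨hNcard ▸ hq⟩
    rcases ψ.range.eq_bot_or_eq_top_of_prime_card with hbot | htop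
    · intro a ha
      have hmem : ψ ⟨a, ha⟩ ∈ ψ.range := ⟨_, rfl⟩
      rw [hbot, Subgroup.mem_bot] at hmem
      have h1 : g⁻¹ * a * g * a⁻¹ = 1 := by
        have := congrArg Subtype.val hmem
        rw [hψ] at this
        exact this
      rw [mem_cent]
      symm
      calc a * g = g * (g⁻¹ * a * g * a⁻¹) * a := by group
        _ = g * a := by rw [h1, mul_one]
    · exfalso
      have hsub : (N : Set G) ⊆ (fun v => g⁻¹ * v) '' Set.range (fun b : G => b * g * b⁻¹) := by
        intro m hm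
        have hmem : (⟨m, hm⟩ : N) ∈ ψ.range := by rw [htop]; trivial
        obtain ⟨a, ha⟩ := hmem
        have h1 : g⁻¹ * (a : G) * g * (a : G)⁻¹ = m := by
          have := congrArg Subtype.val ha
          rw [hψ] at this
          exact this
        refine ⟨(a : G) * g * (a : G)⁻¹, ⟨a, rfl⟩, ?_⟩
        show g⁻¹ * ((a : G) * g * (a : G)⁻¹) = m
        rw [← h1]; group
      have hle := Set.ncard_le_ncard hsub (Set.toFinite _)
      rw [Set.ncard_image_of_injective _ (mul_right_injective g⁻¹), ncard_range_conj] at hle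
      have e3 : Nat.card N = (N : Set G).ncard := Nat.card_coe_set_eq (N : Set G)
      rw [← e3, hNcard] at hle
      omega
  obtain ⟨n, hnN, hnZ⟩ : ∃ n ∈ N, n ∉ Subgroup.center G := by
    by_contra hcon
    push_neg at hcon
    have hlt : (Subgroup.centralizer ({x₀} : Set G)).index < q := lt_of_le_of_ne (hmax x₀) hx₀q
    have := hhom x₀ ⊤ (fun a _ m hm => (Subgroup.mem_center_iff.mp (hcon m hm) a)) hlt
    apply hx₀Z
    rw [Subgroup.mem_center_iff]
    intro a
    exact (mem_cent.mp (this (Subgroup.mem_top a))).symm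
  have hn1 : n ≠ 1 := by rintro rfl; exact hnZ (Subgroup.one_mem _)
  have hNz : N = Subgroup.zpowers n := eq_zpowers_of_prime_card N q hq hNcard n hnN hn1
  obtain ⟨C, hC⟩ : ∃ C : Subgroup G, C = Subgroup.centralizer ({n} : Set G) := ⟨_, rfl⟩
  have hCmem : ∀ u, u ∈ C ↔ n * u = u * n := by intro u; rw [hC]; exact mem_cent
  have hCN : ∀ a ∈ C, ∀ m ∈ N, a * m = m * a := by
    intro a ha m hm
    rw [hNz] at hm
    obtain ⟨i, rfl⟩ := hm
    have hc : Commute a n := ((hCmem a).mp ha).symm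
    exact (hc.zpow_right i).eq
  have he : (C.index).Prime := by
    rw [hC]; exact (h n).resolve_left (fun h1 => hnZ ((mem_center_iff_idx n).mpr h1))
  have hdag : ∀ g : G, g ∉ Subgroup.center G →
      (Subgroup.centralizer ({g} : Set G)).index ≠ q →
      Subgroup.centralizer ({g} : Set G) = C := by
    intro g hgZ hgq
    have hle : C ≤ Subgroup.centralizer ({g} : Set G) :=
      hhom g C hCN (lt_of_le_of_ne (hmax g) hgq)
    have hgp : ((Subgroup.centralizer ({g} : Set G)).index).Prime :=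
      (h g).resolve_left (fun h1 => hgZ ((mem_center_iff_idx g).mpr h1))
    have hdvd : (Subgroup.centralizer ({g} : Set G)).index ∣ C.index :=
      Subgroup.index_dvd_of_le hle
    have heq : (Subgroup.centralizer ({g} : Set G)).index = C.index :=
      (Nat.prime_dvd_prime_iff_eq hgp he).mp hdvd
    exact (eq_of_le_of_index_eq hle heq.symm).symm
  have hCx : Subgroup.centralizer ({x₀} : Set G) = C := hdag x₀ hx₀Z hx₀q
  have hCidx : C.index ≠ q := by rw [← hCx]; exact hx₀q
  have hCab : ∀ g ∈ C, ∀ c ∈ C, g * c = c * g := by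
    intro g hg c hc
    by_cases hgZ : g ∈ Subgroup.center G
    · exact (Subgroup.mem_center_iff.mp hgZ c).symm
    by_cases hcZ : c ∈ Subgroup.center G
    · exact (Subgroup.mem_center_iff.mp hcZ g)
    by_cases hgq : (Subgroup.centralizer ({g} : Set G)).index = q
    swap
    · have := hdag g hgZ hgq
      rw [← this] at hc
      exact mem_cent.mp hc
    by_cases hcq : (Subgroup.centralizer ({c} : Set G)).index = q
    swap
    · have := hdag c hcZ hcq
      rw [← this] at hg
      exact (mem_cent.mp hg).symm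
    obtain ⟨y', hy'g, hy'C⟩ : ∃ y' ∈ Subgroup.centralizer ({g} : Set G), y' ∉ C := by
      by_contra hcon
      push_neg at hcon
      have hdvd : C.index ∣ (Subgroup.centralizer ({g} : Set G)).index :=
        Subgroup.index_dvd_of_le hcon
      rw [hgq] at hdvd
      exact hCidx ((Nat.prime_dvd_prime_iff_eq he hq).mp hdvd)
    rw [mem_cent] at hy'g
    obtain ⟨n₀, hn₀⟩ : ∃ n₀, n₀ = g⁻¹ * c * g * c⁻¹ := ⟨_, rfl⟩
    have hn₀N : n₀ ∈ N := by rw [hn₀]; exact hstar g c
    obtain ⟨m, hm⟩ : ∃ m, m = c⁻¹ * y' * c * y'⁻¹ := ⟨_, rfl⟩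
    have hmN : m ∈ N := by rw [hm]; exact hstar c y'
    have hgm : g⁻¹ * m * g * m⁻¹ = 1 := by
      have := hCN g hg m hmN
      calc g⁻¹ * m * g * m⁻¹ = g⁻¹ * (m * g) * m⁻¹ := by group
        _ = g⁻¹ * (g * m) * m⁻¹ := by rw [this]
        _ = 1 := by group
    have hconj : y' * n₀ * y'⁻¹ = n₀ := by
      have e1 : y' * c * y'⁻¹ = c * m := by rw [hm]; group
      have e2 : y' * g⁻¹ = g⁻¹ * y' := by
        calc y' * g⁻¹ = g⁻¹ * (g * y') * g⁻¹ := by group
          _ = g⁻¹ * (y' * g) * g⁻¹ := by rw [hy'g]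
          _ = g⁻¹ * y' := by group
      calc y' * n₀ * y'⁻¹ = (y' * g⁻¹) * c * y'⁻¹ * (y' * g) * c⁻¹ * y'⁻¹ := by
            rw [hn₀]; group
        _ = (g⁻¹ * y') * c * y'⁻¹ * (g * y') * c⁻¹ * y'⁻¹ := by rw [e2, ← hy'g]
        _ = g⁻¹ * (y' * c * y'⁻¹) * g * (y' * c * y'⁻¹)⁻¹ := by group
        _ = g⁻¹ * (c * m) * g * (c * m)⁻¹ := by rw [e1]
        _ = (g⁻¹ * c * g * c⁻¹) * (c * (g⁻¹ * m * g * m⁻¹) * c⁻¹) := hK1 g c m
        _ = n₀ := by rw [hgm, ← hn₀]; group
    by_contra hne
    have hn₀1 : n₀ ≠ 1 := by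
      intro h1
      apply hne
      rw [hn₀] at h1
      symm
      calc c * g = g * (g⁻¹ * c * g * c⁻¹) * c := by group
        _ = g * c := by rw [h1, mul_one]
    have hNz' : N = Subgroup.zpowers n₀ := eq_zpowers_of_prime_card N q hq hNcard n₀ hn₀N hn₀1
    apply hy'C
    rw [hCmem]
    have hn' : n ∈ Subgroup.zpowers n₀ := by rw [← hNz']; exact hnN
    obtain ⟨i, hi⟩ := hn'
    have hc' : Commute y' n₀ := by
      show y' * n₀ = n₀ * y'
      calc y' * n₀ = (y' * n₀ * y'⁻¹) * y' := by group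
        _ = n₀ * y' := by rw [hconj]
    rw [← hi]
    exact ((hc'.zpow_right i).eq).symm
  have hyC : y ∉ C := by
    intro hmem
    have hle : C ≤ Subgroup.centralizer ({y} : Set G) := by
      intro u hu
      rw [mem_cent]
      exact hCab y hmem u hu
    have hdvd := Subgroup.index_dvd_of_le hle
    rw [hy] at hdvd
    exact hCidx ((Nat.prime_dvd_prime_iff_eq hq he).mp hdvd).symm
  have hD : Subgroup.centralizer ({x₀} : Set G) ⊓ Subgroup.centralizer ({y} : Set G) =
      Subgroup.center G := by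
    apply le_antisymm
    · intro u hu
      by_contra huZ
      have huC : u ∈ C := by rw [← hCx]; exact hu.1
      have hle : C ≤ Subgroup.centralizer ({u} : Set G) := by
        intro v hv
        rw [mem_cent]
        exact hCab u huC v hv
      have hdvd := Subgroup.index_dvd_of_le hle
      have huq : (Subgroup.centralizer ({u} : Set G)).index ≠ q := by
        intro h1
        rw [h1] at hdvd
        exact hCidx ((Nat.prime_dvd_prime_iff_eq hq he).mp hdvd).symm
      have := hdag u huZ huq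
      apply hyC
      rw [← this, mem_cent]
      exact (mem_cent.mp hu.2).symm
    · exact le_inf (center_le_cent x₀) (center_le_cent y)
  constructor
  · have := index_inf_of_coprime (Subgroup.centralizer ({x₀} : Set G))
      (Subgroup.centralizer ({y} : Set G)) (by rw [hy]; exact hcop)
    rw [hD, hy] at this
    exact this
  · intro hcomm
    apply hnZ
    have hNZ : N ≤ Subgroup.center G := by
      rw [hN, Subgroup.closure_le]
      rintro _ ⟨a, rfl⟩
      rw [SetLike.mem_coe, ← QuotientGroup.eq_one_iff]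
      simp only [QuotientGroup.mk_mul, QuotientGroup.mk_inv]
      rw [mul_assoc ((QuotientGroup.mk x₀ : G ⧸ Subgroup.center G))⁻¹,
        hcomm.is_comm.comm (QuotientGroup.mk a) (QuotientGroup.mk x₀)]
      group
    exact hNZ hnN

theorem class_two_of_two [Finite G] (q : ℕ) (hq : q.Prime)
    (h : ∀ x : G, (Subgroup.centralizer ({x} : Set G)).index = 1 ∨
      (Subgroup.centralizer ({x} : Set G)).index = q)
    (hex : ∃ x : G, (Subgroup.centralizer ({x} : Set G)).index = q) :
    ∀ a b x : G, x * (a * b * a⁻¹ * b⁻¹) = (a * b * a⁻¹ * b⁻¹) * x := by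
  obtain ⟨p, hp, a', hqa, hP⟩ := Cfsg.Agent.S4134.result q hq.one_lt h hex
  obtain ⟨P⟩ : Nonempty (Sylow p G) := inferInstance
  obtain ⟨hPn, ⟨N, hNn, hcompl, hNc, hNP⟩, _⟩ := hP P
  have hpq : p = q := by
    have ha0 : a' ≠ 0 := by rintro rfl; rw [pow_zero] at hqa; exact hq.one_lt.ne' hqa
    have : p ∣ q := by rw [hqa]; exact dvd_pow_self p ha0
    exact (Nat.prime_dvd_prime_iff_eq hp.out hq).mp this
  have hNcen : ∀ m ∈ N, ∀ g : G, g * m = m * g := by
    intro m hm g
    obtain ⟨⟨⟨n, hn⟩, ⟨u, hu⟩⟩, hnu⟩ := hcompl.2 g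
    have hnu' : n * u = g := hnu
    rw [← hnu']
    have h1 : m * u = u * m := hNP m hm u hu
    have h2 : n * m = m * n := by
      have := hNc.is_comm.comm (⟨n, hn⟩ : N) ⟨m, hm⟩
      exact congrArg Subtype.val this
    calc n * u * m = n * (u * m) := mul_assoc _ _ _
      _ = n * (m * u) := by rw [h1]
      _ = n * m * u := (mul_assoc _ _ _).symm
      _ = m * n * u := by rw [h2]
      _ = m * (n * u) := mul_assoc _ _ _
  intro a b x
  by_cases hxZ : x ∈ Subgroup.center G
  · exact (Subgroup.mem_center_iff.mp hxZ _).symm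
  have hidx : (Subgroup.centralizer ({x} : Set G)).index = q :=
    (h x).resolve_left (fun h1 => hxZ ((mem_center_iff_idx x).mpr h1))
  obtain ⟨H, hH⟩ : ∃ H : Subgroup G, H = Subgroup.centralizer ({x} : Set G) := ⟨_, rfl⟩
  rw [← hH] at hidx
  have hNH : N ≤ H := by
    intro m hm; rw [hH, mem_cent]; exact hNcen m hm x
  suffices hmem : a * b * a⁻¹ * b⁻¹ ∈ H by rw [hH] at hmem; exact mem_cent.mp hmem
  have hker : (QuotientGroup.mk' N).ker ≤ H := by rw [QuotientGroup.ker_mk']; exact hNH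
  have hidx' : (H.map (QuotientGroup.mk' N)).index = q := by
    rw [Subgroup.index_map_eq H (QuotientGroup.mk'_surjective N) hker, hidx]
  have hcardQ : Nat.card (G ⧸ N) = Nat.card (P : Subgroup G) := hcompl.symm.index_eq_card
  obtain ⟨k, hk⟩ := IsPGroup.iff_card.mp P.isPGroup'
  rw [hk] at hcardQ
  have hk0 : k ≠ 0 := by
    rintro rfl
    rw [pow_zero] at hcardQ
    have := Subgroup.index_dvd_card (H.map (QuotientGroup.mk' N))
    rw [hidx', hcardQ] at this
    exact hq.one_lt.ne' (Nat.dvd_one.mp this)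
  haveI hnorm : (H.map (QuotientGroup.mk' N)).Normal := by
    apply Subgroup.normal_of_index_eq_minFac_card
    rw [hidx', hcardQ, hp.out.pow_minFac hk0, hpq]
  haveI : Fact q.Prime := ⟨hq⟩
  have hc : Nat.card ((G ⧸ N) ⧸ H.map (QuotientGroup.mk' N)) = q := hidx'
  have hcyc : IsCyclic ((G ⧸ N) ⧸ H.map (QuotientGroup.mk' N)) := isCyclic_of_prime_card hc
  have hcm : IsMulCommutative ((G ⧸ N) ⧸ H.map (QuotientGroup.mk' N)) :=
    IsCyclic.isMulCommutative
  have key : ∀ A B : (G ⧸ N) ⧸ H.map (QuotientGroup.mk' N), A * B * A⁻¹ * B⁻¹ = 1 := by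
    intro A B
    rw [hcm.is_comm.comm A B]; group
  have h1 : (QuotientGroup.mk' N) (a * b * a⁻¹ * b⁻¹) ∈ H.map (QuotientGroup.mk' N) := by
    rw [← QuotientGroup.eq_one_iff]
    have e : ((QuotientGroup.mk ((QuotientGroup.mk' N) (a * b * a⁻¹ * b⁻¹))) :
        (G ⧸ N) ⧸ H.map (QuotientGroup.mk' N)) =
        QuotientGroup.mk (QuotientGroup.mk' N a) * QuotientGroup.mk (QuotientGroup.mk' N b) *
        (QuotientGroup.mk (QuotientGroup.mk' N a))⁻¹ *
        (QuotientGroup.mk (QuotientGroup.mk' N b))⁻¹ := by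
      simp only [map_mul, map_inv, QuotientGroup.mk_mul, QuotientGroup.mk_inv]
    rw [e]; exact key _ _
  obtain ⟨h', hh', hh'e⟩ := h1
  have h2 : h'⁻¹ * (a * b * a⁻¹ * b⁻¹) ∈ N := by
    rw [← QuotientGroup.eq]
    exact hh'e
  have := H.mul_mem hh' (hNH h2)
  rwa [mul_inv_cancel_left] at this

/-- Let `G` be a finite group every conjugacy class of which has size 1 or a prime. Then either `G` is nilpotent of class at most 2, or `G/Z(G)` is a non-abelian group of order `pq` for distinct primes `p, q` (a Frobenius group of order `pq`). -/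
theorem result {G : Type*} [Group G] [Finite G]
    (h : ∀ x : G, (Subgroup.centralizer ({x} : Set G)).index = 1 ∨ ((Subgroup.centralizer ({x} : Set G)).index).Prime) :
    Subgroup.upperCentralSeries G 2 = ⊤ ∨
      ∃ p q : ℕ, p.Prime ∧ q.Prime ∧ p ≠ q ∧ Nat.card (G ⧸ Subgroup.center G) = p * q ∧ ¬ IsMulCommutative (G ⧸ Subgroup.center G) := by
  obtain ⟨y, hy⟩ := Finite.exists_max (fun g : G => (Subgroup.centralizer ({g} : Set G)).index)
  obtain ⟨q, hqdef⟩ : ∃ q, q = (Subgroup.centralizer ({y} : Set G)).index := ⟨_, rfl⟩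
  rw [← hqdef] at hy
  have hclass2 : (∀ a b x : G, x * (a * b * a⁻¹ * b⁻¹) = (a * b * a⁻¹ * b⁻¹) * x) →
      Subgroup.upperCentralSeries G 2 = ⊤ := by
    intro hc
    rw [eq_top_iff]
    intro u _
    rw [Subgroup.mem_upperCentralSeries_succ_iff]
    intro v
    rw [Subgroup.upperCentralSeries_one, Subgroup.mem_center_iff]
    intro t
    rw [commutatorElement_def]
    exact hc u v t
  by_cases hall : ∀ x : G, (Subgroup.centralizer ({x} : Set G)).index = 1 ∨
      (Subgroup.centralizer ({x} : Set G)).index = q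
  · left
    apply hclass2
    rcases h y with h1 | h1
    · rw [← hqdef] at h1
      intro a b x
      have hx : x ∈ Subgroup.center G := by
        rw [mem_center_iff_idx]
        rcases hall x with h2 | h2
        · exact h2
        · rw [h2, h1]
      exact (Subgroup.mem_center_iff.mp hx _).symm
    · rw [← hqdef] at h1
      exact class_two_of_two q h1 hall ⟨y, hqdef.symm⟩
  · right
    push_neg at hall
    obtain ⟨x₀, hx₀1, hx₀q⟩ := hall
    have hx₀Z : x₀ ∉ Subgroup.center G := fun hmem => hx₀1 ((mem_center_iff_idx x₀).mp hmem)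
    have hp := (h x₀).resolve_left hx₀1
    have hq : q.Prime := by
      rcases h y with h1 | h1
      · exfalso
        have h2 := hy x₀
        rw [← hqdef] at h1
        have h0 : (Subgroup.centralizer ({x₀} : Set G)).index ≠ 0 :=
          Subgroup.index_ne_zero_of_finite
        omega
      · rw [hqdef]; exact h1
    obtain ⟨hcard, hncomm⟩ := case_B h q hq hy x₀ y hx₀Z hx₀q hqdef.symm
    exact ⟨_, q, hp, hq, hx₀q, hcard, hncomm⟩

end Cfsg.Agent.S4314
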