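import Cfsg.Statements.S4176
import Mathlib
import Cfsg.Agent.Helper13.PSolv
import Cfsg.Agent.Helper24.ClassSize
import Cfsg.Agent.S4314

set_option autoImplicit false
open Cfsg

namespace Cfsg.Agent.S4176

universe u v w

section Basic
variable {k : Type w} [Field k] {H : Type u} [Group H] {V : Type v} [AddCommGroup V] [Module k V]

/-- conjugation rule -/
theorem rho_conj (ρ : H →* (V →ₗ[k] V)) (x h : H) (v : V) :
    ρ x (ρ h v) = ρ h (ρ (h⁻¹ * x * h) v) := by
  rw [← Module.End.mul_apply, ← Module.End.mul_apply, ← map_mul, ← map_mul]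
  congr 2; group

theorem rho_mul (ρ : H →* (V →ₗ[k] V)) (x h : H) (v : V) : ρ (x * h) v = ρ x (ρ h v) := by
  rw [map_mul, Module.End.mul_apply]

/-- a normal subgroup fixing `a` acts trivially when the orbit of `a` spans -/
theorem trivial_of_fix (ρ : H →* (V →ₗ[k] V)) (a : V)
    (hspan : ∀ v : V, v ∈ Submodule.span k (Set.range (fun h : H => ρ h a)))
    (M : Subgroup H) [hM : M.Normal] (hMa : ∀ x ∈ M, ρ x a = a) :
    ∀ x ∈ M, ∀ v : V, ρ x v = v := by
  intro x hx v
  have hle : Submodule.span k (Set.range (fun h : H => ρ h a)) ≤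
      LinearMap.eqLocus (ρ x) LinearMap.id := by
    rw [Submodule.span_le]
    rintro _ ⟨h, rfl⟩
    show ρ x (ρ h a) = ρ h a
    have hmem : h⁻¹ * x * h ∈ M := by
      have := hM.conj_mem x hx h⁻¹
      simpa using this
    rw [rho_conj, hMa _ hmem]
  exact hle (hspan v)

/-- the conclusion of the induction -/
def Concl (ρ : H →* (V →ₗ[k] V)) (A : Subgroup H) : Prop :=
  (∃ v₀ : V, ∀ v : V, (∀ h, ρ h v = v) → ∃ c : k, v = c • v₀) ∧
  (∀ (b : V) (B : Subgroup H), (∀ x ∈ B, ρ x b = b) → B.index.Coprime A.index →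
    ∀ h, ρ h b = b)

/-- the fixed points of `M` -/
def fixedM (ρ : H →* (V →ₗ[k] V)) (M : Subgroup H) : Submodule k V where
  carrier := {v | ∀ x ∈ M, ρ x v = v}
  add_mem' := by
    intro v w hv hw x hx
    rw [map_add, hv x hx, hw x hx]
  zero_mem' := by
    intro x _
    rw [map_zero]
  smul_mem' := by
    intro c v hv x hx
    rw [map_smul, hv x hx]

theorem mem_fixedM (ρ : H →* (V →ₗ[k] V)) (M : Subgroup H) (v : V) :
    v ∈ fixedM ρ M ↔ ∀ x ∈ M, ρ x v = v := Iff.rfl

theorem fixedM_stable (ρ : H →* (V →ₗ[k] V)) (M : Subgroup H) [hM : M.Normal] (h : H) :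
    ∀ w ∈ fixedM ρ M, ρ h w ∈ fixedM ρ M := by
  intro w hw x hx
  have hmem : h⁻¹ * x * h ∈ M := by
    have := hM.conj_mem x hx h⁻¹
    simpa using this
  rw [rho_conj, hw _ hmem]

/-- the restricted representation -/
def resRep (ρ : H →* (V →ₗ[k] V)) (M : Subgroup H) [M.Normal] :
    H →* (↥(fixedM ρ M) →ₗ[k] ↥(fixedM ρ M)) where
  toFun h := (ρ h).restrict (fixedM_stable ρ M h)
  map_one' := by
    ext w
    simp
  map_mul' := by
    intro h h'
    ext w
    simp

theorem resRep_apply (ρ : H →* (V →ₗ[k] V)) (M : Subgroup H) [M.Normal] (h : H)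
    (w : ↥(fixedM ρ M)) : ((resRep ρ M h) w : V) = ρ h w := rfl

theorem resRep_ker (ρ : H →* (V →ₗ[k] V)) (M : Subgroup H) [M.Normal] :
    M ≤ (resRep ρ M).ker := by
  intro x hx
  rw [MonoidHom.mem_ker]
  ext w
  exact w.2 x hx

/-- the quotient representation -/
def quotRep (ρ : H →* (V →ₗ[k] V)) (M : Subgroup H) [M.Normal] :
    H ⧸ M →* (↥(fixedM ρ M) →ₗ[k] ↥(fixedM ρ M)) :=
  QuotientGroup.lift M (resRep ρ M) (resRep_ker ρ M)

theorem quotRep_mk (ρ : H →* (V →ₗ[k] V)) (M : Subgroup H) [M.Normal] (h : H)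
    (w : ↥(fixedM ρ M)) : ((quotRep ρ M (QuotientGroup.mk h)) w : V) = ρ h w := rfl

theorem transfer (ρ : H →* (V →ₗ[k] V)) (M : Subgroup H) [M.Normal] (A : Subgroup H)
    (hc : Concl (quotRep ρ M) (A.map (QuotientGroup.mk' M))) :
    (∃ v₀ : V, ∀ v : V, (∀ h, ρ h v = v) → ∃ c : k, v = c • v₀) ∧
    (∀ (b : V) (B : Subgroup H), b ∈ fixedM ρ M → (∀ x ∈ B, ρ x b = b) →
      B.index.Coprime A.index → ∀ h, ρ h b = b) := by
  obtain ⟨⟨v₀, hv₀⟩, h2⟩ := hc
  constructor
  · refine ⟨(v₀ : V), ?_⟩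
    intro v hv
    have hvW : v ∈ fixedM ρ M := fun x _ => hv x
    obtain ⟨c, hc⟩ := hv₀ ⟨v, hvW⟩ (by
      intro hb
      obtain ⟨h, rfl⟩ := QuotientGroup.mk_surjective hb
      apply Subtype.ext
      rw [quotRep_mk]
      exact hv h)
    exact ⟨c, congrArg Subtype.val hc⟩
  · intro b B hbW hB hcop h
    have h3 := h2 ⟨b, hbW⟩ (B.map (QuotientGroup.mk' M)) (by
      rintro _ ⟨x, hx, rfl⟩
      apply Subtype.ext
      exact hB x hx)
      (Nat.Coprime.coprime_dvd_left
        (Subgroup.index_map_dvd B (QuotientGroup.mk'_surjective M))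
        (Nat.Coprime.coprime_dvd_right
          (Subgroup.index_map_dvd A (QuotientGroup.mk'_surjective M)) hcop))
      (QuotientGroup.mk h)
    exact congrArg Subtype.val h3

theorem hyp_quot (ρ : H →* (V →ₗ[k] V)) (M : Subgroup H) [M.Normal] (A : Subgroup H) (a : V)
    (hspan : ∀ v : V, v ∈ Submodule.span k (Set.range (fun h : H => ρ h a)))
    (a' : V) (ha'W : a' ∈ fixedM ρ M) (hA : ∀ x ∈ A, ρ x a' = a')
    (π : V →ₗ[k] ↥(fixedM ρ M)) (hπ1 : ∀ w : ↥(fixedM ρ M), π (w : V) = w)
    (hπ2 : ∀ h : H, (π (ρ h a) : V) = ρ h a') :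
    (∀ x ∈ A.map (QuotientGroup.mk' M), quotRep ρ M x ⟨a', ha'W⟩ = ⟨a', ha'W⟩) ∧
    (∀ w : ↥(fixedM ρ M), w ∈ Submodule.span k
      (Set.range (fun hb : H ⧸ M => quotRep ρ M hb ⟨a', ha'W⟩))) := by
  constructor
  · rintro _ ⟨x, hx, rfl⟩
    apply Subtype.ext
    exact hA x hx
  · intro w
    have h1 : π (w : V) ∈ (Submodule.span k (Set.range (fun h : H => ρ h a))).map π :=
      Submodule.mem_map_of_mem (hspan (w : V))
    rw [hπ1, Submodule.map_span] at h1
    refine Submodule.span_mono ?_ h1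
    rintro _ ⟨_, ⟨h, rfl⟩, rfl⟩
    refine ⟨QuotientGroup.mk h, ?_⟩
    apply Subtype.ext
    rw [quotRep_mk]
    exact (hπ2 h).symm

end Basic


section Avg
variable {k : Type w} [Field k] {H : Type u} [Group H] [Finite H] {V : Type v} [AddCommGroup V]
  [Module k V]

/-- the sum of `ρ x` over a subgroup -/
noncomputable def sumOver (ρ : H →* (V →ₗ[k] V)) (M : Subgroup H) : V →ₗ[k] V :=
  letI : Fintype M := Fintype.ofFinite M
  ∑ x : M, ρ (x : H)

theorem sumOver_apply (ρ : H →* (V →ₗ[k] V)) (M : Subgroup H) (v : V) :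
    sumOver ρ M v = (letI : Fintype M := Fintype.ofFinite M; ∑ x : M, ρ (x : H) v) := by
  unfold sumOver
  simp [LinearMap.sum_apply]

theorem sumOver_left (ρ : H →* (V →ₗ[k] V)) (M : Subgroup H) (y : H) (hy : y ∈ M) (v : V) :
    ρ y (sumOver ρ M v) = sumOver ρ M v := by
  letI : Fintype M := Fintype.ofFinite M
  rw [sumOver_apply, map_sum]
  exact Fintype.sum_equiv (Equiv.mulLeft (⟨y, hy⟩ : M)) (fun x => ρ y (ρ (x : H) v))
    (fun x => ρ (x : H) v) (fun x => by
      show ρ y (ρ (x : H) v) = ρ (y * (x : H)) v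
      rw [rho_mul])

theorem sumOver_right (ρ : H →* (V →ₗ[k] V)) (M : Subgroup H) (y : H) (hy : y ∈ M) (v : V) :
    sumOver ρ M (ρ y v) = sumOver ρ M v := by
  letI : Fintype M := Fintype.ofFinite M
  rw [sumOver_apply, sumOver_apply]
  exact Fintype.sum_equiv (Equiv.mulRight (⟨y, hy⟩ : M)) (fun x => ρ (x : H) (ρ y v))
    (fun x => ρ (x : H) v) (fun x => by
      show ρ (x : H) (ρ y v) = ρ ((x : H) * y) v
      rw [rho_mul])

theorem sumOver_fixed (ρ : H →* (V →ₗ[k] V)) (M : Subgroup H) (w : V)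
    (hw : ∀ x ∈ M, ρ x w = w) : sumOver ρ M w = (Nat.card M : k) • w := by
  letI : Fintype M := Fintype.ofFinite M
  rw [sumOver_apply]
  have : ∀ x : M, ρ (x : H) w = w := fun x => hw x x.2
  simp only [this]
  rw [Finset.sum_const, Finset.card_univ, Nat.card_eq_fintype_card, Nat.cast_smul_eq_nsmul]

theorem sumOver_comm (ρ : H →* (V →ₗ[k] V)) (M : Subgroup H) [M.Normal] (h : H) (v : V) :
    ρ h (sumOver ρ M v) = sumOver ρ M (ρ h v) := by
  letI : Fintype M := Fintype.ofFinite M
  rw [sumOver_apply, sumOver_apply, map_sum]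
  exact Fintype.sum_equiv (MulAut.conjNormal h : M ≃* M).toEquiv (fun x => ρ h (ρ (x : H) v))
    (fun x => ρ (x : H) (ρ h v)) (fun x => by
      show ρ h (ρ (x : H) v) = ρ ((MulAut.conjNormal h x : M) : H) (ρ h v)
      rw [MulAut.conjNormal_apply, ← rho_mul, ← rho_mul]
      congr 2; group)

/-- in the `p'`-case a vector with coprime orbit is fixed by `M` -/
theorem mem_fixed_of_coprime (p : ℕ) [Fact p.Prime] [CharP k p] (ρ : H →* (V →ₗ[k] V))
    (M : Subgroup H) [hM : M.Normal] (hMp : (Nat.card M).Coprime p) (A B : Subgroup H)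
    (hcop : B.index.Coprime A.index) (a b : V)
    (hspan : ∀ v : V, v ∈ Submodule.span k (Set.range (fun h : H => ρ h a)))
    (hA : ∀ x ∈ A, ρ x a = a) (hB : ∀ x ∈ B, ρ x b = b) : b ∈ fixedM ρ M := by
  have hp : p.Prime := Fact.out
  have hcM : (Nat.card M : k) ≠ 0 := by
    intro h0
    rw [CharP.cast_eq_zero_iff k p] at h0
    exact (Nat.Prime.coprime_iff_not_dvd hp).mp hMp.symm h0
  have hcB : (Nat.card (B ⊓ M : Subgroup H) : k) ≠ 0 := by
    intro h0
    rw [CharP.cast_eq_zero_iff k p] at h0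
    exact (Nat.Prime.coprime_iff_not_dvd hp).mp hMp.symm
      (h0.trans (Subgroup.card_dvd_of_le inf_le_right))
  -- claim C
  have hC : ∀ m ∈ M, ∀ v : V, sumOver ρ (B ⊓ M) (ρ m v) = sumOver ρ (B ⊓ M) v := by
    intro m hm v
    have hle : Submodule.span k (Set.range (fun h : H => ρ h a)) ≤
        LinearMap.eqLocus ((sumOver ρ (B ⊓ M)).comp (ρ m)) (sumOver ρ (B ⊓ M)) := by
      rw [Submodule.span_le]
      rintro _ ⟨h, rfl⟩
      show sumOver ρ (B ⊓ M) (ρ m (ρ h a)) = sumOver ρ (B ⊓ M) (ρ h a)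
      obtain ⟨β, hβ, α, hα, rfl⟩ := Cfsg.Agent.S4314.exists_mul_of_coprime B A hcop h
      have e1 : ρ (β * α) a = ρ β a := by rw [rho_mul, hA α hα]
      rw [e1]
      -- decompose β⁻¹ m β inside M
      have hm'' : β⁻¹ * m * β ∈ M := by
        have := hM.conj_mem m hm β⁻¹
        simpa using this
      have hcopM : ((B.subgroupOf M).index).Coprime ((A.subgroupOf M).index) := by
        have d1 : (B.subgroupOf M).index ∣ B.index :=
          Cfsg.Agent.Helper24.relIndex_dvd_index_of_normal_right B M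
        have d2 : (A.subgroupOf M).index ∣ A.index :=
          Cfsg.Agent.Helper24.relIndex_dvd_index_of_normal_right A M
        exact Nat.Coprime.coprime_dvd_left d1 (Nat.Coprime.coprime_dvd_right d2 hcop)
      obtain ⟨y, hy, x, hx, hyx⟩ := Cfsg.Agent.S4314.exists_mul_of_coprime
        (B.subgroupOf M) (A.subgroupOf M) hcopM ⟨β⁻¹ * m * β, hm''⟩
      rw [Subgroup.mem_subgroupOf] at hy hx
      have hyx' : β⁻¹ * m * β = (y : H) * (x : H) := congrArg Subtype.val hyx
      have e2 : m * β = (β * (y : H) * β⁻¹) * β * (x : H) := by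
        have : m * β = β * (β⁻¹ * m * β) := by group
        rw [this, hyx']; group
      have e3 : ρ m (ρ β a) = ρ (β * (y : H) * β⁻¹) (ρ β a) := by
        rw [← rho_mul, e2, rho_mul, hA _ hx, rho_mul]
      rw [e3]
      apply sumOver_right
      refine ⟨B.mul_mem (B.mul_mem hβ hy) (B.inv_mem hβ), ?_⟩
      exact hM.conj_mem _ y.2 β
    exact hle (hspan v)
  -- the computation
  have h1 : sumOver ρ (B ⊓ M) b = (Nat.card (B ⊓ M : Subgroup H) : k) • b :=
    sumOver_fixed ρ (B ⊓ M) b (fun x hx => hB x hx.1)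
  have h2 : sumOver ρ (B ⊓ M) (sumOver ρ M b) =
      (Nat.card (B ⊓ M : Subgroup H) : k) • sumOver ρ M b :=
    sumOver_fixed ρ (B ⊓ M) _ (fun x hx => sumOver_left ρ M x hx.2 b)
  have h3 : sumOver ρ (B ⊓ M) (sumOver ρ M b) = (Nat.card M : k) • sumOver ρ (B ⊓ M) b := by
    letI : Fintype M := Fintype.ofFinite M
    rw [sumOver_apply ρ M b, map_sum]
    have : ∀ x : M, sumOver ρ (B ⊓ M) (ρ (x : H) b) = sumOver ρ (B ⊓ M) b :=
      fun x => hC x x.2 b
    simp only [this]
    rw [Finset.sum_const, Finset.card_univ, Nat.card_eq_fintype_card, Nat.cast_smul_eq_nsmul]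
  rw [h2, h1, smul_smul, mul_comm, ← smul_smul] at h3
  have h4 : sumOver ρ M b = (Nat.card M : k) • b := smul_right_injective V hcB h3
  have h5 : b = (Nat.card M : k)⁻¹ • sumOver ρ M b := by
    rw [h4, smul_smul, inv_mul_cancel₀ hcM, one_smul]
  rw [h5]
  intro x hx
  rw [map_smul, sumOver_left ρ M x hx]

end Avg


theorem main (p : ℕ) [Fact p.Prime] (k : Type w) [Field k] [CharP k p] :
    ∀ (n : ℕ) (H : Type u) [Group H] [Finite H], Nat.card H = n → IsPSolvable p H →
    ∀ (V : Type v) [AddCommGroup V] [Module k V] (ρ : H →* (V →ₗ[k] V)) (a : V)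
      (A : Subgroup H), (∀ x ∈ A, ρ x a = a) → A.index.Coprime p →
      (∀ v : V, v ∈ Submodule.span k (Set.range (fun h : H => ρ h a))) → Concl ρ A := by
  intro n
  induction n using Nat.strong_induction_on with
  | _ n ih =>
  intro H _ _ hn hsol V _ _ ρ a A hA hidx hspan
  rcases subsingleton_or_nontrivial H with hsub | hnt
  · -- base
    have h1 : ∀ h : H, ρ h = 1 := fun h => by rw [Subsingleton.elim h 1, map_one]
    constructor
    · refine ⟨a, ?_⟩
      intro v _
      have hle : Submodule.span k (Set.range (fun h : H => ρ h a)) ≤ Submodule.span k {a} := by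
        apply Submodule.span_mono
        rintro _ ⟨h, rfl⟩
        show ρ h a ∈ ({a} : Set V)
        rw [h1 h]; rfl
      obtain ⟨c, hc⟩ := Submodule.mem_span_singleton.mp (hle (hspan v))
      exact ⟨c, hc.symm⟩
    · intro b B _ _ h
      rw [h1 h]; rfl
  · obtain ⟨M, hMn, hM1, hMcase⟩ := Cfsg.Agent.Helper13.exists_normal_of_isPSolvable hsol
    haveI := hMn
    have hcard : Nat.card (H ⧸ M) < n := by
      have h1 := Subgroup.card_eq_card_quotient_mul_card_subgroup M
      rw [hn] at h1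
      have h2 : 1 < Nat.card M := by
        rcases Nat.lt_or_ge 1 (Nat.card M) with h | h
        · exact h
        · exfalso
          apply hM1
          have : Nat.card M = 1 := le_antisymm h Nat.card_pos
          exact Subgroup.card_eq_one.mp this
      have h3 : 0 < Nat.card (H ⧸ M) := Nat.card_pos
      nlinarith
    have hsolq : IsPSolvable p (H ⧸ M) := Cfsg.Agent.Helper13.isPSolvable_quotient hsol M
    have hidxq : (A.map (QuotientGroup.mk' M)).index.Coprime p :=
      Nat.Coprime.coprime_dvd_left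
        (Subgroup.index_map_dvd A (QuotientGroup.mk'_surjective M)) hidx
    rcases hMcase with hMp | hMp'
    · -- p-group case
      have hMA : M ≤ A := by
        rw [← Subgroup.relIndex_eq_one]
        have d1 : A.relIndex M ∣ A.index :=
          Cfsg.Agent.Helper24.relIndex_dvd_index_of_normal_right A M
        have d2 : A.relIndex M ∣ Nat.card M := Subgroup.relIndex_dvd_card A M
        obtain ⟨e, he⟩ := IsPGroup.iff_card.mp hMp
        rw [he] at d2
        have c1 : (A.relIndex M).Coprime (p ^ e) :=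
          Nat.Coprime.pow_right e (Nat.Coprime.coprime_dvd_left d1 hidx)
        exact Nat.Coprime.eq_one_of_dvd c1 d2
      have htriv := trivial_of_fix ρ a hspan M (fun x hx => hA x (hMA hx))
      have hall : ∀ v : V, v ∈ fixedM ρ M := fun v x hx => htriv x hx v
      obtain ⟨q1, q2⟩ := hyp_quot ρ M A a hspan a (hall a) hA
        (LinearMap.codRestrict (fixedM ρ M) LinearMap.id hall) (fun w => Subtype.ext rfl)
        (fun h => rfl)
      have hc := ih (Nat.card (H ⧸ M)) hcard (H ⧸ M) rfl hsolq ↥(fixedM ρ M) (quotRep ρ M)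
        ⟨a, hall a⟩ (A.map (QuotientGroup.mk' M)) q1 hidxq q2
      obtain ⟨t1, t2⟩ := transfer ρ M A hc
      exact ⟨t1, fun b B hB hcop => t2 b B (hall b) hB hcop⟩
    · -- p'-case
      have hp : p.Prime := Fact.out
      have hcM : (Nat.card M : k) ≠ 0 := by
        intro h0
        rw [CharP.cast_eq_zero_iff k p] at h0
        exact (Nat.Prime.coprime_iff_not_dvd hp).mp hMp'.symm h0
      obtain ⟨e, he⟩ : ∃ e : V →ₗ[k] V, e = (Nat.card M : k)⁻¹ • sumOver ρ M := ⟨_, rfl⟩
      have e1 : ∀ v : V, e v ∈ fixedM ρ M := by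
        intro v x hx
        rw [he, LinearMap.smul_apply, map_smul, sumOver_left ρ M x hx]
      have e2 : ∀ w ∈ fixedM ρ M, e w = w := by
        intro w hw
        rw [he, LinearMap.smul_apply, sumOver_fixed ρ M w hw, smul_smul, inv_mul_cancel₀ hcM,
          one_smul]
      have e3 : ∀ (h : H) (v : V), ρ h (e v) = e (ρ h v) := by
        intro h v
        rw [he, LinearMap.smul_apply, LinearMap.smul_apply, map_smul, sumOver_comm]
      have hAe : ∀ x ∈ A, ρ x (e a) = e a := by
        intro x hx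
        rw [e3, hA x hx]
      obtain ⟨q1, q2⟩ := hyp_quot ρ M A a hspan (e a) (e1 a) hAe
        (LinearMap.codRestrict (fixedM ρ M) e e1) (fun w => Subtype.ext (e2 w w.2))
        (fun h => (e3 h a).symm)
      have hc := ih (Nat.card (H ⧸ M)) hcard (H ⧸ M) rfl hsolq ↥(fixedM ρ M) (quotRep ρ M)
        ⟨e a, e1 a⟩ (A.map (QuotientGroup.mk' M)) q1 hidxq q2
      obtain ⟨t1, t2⟩ := transfer ρ M A hc
      exact ⟨t1, fun b B hB hcop =>
        t2 b B (mem_fixed_of_coprime p ρ M hMp' A B hcop a b hspan hA hB) hB hcop⟩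

/-- Let k be a field of prime characteristic p, H a finite p-soluble group and ρ a k-linear representation of H on V. Let a be a vector that is fixed by some Sylow p-subgroup of H and whose H-orbit spans V. Then the space of H-fixed vectors has dimension at most 1, and every vector b whose H-orbit has size coprime to the size of the orbit of a is fixed by H. -/
theorem result {k V H : Type*} [Field k] (p : ℕ) [Fact p.Prime] [CharP k p] [AddCommGroup V] [Module k V]
    [Group H] [Finite H] (hsol : Cfsg.IsPSolvable p H) (ρ : Representation k H V) (a : V)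
    (hfix : ∃ P : Sylow p H, ∀ x : H, x ∈ (P : Subgroup H) → ρ x a = a)
    (hspan : Submodule.span k {u : V | ∃ h : H, ρ h a = u} = ⊤) :
    Module.finrank k ρ.invariants ≤ 1 ∧
    ∀ b : V, (Nat.card {u : V | ∃ h : H, ρ h a = u}).Coprime (Nat.card {u : V | ∃ h : H, ρ h b = u}) → ∀ h : H, ρ h b = b := by
  obtain ⟨P, hP⟩ := hfix
  letI : MulAction H V := MulAction.compHom V ρ
  have horb : ∀ c : V, (MulAction.stabilizer H c).index =
      Nat.card {u : V | ∃ h : H, ρ h c = u} := by
    intro c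
    rw [MulAction.index_stabilizer, Nat.card_coe_set_eq]
    rfl
  have hA : ∀ x ∈ MulAction.stabilizer H a, ρ x a = a := fun x hx => hx
  have hPA : (P : Subgroup H) ≤ MulAction.stabilizer H a := fun x hx => hP x hx
  have hidx : (MulAction.stabilizer H a).index.Coprime p := by
    have d := Subgroup.index_dvd_of_le hPA
    have hp : p.Prime := Fact.out
    exact Nat.Coprime.coprime_dvd_left d
      ((Nat.Prime.coprime_iff_not_dvd hp).mpr P.not_dvd_index).symm
  have hspan' : ∀ v : V, v ∈ Submodule.span k (Set.range (fun h : H => ρ h a)) := by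
    intro v
    have : Set.range (fun h : H => ρ h a) = {u : V | ∃ h : H, ρ h a = u} := rfl
    rw [this, hspan]
    exact Submodule.mem_top
  obtain ⟨⟨v₀, hv₀⟩, h2⟩ := main p k (Nat.card H) H rfl hsol V ρ a
    (MulAction.stabilizer H a) hA hidx hspan'
  constructor
  · have hle : ρ.invariants ≤ Submodule.span k {v₀} := by
      intro v hv
      rw [Representation.mem_invariants] at hv
      obtain ⟨c, hc⟩ := hv₀ v hv
      exact Submodule.mem_span_singleton.mpr ⟨c, hc.symm⟩
    refine (Submodule.finrank_mono hle).trans ?_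
    exact (finrank_span_le_card ({v₀} : Set V)).trans (by simp)
  · intro b hcop h
    rw [← horb a, ← horb b] at hcop
    exact h2 b (MulAction.stabilizer H b) (fun x hx => hx) hcop.symm h

end Cfsg.Agent.S4176
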