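import Cfsg.Statements.S4355
import Mathlib
-- import your own Cfsg.Agent.* helpers here

set_option autoImplicit false
open Cfsg

namespace Cfsg.Agent.S4355

/-- Sylow-type conjugation inside an ambient subgroup `C`: a `p`-subgroup `T ≤ C` is conjugate,
by an element of `C`, into any subgroup `H` whose index in `C` is prime to `p`. -/
theorem conj_into {G : Type*} [Group G] [Finite G] {p : ℕ} [Fact p.Prime] (C H T : Subgroup G)
    (hTC : T ≤ C) (hT : IsPGroup p T) (hidx : ¬ p ∣ H.relIndex C) :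
    ∃ m ∈ C, ∀ t ∈ T, m⁻¹ * t * m ∈ H := by
  have hT' : IsPGroup p (T.subgroupOf C) := hT.comap_subtype
  obtain ⟨q, hq⟩ := hT'.nonempty_fixed_point_of_prime_not_dvd_card (↥C ⧸ H.subgroupOf C) hidx
  obtain ⟨m, rfl⟩ := QuotientGroup.mk_surjective q
  refine ⟨m, m.2, fun t ht => ?_⟩
  have h1 := MulAction.mem_fixedPoints.1 hq ⟨⟨t, hTC ht⟩, Subgroup.mem_subgroupOf.2 ht⟩
  have h2 : (((⟨t, hTC ht⟩ : ↥C) * m : ↥C) : ↥C ⧸ H.subgroupOf C) = (m : ↥C ⧸ H.subgroupOf C) := h1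
  rw [QuotientGroup.eq, Subgroup.mem_subgroupOf] at h2
  have h3 := H.inv_mem h2
  have e : ((((⟨t, hTC ht⟩ : ↥C) * m)⁻¹ * m : ↥C) : G)⁻¹ = (m : G)⁻¹ * t * m := by
    simp [mul_assoc]
  rwa [e] at h3

/-- Elements of a Sylow `2`-subgroup have `2`-power order. -/
theorem two_elt {G : Type*} [Group G] (S : Sylow 2 G) (s : G) (hs : s ∈ (S : Subgroup G)) :
    ∃ k : ℕ, orderOf s = 2 ^ k := by
  obtain ⟨k, hk⟩ := S.isPGroup' ⟨s, hs⟩
  have h1 : s ^ 2 ^ k = 1 := by simpa using congrArg Subtype.val hk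
  have h2 := orderOf_dvd_of_pow_eq_one h1
  obtain ⟨j, -, hj⟩ := (Nat.dvd_prime_pow Nat.prime_two).1 h2
  exact ⟨j, hj⟩

theorem two_pow {G : Type*} [Group G] (S : Sylow 2 G) (s : G) (hs : s ∈ (S : Subgroup G)) :
    ∃ k : ℕ, s ^ 2 ^ k = 1 := by
  obtain ⟨k, hk⟩ := S.isPGroup' ⟨s, hs⟩
  exact ⟨k, by simpa using congrArg Subtype.val hk⟩

/-- Every `2`-element is central in some Sylow `2`-subgroup. -/
theorem f0 {G : Type*} [Group G] [Finite G]
    (h : ∀ x : G, (∃ k : ℕ, orderOf x = 2 ^ k) →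
      ¬ 2 ∣ (Subgroup.centralizer ({x} : Set G)).index)
    (S : Sylow 2 G) (x : G) (hx : ∃ k : ℕ, orderOf x = 2 ^ k) :
    ∃ Q : Sylow 2 G, x ∈ (Q : Subgroup G) ∧ ∀ q ∈ (Q : Subgroup G), q * x = x * q := by
  have hidx := h x hx
  have hmemC : ∀ c : G, c ∈ Subgroup.centralizer ({x} : Set G) ↔ x * c = c * x := by
    intro c; rw [Subgroup.mem_centralizer_iff]; simp
  obtain ⟨m, -, hm⟩ := conj_into (⊤ : Subgroup G) (Subgroup.centralizer ({x} : Set G))
    (S : Subgroup G) le_top S.isPGroup' (by rwa [Subgroup.relIndex_top_right])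
  have hQC : ((m⁻¹ • S : Sylow 2 G) : Subgroup G) ≤ Subgroup.centralizer ({x} : Set G) := by
    intro q hq
    rw [Sylow.coe_subgroup_smul, Subgroup.mem_pointwise_smul_iff_inv_smul_mem] at hq
    have h1 : m * q * m⁻¹ ∈ (S : Subgroup G) := by simpa [MulAut.smul_def] using hq
    have h2 := hm _ h1
    have e : m⁻¹ * (m * q * m⁻¹) * m = q := by group
    rwa [e] at h2
  have hxC : Subgroup.zpowers x ≤ Subgroup.centralizer ({x} : Set G) := by
    rw [Subgroup.zpowers_le]; exact (hmemC x).2 rfl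
  obtain ⟨k, hk⟩ := hx
  have hxp : IsPGroup 2 (Subgroup.zpowers x) :=
    IsPGroup.of_card (n := k) (by rw [Nat.card_zpowers, hk])
  have hrel : ¬ 2 ∣ ((m⁻¹ • S : Sylow 2 G) : Subgroup G).relIndex
      (Subgroup.centralizer ({x} : Set G)) := by
    intro hd
    have h1 := Subgroup.relIndex_mul_index hQC
    exact (m⁻¹ • S : Sylow 2 G).not_dvd_index (h1 ▸ Dvd.dvd.mul_right hd _)
  obtain ⟨n, hn, hn'⟩ := conj_into (Subgroup.centralizer ({x} : Set G))
    ((m⁻¹ • S : Sylow 2 G) : Subgroup G) (Subgroup.zpowers x) hxC hxp hrel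
  have hnx := hn' x (Subgroup.mem_zpowers x)
  have hcomm : x * n = n * x := (hmemC n).1 hn
  have e : n⁻¹ * x * n = x := by rw [mul_assoc, hcomm, ← mul_assoc, inv_mul_cancel, one_mul]
  rw [e] at hnx
  exact ⟨m⁻¹ • S, hnx, fun q hq => ((hmemC q).1 (hQC hq)).symm⟩

/-- A `2`-element conjugate to its inverse is an involution (or trivial). -/
theorem r_inv {G : Type*} [Group G] [Finite G]
    (h : ∀ x : G, (∃ k : ℕ, orderOf x = 2 ^ k) →
      ¬ 2 ∣ (Subgroup.centralizer ({x} : Set G)).index)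
    (x g : G) (hx : ∃ k : ℕ, orderOf x = 2 ^ k) (hg : g * x * g⁻¹ = x⁻¹) : x * x = 1 := by
  classical
  by_contra hne
  have hmemC : ∀ c : G, c ∈ Subgroup.centralizer ({x} : Set G) ↔ Commute c x := by
    intro c; rw [Subgroup.mem_centralizer_iff]; simp [Commute, SemiconjBy, eq_comm]
  have hg' : g * x⁻¹ * g⁻¹ = x := by
    have e : g * x⁻¹ * g⁻¹ = (g * x * g⁻¹)⁻¹ := by group
    rw [e, hg, inv_inv]
  have hnorm : ∀ c ∈ Subgroup.centralizer ({x} : Set G),
      g * c * g⁻¹ ∈ Subgroup.centralizer ({x} : Set G) := by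
    intro c hc
    rw [hmemC] at hc ⊢
    have h1 : Commute (g * c * g⁻¹) (g * x⁻¹ * g⁻¹) := (Commute.conj_iff g).2 hc.inv_right
    rwa [hg'] at h1
  have hgC : g ∉ Subgroup.centralizer ({x} : Set G) := by
    intro hgc
    rw [hmemC] at hgc
    apply hne
    have h1 : g * x * g⁻¹ = x := by rw [hgc.eq, mul_assoc, mul_inv_cancel, mul_one]
    rw [h1] at hg
    calc x * x = x * x⁻¹ := by rw [← hg]
      _ = 1 := mul_inv_cancel x
  have hg2 : g * g ∈ Subgroup.centralizer ({x} : Set G) := by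
    rw [hmemC]
    have h1 : g * g * x * (g * g)⁻¹ = x := by
      have e : g * g * x * (g * g)⁻¹ = g * (g * x * g⁻¹) * g⁻¹ := by group
      rw [e, hg, hg']
    show g * g * x = x * (g * g)
    calc g * g * x = g * g * x * (g * g)⁻¹ * (g * g) := by group
      _ = x * (g * g) := by rw [h1]
  let f : G ⧸ Subgroup.centralizer ({x} : Set G) → G ⧸ Subgroup.centralizer ({x} : Set G) :=
    Quotient.map' (fun a => a * g⁻¹) (by
      intro a b hab
      rw [QuotientGroup.leftRel_apply] at hab ⊢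
      have h1 := hnorm _ hab
      have e : (a * g⁻¹)⁻¹ * (b * g⁻¹) = g * (a⁻¹ * b) * g⁻¹ := by group
      rw [e]; exact h1)
  have hf : Function.Involutive f := by
    intro q
    obtain ⟨a, rfl⟩ := QuotientGroup.mk_surjective q
    show ((a * g⁻¹ * g⁻¹ : G) : G ⧸ Subgroup.centralizer ({x} : Set G)) = (a : G ⧸ _)
    rw [QuotientGroup.eq]
    have e : (a * g⁻¹ * g⁻¹)⁻¹ * a = g * g := by simp [mul_assoc]
    rw [e]; exact hg2
  have hfix : ∀ q, f q ≠ q := by
    intro q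
    obtain ⟨a, rfl⟩ := QuotientGroup.mk_surjective q
    show ((a * g⁻¹ : G) : G ⧸ Subgroup.centralizer ({x} : Set G)) ≠ (a : G ⧸ _)
    rw [Ne, QuotientGroup.eq]
    have e : (a * g⁻¹)⁻¹ * a = g := by group
    rw [e]; exact hgC
  have hdvd : 2 ∣ Nat.card (G ⧸ Subgroup.centralizer ({x} : Set G)) := by
    have := Fintype.ofFinite (G ⧸ Subgroup.centralizer ({x} : Set G))
    have hσ : (hf.toPerm f) ^ 2 = 1 := by
      ext q
      rw [pow_two]
      exact hf q
    have hsupp : (hf.toPerm f).support = Finset.univ := by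
      ext q
      simp [hfix q]
    have h1 := Equiv.Perm.two_dvd_card_support hσ
    rw [hsupp, Finset.card_univ] at h1
    rwa [Nat.card_eq_fintype_card]
  exact h x hx hdvd

/-- Involutions of a Sylow `2`-subgroup commute. -/
theorem inv_comm {G : Type*} [Group G] [Finite G]
    (h : ∀ x : G, (∃ k : ℕ, orderOf x = 2 ^ k) →
      ¬ 2 ∣ (Subgroup.centralizer ({x} : Set G)).index)
    (S : Sylow 2 G) (t t' : G) (ht : t ∈ (S : Subgroup G)) (ht' : t' ∈ (S : Subgroup G))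
    (h1 : t * t = 1) (h2 : t' * t' = 1) : t * t' = t' * t := by
  have e1 : t⁻¹ = t := inv_eq_of_mul_eq_one_right h1
  have e2 : t'⁻¹ = t' := inv_eq_of_mul_eq_one_right h2
  have hinv : t * (t * t') * t⁻¹ = (t * t')⁻¹ := by
    rw [mul_inv_rev, e1, e2, ← mul_assoc, h1, one_mul]
  have h3 := r_inv h (t * t') t (two_elt S _ (Subgroup.mul_mem _ ht ht')) hinv
  calc t * t' = (t * t')⁻¹ := (inv_eq_of_mul_eq_one_right h3).symm
    _ = t' * t := by rw [mul_inv_rev, e1, e2]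

/-- The key lemma: if `s²` centralises `W` then so does `s`. -/
theorem key {G : Type*} [Group G] [Finite G]
    (h : ∀ x : G, (∃ k : ℕ, orderOf x = 2 ^ k) →
      ¬ 2 ∣ (Subgroup.centralizer ({x} : Set G)).index)
    (S : Sylow 2 G) (W : Set G) (hWS : ∀ f ∈ W, f ∈ (S : Subgroup G))
    (hIW : ∀ e ∈ (S : Subgroup G), e * e = 1 → e ∈ W)
    (hcomm : ∀ e ∈ (S : Subgroup G), e * e = 1 → ∀ f ∈ W, e * f = f * e)
    (s : G) (hs : s ∈ (S : Subgroup G)) (hs2 : ∀ f ∈ W, (s * s) * f = f * (s * s)) :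
    ∀ f ∈ W, s * f = f * s := by
  obtain ⟨Q, hsQ, hQc⟩ := f0 h S s (two_elt S s hs)
  have hmemC : ∀ c : G, c ∈ Subgroup.centralizer ({s * s} : Set G) ↔ (s * s) * c = c * (s * s) := by
    intro c; rw [Subgroup.mem_centralizer_iff]; simp
  have hQC : (Q : Subgroup G) ≤ Subgroup.centralizer ({s * s} : Set G) := by
    intro q hq
    rw [hmemC]
    have hc : Commute q s := hQc q hq
    exact (hc.mul_right hc).eq.symm
  have hTp : IsPGroup 2 ↥((S : Subgroup G) ⊓ Subgroup.centralizer ({s * s} : Set G)) :=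
    S.isPGroup'.to_le inf_le_left
  have hrel : ¬ 2 ∣ (Q : Subgroup G).relIndex (Subgroup.centralizer ({s * s} : Set G)) := by
    intro hd
    have h1 := Subgroup.relIndex_mul_index hQC
    exact Q.not_dvd_index (h1 ▸ Dvd.dvd.mul_right hd _)
  obtain ⟨m, hmC, hm⟩ := conj_into (Subgroup.centralizer ({s * s} : Set G)) (Q : Subgroup G)
    ((S : Subgroup G) ⊓ Subgroup.centralizer ({s * s} : Set G)) inf_le_right hTp hrel
  obtain ⟨g, hg⟩ := MulAction.exists_smul_eq G S Q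
  have hgS : ∀ q ∈ (Q : Subgroup G), g⁻¹ * q * g ∈ (S : Subgroup G) := by
    intro q hq
    rw [← hg, Sylow.coe_subgroup_smul, Subgroup.mem_pointwise_smul_iff_inv_smul_mem] at hq
    simpa [MulAut.smul_def] using hq
  have hWT : ∀ f ∈ W, f ∈ (S : Subgroup G) ⊓ Subgroup.centralizer ({s * s} : Set G) :=
    fun f hf => ⟨hWS f hf, (hmemC f).2 (hs2 f hf)⟩
  have hsT : s ∈ (S : Subgroup G) ⊓ Subgroup.centralizer ({s * s} : Set G) :=
    ⟨hs, (hmemC s).2 (mul_assoc s s s)⟩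
  -- the involutions of `S`
  let κ : {e : G // e ∈ (S : Subgroup G) ∧ e * e = 1} → {e : G // e ∈ (S : Subgroup G) ∧ e * e = 1} :=
    fun e => ⟨g⁻¹ * (m⁻¹ * e.1 * m) * g, hgS _ (hm _ (hWT _ (hIW _ e.2.1 e.2.2))), by
      have h1 := e.2.2
      calc g⁻¹ * (m⁻¹ * e.1 * m) * g * (g⁻¹ * (m⁻¹ * e.1 * m) * g)
          = g⁻¹ * (m⁻¹ * (e.1 * e.1) * m) * g := by group
        _ = 1 := by rw [h1]; group⟩
  have hκ : Function.Injective κ := by
    intro e1 e2 he
    have h1 := congrArg Subtype.val he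
    apply Subtype.ext
    simpa [κ] using h1
  have hκs : Function.Surjective κ := Finite.surjective_of_injective hκ
  have hs1Q : m⁻¹ * s * m ∈ (Q : Subgroup G) := hm s hsT
  have hmc : (s * s) * m = m * (s * s) := (hmemC m).1 hmC
  obtain ⟨s₁, hs₁⟩ : ∃ z : G, z = m⁻¹ * s * m := ⟨_, rfl⟩
  rw [← hs₁] at hs1Q
  have hcm : Commute s₁ s := hQc _ hs1Q
  have h11 : s₁ * s₁ = s * s := by
    have e : m⁻¹ * (s * s) * m = s * s := by
      rw [mul_assoc, hmc, ← mul_assoc, inv_mul_cancel, one_mul]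
    rw [hs₁, ← e]; group
  have hw : (s₁ * s⁻¹) * (s₁ * s⁻¹) = 1 := by
    have hc' : Commute s₁ s⁻¹ := hcm.inv_right
    calc (s₁ * s⁻¹) * (s₁ * s⁻¹) = s₁ * (s⁻¹ * s₁) * s⁻¹ := by simp only [mul_assoc]
      _ = s₁ * (s₁ * s⁻¹) * s⁻¹ := by rw [← hc'.eq]
      _ = (s₁ * s₁) * (s⁻¹ * s⁻¹) := by simp only [mul_assoc]
      _ = 1 := by rw [h11]; group
  have hwQ : s₁ * s⁻¹ ∈ (Q : Subgroup G) := Subgroup.mul_mem _ hs1Q (Subgroup.inv_mem _ hsQ)
  obtain ⟨e, he⟩ := hκs ⟨g⁻¹ * (s₁ * s⁻¹) * g, hgS _ hwQ, by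
      calc g⁻¹ * (s₁ * s⁻¹) * g * (g⁻¹ * (s₁ * s⁻¹) * g)
          = g⁻¹ * ((s₁ * s⁻¹) * (s₁ * s⁻¹)) * g := by group
        _ = 1 := by rw [hw]; group⟩
  have he' : m⁻¹ * e.1 * m = s₁ * s⁻¹ := by
    have h1 := congrArg Subtype.val he
    simpa [κ] using h1
  intro f hf
  have hfQ := hm f (hWT f hf)
  have c2 : (m⁻¹ * f * m) * s = s * (m⁻¹ * f * m) := hQc _ hfQ
  have c3 : e.1 * f = f * e.1 := hcomm e.1 e.2.1 e.2.2 f hf
  obtain ⟨u, hu⟩ : ∃ z : G, z = m * s * m⁻¹ := ⟨_, rfl⟩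
  have he2 : e.1 = s * u⁻¹ := by
    have e0 : e.1 = m * (m⁻¹ * e.1 * m) * m⁻¹ := by group
    rw [e0, he', hs₁, hu]; group
  have hsu : s = e.1 * u := by rw [he2]; group
  have hfu : f * u = u * f := by
    calc f * u = m * ((m⁻¹ * f * m) * s) * m⁻¹ := by rw [hu]; group
      _ = m * (s * (m⁻¹ * f * m)) * m⁻¹ := by rw [c2]
      _ = u * f := by rw [hu]; group
  calc s * f = e.1 * u * f := by rw [← hsu]
    _ = e.1 * (f * u) := by rw [mul_assoc, ← hfu]
    _ = f * (e.1 * u) := by rw [← mul_assoc, c3, mul_assoc]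
    _ = f * s := by rw [← hsu]


/-- If every element of 2-power order of a finite group has a conjugacy class of odd size, then the Sylow 2-subgroups of the group are abelian. -/
theorem result {G : Type*} [Group G] [Finite G]
    (h : ∀ x : G, (∃ k : ℕ, orderOf x = 2 ^ k) → ¬ 2 ∣ (Subgroup.centralizer ({x} : Set G)).index) (P : Sylow 2 G) :
    IsMulCommutative P := by
  have hA : ∀ k : ℕ, ∀ s ∈ (P : Subgroup G), s ^ 2 ^ k = 1 →
      ∀ f ∈ (P : Subgroup G), f * f = 1 → s * f = f * s := by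
    intro k
    induction k with
    | zero =>
      intro s _ hs1 f _ _
      rw [pow_zero, pow_one] at hs1
      rw [hs1, one_mul, mul_one]
    | succ k ih =>
      intro s hs hsk f hf hf1
      have hss : (s * s) ^ 2 ^ k = 1 := by
        rw [← pow_two, ← pow_mul, ← pow_succ']; exact hsk
      have h2 := ih (s * s) (Subgroup.mul_mem _ hs hs) hss
      exact key h P {f | f ∈ (P : Subgroup G) ∧ f * f = 1} (fun f hf => hf.1)
        (fun e he he1 => ⟨he, he1⟩)
        (fun e he he1 f hf => inv_comm h P e f he hf.1 he1 hf.2) s hs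
        (fun f hf => h2 f hf.1 hf.2) f ⟨hf, hf1⟩
  have hB : ∀ k : ℕ, ∀ s ∈ (P : Subgroup G), s ^ 2 ^ k = 1 →
      ∀ f ∈ (P : Subgroup G), s * f = f * s := by
    intro k
    induction k with
    | zero =>
      intro s _ hs1 f _
      rw [pow_zero, pow_one] at hs1
      rw [hs1, one_mul, mul_one]
    | succ k ih =>
      intro s hs hsk f hf
      have hss : (s * s) ^ 2 ^ k = 1 := by
        rw [← pow_two, ← pow_mul, ← pow_succ']; exact hsk
      have h2 := ih (s * s) (Subgroup.mul_mem _ hs hs) hss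
      exact key h P ((P : Subgroup G) : Set G) (fun f hf => hf) (fun e he _ => he)
        (fun e he he1 f hf => by
          obtain ⟨j, hj⟩ := two_pow P f hf
          exact (hA j f hf hj e he he1).symm) s hs
        (fun f hf => h2 f hf) f hf
  refine ⟨⟨fun a b => Subtype.ext ?_⟩⟩
  obtain ⟨j, hj⟩ := two_pow P a.1 a.2
  exact hB j a.1 a.2 hj b.1 b.2

end Cfsg.Agent.S4355
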