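import Cfsg.Statements.S4208
import Cfsg.Agent.S4207
import Mathlib

set_option autoImplicit false
open Cfsg

namespace Cfsg.Agent.S4208

theorem mem_frattini_iff {P : Type*} [Group P] (g : P) :
    g ∈ frattini P ↔ ∀ M : Subgroup P, IsCoatom M → g ∈ M := by
  simp [frattini, Order.radical, Subgroup.mem_iInf]

/-- a maximal subgroup of a finite `p`-group is normal of index `p`. -/
theorem index_coatom {P : Type*} [Group P] [Finite P] {p : ℕ} [Fact p.Prime] (hP : IsPGroup p P)
    (M : Subgroup P) (hM : IsCoatom M) : M.Normal ∧ M.index = p := by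
  have hp : p.Prime := Fact.out
  have hnil : Group.IsNilpotent P := hP.isNilpotent
  have hMn : M.Normal := by
    have q := (Group.isNilpotent_of_finite_tfae (G := P)).out 0 2
    exact q.mp hnil M hM
  refine ⟨hMn, ?_⟩
  obtain ⟨k, hk⟩ := IsPGroup.iff_card.mp (hP.to_quotient M)
  have hk0 : k ≠ 0 := by
    rintro rfl
    have h1 : M.index = 1 := by
      rw [pow_zero] at hk
      exact hk
    exact hM.1 (Subgroup.index_eq_one.mp h1)
  obtain ⟨K, hK⟩ := Sylow.exists_subgroup_card_pow_prime p (G := P ⧸ M) (n := 1)
    (by rw [hk, pow_one]; exact dvd_pow_self p hk0)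
  have hsurj := QuotientGroup.mk'_surjective M
  have h1 : M ≤ K.comap (QuotientGroup.mk' M) := by
    intro x hx
    rw [Subgroup.mem_comap]
    have h0 : QuotientGroup.mk' M x = 1 := (QuotientGroup.eq_one_iff x).mpr hx
    rw [h0]
    exact K.one_mem
  have h2 : K.comap (QuotientGroup.mk' M) ≠ M := by
    intro heq
    have h3 : K = ⊥ := by
      rw [← Subgroup.map_comap_eq_self_of_surjective hsurj K, heq, Subgroup.map_eq_bot_iff,
        QuotientGroup.ker_mk']
    rw [h3, Subgroup.card_bot, pow_one] at hK
    have := hp.one_lt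
    omega
  have h3 := hM.2 _ (lt_of_le_of_ne h1 (Ne.symm h2))
  have h4 : K = ⊤ := by
    rw [← Subgroup.map_comap_eq_self_of_surjective hsurj K, h3,
      Subgroup.map_top_of_surjective _ hsurj]
  rw [h4, Subgroup.card_top, pow_one] at hK
  exact hK

/-- the Frattini quotient of a finite `p`-group is elementary abelian. -/
theorem frattini_quot_props {P : Type*} [Group P] [Finite P] {p : ℕ} [Fact p.Prime]
    (hP : IsPGroup p P) :
    (∀ a b : P, a * b * a⁻¹ * b⁻¹ ∈ frattini P) ∧ (∀ a : P, a ^ p ∈ frattini P) := by
  constructor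
  · intro a b
    rw [mem_frattini_iff]
    intro M hM
    obtain ⟨hMn, hidx⟩ := index_coatom hP M hM
    have hcyc : IsCyclic (P ⧸ M) := isCyclic_of_prime_card (p := p) hidx
    obtain ⟨g, hg⟩ := hcyc.exists_generator
    obtain ⟨i, hi⟩ := Subgroup.mem_zpowers_iff.mp (hg (a : P ⧸ M))
    obtain ⟨j, hj⟩ := Subgroup.mem_zpowers_iff.mp (hg (b : P ⧸ M))
    have hab : (a : P ⧸ M) * b = b * a := by
      rw [← hi, ← hj, ← zpow_add, ← zpow_add, add_comm]
    rw [← QuotientGroup.eq_one_iff]
    simp only [QuotientGroup.mk_mul, QuotientGroup.mk_inv]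
    rw [hab]
    group
  · intro a
    rw [mem_frattini_iff]
    intro M hM
    obtain ⟨hMn, hidx⟩ := index_coatom hP M hM
    rw [← hidx]
    exact Subgroup.pow_index_mem M a

/-- number of generating `r`-tuples of an `r`-dimensional `𝔽_p`-space. -/
theorem card_gen_additive {V : Type*} [AddCommGroup V] [Finite V] {p r : ℕ} [Fact p.Prime]
    [Module (ZMod p) V] (hV : Nat.card V = p ^ r) :
    Nat.card {s : Fin r → V // AddSubgroup.closure (Set.range s) = ⊤} =
      ∏ i ∈ Finset.range r, (p ^ r - p ^ i) := by
  have hp : p.Prime := Fact.out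
  have hfr : Module.finrank (ZMod p) V = r := by
    have h1 := Module.natCard_eq_pow_finrank (K := ZMod p) (V := V)
    rw [hV, Nat.card_zmod] at h1
    exact (Nat.pow_right_injective hp.two_le h1).symm
  have hiff : ∀ s : Fin r → V,
      AddSubgroup.closure (Set.range s) = ⊤ ↔ LinearIndependent (ZMod p) s := by
    intro s
    have hspan : (Submodule.span (ZMod p) (Set.range s)).toAddSubgroup =
        AddSubgroup.closure (Set.range s) := by
      apply le_antisymm
      · have h1 : Submodule.span (ZMod p) (Set.range s) ≤
            AddSubgroup.toZModSubmodule p (AddSubgroup.closure (Set.range s)) :=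
          Submodule.span_le.mpr AddSubgroup.subset_closure
        exact fun x hx => h1 hx
      · exact (AddSubgroup.closure_le _).mpr Submodule.subset_span
    constructor
    · intro h
      apply linearIndependent_of_top_le_span_of_card_eq_finrank
      · rw [top_le_iff, ← Submodule.toAddSubgroup_inj, hspan, h]
        rfl
      · rw [Fintype.card_fin, hfr]
    · intro h
      have h1 := h.span_eq_top_of_card_eq_finrank' (by rw [Fintype.card_fin, hfr])
      rw [← hspan, h1]
      rfl
  rw [Nat.card_congr (Equiv.subtypeEquivRight hiff),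
    card_linearIndependent (K := ZMod p) (V := V) (k := r) (by rw [hfr]), hfr, ZMod.card,
    Fin.prod_univ_eq_prod_range (fun i => p ^ r - p ^ i) r]

/-- number of generating `r`-tuples of an elementary abelian group of order `p^r`. -/
theorem card_gen_mul {Q : Type*} [Group Q] [Finite Q] {p r : ℕ} [Fact p.Prime]
    (hcomm : ∀ a b : Q, a * b = b * a) (hpow : ∀ a : Q, a ^ p = 1) (hQ : Nat.card Q = p ^ r) :
    Nat.card {y : Fin r → Q // Subgroup.closure (Set.range y) = ⊤} =
      ∏ i ∈ Finset.range r, (p ^ r - p ^ i) := by
  letI : CommGroup Q := { ‹Group Q› with mul_comm := hcomm }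
  letI : Module (ZMod p) (Additive Q) :=
    AddCommGroup.zmodModule (n := p) (G := Additive Q)
      (fun x => congrArg Additive.ofMul (hpow (Additive.toMul x)))
  have hV : Nat.card (Additive Q) = p ^ r := hQ
  rw [← card_gen_additive (V := Additive Q) hV]
  refine Nat.card_congr (Equiv.subtypeEquiv (Equiv.refl _) ?_)
  intro y
  have h1 := Subgroup.toAddSubgroup_closure (Set.range y)
  have h2 : (Additive.toMul ⁻¹' Set.range y : Set (Additive Q)) =
      Set.range (fun i => Additive.ofMul (y i)) := by
    ext z
    simp only [Set.mem_preimage, Set.mem_range]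
    constructor
    · rintro ⟨i, hi⟩
      exact ⟨i, by rw [hi]; rfl⟩
    · rintro ⟨i, hi⟩
      exact ⟨i, by rw [← hi]; rfl⟩
  rw [h2] at h1
  constructor
  · intro h
    rw [h] at h1
    exact h1.symm.trans rfl
  · intro h
    have h3 : AddSubgroup.closure (Set.range fun i => Additive.ofMul (y i)) = ⊤ := h
    rw [h3] at h1
    exact Subgroup.toAddSubgroup.injective (h1.trans rfl)

/-- Let `P` be a group of order `p^n` whose Frattini subgroup has index `p^r`. Then the order of the automorphism group of `P` divides `p^(r(n-r)) · (p^r - 1)(p^r - p) ⋯ (p^r - p^(r-1))`. -/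
theorem result {P : Type*} [Group P] [Finite P] {p n r : ℕ} [Fact p.Prime] (hP : Nat.card P = p ^ n) (hr : (frattini P).index = p ^ r) : Nat.card (MulAut P) ∣ p ^ (r * (n - r)) * ∏ i ∈ Finset.range r, (p ^ r - p ^ i) := by
  classical
  have hp : p.Prime := Fact.out
  have hPp : IsPGroup p P := IsPGroup.of_card hP
  obtain ⟨hrn, hΦ⟩ := Cfsg.Agent.S4207.card_frattini hP hr
  obtain ⟨hcomm0, hpow0⟩ := frattini_quot_props hPp
  have hQcard : Nat.card (P ⧸ frattini P) = p ^ r := hr
  have hcomm : ∀ a b : P ⧸ frattini P, a * b = b * a := by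
    intro a b
    obtain ⟨a, rfl⟩ := QuotientGroup.mk_surjective a
    obtain ⟨b, rfl⟩ := QuotientGroup.mk_surjective b
    have h := hcomm0 a b
    rw [← QuotientGroup.eq_one_iff] at h
    simp only [QuotientGroup.mk_mul, QuotientGroup.mk_inv] at h
    calc (a : P ⧸ frattini P) * b
        = (a * b * (a : P ⧸ frattini P)⁻¹ * (b : P ⧸ frattini P)⁻¹) * (b * a) := by group
      _ = b * a := by rw [h, one_mul]
  have hpow : ∀ a : P ⧸ frattini P, a ^ p = 1 := by
    intro a
    obtain ⟨a, rfl⟩ := QuotientGroup.mk_surjective a
    rw [← QuotientGroup.mk_pow, QuotientGroup.eq_one_iff]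
    exact hpow0 a
  have hTbar := card_gen_mul hcomm hpow hQcard
  let T : SubMulAction (MulAut P) (Fin r → P) :=
    { carrier := {y | Subgroup.closure (Set.range y) = ⊤}
      smul_mem' := by
        intro α y hy
        have hy' : Subgroup.closure (Set.range y) = ⊤ := hy
        show Subgroup.closure (Set.range (α • y)) = ⊤
        have h1 : Set.range (α • y) = (α : P →* P) '' Set.range y := by
          rw [← Set.range_comp]
          rfl
        rw [h1, ← MonoidHom.map_closure, hy']
        exact Subgroup.map_top_of_surjective _ α.surjective }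
  have hfree : ∀ (α : MulAut P) (y : T), α • y = y → α = 1 := by
    intro α y hαy
    exact Cfsg.Agent.S4207.eq_one_of_fix y.1 y.2 α
      (fun i => congrFun (congrArg Subtype.val hαy) i)
  have hfinT : Finite T := Finite.of_injective (fun y : T => (y : Fin r → P)) Subtype.val_injective
  have hdvd := Cfsg.Agent.S4207.card_dvd_of_free (A := MulAut P) (X := T) hfree
  have hT : Nat.card T = p ^ (r * (n - r)) * ∏ i ∈ Finset.range r, (p ^ r - p ^ i) := by
    let s : P ⧸ frattini P → P := Quotient.out
    have hs : ∀ q : P ⧸ frattini P, (QuotientGroup.mk (s q) : P ⧸ frattini P) = q :=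
      fun q => Quotient.out_eq' q
    have hmk : ∀ (z : {yb : Fin r → P ⧸ frattini P // Subgroup.closure (Set.range yb) = ⊤} ×
        (Fin r → frattini P)) (i : Fin r),
        (QuotientGroup.mk ((z.2 i : P) * s (z.1.1 i)) : P ⧸ frattini P) = z.1.1 i := by
      intro z i
      rw [QuotientGroup.mk_mul, hs, (QuotientGroup.eq_one_iff _).mpr (z.2 i).2, one_mul]
    have e : T ≃ {yb : Fin r → P ⧸ frattini P // Subgroup.closure (Set.range yb) = ⊤} ×
        (Fin r → frattini P) :=
      { toFun := fun y => (⟨fun i => QuotientGroup.mk (y.1 i), by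
            have hy : Subgroup.closure (Set.range y.1) = ⊤ := y.2
            have h1 : Set.range (fun i => (QuotientGroup.mk (y.1 i) : P ⧸ frattini P)) =
                (QuotientGroup.mk' (frattini P)) '' Set.range y.1 := by
              rw [← Set.range_comp]
              rfl
            rw [h1, ← MonoidHom.map_closure, hy]
            exact Subgroup.map_top_of_surjective _ (QuotientGroup.mk'_surjective _)⟩,
          fun i => ⟨y.1 i * (s (QuotientGroup.mk (y.1 i)))⁻¹, by
            rw [← QuotientGroup.eq_one_iff, QuotientGroup.mk_mul, QuotientGroup.mk_inv, hs]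
            simp⟩)
        invFun := fun z => ⟨fun i => (z.2 i : P) * s (z.1.1 i), by
            apply Cfsg.Agent.S4207.closure_eq_top_of_map
            have h1 : (fun i => (QuotientGroup.mk ((z.2 i : P) * s (z.1.1 i)) :
                P ⧸ frattini P)) = z.1.1 := funext (hmk z)
            rw [h1]
            exact z.1.2⟩
        left_inv := fun y => by
          apply Subtype.ext
          funext i
          simp
        right_inv := fun z => by
          apply Prod.ext
          · apply Subtype.ext
            funext i
            exact hmk z i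
          · funext i
            apply Subtype.ext
            show (z.2 i : P) * s (z.1.1 i) *
              (s (QuotientGroup.mk ((z.2 i : P) * s (z.1.1 i))))⁻¹ = z.2 i
            rw [hmk z i]
            simp }
    rw [Nat.card_congr e, Nat.card_prod, hTbar, Nat.card_fun, hΦ, Nat.card_fin, ← pow_mul,
      mul_comm, mul_comm (n - r) r]
  rw [← hT]
  exact hdvd

end Cfsg.Agent.S4208
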