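import Mathlib
import Cfsg.Statements.S4238
import Cfsg.Agent.S0071
import Cfsg.Agent.S0072
import Cfsg.Agent.S0132
import Cfsg.Agent.S0577
import Cfsg.Agent.Helper11.CN

set_option autoImplicit false
open Cfsg

namespace Cfsg.Agent.S4238

/-- a homomorphic image of a group with a normal `p`-complement has one -/
theorem npc_of_surj {H K : Type*} [Group H] [Group K] [Finite H] [Finite K] (p : ℕ)
    [Fact p.Prime] (f : H →* K) (hf : Function.Surjective f)
    (h : Cfsg.HasNormalPComplement p H) : Cfsg.HasNormalPComplement p K := by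
  rw [S0072.npc_iff] at h ⊢
  obtain ⟨N, hN, hcop, k, hk⟩ := h
  refine ⟨N.map f, Subgroup.Normal.map hN f hf,
    Nat.Coprime.coprime_dvd_left (N.card_map_dvd f) hcop, ?_⟩
  have h2 : (N.map f).index ∣ p ^ k := by rw [← hk]; exact N.index_map_dvd hf
  obtain ⟨j, -, hj⟩ := (Nat.dvd_prime_pow Fact.out).mp h2
  exact ⟨j, hj⟩

theorem exists_orderOf_eq_exponent_of_pgroup {K : Type*} [Group K] [Finite K] (p : ℕ)
    [Fact p.Prime] (k : ℕ) (hK : Nat.card K = p ^ k) : ∃ x : K, orderOf x = Monoid.exponent K := by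
  obtain ⟨x, hx⟩ := Finite.exists_max (fun y : K => orderOf y)
  refine ⟨x, Nat.dvd_antisymm (Monoid.order_dvd_exponent x)
    (Monoid.exponent_dvd_of_forall_pow_eq_one (fun y => ?_))⟩
  have hy : orderOf y ∣ p ^ k := hK ▸ orderOf_dvd_natCard y
  have hx' : orderOf x ∣ p ^ k := hK ▸ orderOf_dvd_natCard x
  obtain ⟨i, -, hi⟩ := (Nat.dvd_prime_pow Fact.out).mp hx'
  obtain ⟨j, -, hj⟩ := (Nat.dvd_prime_pow Fact.out).mp hy
  have hle := hx y
  rw [hi, hj] at hle
  have hji : j ≤ i := (Nat.pow_le_pow_iff_right (Fact.out : p.Prime).one_lt).mp hle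
  have hdvd : orderOf y ∣ orderOf x := by rw [hi, hj]; exact pow_dvd_pow p hji
  exact orderOf_dvd_iff_pow_eq_one.mp hdvd

theorem cent_of_npc {G' : Type*} [Group G'] [Finite G'] (p : ℕ) [Fact p.Prime]
    (h : Cfsg.HasNormalPComplement p G') (Q : Subgroup G') (hQ : IsPGroup p Q) (g : G')
    (hg : g ∈ Subgroup.normalizer (Q : Set G')) (hcop : (orderOf g).Coprime p) :
    g ∈ Subgroup.centralizer (Q : Set G') := by
  obtain ⟨N, hN, hcopN, k, hk⟩ := (S0072.npc_iff p).mp h
  obtain ⟨P, hQP⟩ := hQ.exists_le_sylow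
  exact (S0071.result P).mp ⟨N, hN, S0071.compl_of_data p P N hcopN k hk⟩ Q hQP g hg hcop

theorem comm_mem_of_quot_npc {K : Type*} [Group K] [Finite K] (p : ℕ) [Fact p.Prime]
    (M U : Subgroup K) [M.Normal] [hUn : U.Normal] (hU : IsPGroup p U)
    (h : Cfsg.HasNormalPComplement p (K ⧸ M)) (c : K) (hc : (orderOf c).Coprime p) :
    ∀ u ∈ U, c * u * c⁻¹ * u⁻¹ ∈ M := by
  intro u hu
  have hQ : IsPGroup p (U.map (QuotientGroup.mk' M)) := hU.map _
  haveI : (U.map (QuotientGroup.mk' M)).Normal :=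
    Subgroup.Normal.map hUn _ (QuotientGroup.mk'_surjective M)
  have hcop : (orderOf (QuotientGroup.mk' M c)).Coprime p :=
    Nat.Coprime.coprime_dvd_left (orderOf_map_dvd _ c) hc
  have h1 := cent_of_npc p h (U.map (QuotientGroup.mk' M)) hQ (QuotientGroup.mk' M c)
    (by rw [Subgroup.normalizer_eq_top]; trivial) hcop
  have h2 := h1 (QuotientGroup.mk' M u) (Subgroup.mem_map_of_mem _ hu)
  rw [← QuotientGroup.eq_one_iff]
  show (QuotientGroup.mk' M (c * u * c⁻¹ * u⁻¹)) = 1
  rw [map_mul, map_mul, map_mul, map_inv, map_inv, ← h2]; group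

theorem npc_of_quot {K : Type*} [Group K] [Finite K] (p : ℕ) [Fact p.Prime] (M : Subgroup K)
    [M.Normal] (hM : (Nat.card M).Coprime p) (h : Cfsg.HasNormalPComplement p (K ⧸ M)) :
    Cfsg.HasNormalPComplement p K := by
  have hp : p.Prime := Fact.out
  rw [S0072.npc_iff] at h ⊢
  obtain ⟨L, hL, hcop, k, hk⟩ := h
  refine ⟨L.comap (QuotientGroup.mk' M), hL.comap _, ?_, k, ?_⟩
  · rw [Nat.coprime_comm]
    apply (Nat.Prime.coprime_iff_not_dvd hp).mpr
    intro hdvd
    obtain ⟨t, ht⟩ := exists_prime_orderOf_dvd_card' p hdvd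
    have ht' : orderOf (t : K) = p := by rw [Subgroup.orderOf_coe]; exact ht
    have h1 : orderOf (QuotientGroup.mk' M (t : K)) ∣ p := ht' ▸ orderOf_map_dvd _ (t : K)
    have h2 : orderOf (QuotientGroup.mk' M (t : K)) ∣ Nat.card L :=
      Subgroup.orderOf_dvd_natCard L t.2
    have h3 := Nat.dvd_gcd h1 h2
    rw [((Nat.coprime_comm.mp hcop : Nat.Coprime p (Nat.card L)) : Nat.gcd _ _ = 1)] at h3
    have h4 : (t : K) ∈ M :=
      (QuotientGroup.eq_one_iff _).mp (orderOf_eq_one_iff.mp (Nat.dvd_one.mp h3))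
    have h5 : p ∣ Nat.card M := ht' ▸ Subgroup.orderOf_dvd_natCard M h4
    exact (Nat.Prime.coprime_iff_not_dvd hp).mp (Nat.coprime_comm.mp hM) h5
  · rw [Subgroup.index_comap_of_surjective _ (QuotientGroup.mk'_surjective M)]; exact hk

theorem commute_in_nilpotent {G : Type*} [Group G] (X : Subgroup G) (hX : Group.IsNilpotent X)
    (x y : G) (hx : x ∈ X) (hy : y ∈ X) (a b : ℕ) (hab : a.Coprime b) (hxa : x ^ a = 1)
    (hyb : y ^ b = 1) : x * y = y * x := by
  haveI := hX
  have h := Helper11.commute_of_nilpotent_coprime X ⟨x, hx⟩ ⟨y, hy⟩ a b hab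
    (Subtype.ext (by simpa using hxa)) (Subtype.ext (by simpa using hyb))
  exact congrArg Subtype.val h

theorem le_normalizer_of_conj {G : Type*} [Group G] (A M : Subgroup G)
    (h : ∀ x ∈ A, ∀ m ∈ M, x * m * x⁻¹ ∈ M) : A ≤ Subgroup.normalizer (M : Set G) := by
  intro x hx
  rw [Subgroup.mem_normalizer_iff]
  intro m
  constructor
  · exact h x hx m
  · intro hm
    have h1 := h x⁻¹ (inv_mem hx) _ hm
    have e : x⁻¹ * (x * m * x⁻¹) * x⁻¹⁻¹ = m := by group
    rw [e] at h1; exact h1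

theorem no_exp_elt {K : Type*} [Group K] [Finite K] (p : ℕ) [Fact p.Prime]
    (h1 : ¬ Cfsg.HasNormalPComplement p K)
    (h2 : ∀ H : Subgroup K, H ≠ ⊤ → Group.IsNilpotent H)
    (h3 : ∀ (M : Subgroup K) [M.Normal], M ≠ ⊥ → Cfsg.HasNormalPComplement p (K ⧸ M)) :
    Cfsg.pPrimeCore p K = ⊥ ∧ ¬ ∃ k : K, orderOf k = Monoid.exponent K := by
  have hp : p.Prime := Fact.out
  have hQ : ∀ M : Subgroup K, M.Normal → (Nat.card M).Coprime p → M = ⊥ := by
    intro M hM hcop
    by_contra hne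
    haveI := hM
    exact h1 (npc_of_quot p M hcop (h3 M hne))
  refine ⟨?_, ?_⟩
  · unfold Cfsg.pPrimeCore
    rw [sSup_eq_bot]
    rintro M ⟨hM, hcop⟩
    exact hQ M hM hcop
  rintro ⟨k, hk⟩
  obtain ⟨-, -, hPn⟩ := S0132.result h1 (fun H hH => S0577.npc_of_nilpotent p (h2 H hH))
  obtain ⟨P⟩ : Nonempty (Sylow p K) := inferInstance
  obtain ⟨U, hUdef⟩ : ∃ U : Subgroup K, U = (P : Subgroup K) := ⟨_, rfl⟩
  haveI hUn : U.Normal := hUdef ▸ hPn P
  have hUp : IsPGroup p U := hUdef ▸ P.2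
  obtain ⟨a, ha⟩ := hUp.exists_card_eq
  obtain ⟨m, hmdef⟩ : ∃ m, m = U.index := ⟨_, rfl⟩
  have hmcop : m.Coprime p := by
    rw [hmdef, hUdef]
    exact Nat.Coprime.symm ((Nat.Prime.coprime_iff_not_dvd hp).mpr P.not_dvd_index)
  have hUne : U ≠ ⊥ := by
    intro hbot
    apply h1
    rw [S0072.npc_iff]
    refine ⟨⊤, inferInstance, ?_, 0, by simp⟩
    rw [Subgroup.card_top, ← Subgroup.index_bot, ← hbot, ← hmdef]; exact hmcop
  have ha0 : a ≠ 0 := by
    rintro rfl
    rw [pow_zero] at ha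
    exact hUne (Subgroup.card_eq_one.mp ha)
  have hpowU : ∀ u ∈ U, u ^ (p ^ a) = 1 := by
    intro u hu
    have h : (⟨u, hu⟩ : U) ^ Nat.card U = 1 := pow_card_eq_one'
    rw [ha] at h; exact congrArg Subtype.val h
  have hpowm : ∀ x : K, x ^ m ∈ U := by
    intro x
    rw [← QuotientGroup.eq_one_iff, QuotientGroup.mk_pow, hmdef, Subgroup.index_eq_card]
    exact pow_card_eq_one'
  -- the centralizer of U has no nontrivial p'-elements
  have hCU : ∀ x : K, x ^ m = 1 → (∀ u ∈ U, x * u = u * x) → x = 1 := by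
    intro x hxm hxU
    obtain ⟨C, hCdef⟩ : ∃ C : Subgroup K, C = Subgroup.centralizer (U : Set K) := ⟨_, rfl⟩
    haveI hCn : C.Normal := by rw [hCdef]; infer_instance
    have hxC : x ∈ C := by rw [hCdef]; intro u hu; exact (hxU u hu).symm
    have hCtop : C ≠ ⊤ := by
      intro hC
      apply h1
      have hfrob : ∀ Q : Subgroup K, Q ≤ (P : Subgroup K) →
          ∀ g ∈ Subgroup.normalizer (Q : Set K), Nat.Coprime (orderOf g) p →
          g ∈ Subgroup.centralizer (Q : Set K) := by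
        intro Q hQP g _ _
        have hg : g ∈ C := hC ▸ Subgroup.mem_top g
        rw [hCdef] at hg
        intro q hq
        exact hg q (hUdef ▸ hQP hq)
      obtain ⟨N, hN, hNc⟩ := (S0071.result P).mpr hfrob
      exact ⟨P, N, hN, hNc⟩
    have hCnil := h2 C hCtop
    obtain ⟨L, hL, hLcop, j, hj⟩ := (S0072.npc_iff p).mp (S0577.npc_of_nilpotent p hCnil)
    haveI := hL
    have hmemL : ∀ y : C, (orderOf y).Coprime p → y ∈ L := by
      intro y hy
      rw [← QuotientGroup.eq_one_iff]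
      have h4 : orderOf (QuotientGroup.mk' L y) ∣ orderOf y := orderOf_map_dvd (QuotientGroup.mk' L) y
      have h5 : orderOf (QuotientGroup.mk' L y) ∣ p ^ j := by
        rw [← hj, Subgroup.index_eq_card]; exact orderOf_dvd_natCard _
      have h6 := Nat.dvd_gcd h4 h5
      rw [(Nat.Coprime.pow_right j hy : Nat.gcd _ _ = 1)] at h6
      exact orderOf_eq_one_iff.mp (Nat.dvd_one.mp h6)
    obtain ⟨L', hL'def⟩ : ∃ L' : Subgroup K, L' = L.map C.subtype := ⟨_, rfl⟩
    have hL'n : L'.Normal := by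
      constructor
      intro y hy g
      rw [hL'def] at hy ⊢
      obtain ⟨y', hy', rfl⟩ := Subgroup.mem_map.mp hy
      refine Subgroup.mem_map.mpr ⟨⟨g * (y' : K) * g⁻¹, hCn.conj_mem _ y'.2 g⟩, ?_, rfl⟩
      apply hmemL
      have h4 : orderOf (⟨g * (y' : K) * g⁻¹, hCn.conj_mem _ y'.2 g⟩ : C) = orderOf y' := by
        rw [← Subgroup.orderOf_coe, ← Subgroup.orderOf_coe y']
        show orderOf (g * (y' : K) * g⁻¹) = orderOf (y' : K)
        rw [← MulAut.conj_apply]
        exact MulEquiv.orderOf_eq _ _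
      rw [h4]
      exact Nat.Coprime.coprime_dvd_left (Subgroup.orderOf_dvd_natCard L hy') hLcop
    have hL'card : (Nat.card L').Coprime p := by
      rw [hL'def, Subgroup.card_map_of_injective (Subgroup.subtype_injective C)]; exact hLcop
    have hL'bot := hQ L' hL'n hL'card
    have hxL' : x ∈ L' := by
      rw [hL'def]
      refine Subgroup.mem_map.mpr ⟨⟨x, hxC⟩, hmemL _ ?_, rfl⟩
      have h4 : orderOf (⟨x, hxC⟩ : C) = orderOf x := by
        rw [← Subgroup.orderOf_coe]
      rw [h4]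
      exact Nat.Coprime.coprime_dvd_left (orderOf_dvd_of_pow_eq_one hxm) hmcop
    rw [hL'bot, Subgroup.mem_bot] at hxL'
    exact hxL'
  -- the two commuting powers of k
  obtain ⟨z, hzdef⟩ : ∃ z, z = k ^ m := ⟨_, rfl⟩
  obtain ⟨c, hcdef⟩ : ∃ c, c = k ^ (p ^ a) := ⟨_, rfl⟩
  have hzU : z ∈ U := hzdef ▸ hpowm k
  have hcm : c ^ m = 1 := by
    rw [hcdef, ← pow_mul, mul_comm, pow_mul]; exact hpowU _ (hpowm k)
  have hczcomm : c * z = z * c := by rw [hcdef, hzdef, ← pow_add, ← pow_add, add_comm]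
  have hz1 : z ≠ 1 := by
    intro hz
    have h4 : orderOf k ∣ m := orderOf_dvd_of_pow_eq_one (hzdef ▸ hz)
    have hpU : p ∣ Nat.card U := by rw [ha]; exact dvd_pow_self p ha0
    obtain ⟨u, hu⟩ := exists_prime_orderOf_dvd_card' p hpU
    have h5 : p ∣ Monoid.exponent K := by
      have h6 := Monoid.order_dvd_exponent (u : K)
      rwa [Subgroup.orderOf_coe, hu] at h6
    rw [← hk] at h5
    exact (Nat.Prime.coprime_iff_not_dvd hp).mp hmcop.symm (h5.trans h4)
  have hccop : (orderOf c).Coprime p :=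
    Nat.Coprime.coprime_dvd_left (orderOf_dvd_of_pow_eq_one hcm) hmcop
  have hcU : ¬ ∀ u ∈ U, c * u = u * c := by
    intro hcent
    have hc1 : c = 1 := hCU c hcm hcent
    apply h1
    rw [S0072.npc_iff]
    refine ⟨⊥, inferInstance, by simp, ?_⟩
    have h6 : Monoid.exponent K ∣ p ^ a := by
      rw [← hk]; exact orderOf_dvd_of_pow_eq_one (hcdef ▸ hc1)
    have hKp : IsPGroup p K := fun x => ⟨a, by
      have h7 := Monoid.pow_exponent_eq_one x
      exact orderOf_dvd_iff_pow_eq_one.mp ((orderOf_dvd_of_pow_eq_one h7).trans h6)⟩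
    obtain ⟨j, hj⟩ := IsPGroup.iff_card.mp hKp
    exact ⟨j, by rw [Subgroup.index_bot, hj]⟩
  have hY : U ⊔ Subgroup.zpowers c = ⊤ := by
    by_contra hY
    apply hcU
    intro u hu
    exact commute_in_nilpotent _ (h2 _ hY) c u (Subgroup.mem_sup_right (Subgroup.mem_zpowers c))
      (Subgroup.mem_sup_left hu) m (p ^ a) (Nat.Coprime.pow_right a hmcop) hcm (hpowU u hu)
  -- the centre of U
  obtain ⟨ZU, hZUdef⟩ : ∃ ZU : Subgroup K, ZU = U ⊓ Subgroup.centralizer (U : Set K) := ⟨_, rfl⟩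
  haveI hZUn : ZU.Normal := by rw [hZUdef]; infer_instance
  have hZUne : ZU ≠ ⊥ := by
    haveI : Nontrivial U := (Subgroup.nontrivial_iff_ne_bot U).mpr hUne
    haveI := hUp.center_nontrivial
    obtain ⟨w, hw⟩ := exists_ne (1 : Subgroup.center U)
    intro hbot
    apply hw
    have hmem : ((w : U) : K) ∈ ZU := by
      rw [hZUdef]
      refine ⟨(w : U).2, ?_⟩
      intro u hu
      have h4 := Subgroup.mem_center_iff.mp w.2 ⟨u, hu⟩
      exact congrArg Subtype.val h4
    rw [hbot, Subgroup.mem_bot] at hmem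
    exact Subtype.ext (Subtype.ext hmem)
  have hcomm1 : ∀ u ∈ U, c * u * c⁻¹ * u⁻¹ ∈ ZU :=
    comm_mem_of_quot_npc p ZU U hUp (h3 ZU hZUne) c hccop
  -- the centralizer of c in U
  obtain ⟨D, hDdef⟩ : ∃ D : Subgroup K, D = U ⊓ Subgroup.centralizer ({c} : Set K) := ⟨_, rfl⟩
  have hDmem : ∀ d, d ∈ D ↔ d ∈ U ∧ c * d = d * c := by
    intro d
    rw [hDdef, Subgroup.mem_inf, Subgroup.mem_centralizer_iff]
    simp
  have hDn : D.Normal := by
    have h4 : U ⊔ Subgroup.zpowers c ≤ Subgroup.normalizer (D : Set K) := by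
      refine sup_le ?_ ?_
      · apply le_normalizer_of_conj
        intro x hx d hd
        rw [hDmem] at hd ⊢
        refine ⟨hUn.conj_mem d hd.1 x, ?_⟩
        obtain ⟨w, hwdef⟩ : ∃ w, w = x⁻¹ * c * x * c⁻¹ := ⟨_, rfl⟩
        have hwZ : w ∈ ZU := by
          have h5 := hZUn.conj_mem _ (hcomm1 x hx) x⁻¹
          have e : x⁻¹ * (c * x * c⁻¹ * x⁻¹) * x⁻¹⁻¹ = w := by rw [hwdef]; group
          rwa [e] at h5
        have hwd : w * d = d * w := by
          rw [hZUdef] at hwZ
          exact (hwZ.2 d hd.1).symm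
        have hcx : c * x = x * w * c := by rw [hwdef]; group
        calc c * (x * d * x⁻¹) = (c * x) * d * x⁻¹ := by group
          _ = x * w * c * d * x⁻¹ := by rw [hcx]
          _ = x * w * (c * d) * x⁻¹ := by group
          _ = x * w * (d * c) * x⁻¹ := by rw [hd.2]
          _ = x * (w * d) * c * x⁻¹ := by group
          _ = x * (d * w) * c * x⁻¹ := by rw [hwd]
          _ = x * d * x⁻¹ * (x * w * c) * x⁻¹ := by group
          _ = x * d * x⁻¹ * (c * x) * x⁻¹ := by rw [hcx]
          _ = x * d * x⁻¹ * c := by group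
      · apply le_normalizer_of_conj
        intro x hx d hd
        obtain ⟨i, rfl⟩ := Subgroup.mem_zpowers_iff.mp hx
        have hcd : c ^ i * d = d * c ^ i :=
          (Commute.zpow_left (show Commute c d from ((hDmem d).mp hd).2) i)
        have e : c ^ i * d * (c ^ i)⁻¹ = d := by rw [hcd]; group
        rw [e]; exact hd
    rw [hY] at h4
    exact Subgroup.normalizer_eq_top_iff.mp (top_le_iff.mp h4)
  haveI := hDn
  have hDbot : D = ⊥ := by
    by_contra hDne
    have hcomm2 : ∀ u ∈ U, c * u * c⁻¹ * u⁻¹ ∈ D :=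
      comm_mem_of_quot_npc p D U hUp (h3 D hDne) c hccop
    apply hcU
    intro u hu
    obtain ⟨d, hddef⟩ : ∃ d, d = u⁻¹ * (c * u * c⁻¹) := ⟨_, rfl⟩
    have hdD : d ∈ D := by
      have h5 := hDn.conj_mem _ (hcomm2 u hu) u⁻¹
      have e : u⁻¹ * (c * u * c⁻¹ * u⁻¹) * u⁻¹⁻¹ = d := by rw [hddef]; group
      rwa [e] at h5
    have hdc := ((hDmem d).mp hdD).2
    have hdU := ((hDmem d).mp hdD).1
    have hpow : ∀ j : ℕ, c ^ j * u * (c ^ j)⁻¹ = u * d ^ j := by
      intro j
      induction j with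
      | zero => simp
      | succ j ih =>
        have hcdj : c * d ^ j = d ^ j * c := Commute.pow_right (show Commute c d from hdc) j
        calc c ^ (j + 1) * u * (c ^ (j + 1))⁻¹ = c * (c ^ j * u * (c ^ j)⁻¹) * c⁻¹ := by
              rw [pow_succ']; group
          _ = c * (u * d ^ j) * c⁻¹ := by rw [ih]
          _ = (c * u * c⁻¹) * (c * d ^ j) * c⁻¹ := by group
          _ = (c * u * c⁻¹) * (d ^ j * c) * c⁻¹ := by rw [hcdj]
          _ = u * (u⁻¹ * (c * u * c⁻¹)) * d ^ j := by group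
          _ = u * d ^ (j + 1) := by rw [← hddef, pow_succ', mul_assoc]
    have hd1 : d = 1 := by
      have h7 := hpow m
      rw [hcm] at h7
      have h7' : d ^ m = 1 := by simpa using h7.symm
      have h8 : d ^ (p ^ a) = 1 := hpowU d hdU
      have h9 := Nat.dvd_gcd (orderOf_dvd_of_pow_eq_one h7') (orderOf_dvd_of_pow_eq_one h8)
      rw [(Nat.Coprime.pow_right a hmcop : Nat.gcd _ _ = 1)] at h9
      exact orderOf_eq_one_iff.mp (Nat.dvd_one.mp h9)
    rw [hd1] at hddef
    have h10 : c * u * c⁻¹ = u := by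
      have h11 : u * 1 = u * (u⁻¹ * (c * u * c⁻¹)) := by rw [← hddef]
      rw [mul_one, mul_inv_cancel_left] at h11
      exact h11.symm
    calc c * u = (c * u * c⁻¹) * c := by group
      _ = u * c := by rw [h10]
  have hzD : z ∈ D := (hDmem z).mpr ⟨hzU, hczcomm⟩
  rw [hDbot, Subgroup.mem_bot] at hzD
  exact hz1 hzD

theorem forward {G : Type*} [Group G] [Finite G] (p : ℕ) [Fact p.Prime]
    (hG : Cfsg.HasNormalPComplement p G) (H : Subgroup G) (N : Subgroup H) [N.Normal]
    (hcore : Cfsg.pPrimeCore p (H ⧸ N) = ⊥) :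
    ∃ k : H ⧸ N, orderOf k = Monoid.exponent (H ⧸ N) := by
  have h1 : Cfsg.HasNormalPComplement p H :=
    S0072.npc_of_injective p H.subtype (Subgroup.subtype_injective H) hG
  have h2 : Cfsg.HasNormalPComplement p (H ⧸ N) :=
    npc_of_surj p (QuotientGroup.mk' N) (QuotientGroup.mk'_surjective N) h1
  obtain ⟨L, hL, hcop, k, hk⟩ := (S0072.npc_iff p).mp h2
  have hLbot : L = ⊥ := by
    have h3 : L ≤ Cfsg.pPrimeCore p (H ⧸ N) := le_sSup ⟨hL, hcop⟩
    rw [hcore] at h3; exact le_bot_iff.mp h3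
  rw [hLbot, Subgroup.index_bot] at hk
  exact exists_orderOf_eq_exponent_of_pgroup p k hk

theorem backward {G : Type*} [Group G] [Finite G] (p : ℕ) [Fact p.Prime]
    (h : ∀ (H : Subgroup G) (N : Subgroup H) [N.Normal], Cfsg.pPrimeCore p (H ⧸ N) = ⊥ →
        ∃ k : H ⧸ N, orderOf k = Monoid.exponent (H ⧸ N)) :
    Cfsg.HasNormalPComplement p G := by
  by_contra hG
  -- a minimal subgroup without a normal p-complement
  haveI : Nonempty {X : Subgroup G // ¬ Cfsg.HasNormalPComplement p X} :=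
    ⟨⟨⊤, fun hX => hG (npc_of_surj p (Subgroup.topEquiv : (⊤ : Subgroup G) ≃* G).toMonoidHom
      (Subgroup.topEquiv : (⊤ : Subgroup G) ≃* G).surjective hX)⟩⟩
  obtain ⟨⟨H, hH⟩, hHmin⟩ := Finite.exists_min
    (fun X : {X : Subgroup G // ¬ Cfsg.HasNormalPComplement p X} => Nat.card (X : Subgroup G))
  have hH2 : ∀ H' : Subgroup H, H' ≠ ⊤ → Cfsg.HasNormalPComplement p H' := by
    intro H' hH'
    by_contra hcon
    have hcon' : ¬ Cfsg.HasNormalPComplement p (H'.map H.subtype) := by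
      intro hh
      exact hcon (S0072.npc_of_injective p
        (H'.equivMapOfInjective H.subtype (Subgroup.subtype_injective H)).toMonoidHom
        (MulEquiv.injective _) hh)
    have hle := hHmin ⟨H'.map H.subtype, hcon'⟩
    have hc1 : Nat.card (H'.map H.subtype) = Nat.card H' :=
      Subgroup.card_map_of_injective (Subgroup.subtype_injective H)
    have hc2 : Nat.card H' < Nat.card H :=
      lt_of_le_of_ne (Subgroup.card_le_card_group H')
        (fun heq => hH' (Subgroup.eq_top_of_card_eq H' heq))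
    simp only at hle
    omega
  obtain ⟨hHnil, -, -⟩ := S0132.result hH hH2
  -- a maximal normal subgroup with quotient lacking a normal p-complement
  haveI : Nonempty {N : Subgroup H // ∃ hN : N.Normal,
      ¬ @Cfsg.HasNormalPComplement p (H ⧸ N) (@QuotientGroup.Quotient.group H _ N hN)} := by
    refine ⟨⟨⊥, inferInstance, fun hX => hH ?_⟩⟩
    exact npc_of_surj p (QuotientGroup.quotientBot : H ⧸ (⊥ : Subgroup H) ≃* H).toMonoidHom
      (QuotientGroup.quotientBot : H ⧸ (⊥ : Subgroup H) ≃* H).surjective hX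
  obtain ⟨⟨N, hNn, hNbad⟩, hNmax⟩ := Finite.exists_max
    (fun X : {N : Subgroup H // ∃ hN : N.Normal,
      ¬ @Cfsg.HasNormalPComplement p (H ⧸ N) (@QuotientGroup.Quotient.group H _ N hN)} =>
      Nat.card (X : Subgroup H))
  haveI := hNn
  have hk2 : ∀ L' : Subgroup (H ⧸ N), L' ≠ ⊤ → Group.IsNilpotent L' := by
    intro L' hL'
    have hL : L'.comap (QuotientGroup.mk' N) ≠ ⊤ := by
      intro hL
      apply hL'
      have h4 := Subgroup.map_comap_eq_self_of_surjective (QuotientGroup.mk'_surjective N) L'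
      rw [hL, Subgroup.map_top_of_surjective _ (QuotientGroup.mk'_surjective N)] at h4
      exact h4.symm
    haveI := hHnil _ hL
    exact Group.nilpotent_of_surjective ((QuotientGroup.mk' N).subgroupComap L')
      ((QuotientGroup.mk' N).subgroupComap_surjective_of_surjective L'
        (QuotientGroup.mk'_surjective N))
  have hk3 : ∀ (M' : Subgroup (H ⧸ N)) [M'.Normal], M' ≠ ⊥ →
      Cfsg.HasNormalPComplement p ((H ⧸ N) ⧸ M') := by
    intro M' hM'n hM'
    obtain ⟨M, hMdef⟩ : ∃ M : Subgroup H, M = M'.comap (QuotientGroup.mk' N) := ⟨_, rfl⟩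
    haveI hMn : M.Normal := by rw [hMdef]; infer_instance
    have hNM : N ≤ M := by
      rw [hMdef]
      intro x hx
      rw [Subgroup.mem_comap]
      have h4 : QuotientGroup.mk' N x = 1 := (QuotientGroup.eq_one_iff x).mpr hx
      rw [h4]; exact one_mem M'
    have hne : N ≠ M := by
      intro heq
      apply hM'
      have h4 := Subgroup.map_comap_eq_self_of_surjective (QuotientGroup.mk'_surjective N) M'
      rw [← hMdef, ← heq] at h4
      rw [← h4, eq_bot_iff]
      rintro _ ⟨x, hx, rfl⟩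
      exact (QuotientGroup.eq_one_iff x).mpr hx
    have hlt : Nat.card N < Nat.card M :=
      lt_of_le_of_ne (Subgroup.card_le_of_le hNM)
        (fun heq => hne (Subgroup.eq_of_le_of_card_ge hNM heq.ge))
    have hnpc : Cfsg.HasNormalPComplement p (H ⧸ M) := by
      by_contra hcon
      have hle := hNmax ⟨M, hMn, hcon⟩
      simp only at hle
      omega
    have hf : Function.Surjective (QuotientGroup.map M M' (QuotientGroup.mk' N) (hMdef ▸ le_rfl)) := by
      intro y
      obtain ⟨y', rfl⟩ := QuotientGroup.mk_surjective y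
      obtain ⟨x, rfl⟩ := QuotientGroup.mk_surjective y'
      exact ⟨QuotientGroup.mk x, rfl⟩
    exact npc_of_surj p _ hf hnpc
  obtain ⟨hcore, hno⟩ := no_exp_elt p hNbad hk2 hk3
  exact hno (h H N hcore)

/-- Let G be a finite group and p a prime. Then G has a normal p-complement if and only if every section K = H/N of G (N a normal subgroup of a subgroup H) whose largest normal subgroup of order prime to p is trivial contains an element whose order equals the exponent of K. -/
theorem result {G : Type*} [Group G] [Finite G] (p : ℕ) [Fact p.Prime] :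
    Cfsg.HasNormalPComplement p G ↔
      ∀ (H : Subgroup G) (N : Subgroup H) [N.Normal], Cfsg.pPrimeCore p (H ⧸ N) = ⊥ →
        ∃ k : H ⧸ N, orderOf k = Monoid.exponent (H ⧸ N) := by
  constructor
  · intro hG H N _ hcore
    exact forward p hG H N hcore
  · exact backward p

end Cfsg.Agent.S4238
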