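import Mathlib
import Cfsg.Statements.S4242
import Cfsg.Agent.S0071
import Cfsg.Agent.S4303
import Cfsg.Agent.Helper11.CN

set_option autoImplicit false
open Cfsg

namespace Cfsg.Agent.S4242

variable {G : Type*} [Group G]

theorem nilp_of_comm' {N : Type*} [Group N] [IsMulCommutative N] : Group.IsNilpotent N :=
  ⟨⟨1, Subgroup.upperCentralSeries_one_eq_top_iff.mpr inferInstance⟩⟩

theorem nilpotent_of_le {X M : Subgroup G} (h : X ≤ M) (hM : Group.IsNilpotent M) :
    Group.IsNilpotent X := by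
  haveI := hM
  exact Group.nilpotent_of_mulEquiv (Subgroup.subgroupOfEquivOfLe h)

theorem nilpotent_sup_of_commute (A B : Subgroup G) (hA : Group.IsNilpotent A)
    (hB : Group.IsNilpotent B) (hcomm : ∀ a ∈ A, ∀ b ∈ B, a * b = b * a) :
    Group.IsNilpotent (A ⊔ B : Subgroup G) := by
  haveI := hA
  haveI := hB
  obtain ⟨φ, hφ⟩ : ∃ φ : A × B →* G, φ.range = A ⊔ B := by
    have hc : ∀ (a : A) (b : B), Commute (A.subtype a) (B.subtype b) :=
      fun a b => hcomm a a.2 b b.2
    refine ⟨MonoidHom.noncommCoprod A.subtype B.subtype hc, ?_⟩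
    rw [MonoidHom.noncommCoprod_range, Subgroup.range_subtype, Subgroup.range_subtype]
  have h1 : Group.IsNilpotent φ.range :=
    Group.nilpotent_of_surjective φ.rangeRestrict φ.rangeRestrict_surjective
  exact Group.nilpotent_of_mulEquiv (MulEquiv.subgroupCongr hφ)

theorem nil_of_proper [Finite G] (p : ℕ)
    (h : ∀ M : Subgroup G, IsCoatom M → p ∣ Nat.card M → Group.IsNilpotent M)
    (X : Subgroup G) (hX : X ≠ ⊤) (hpX : p ∣ Nat.card X) : Group.IsNilpotent X := by
  obtain ⟨M, hM, hXM⟩ := (eq_top_or_exists_le_coatom X).resolve_left hX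
  exact nilpotent_of_le hXM (h M hM (hpX.trans (Subgroup.card_dvd_of_le hXM)))

theorem commute_in_nilpotent (X : Subgroup G) (hX : Group.IsNilpotent X) (x y : G) (hx : x ∈ X)
    (hy : y ∈ X) (a b : ℕ) (hab : a.Coprime b) (hxa : x ^ a = 1) (hyb : y ^ b = 1) :
    x * y = y * x := by
  haveI := hX
  have h := Helper11.commute_of_nilpotent_coprime X ⟨x, hx⟩ ⟨y, hy⟩ a b hab
    (Subtype.ext (by simpa using hxa)) (Subtype.ext (by simpa using hyb))
  exact congrArg Subtype.val h

theorem le_of_sup_normal (M N B : Subgroup G) [N.Normal] (hB : B ≤ M) (hMN : M ⊓ N = ⊥)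
    (htop : N ⊔ B = ⊤) : M ≤ B := by
  intro m hm
  have hm' : m ∈ N ⊔ B := htop ▸ Subgroup.mem_top m
  rw [← SetLike.mem_coe, Subgroup.normal_mul] at hm'
  obtain ⟨n, hn, b, hb, rfl⟩ := Set.mem_mul.mp hm'
  have hn' : n ∈ M ⊓ N := by
    refine ⟨?_, hn⟩
    have h1 := mul_mem hm (inv_mem (hB hb))
    simpa using h1
  rw [hMN, Subgroup.mem_bot] at hn'
  rw [hn', one_mul]; exact hb

theorem le_of_sup_normal' (M N B : Subgroup G) [N.Normal] (hN : N ≤ M) (hMB : M ⊓ B = ⊥)
    (htop : N ⊔ B = ⊤) : M ≤ N := by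
  intro m hm
  have hm' : m ∈ N ⊔ B := htop ▸ Subgroup.mem_top m
  rw [← SetLike.mem_coe, Subgroup.normal_mul] at hm'
  obtain ⟨n, hn, b, hb, rfl⟩ := Set.mem_mul.mp hm'
  have hb' : b ∈ M ⊓ B := by
    refine ⟨?_, hb⟩
    have h1 := mul_mem (inv_mem (hN hn)) hm
    simpa using h1
  rw [hMB, Subgroup.mem_bot] at hb'
  rw [hb', mul_one]; exact hn

theorem le_normalizer_of_conj (A M : Subgroup G) (h : ∀ x ∈ A, ∀ m ∈ M, x * m * x⁻¹ ∈ M) :
    A ≤ Subgroup.normalizer (M : Set G) := by
  intro x hx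
  rw [Subgroup.mem_normalizer_iff]
  intro m
  constructor
  · exact h x hx m
  · intro hm
    have h1 := h x⁻¹ (inv_mem hx) _ hm
    have e : x⁻¹ * (x * m * x⁻¹) * x⁻¹⁻¹ = m := by group
    rw [e] at h1; exact h1

theorem forward [Finite G] (p : ℕ) [Fact p.Prime] (hpG : p ∣ Nat.card G)
    (h : ∀ M : Subgroup G, IsCoatom M → p ∣ Nat.card M → Group.IsNilpotent M)
    (hG1 : ¬ Group.IsNilpotent G) (hG2 : ¬ Cfsg.IsMinimalNonNilpotent G) :
    ∃ Z K : Subgroup G, Z.Normal ∧ K.Normal ∧ Z ⊓ K = ⊥ ∧ Z ⊔ K = ⊤ ∧ Nat.card Z = p ∧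
          Cfsg.IsMinimalNonNilpotent K ∧ ¬ p ∣ Nat.card K := by
  have hp : p.Prime := Fact.out
  have hnil := nil_of_proper p h
  -- a non-nilpotent maximal subgroup
  obtain ⟨H, hHtop, hHnil⟩ : ∃ H : Subgroup G, H ≠ ⊤ ∧ ¬ Group.IsNilpotent H := by
    by_contra hcon
    push_neg at hcon
    exact hG2 ⟨hG1, hcon⟩
  obtain ⟨M₀, hM₀, hHM₀⟩ := (eq_top_or_exists_le_coatom H).resolve_left hHtop
  have hM₀nil : ¬ Group.IsNilpotent M₀ := fun hn => hHnil (nilpotent_of_le hHM₀ hn)
  have hpM₀ : ¬ p ∣ Nat.card M₀ := fun hd => hM₀nil (h M₀ hM₀ hd)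
  have hcopM₀ : (Nat.card M₀).Coprime p :=
    Nat.Coprime.symm ((Nat.Prime.coprime_iff_not_dvd hp).mpr hpM₀)
  obtain ⟨P⟩ : Nonempty (Sylow p G) := inferInstance
  obtain ⟨k, hk⟩ := P.2.exists_card_eq
  have hPne : (P : Subgroup G) ≠ ⊥ := by
    intro hbot
    have h1 := P.not_dvd_index
    rw [hbot, Subgroup.index_bot] at h1; exact h1 hpG
  have hk0 : k ≠ 0 := by
    rintro rfl
    rw [pow_zero] at hk
    exact hPne (Subgroup.card_eq_one.mp hk)
  have hpP : p ∣ Nat.card (P : Subgroup G) := by rw [hk]; exact dvd_pow_self p hk0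
  have hMP : M₀ ⊓ (P : Subgroup G) = ⊥ :=
    Subgroup.inf_eq_bot_of_coprime (by rw [hk]; exact Nat.Coprime.pow_right k hcopM₀)
  have hPM₀ : ¬ (P : Subgroup G) ≤ M₀ := by
    intro hle
    have h1 := inf_eq_right.mpr hle
    rw [hMP] at h1
    exact hPne h1.symm
  have hsup : M₀ ⊔ (P : Subgroup G) = ⊤ :=
    hM₀.2 _ (lt_of_le_of_ne le_sup_left (fun heq => hPM₀ (heq ▸ le_sup_right)))
  have hpowP : ∀ x ∈ (P : Subgroup G), x ^ (p ^ k) = 1 := by
    intro x hx
    have h1 : (⟨x, hx⟩ : (P : Subgroup G)) ^ Nat.card (P : Subgroup G) = 1 := pow_card_eq_one'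
    rw [hk] at h1
    exact congrArg Subtype.val h1
  have hpowM : ∀ g ∈ M₀, g ^ Nat.card M₀ = 1 := by
    intro g hg
    have h1 : (⟨g, hg⟩ : M₀) ^ Nat.card M₀ = 1 := pow_card_eq_one'
    exact congrArg Subtype.val h1
  -- step 1: P is normal
  have hPn : (P : Subgroup G).Normal := by
    by_contra hPn
    have hfrob : ∀ Q : Subgroup G, Q ≤ (P : Subgroup G) →
        ∀ g ∈ Subgroup.normalizer (Q : Set G), Nat.Coprime (orderOf g) p →
        g ∈ Subgroup.centralizer (Q : Set G) := by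
      intro Q hQP g hg hcop
      by_cases hQ : Q = ⊥
      · rw [hQ]
        intro x hx
        rw [Subgroup.coe_bot, Set.mem_singleton_iff] at hx
        rw [hx]; simp
      have hpQ : p ∣ Nat.card Q := by
        obtain ⟨j, hj⟩ := (P.2.to_le hQP).exists_card_eq
        have hj0 : j ≠ 0 := by
          rintro rfl
          rw [pow_zero] at hj
          exact hQ (Subgroup.card_eq_one.mp hj)
        rw [hj]; exact dvd_pow_self p hj0
      obtain ⟨X, hXdef⟩ : ∃ X : Subgroup G, X = Q ⊔ Subgroup.zpowers g := ⟨_, rfl⟩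
      have hQX : Q ≤ X := hXdef ▸ le_sup_left
      have hgX : g ∈ X := hXdef ▸ Subgroup.mem_sup_right (Subgroup.mem_zpowers g)
      by_cases hX : X = ⊤
      · exfalso; apply hPn
        have hQn : Q.Normal := by
          have h1 : X ≤ Subgroup.normalizer (Q : Set G) := by
            rw [hXdef]; exact sup_le Subgroup.le_normalizer ((Subgroup.zpowers_le).mpr hg)
          rw [hX] at h1
          exact Subgroup.normalizer_eq_top_iff.mp (top_le_iff.mp h1)
        have hPQ : (P : Subgroup G) ≤ Q := by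
          intro x hx
          have hx' : x ∈ Q ⊔ Subgroup.zpowers g := by rw [← hXdef, hX]; trivial
          rw [← SetLike.mem_coe, Subgroup.normal_mul] at hx'
          obtain ⟨q, hq, c, hc, hxeq⟩ := Set.mem_mul.mp hx'
          obtain ⟨i, hi⟩ := Subgroup.mem_zpowers_iff.mp hc
          have h1 : (QuotientGroup.mk x : G ⧸ Q) ^ orderOf g = 1 := by
            rw [← hxeq, QuotientGroup.mk_mul, (QuotientGroup.eq_one_iff q).mpr hq, one_mul, ← hi,
              QuotientGroup.mk_zpow, ← zpow_natCast, ← zpow_mul, mul_comm, zpow_mul, zpow_natCast,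
              ← QuotientGroup.mk_pow, pow_orderOf_eq_one, QuotientGroup.mk_one, one_zpow]
          have h2 : (QuotientGroup.mk x : G ⧸ Q) ^ (p ^ k) = 1 := by
            rw [← QuotientGroup.mk_pow, hpowP x hx, QuotientGroup.mk_one]
          have h3 := Nat.dvd_gcd (orderOf_dvd_of_pow_eq_one h1) (orderOf_dvd_of_pow_eq_one h2)
          rw [(Nat.Coprime.pow_right k hcop : Nat.gcd _ _ = 1)] at h3
          exact (QuotientGroup.eq_one_iff x).mp (orderOf_eq_one_iff.mp (Nat.dvd_one.mp h3))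
        have hQeq : Q = P := le_antisymm hQP hPQ
        rw [← hQeq]; exact hQn
      · have hXn := hnil X hX (hpQ.trans (Subgroup.card_dvd_of_le hQX))
        intro x hx
        exact (commute_in_nilpotent X hXn g x hgX (hQX hx) (orderOf g) (p ^ k)
          (Nat.Coprime.pow_right k hcop) (pow_orderOf_eq_one g) (hpowP x (hQP hx))).symm
    obtain ⟨N, hNn, hNc⟩ := (S0071.result P).mpr hfrob
    haveI := hNn
    have hNidx : N.index = p ^ k := by rw [← hk]; exact hNc.symm.index_eq_card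
    have hNcard : Nat.card N = (P : Subgroup G).index := (hNc.index_eq_card).symm
    have hcopN : (Nat.card N).Coprime p := by
      rw [hNcard]
      exact Nat.Coprime.symm ((Nat.Prime.coprime_iff_not_dvd hp).mpr P.not_dvd_index)
    have hNP : N ⊓ (P : Subgroup G) = ⊥ := disjoint_iff.mp hNc.disjoint
    have hNPtop : N ⊔ (P : Subgroup G) = ⊤ := hNc.sup_eq_top
    have hM₀N : M₀ ≤ N := by
      intro m hm
      rw [← QuotientGroup.eq_one_iff]
      have h1 : orderOf (QuotientGroup.mk m : G ⧸ N) ∣ Nat.card M₀ :=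
        (orderOf_dvd_of_pow_eq_one (by rw [← QuotientGroup.mk_pow, hpowM m hm,
          QuotientGroup.mk_one]))
      have h2 : orderOf (QuotientGroup.mk m : G ⧸ N) ∣ p ^ k := by
        rw [← hNidx, Subgroup.index_eq_card]; exact orderOf_dvd_natCard _
      have h3 := Nat.dvd_gcd h1 h2
      rw [(Nat.Coprime.pow_right k hcopM₀ : Nat.gcd _ _ = 1)] at h3
      exact orderOf_eq_one_iff.mp (Nat.dvd_one.mp h3)
    have hNtop : N ≠ ⊤ := by
      rintro rfl; exact hPne (Subgroup.isComplement'_top_left.mp hNc)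
    have hNM₀ : N = M₀ := by
      by_contra hne
      exact hNtop (hM₀.2 N (lt_of_le_of_ne hM₀N (Ne.symm hne)))
    have hPsolv : Group.IsSolvable (P : Subgroup G) := by
      haveI := P.2.isNilpotent; infer_instance
    have hPN : (P : Subgroup G) ≤ Subgroup.normalizer (N : Set G) := by
      rw [Subgroup.normalizer_eq_top]; exact le_top
    have hcopPN : (Nat.card (P : Subgroup G)).Coprime (Nat.card N) := by
      rw [hk]; exact Nat.Coprime.pow_left k hcopN.symm
    have hcent : ∀ n ∈ N, ∀ u ∈ (P : Subgroup G), u * n = n * u := by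
      obtain ⟨C, hCdef⟩ : ∃ C : Subgroup G,
          C = N ⊓ Subgroup.centralizer ((P : Subgroup G) : Set G) := ⟨_, rfl⟩
      have hCN : C ≤ N := hCdef ▸ inf_le_left
      have hdvd : Nat.card N ∣ Nat.card C := by
        rw [← Nat.factorization_prime_le_iff_dvd Nat.card_pos.ne' Nat.card_pos.ne']
        intro q hq
        haveI : Fact q.Prime := ⟨hq⟩
        obtain ⟨Q, -, hQN, hPQ, hQcard⟩ := S4303.exists_invariant_sylow (P : Subgroup G) N hPN
          hcopPN hPsolv q (Nat.card N - Nat.card (⊥ : Subgroup G)) ⊥ rfl bot_le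
          (IsPGroup.of_bot) (by rw [Subgroup.normalizer_eq_top]; exact le_top)
        have hQC : Q ≤ C := by
          rw [hCdef]
          refine le_inf hQN ?_
          obtain ⟨X, hXdef⟩ : ∃ X : Subgroup G, X = Q ⊔ (P : Subgroup G) := ⟨_, rfl⟩
          have hXne : X ≠ ⊤ := by
            intro hX
            have hQn : Q.Normal := by
              have h1 : X ≤ Subgroup.normalizer (Q : Set G) := by
                rw [hXdef]; exact sup_le Subgroup.le_normalizer hPQ
              rw [hX] at h1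
              exact Subgroup.normalizer_eq_top_iff.mp (top_le_iff.mp h1)
            haveI := hQn
            have hNQ : N ≤ Q := le_of_sup_normal' N Q (P : Subgroup G) hQN hNP (hXdef ▸ hX)
            apply hM₀nil
            have hq' : IsPGroup q M₀ := by
              rw [← hNM₀]; exact (IsPGroup.of_card hQcard).to_le hNQ
            exact hq'.isNilpotent
          have hXn := hnil X hXne (hpP.trans (Subgroup.card_dvd_of_le (hXdef ▸ le_sup_right)))
          intro x hx u hu
          have hxN : x ^ Nat.card N = 1 := by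
            have h1 : (⟨x, hQN hx⟩ : N) ^ Nat.card N = 1 := pow_card_eq_one'
            exact congrArg Subtype.val h1
          exact commute_in_nilpotent X hXn u x (hXdef ▸ Subgroup.mem_sup_right hu)
            (hXdef ▸ Subgroup.mem_sup_left hx) (p ^ k) (Nat.card N)
            (Nat.Coprime.pow_left k hcopN.symm) (hpowP u hu) hxN
        have h1 : q ^ (Nat.card N).factorization q ∣ Nat.card C :=
          hQcard ▸ Subgroup.card_dvd_of_le hQC
        exact (Nat.Prime.pow_dvd_iff_le_factorization hq Nat.card_pos.ne').mp h1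
      have hCeq : C = N := Subgroup.eq_of_le_of_card_ge hCN (Nat.le_of_dvd Nat.card_pos hdvd)
      intro n hn u hu
      have hnC : n ∈ C := hCeq ▸ hn
      rw [hCdef] at hnC
      exact hnC.2 u hu
    apply hPn
    have h1 : N ⊔ (P : Subgroup G) ≤ Subgroup.normalizer ((P : Subgroup G) : Set G) := by
      refine sup_le ?_ Subgroup.le_normalizer
      apply le_normalizer_of_conj
      intro n hn u hu
      have e : n * u * n⁻¹ = u := by rw [← hcent n hn u hu]; group
      rw [e]; exact hu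
    rw [hNPtop] at h1
    exact Subgroup.normalizer_eq_top_iff.mp (top_le_iff.mp h1)
  haveI := hPn
  have hPM₀top : (P : Subgroup G) ⊔ M₀ = ⊤ := by rw [sup_comm]; exact hsup
  -- step 2: M₀ centralizes P
  have hcent : ∀ g ∈ M₀, ∀ x ∈ (P : Subgroup G), g * x = x * g := by
    intro g hg x hx
    obtain ⟨X, hXdef⟩ : ∃ X : Subgroup G, X = (P : Subgroup G) ⊔ Subgroup.zpowers g := ⟨_, rfl⟩
    have hXne : X ≠ ⊤ := by
      intro hX
      have hle : M₀ ≤ Subgroup.zpowers g :=
        le_of_sup_normal M₀ (P : Subgroup G) (Subgroup.zpowers g) ((Subgroup.zpowers_le).mpr hg)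
          hMP (hXdef ▸ hX)
      apply hM₀nil
      apply nilpotent_of_le hle
      exact nilp_of_comm'
    have hXn := hnil X hXne (hpP.trans (Subgroup.card_dvd_of_le (hXdef ▸ le_sup_left)))
    exact commute_in_nilpotent X hXn g x (hXdef ▸ Subgroup.mem_sup_right (Subgroup.mem_zpowers g))
      (hXdef ▸ Subgroup.mem_sup_left hx) (Nat.card M₀) (p ^ k) (Nat.Coprime.pow_right k hcopM₀)
      (hpowM g hg) (hpowP x hx)
  -- step 3: M₀ is minimal non-nilpotent
  have hM₀min : Cfsg.IsMinimalNonNilpotent M₀ := by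
    refine ⟨hM₀nil, fun H' hH' => ?_⟩
    obtain ⟨H₁, hH₁def⟩ : ∃ H₁ : Subgroup G, H₁ = H'.map M₀.subtype := ⟨_, rfl⟩
    have hHM : H₁ ≤ M₀ := hH₁def ▸ Subgroup.map_subtype_le H'
    obtain ⟨X, hXdef⟩ : ∃ X : Subgroup G, X = (P : Subgroup G) ⊔ H₁ := ⟨_, rfl⟩
    have hXne : X ≠ ⊤ := by
      intro hX
      have hle : M₀ ≤ H₁ := le_of_sup_normal M₀ (P : Subgroup G) H₁ hHM hMP (hXdef ▸ hX)
      apply hH'
      rw [eq_top_iff]
      intro m _
      have h1 := hle m.2
      rw [hH₁def] at h1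
      obtain ⟨m', hm', hmm⟩ := Subgroup.mem_map.mp h1
      have h2 : m' = m := Subtype.ext hmm
      rw [← h2]; exact hm'
    have hXn := hnil X hXne (hpP.trans (Subgroup.card_dvd_of_le (hXdef ▸ le_sup_left)))
    have hHn : Group.IsNilpotent H₁ := nilpotent_of_le (hXdef ▸ le_sup_right) hXn
    rw [hH₁def] at hHn
    haveI := hHn
    exact Group.nilpotent_of_mulEquiv
      (H'.equivMapOfInjective M₀.subtype (Subgroup.subtype_injective M₀)).symm
  -- step 4: a central element of order p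
  haveI : Nontrivial (P : Subgroup G) := (Subgroup.nontrivial_iff_ne_bot _).mpr hPne
  haveI := P.2.center_nontrivial
  have hpZ : p ∣ Nat.card (Subgroup.center (P : Subgroup G)) := by
    obtain ⟨n, hn0, hn⟩ :=
      (P.2.to_subgroup (Subgroup.center (P : Subgroup G))).nontrivial_iff_card.mp inferInstance
    rw [hn]; exact dvd_pow_self p (ne_of_gt hn0)
  obtain ⟨z', hz'⟩ := exists_prime_orderOf_dvd_card' p hpZ
  obtain ⟨z, hzdef⟩ : ∃ z : G, z = ((z' : (P : Subgroup G)) : G) := ⟨_, rfl⟩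
  have hzP : z ∈ (P : Subgroup G) := hzdef ▸ (z' : (P : Subgroup G)).2
  have hzord : orderOf z = p := by
    rw [hzdef, Subgroup.orderOf_coe, Subgroup.orderOf_coe]; exact hz'
  have hzcP : ∀ x ∈ (P : Subgroup G), x * z = z * x := by
    intro x hx
    have h1 := Subgroup.mem_center_iff.mp z'.2 ⟨x, hx⟩
    rw [hzdef]; exact congrArg Subtype.val h1
  have hzcM : ∀ g ∈ M₀, g * z = z * g := fun g hg => hcent g hg z hzP
  have hzc : z ∈ Subgroup.center G := by
    rw [Subgroup.mem_center_iff]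
    intro g
    have hg : g ∈ (P : Subgroup G) ⊔ M₀ := hPM₀top ▸ Subgroup.mem_top g
    rw [← SetLike.mem_coe, Subgroup.normal_mul] at hg
    obtain ⟨x, hx, m, hm, rfl⟩ := Set.mem_mul.mp hg
    rw [mul_assoc, hzcM m hm, ← mul_assoc, hzcP x hx, mul_assoc]
  obtain ⟨Z, hZdef⟩ : ∃ Z : Subgroup G, Z = Subgroup.zpowers z := ⟨_, rfl⟩
  have hZn : Z.Normal := by
    constructor
    intro n hn g
    have hnc : n ∈ Subgroup.center G := by
      rw [hZdef] at hn; exact (Subgroup.zpowers_le.mpr hzc) hn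
    have e : g * n * g⁻¹ = n := by rw [Subgroup.mem_center_iff.mp hnc g]; group
    rw [e]; exact hn
  have hZcard : Nat.card Z = p := by rw [hZdef, Nat.card_zpowers, hzord]
  have hZP : Z ≤ (P : Subgroup G) := by rw [hZdef]; exact Subgroup.zpowers_le.mpr hzP
  have hZK : Z ⊓ M₀ = ⊥ := by
    rw [eq_bot_iff, ← hMP]
    exact le_inf inf_le_right (inf_le_left.trans hZP)
  have hZM₀ : ¬ Z ≤ M₀ := by
    intro hle
    have h1 : Z = ⊥ := by rw [← hZK]; exact (inf_eq_left.mpr hle).symm
    rw [h1, Subgroup.card_bot] at hZcard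
    exact hp.one_lt.ne hZcard
  have hZsup : Z ⊔ M₀ = ⊤ := by
    rw [sup_comm]
    exact hM₀.2 _ (lt_of_le_of_ne le_sup_left (fun heq => hZM₀ (heq ▸ le_sup_right)))
  have hM₀n : M₀.Normal := by
    have h1 : (P : Subgroup G) ⊔ M₀ ≤ Subgroup.normalizer (M₀ : Set G) := by
      refine sup_le ?_ Subgroup.le_normalizer
      apply le_normalizer_of_conj
      intro x hx m hm
      have e : x * m * x⁻¹ = m := by rw [← hcent m hm x hx]; group
      rw [e]; exact hm
    rw [hPM₀top] at h1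
    exact Subgroup.normalizer_eq_top_iff.mp (top_le_iff.mp h1)
  exact ⟨Z, M₀, hZn, hM₀n, hZK, hZsup, hZcard, hM₀min, hpM₀⟩

theorem backward [Finite G] (p : ℕ) [Fact p.Prime] (Z K : Subgroup G) (hZn : Z.Normal)
    (hKn : K.Normal) (hZK : Z ⊓ K = ⊥) (hsup : Z ⊔ K = ⊤) (hZc : Nat.card Z = p)
    (hKmin : Cfsg.IsMinimalNonNilpotent K) (hpK : ¬ p ∣ Nat.card K) (M : Subgroup G)
    (hM : IsCoatom M) (hpM : p ∣ Nat.card M) : Group.IsNilpotent M := by
  have hp : p.Prime := Fact.out
  haveI := hZn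
  haveI := hKn
  obtain ⟨x', hx'⟩ := exists_prime_orderOf_dvd_card' p hpM
  obtain ⟨x, hxdef⟩ : ∃ x : G, x = (x' : G) := ⟨_, rfl⟩
  have hxM : x ∈ M := hxdef ▸ x'.2
  have hxord : orderOf x = p := by rw [hxdef, Subgroup.orderOf_coe]; exact hx'
  have hxZ : x ∈ Z := by
    have hx2 : x ∈ Z ⊔ K := hsup ▸ Subgroup.mem_top x
    rw [← SetLike.mem_coe, Subgroup.normal_mul] at hx2
    obtain ⟨z, hz, k, hk, hzk⟩ := Set.mem_mul.mp hx2
    have hcomm : Commute z k :=
      Subgroup.commute_of_normal_of_disjoint Z K hZn hKn (disjoint_iff.mpr hZK) z k hz hk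
    have hzp : z ^ p = 1 := by
      have h1 : (⟨z, hz⟩ : Z) ^ Nat.card Z = 1 := pow_card_eq_one'
      rw [hZc] at h1
      exact congrArg Subtype.val h1
    have hkp : k ^ p = 1 := by
      have h1 : x ^ p = 1 := by rw [← hxord]; exact pow_orderOf_eq_one x
      rw [← hzk, hcomm.mul_pow, hzp, one_mul] at h1; exact h1
    have hk1 : k = 1 := by
      have h1 : orderOf k ∣ p := orderOf_dvd_of_pow_eq_one hkp
      have h2 : orderOf k ∣ Nat.card K := Subgroup.orderOf_dvd_natCard K hk
      have h3 := Nat.dvd_gcd h1 h2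
      rw [((Nat.Prime.coprime_iff_not_dvd hp).mpr hpK : Nat.gcd _ _ = 1)] at h3
      exact orderOf_eq_one_iff.mp (Nat.dvd_one.mp h3)
    rw [← hzk, hk1, mul_one]; exact hz
  have hZM : Z ≤ M := by
    have h1 : Subgroup.zpowers x ≤ Z := Subgroup.zpowers_le.mpr hxZ
    have h2 : Subgroup.zpowers x = Z :=
      Subgroup.eq_of_le_of_card_ge h1 (by rw [Nat.card_zpowers, hxord, hZc])
    rw [← h2]; exact Subgroup.zpowers_le.mpr hxM
  have hMeq : M = Z ⊔ (M ⊓ K) := by
    apply le_antisymm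
    · intro m hm
      have hm' : m ∈ Z ⊔ K := hsup ▸ Subgroup.mem_top m
      rw [← SetLike.mem_coe, Subgroup.normal_mul] at hm'
      obtain ⟨z, hz, k, hk, rfl⟩ := Set.mem_mul.mp hm'
      refine mul_mem (Subgroup.mem_sup_left hz) (Subgroup.mem_sup_right ⟨?_, hk⟩)
      have h1 := mul_mem (inv_mem (hZM hz)) hm
      simpa using h1
    · exact sup_le hZM inf_le_left
  have hMKne : M ⊓ K ≠ K := by
    intro h
    apply hM.1
    rw [eq_top_iff, ← hsup]
    exact sup_le hZM (h ▸ inf_le_left)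
  have hnilMK : Group.IsNilpotent (M ⊓ K : Subgroup G) := by
    have h1 : ((M ⊓ K).subgroupOf K) ≠ ⊤ := by
      intro h; apply hMKne
      exact le_antisymm inf_le_right (Subgroup.subgroupOf_eq_top.mp h)
    haveI := hKmin.2 _ h1
    exact Group.nilpotent_of_mulEquiv (Subgroup.subgroupOfEquivOfLe inf_le_right)
  have hnilZ : Group.IsNilpotent Z :=
    (IsPGroup.of_card (n := 1) (by rw [hZc, pow_one])).isNilpotent
  have hnil := nilpotent_sup_of_commute Z (M ⊓ K) hnilZ hnilMK (fun a ha b hb =>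
    Subgroup.commute_of_normal_of_disjoint Z K hZn hKn (disjoint_iff.mpr hZK) a b ha hb.2)
  rw [hMeq]; exact hnil

/-- Let G be a finite group and p a prime dividing its order. Every maximal subgroup of G of order divisible by p is nilpotent if and only if G is nilpotent, or G is a minimal non-nilpotent group, or G is the internal direct product of a normal subgroup of order p and a normal minimal non-nilpotent subgroup of order prime to p. -/
theorem result {G : Type*} [Group G] [Finite G] (p : ℕ) (hp : p.Prime) (hpG : p ∣ Nat.card G) :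
    (∀ M : Subgroup G, IsCoatom M → p ∣ Nat.card M → Group.IsNilpotent M) ↔
      (Group.IsNilpotent G ∨ Cfsg.IsMinimalNonNilpotent G ∨
        ∃ Z K : Subgroup G, Z.Normal ∧ K.Normal ∧ Z ⊓ K = ⊥ ∧ Z ⊔ K = ⊤ ∧ Nat.card Z = p ∧
          Cfsg.IsMinimalNonNilpotent K ∧ ¬ p ∣ Nat.card K) := by
  haveI : Fact p.Prime := ⟨hp⟩
  constructor
  · intro h
    by_cases hG1 : Group.IsNilpotent G
    · exact Or.inl hG1
    by_cases hG2 : Cfsg.IsMinimalNonNilpotent G
    · exact Or.inr (Or.inl hG2)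
    exact Or.inr (Or.inr (forward p hpG h hG1 hG2))
  · rintro (hG | hG | ⟨Z, K, hZn, hKn, hZK, hsup, hZc, hKmin, hpK⟩) M hM hpM
    · haveI := hG; infer_instance
    · exact hG.2 M hM.1
    · exact backward p Z K hZn hKn hZK hsup hZc hKmin hpK M hM hpM

end Cfsg.Agent.S4242
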