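import Cfsg.Statements.S4249
import Cfsg.Agent.Lead.KegelC

set_option autoImplicit false
set_option linter.style.haveILetI false
open Cfsg

namespace Cfsg.Agent.S4249

theorem isPGroup_zpowers {H : Type*} [Group H] (p : ℕ) (a : H) (ha : a ^ p = 1) :
    IsPGroup p (Subgroup.zpowers a) := by
  intro g
  refine ⟨1, ?_⟩
  obtain ⟨j, hj⟩ := Subgroup.mem_zpowers_iff.mp g.2
  apply Subtype.ext
  rw [Subgroup.coe_pow, ← hj, pow_one, ← zpow_natCast, ← zpow_mul, mul_comm, zpow_mul,
    zpow_natCast, ha, one_zpow]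
  rfl

/-- in a finite nilpotent group, elements of distinct prime orders commute -/
theorem commute_of_nilpotent {H : Type*} [Group H] [Finite H] [Group.IsNilpotent H] (p q : ℕ)
    [Fact p.Prime] [Fact q.Prime] (hpq : p ≠ q) (a b : H) (ha : a ^ p = 1) (hb : b ^ q = 1) :
    a * b = b * a := by
  obtain ⟨S, hS⟩ := (isPGroup_zpowers p a ha).exists_le_sylow
  obtain ⟨T, hT⟩ := (isPGroup_zpowers q b hb).exists_le_sylow
  have hd : Disjoint (S : Subgroup H) (T : Subgroup H) :=
    IsPGroup.disjoint_of_ne p q hpq _ _ S.isPGroup' T.isPGroup'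
  exact Subgroup.commute_of_normal_of_disjoint _ _ inferInstance inferInstance hd a b
    (hS (Subgroup.mem_zpowers a)) (hT (Subgroup.mem_zpowers b))

/-- Let G be a finite group and p a prime such that G is not a p-group, and suppose the Hughes subgroup H_p(G), generated by all elements g with g^p ≠ 1, is a proper subgroup. Then H_p(G) is nilpotent and has index p in G. -/
theorem result {G : Type*} [Group G] [Finite G] (p : ℕ) (hp : p.Prime) (hG : ¬ IsPGroup p G)
    (hH : Subgroup.closure {g : G | g ^ p ≠ 1} ≠ ⊤) :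
    Group.IsNilpotent (Subgroup.closure {g : G | g ^ p ≠ 1}) ∧ (Subgroup.closure {g : G | g ^ p ≠ 1}).index = p := by
  haveI : Fact p.Prime := ⟨hp⟩
  obtain ⟨H, hHdef⟩ : ∃ H : Subgroup G, H = Subgroup.closure {g : G | g ^ p ≠ 1} := ⟨_, rfl⟩
  rw [← hHdef] at hH ⊢
  have hmem : ∀ g : G, g ^ p ≠ 1 → g ∈ H := fun g hg => hHdef ▸ Subgroup.subset_closure hg
  have hout : ∀ y : G, y ∉ H → y ^ p = 1 := by
    intro y hy
    by_contra h
    exact hy (hmem y h)
  haveI hHn : H.Normal := by
    constructor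
    intro n hn g
    have hle : H ≤ H.comap (MulAut.conj g).toMonoidHom := by
      conv_lhs => rw [hHdef]
      rw [Subgroup.closure_le]
      intro s hs
      show (MulAut.conj g) s ∈ H
      apply hmem
      intro h
      apply hs
      have h1 : (MulAut.conj g) (s ^ p) = 1 := by
        rw [map_pow]
        exact h
      exact (MulEquiv.map_eq_one_iff _).mp h1
    exact hle hn
  have hKP : Cfsg.Agent.Lead.Kegel.KP p H := ⟨hHn, hH, hout⟩
  haveI hHnil : Group.IsNilpotent H := Cfsg.Agent.Lead.Kegel.kegel p hp _ G rfl H hKP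
  refine ⟨hHnil, ?_⟩
  have hQp : IsPGroup p (G ⧸ H) := by
    intro x
    obtain ⟨g, rfl⟩ := QuotientGroup.mk_surjective x
    refine ⟨1, ?_⟩
    rw [pow_one]
    by_cases hg : g ∈ H
    · rw [(QuotientGroup.eq_one_iff g).mpr hg, one_pow]
    · rw [← QuotientGroup.mk_pow, hout g hg]
      rfl
  haveI : Nontrivial (G ⧸ H) := by
    apply Finite.one_lt_card_iff_nontrivial.mp
    have h1 : H.index ≠ 1 := fun h => hH (Subgroup.index_eq_one.mp h)
    have h2 : H.index ≠ 0 := Subgroup.index_ne_zero_of_finite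
    have h3 : H.index = Nat.card (G ⧸ H) := rfl
    omega
  haveI : Nontrivial (Subgroup.center (G ⧸ H)) := hQp.center_nontrivial
  obtain ⟨⟨wbar, hwc⟩, hw1⟩ := exists_ne (1 : Subgroup.center (G ⧸ H))
  have hwbar1 : wbar ≠ 1 := fun h => hw1 (Subtype.ext h)
  obtain ⟨w, rfl⟩ := QuotientGroup.mk_surjective wbar
  have hwH : w ∉ H := fun h => hwbar1 ((QuotientGroup.eq_one_iff w).mpr h)
  have hwp : w ^ p = 1 := hout w hwH
  obtain ⟨W, hW⟩ : ∃ W : Subgroup (G ⧸ H),
      W = Subgroup.zpowers (QuotientGroup.mk w : G ⧸ H) := ⟨_, rfl⟩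
  haveI hWn : W.Normal := by
    rw [hW]
    constructor
    intro n hn g
    have hnc : n ∈ Subgroup.center (G ⧸ H) := (Subgroup.zpowers_le.mpr hwc) hn
    have h1 : g * n * g⁻¹ = n := by
      rw [Subgroup.mem_center_iff.mp hnc g]
      group
    rw [h1]
    exact hn
  by_cases hWtop : W = ⊤
  · have h1 : Nat.card (G ⧸ H) = orderOf (QuotientGroup.mk w : G ⧸ H) := by
      rw [← Nat.card_zpowers, ← hW, hWtop, Subgroup.card_top]
    have h2 : orderOf (QuotientGroup.mk w : G ⧸ H) = p := by
      refine orderOf_eq_prime ?_ hwbar1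
      rw [← QuotientGroup.mk_pow, hwp]
      rfl
    show Nat.card (G ⧸ H) = p
    rw [h1, h2]
  · exfalso
    obtain ⟨G', hG'⟩ : ∃ G' : Subgroup G, G' = W.comap (QuotientGroup.mk' H) := ⟨_, rfl⟩
    haveI : G'.Normal := by
      rw [hG']
      exact Subgroup.Normal.comap hWn _
    have hHG' : H ≤ G' := by
      intro h hh
      rw [hG', Subgroup.mem_comap]
      have h1 : (QuotientGroup.mk' H) h = 1 := (QuotientGroup.eq_one_iff h).mpr hh
      rw [h1]
      exact W.one_mem
    have hG'top : G' ≠ ⊤ := by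
      intro h
      apply hWtop
      have h2 : W.comap (QuotientGroup.mk' H) =
          (⊤ : Subgroup (G ⧸ H)).comap (QuotientGroup.mk' H) := by
        rw [← hG', h, Subgroup.comap_top]
      exact Subgroup.comap_injective (QuotientGroup.mk'_surjective H) h2
    have hKP' : Cfsg.Agent.Lead.Kegel.KP p G' :=
      ⟨inferInstance, hG'top, fun y hy => hout y (fun h => hy (hHG' h))⟩
    haveI hG'nil : Group.IsNilpotent G' := Cfsg.Agent.Lead.Kegel.kegel p hp _ G rfl G' hKP'
    have hwG' : w ∈ G' := by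
      rw [hG', Subgroup.mem_comap, hW]
      exact Subgroup.mem_zpowers _
    obtain ⟨q, hq, hqG, hqp⟩ : ∃ q, q.Prime ∧ q ∣ Nat.card G ∧ q ≠ p := by
      by_contra h
      push Not at h
      apply hG
      have h1 : Nat.card G = p ^ (Nat.card G).primeFactorsList.length :=
        Nat.eq_prime_pow_of_unique_prime_dvd Nat.card_pos.ne' (fun {d} hd hdvd => h d hd hdvd)
      exact IsPGroup.of_card h1
    haveI : Fact q.Prime := ⟨hq⟩
    have hqH : q ∣ Nat.card H := by
      have h1 : Nat.card G = Nat.card (G ⧸ H) * Nat.card H :=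
        Subgroup.card_eq_card_quotient_mul_card_subgroup H
      obtain ⟨n, hn⟩ := IsPGroup.iff_card.mp hQp
      rw [h1, hn] at hqG
      rcases (Nat.Prime.dvd_mul hq).mp hqG with h | h
      · exact absurd ((Nat.prime_dvd_prime_iff_eq hq hp).mp (hq.dvd_of_dvd_pow h)) hqp
      · exact h
    obtain ⟨v, hv⟩ := exists_prime_orderOf_dvd_card' q hqH
    have hvq : (v : G) ^ q = 1 := by
      have h1 := pow_orderOf_eq_one v
      rw [hv] at h1
      have h2 := congrArg Subtype.val h1
      rwa [Subgroup.coe_pow] at h2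
    have hvp : (v : G) ^ p ≠ 1 := by
      intro h
      have h1 : orderOf v ∣ p := by
        apply orderOf_dvd_of_pow_eq_one
        apply Subtype.ext
        rw [Subgroup.coe_pow]
        exact h
      rw [hv] at h1
      exact hqp ((Nat.prime_dvd_prime_iff_eq hq hp).mp h1)
    have hcomm : (⟨w, hwG'⟩ : G') * ⟨(v : G), hHG' v.2⟩ = ⟨(v : G), hHG' v.2⟩ * ⟨w, hwG'⟩ :=
      commute_of_nilpotent p q hqp.symm _ _
        (Subtype.ext (by rw [Subgroup.coe_pow]; exact hwp))
        (Subtype.ext (by rw [Subgroup.coe_pow]; exact hvq))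
    have hcomm' : w * (v : G) = v * w := congrArg Subtype.val hcomm
    have h3 : (w * (v : G)) ^ p ≠ 1 := by
      rw [(show Commute w (v : G) from hcomm').mul_pow, hwp, one_mul]
      exact hvp
    have h4 : w * (v : G) ∈ H := hmem _ h3
    apply hwH
    have h5 := H.mul_mem h4 (H.inv_mem v.2)
    simpa using h5

end Cfsg.Agent.S4249
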