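import Cfsg.Statements.S4251
-- import your own Cfsg.Agent.* helpers here

import Mathlib
import Cfsg.Agent.Helper23.AlperinDec
import Cfsg.Agent.S0071

set_option autoImplicit false
open Cfsg

namespace Cfsg.Agent.S4251

open Cfsg.Agent.Helper13 Cfsg.Agent.Helper23

theorem exists_mul_of_pquot {M : Type*} [Group M] [Finite M] (p : ℕ) [Fact p.Prime]
    (C S : Subgroup M) [C.Normal] (hC : IsPGroup p (M ⧸ C)) (hS : ¬ p ∣ S.index) (x : M) :
    ∃ c ∈ C, ∃ s ∈ S, x = c * s := by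
  have hp : p.Prime := Fact.out
  obtain ⟨k, hk⟩ := IsPGroup.iff_card.mp hC
  have h1 : (C ⊔ S).index ∣ p ^ k := by
    rw [← hk]; exact Subgroup.index_dvd_of_le le_sup_left
  have h2 : (C ⊔ S).index ∣ S.index := Subgroup.index_dvd_of_le le_sup_right
  obtain ⟨j, hj, hj'⟩ := (Nat.dvd_prime_pow hp).mp h1
  have hj0 : j = 0 := by
    by_contra h0
    apply hS
    exact (dvd_pow_self p h0).trans (hj' ▸ h2)
  rw [hj0, pow_zero] at hj'
  have h3 : C ⊔ S = ⊤ := Subgroup.index_eq_one.mp hj'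
  have h4 : x ∈ ((C ⊔ S : Subgroup M) : Set M) := by rw [h3]; exact Subgroup.mem_top x
  rw [Subgroup.normal_mul] at h4
  obtain ⟨c, hc, s, hs, rfl⟩ := Set.mem_mul.mp h4
  exact ⟨c, hc, s, hs, rfl⟩

/-- Let P be a Sylow p-subgroup of a finite group G. Call an intersection H = P ∩ Q with a Sylow p-subgroup Q tame when N_P(H) and N_Q(H) are Sylow p-subgroups of N_G(H). If N_G(H)/C_G(H) is a p-group for every nontrivial tame intersection H = P ∩ Q, then G has a normal p-complement. -/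
theorem result {G : Type*} [Group G] [Finite G] (p : ℕ) [Fact p.Prime] (P : Sylow p G)
    (h : ∀ Q : Sylow p G, (P : Subgroup G) ⊓ (Q : Subgroup G) ≠ ⊥ → (¬ p ∣ ((P : Subgroup G) ⊓ Subgroup.normalizer (((P : Subgroup G) ⊓ (Q : Subgroup G) : Subgroup G) : Set G)).relIndex (Subgroup.normalizer (((P : Subgroup G) ⊓ (Q : Subgroup G) : Subgroup G) : Set G)) ∧ ¬ p ∣ ((Q : Subgroup G) ⊓ Subgroup.normalizer (((P : Subgroup G) ⊓ (Q : Subgroup G) : Subgroup G) : Set G)).relIndex (Subgroup.normalizer (((P : Subgroup G) ⊓ (Q : Subgroup G) : Subgroup G) : Set G))) →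
      IsPGroup p (Subgroup.normalizer (((P : Subgroup G) ⊓ (Q : Subgroup G) : Subgroup G) : Set G) ⧸
        (Subgroup.centralizer (((P : Subgroup G) ⊓ (Q : Subgroup G) : Subgroup G) : Set G)).subgroupOf
          (Subgroup.normalizer (((P : Subgroup G) ⊓ (Q : Subgroup G) : Subgroup G) : Set G)))) :
    Cfsg.HasNormalPComplement p G := by
  have hp : p.Prime := Fact.out
  refine ⟨P, (Cfsg.Agent.S0071.result P).mpr ?_⟩
  intro Q hQ g hg hcop
  have hdec := alperin_dec P Q hQ g (by rw [rc_eq_self hg]; exact hQ)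
  have key := sdec_gen (stp := astp P)
    (fun (R : Subgroup G) (g : G) => ∃ y ∈ (P : Subgroup G), ∀ b ∈ R, g⁻¹ * b * g = y⁻¹ * b * y)
    (by
      intro R
      exact ⟨1, Subgroup.one_mem _, fun b _ => rfl⟩)
    (by
      rintro R g₁ g₂ ⟨y₁, hy₁, h1⟩ ⟨y₂, hy₂, h2⟩
      refine ⟨y₁ * y₂, Subgroup.mul_mem _ hy₁ hy₂, fun b hb => ?_⟩
      have hb' : g₁⁻¹ * b * g₁ ∈ rc g₁ R := by
        rw [mem_rc]
        have e : g₁ * (g₁⁻¹ * b * g₁) * g₁⁻¹ = b := by group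
        rw [e]; exact hb
      have h3 := h2 _ hb'
      rw [h1 b hb] at h3
      calc (g₁ * g₂)⁻¹ * b * (g₁ * g₂) = g₂⁻¹ * (g₁⁻¹ * b * g₁) * g₂ := by group
        _ = g₂⁻¹ * (y₁⁻¹ * b * y₁) * g₂ := by rw [h1 b hb]
        _ = y₂⁻¹ * (y₁⁻¹ * b * y₁) * y₂ := h3
        _ = (y₁ * y₂)⁻¹ * b * (y₁ * y₂) := by group)
    (Nat.card Q)
    (by
      intro D' x hst R hRD _
      obtain ⟨Q₁, hD', hxN, htP, htQ, -⟩ := hst
      subst hD'
      by_cases hbot : (P : Subgroup G) ⊓ (Q₁ : Subgroup G) = ⊥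
      · refine ⟨1, Subgroup.one_mem _, fun b hb => ?_⟩
        have hb1 : b = 1 := by
          have := hRD hb
          rw [hbot] at this
          exact Subgroup.mem_bot.mp this
        rw [hb1]; group
      · have hpg := h Q₁ hbot ⟨htP, htQ⟩
        obtain ⟨c, hc, s, hs, hx⟩ := exists_mul_of_pquot p
          ((Subgroup.centralizer (((P : Subgroup G) ⊓ (Q₁ : Subgroup G) : Subgroup G) : Set G)).subgroupOf
            (Subgroup.normalizer (((P : Subgroup G) ⊓ (Q₁ : Subgroup G) : Subgroup G) : Set G)))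
          (((P : Subgroup G) ⊓ Subgroup.normalizer (((P : Subgroup G) ⊓ (Q₁ : Subgroup G) : Subgroup G) : Set G)).subgroupOf
            (Subgroup.normalizer (((P : Subgroup G) ⊓ (Q₁ : Subgroup G) : Subgroup G) : Set G)))
          hpg htP ⟨x, hxN⟩
        rw [Subgroup.mem_subgroupOf] at hc hs
        have hx' : x = (c : G) * (s : G) := congrArg Subtype.val hx
        refine ⟨(s : G), (Subgroup.mem_inf.mp hs).1, fun b hb => ?_⟩
        have hbc := (Subgroup.mem_centralizer_iff.mp hc) b (hRD hb)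
        calc x⁻¹ * b * x = (s : G)⁻¹ * ((c : G)⁻¹ * (b * (c : G))) * (s : G) := by
              rw [hx']; group
          _ = (s : G)⁻¹ * ((c : G)⁻¹ * ((c : G) * b)) * (s : G) := by rw [hbc]
          _ = (s : G)⁻¹ * b * (s : G) := by group)
    hdec rfl
  obtain ⟨y, hy, hyb⟩ := key
  -- powers
  have hginv : ∀ b ∈ Q, g⁻¹ * b * g ∈ Q := by
    intro b hb
    have h1 := (Subgroup.mem_normalizer_iff.mp (Subgroup.inv_mem _ hg) b).mp hb
    simpa using h1
  have hpow : ∀ j : ℕ, ∀ b ∈ Q, (g⁻¹) ^ j * b * ((g⁻¹) ^ j)⁻¹ = (y⁻¹) ^ j * b * ((y⁻¹) ^ j)⁻¹ := by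
    intro j
    induction j with
    | zero => intro b _; simp
    | succ j ih =>
      intro b hb
      have h1 := ih _ (hginv b hb)
      calc (g⁻¹) ^ (j + 1) * b * ((g⁻¹) ^ (j + 1))⁻¹
          = (g⁻¹) ^ j * (g⁻¹ * b * g) * ((g⁻¹) ^ j)⁻¹ := by
            rw [pow_succ]; group
        _ = (y⁻¹) ^ j * (g⁻¹ * b * g) * ((y⁻¹) ^ j)⁻¹ := h1
        _ = (y⁻¹) ^ j * (y⁻¹ * b * y) * ((y⁻¹) ^ j)⁻¹ := by rw [hyb b hb]
        _ = (y⁻¹) ^ (j + 1) * b * ((y⁻¹) ^ (j + 1))⁻¹ := by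
            rw [pow_succ]; group
  obtain ⟨k, hk⟩ := (IsPGroup.iff_orderOf.mp P.isPGroup') ⟨y, hy⟩
  have hyk : y ^ (p ^ k) = 1 := by
    have : orderOf y = p ^ k := by rw [← hk, Subgroup.orderOf_mk]
    rw [← this, pow_orderOf_eq_one]
  have hco : Nat.Coprime (orderOf g) (p ^ k) := Nat.Coprime.pow_right k hcop
  obtain ⟨j, hj1, hj2⟩ := Nat.chineseRemainder hco 1 0
  have hgj : (g⁻¹) ^ j = g⁻¹ := by
    have : (g⁻¹) ^ j = (g⁻¹) ^ 1 := by
      rw [pow_eq_pow_iff_modEq, orderOf_inv]; exact hj1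
    rw [this, pow_one]
  have hyj : (y⁻¹) ^ j = 1 := by
    obtain ⟨t, ht⟩ := (Nat.modEq_zero_iff_dvd).mp hj2
    rw [ht, inv_pow, pow_mul, hyk, one_pow, inv_one]
  rw [Subgroup.mem_centralizer_iff]
  intro b hb
  have h1 := hpow j b hb
  rw [hgj, hyj] at h1
  have h2 : g⁻¹ * b * g = b := by simpa using h1
  calc b * g = g * (g⁻¹ * b * g) := by group
    _ = g * b := by rw [h2]

end Cfsg.Agent.S4251
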