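import Cfsg.Statements.S4262
import Cfsg.Agent.S3904
-- import your own Cfsg.Agent.* helpers here

set_option autoImplicit false
open Cfsg

namespace Cfsg.Agent.S4262



/-- Let G be a finite group in which the centralizer of every non-central element is a maximal subgroup of G. Then G is solvable. -/
theorem result {G : Type*} [Group G] [Finite G]
    (h : ∀ g : G, g ∉ Subgroup.center G → IsCoatom (Subgroup.centralizer ({g} : Set G))) :
    Group.IsSolvable G := by
  by_cases hna : IsMulCommutative G
  · exact Group.isSolvable_of_comm (fun a b => hna.is_comm.comm a b)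
  · have hZ : Group.IsSolvable (G ⧸ Subgroup.center G) → Group.IsSolvable G := by
      intro hs
      have hc : Group.IsSolvable (Subgroup.center G) :=
        Group.isSolvable_of_comm (fun a b => Subtype.ext (Subgroup.mem_center_iff.mp b.2 a))
      exact (Group.isSolvable_iff_subgroup_quotient (Subgroup.center G)).mpr ⟨hc, hs⟩
    apply hZ
    rcases Cfsg.Agent.S3904.result hna h with ⟨p, hp, hel⟩ | ⟨_, _, p, q, a, hp, hq, hpq, hcard, hnorm⟩
    · apply Group.isSolvable_of_comm
      intro a b
      have := hel.1.is_comm.comm ⟨a, Subgroup.mem_top a⟩ ⟨b, Subgroup.mem_top b⟩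
      exact congrArg Subtype.val this
    · haveI : Fact p.Prime := ⟨hp⟩
      obtain ⟨K, hK⟩ := Sylow.exists_subgroup_card_pow_prime p
        (show p ^ a ∣ Nat.card (G ⧸ Subgroup.center G) from hcard ▸ Dvd.intro _ rfl)
      haveI := hnorm K hK
      have hKp : IsPGroup p K := IsPGroup.of_card hK
      haveI : Group.IsNilpotent K := hKp.isNilpotent
      have hidx : Nat.card ((G ⧸ Subgroup.center G) ⧸ K) = q := by
        have h3 := K.card_mul_index
        rw [hK, hcard] at h3
        exact Nat.eq_of_mul_eq_mul_left (pow_pos hp.pos a) h3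
      haveI : Fact q.Prime := ⟨hq⟩
      haveI : IsCyclic ((G ⧸ Subgroup.center G) ⧸ K) := isCyclic_of_prime_card hidx
      have hq' : Group.IsSolvable ((G ⧸ Subgroup.center G) ⧸ K) :=
        Group.isSolvable_of_comm (fun a b => IsCyclic.isMulCommutative.is_comm.comm a b)
      exact (Group.isSolvable_iff_subgroup_quotient K).mpr ⟨inferInstance, hq'⟩

end Cfsg.Agent.S4262
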