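import Cfsg.Statements.S4347

set_option autoImplicit false
open Cfsg

namespace Cfsg.Agent.S4347

theorem exists_sylow_of_orderOf {G : Type*} [Group G] [Finite G] (p : ℕ) [Fact p.Prime]
    (x : G) (hx : ∃ k : ℕ, orderOf x = p ^ k) : ∃ P : Sylow p G, x ∈ P := by
  obtain ⟨k, hk⟩ := hx
  have h : IsPGroup p (Subgroup.zpowers x) := by
    apply IsPGroup.of_card (n := k)
    rw [Nat.card_zpowers, hk]
  obtain ⟨Q, hQ⟩ := h.exists_le_sylow
  exact ⟨Q, hQ (Subgroup.mem_zpowers x)⟩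

theorem mem_smul_sylow_iff {G : Type*} [Group G] (p : ℕ) (g x : G) (P : Sylow p G) :
    x ∈ g • P ↔ g⁻¹ * x * g ∈ P := by
  have h : x ∈ ((g • P : Sylow p G) : Subgroup G) ↔ g⁻¹ * x * g ∈ (P : Subgroup G) := by
    rw [Sylow.coe_subgroup_smul, Subgroup.mem_pointwise_smul_iff_inv_smul_mem]
    simp [MulAut.smul_def]
  exact h

/-- Let G be a finite group and p a prime. Say a Sylow p-subgroup Q is redundant when every element of p-power order lies in some Sylow p-subgroup other than Q. Then G has no redundant Sylow p-subgroup if and only if some element of p-power order lies in exactly one Sylow p-subgroup. -/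
theorem result {G : Type*} [Group G] [Finite G]
    (p : ℕ) [Fact p.Prime] :
    (¬ ∃ Q : Sylow p G, ∀ x : G, (∃ k : ℕ, orderOf x = p ^ k) → ∃ P : Sylow p G, P ≠ Q ∧ x ∈ P) ↔
      ∃ x : G, (∃ k : ℕ, orderOf x = p ^ k) ∧ ∃! P : Sylow p G, x ∈ P := by
  constructor
  · intro h
    have Q0 : Sylow p G := default
    have h' : ¬ (∀ x : G, (∃ k : ℕ, orderOf x = p ^ k) → ∃ P : Sylow p G, P ≠ Q0 ∧ x ∈ P) :=
      fun hQ => h ⟨Q0, hQ⟩
    push Not at h'
    obtain ⟨x, hx, hxP⟩ := h'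
    obtain ⟨P, hP⟩ := exists_sylow_of_orderOf p x hx
    refine ⟨x, hx, P, hP, ?_⟩
    intro P' hP'
    by_contra hne
    by_cases hPQ : P = Q0
    · subst hPQ
      exact hxP P' hne hP'
    · exact hxP P hPQ hP
  · rintro ⟨x, ⟨k, hk⟩, P, hP, huniq⟩ ⟨Q, hQ⟩
    obtain ⟨g, hg⟩ := MulAction.exists_smul_eq G P Q
    have hy : ∃ k : ℕ, orderOf (g * x * g⁻¹) = p ^ k := ⟨k, by rw [← MulAut.conj_apply, MulEquiv.orderOf_eq, hk]⟩
    obtain ⟨P', hne, hP'⟩ := hQ (g * x * g⁻¹) hy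
    have hx' : x ∈ g⁻¹ • P' := by
      rw [mem_smul_sylow_iff]
      simpa [mul_assoc] using hP'
    have := huniq (g⁻¹ • P') hx'
    apply hne
    rw [← hg, ← this, smul_smul, mul_inv_cancel, one_smul]

end Cfsg.Agent.S4347
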