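import Cfsg.Statements.S4349
import Cfsg.Agent.Helper8.SyD
-- import your own Cfsg.Agent.* helpers here

set_option autoImplicit false
open Cfsg

namespace Cfsg.Agent.S4349

open Cfsg.Agent.Helper8

/-- Let n ≥ 2 and let x be an element of 2-power order of the symmetric group of degree n. Then x lies in exactly one Sylow 2-subgroup if and only if x has at most two fixed points and the nontrivial cycles of x have pairwise different lengths. -/
theorem result (n : ℕ) (hn : 2 ≤ n)
    (x : Equiv.Perm (Fin n)) (hx : ∃ k : ℕ, orderOf x = 2 ^ k) :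
    (∃! P : Sylow 2 (Equiv.Perm (Fin n)), x ∈ P) ↔ (n ≤ x.support.card + 2 ∧ x.cycleType.Nodup) := by
  obtain ⟨k, hk⟩ := hx
  have hx2 : IsPGroup 2 (Subgroup.zpowers x) := by
    haveI : Fact (Nat.Prime 2) := ⟨Nat.prime_two⟩
    exact IsPGroup.of_card (n := k) (by rw [Nat.card_zpowers, hk])
  constructor
  · rintro ⟨P, hxP, huniq⟩
    have h1 := sy_fixed_le hx2 P (fun Q hQ => huniq Q hQ)
    rw [Fintype.card_fin] at h1
    exact ⟨h1, sy_nodup hx2 P (fun Q hQ => huniq Q hQ)⟩
  · rintro ⟨h1, h2⟩
    exact unique_sylow_of_good (sy_good_of hk (by rw [Fintype.card_fin]; exact h1) h2) hx2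

end Cfsg.Agent.S4349
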