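import Cfsg.Statements.S4364
import Cfsg.Agent.Lead.Kazarin
import Cfsg.Agent.Helper11.CNSolv
import Cfsg.Agent.Helper17.QS
import Cfsg.Agent.S0044
import Cfsg.Agent.S0010
import Cfsg.Agent.S0008

set_option autoImplicit false
open Cfsg

namespace Cfsg.Agent.S4364

/-- Let G be a finite group, p a prime and x an element whose conjugacy class has p-power size. Then for any two conjugates y and z of x, the commutator y z y⁻¹ z⁻¹ lies in O_p(G), the largest normal p-subgroup of G. -/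
theorem result {G : Type*} [Group G] [Finite G] (p : ℕ) [Fact p.Prime]
    (x : G) (hx : ∃ a : ℕ, (Subgroup.centralizer ({x} : Set G)).index = p ^ a) (g h : G) :
    (g * x * g⁻¹) * (h * x * h⁻¹) * (g * x * g⁻¹)⁻¹ * (h * x * h⁻¹)⁻¹ ∈ Cfsg.pCore p G := by
  have hp : p.Prime := Fact.out
  haveI hOn : (Cfsg.pCore p G).Normal := Cfsg.Agent.S0010.pCore_normal p
  obtain ⟨a, ha⟩ := hx
  have hObot : Cfsg.pCore p (G ⧸ Cfsg.pCore p G) = ⊥ :=
    Cfsg.Agent.Helper11.pCore_quotient_pCore p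
  have hdvd := Cfsg.Agent.Lead.kz_index_centralizer_quot (Cfsg.pCore p G) x
  rw [ha] at hdvd
  obtain ⟨m, -, hm⟩ := (Nat.dvd_prime_pow hp).mp hdvd
  obtain ⟨R, hRn, hRs, hxR⟩ := Cfsg.Agent.Lead.kazarin p hp (x : G ⧸ Cfsg.pCore p G) m hm
  haveI := hRn
  haveI := hRs
  haveI hFn : ((Cfsg.fittingSubgroup ↥R).map R.subtype).Normal :=
    Cfsg.Agent.Helper10.map_subtype_normal_of_char R _
      (fun φ => Cfsg.Agent.Helper10.fitting_char φ)
  have hFnil : Group.IsNilpotent ↥((Cfsg.fittingSubgroup ↥R).map R.subtype) :=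
    (Group.isNilpotent_congr
      ((Cfsg.fittingSubgroup ↥R).equivMapOfInjective _ R.subtype_injective)).mp
      Cfsg.Agent.S0008.result
  have hFcop : (Nat.card ↥((Cfsg.fittingSubgroup ↥R).map R.subtype)).Coprime p :=
    Cfsg.Agent.Helper17.card_coprime_of_nilpotent_normal hObot _ hFnil
  have hFC : (Cfsg.fittingSubgroup ↥R).map R.subtype ≤
      Subgroup.centralizer ({(x : G ⧸ Cfsg.pCore p G)} : Set (G ⧸ Cfsg.pCore p G)) := by
    rw [← Subgroup.relIndex_eq_one]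
    have h1 := Cfsg.Agent.Lead.kz_relIndex_dvd
      (Subgroup.centralizer ({(x : G ⧸ Cfsg.pCore p G)} : Set (G ⧸ Cfsg.pCore p G)))
      ((Cfsg.fittingSubgroup ↥R).map R.subtype)
    rw [hm] at h1
    have h2 := Subgroup.relIndex_dvd_card
      (Subgroup.centralizer ({(x : G ⧸ Cfsg.pCore p G)} : Set (G ⧸ Cfsg.pCore p G)))
      ((Cfsg.fittingSubgroup ↥R).map R.subtype)
    exact Nat.Coprime.eq_one_of_dvd ((Nat.Coprime.coprime_dvd_left h2 hFcop).pow_right m) h1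
  -- every conjugate of the image of `x` centralizes `F`
  have hconj : ∀ u f : G ⧸ Cfsg.pCore p G, f ∈ (Cfsg.fittingSubgroup ↥R).map R.subtype →
      (u * (x : G ⧸ Cfsg.pCore p G) * u⁻¹) * f = f * (u * (x : G ⧸ Cfsg.pCore p G) * u⁻¹) := by
    intro u f hf
    have hf' : u⁻¹ * f * u ∈ (Cfsg.fittingSubgroup ↥R).map R.subtype := by
      have := hFn.conj_mem f hf u⁻¹
      rwa [inv_inv] at this
    have e1 : (x : G ⧸ Cfsg.pCore p G) * (u⁻¹ * f * u) = (u⁻¹ * f * u) * (x : G ⧸ Cfsg.pCore p G) :=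
      Subgroup.mem_centralizer_iff.mp (hFC hf') _ rfl
    calc u * (x : G ⧸ Cfsg.pCore p G) * u⁻¹ * f
        = u * ((x : G ⧸ Cfsg.pCore p G) * (u⁻¹ * f * u)) * u⁻¹ := by group
      _ = u * ((u⁻¹ * f * u) * (x : G ⧸ Cfsg.pCore p G)) * u⁻¹ := by rw [e1]
      _ = f * (u * (x : G ⧸ Cfsg.pCore p G) * u⁻¹) := by group
  -- every conjugate lies in `F`
  have hmem : ∀ u : G ⧸ Cfsg.pCore p G, u * (x : G ⧸ Cfsg.pCore p G) * u⁻¹ ∈
      (Cfsg.fittingSubgroup ↥R).map R.subtype := by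
    intro u
    have huR : u * (x : G ⧸ Cfsg.pCore p G) * u⁻¹ ∈ R := hRn.conj_mem _ hxR u
    have hc : (⟨_, huR⟩ : ↥R) ∈ Subgroup.centralizer ((Cfsg.fittingSubgroup ↥R : Subgroup ↥R) : Set ↥R) := by
      rw [Subgroup.mem_centralizer_iff]
      intro f hf
      apply Subtype.ext
      exact (hconj u (f : G ⧸ Cfsg.pCore p G) (Subgroup.mem_map_of_mem R.subtype hf)).symm
    have hin := Cfsg.Agent.S0044.result hc
    exact ⟨_, hin, rfl⟩
  have hcomm : ((g : G ⧸ Cfsg.pCore p G) * (x : G ⧸ Cfsg.pCore p G) * (g : G ⧸ Cfsg.pCore p G)⁻¹) *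
      ((h : G ⧸ Cfsg.pCore p G) * (x : G ⧸ Cfsg.pCore p G) * (h : G ⧸ Cfsg.pCore p G)⁻¹) =
      ((h : G ⧸ Cfsg.pCore p G) * (x : G ⧸ Cfsg.pCore p G) * (h : G ⧸ Cfsg.pCore p G)⁻¹) *
      ((g : G ⧸ Cfsg.pCore p G) * (x : G ⧸ Cfsg.pCore p G) * (g : G ⧸ Cfsg.pCore p G)⁻¹) :=
    hconj _ _ (hmem _)
  rw [← QuotientGroup.eq_one_iff]
  simp only [QuotientGroup.mk_mul, QuotientGroup.mk_inv]
  rw [hcomm]
  group

end Cfsg.Agent.S4364
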