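import Cfsg.Statements.S4410
import Cfsg.Agent.Helper5.Cubic

set_option autoImplicit false
open Cfsg

namespace Cfsg.Agent.S4410

/-- Let V be a finite-dimensional vector space over the field with two elements and S a solvable group of linear automorphisms of V with O₂(S) = 1. If P ∈ S has order 4 and (P − 1)³ = 0 on V, then the image of (P − 1)² has at least 4 elements; equivalently, in the decomposition of V into indecomposable modules for the cyclic group generated by P, at least two summands have dimension 3. -/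
theorem result
    {V : Type*} [AddCommGroup V] [Module (ZMod 2) V] [Finite V]
    (S : Subgroup (V ≃ₗ[ZMod 2] V)) (hS : Group.IsSolvable ↥S) (hO2 : Cfsg.pCore 2 ↥S = ⊥)
    (P : V ≃ₗ[ZMod 2] V) (hPS : P ∈ S) (hP4 : orderOf P = 4)
    (hcub : ((P : V →ₗ[ZMod 2] V) - LinearMap.id) ^ 3 = 0) :
    4 ≤ Nat.card ↥(LinearMap.range (((P : V →ₗ[ZMod 2] V) - LinearMap.id) ^ 2)) := by
  classical
  haveI : Fact (Nat.Prime 2) := ⟨Nat.prime_two⟩
  haveI : Finite (V ≃ₗ[ZMod 2] V) :=
    Finite.of_injective (fun e : V ≃ₗ[ZMod 2] V => (e : V → V)) DFunLike.coe_injective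
  by_contra hlt
  rw [not_le] at hlt
  have h2 : ∀ v : V, v + v = 0 := by
    intro v
    have h : (2 : ZMod 2) • v = 0 := by
      have h' : (2 : ZMod 2) = 0 := rfl
      rw [h', zero_smul]
    rwa [two_smul] at h
  obtain ⟨N, hN⟩ : ∃ N : V →ₗ[ZMod 2] V, N = (P : V →ₗ[ZMod 2] V) - LinearMap.id := ⟨_, rfl⟩
  rw [← hN] at hcub hlt
  have hPN : ∀ v : V, P v = v + N v := by
    intro v; rw [hN]; simp
  have hPP : ∀ v : V, P (P v) = v + N (N v) := by
    intro v
    rw [hPN (P v), hPN v, map_add]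
    linear_combination (norm := abel) h2 (N v)
  have hN3 : ∀ v : V, N (N (N v)) = 0 := by
    intro v
    have h3 : N ^ 3 = N * (N * N) := by rw [pow_succ, pow_two, mul_assoc]
    rw [h3] at hcub
    exact LinearMap.congr_fun hcub v
  have hne : ∃ w : V, N (N w) ≠ 0 := by
    by_contra hcon
    push Not at hcon
    have hP2 : P ^ 2 = 1 := by
      ext v
      rw [pow_two]
      show P (P v) = v
      rw [hPP, hcon, add_zero]
    have hd := orderOf_dvd_of_pow_eq_one hP2
    rw [hP4] at hd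
    omega
  obtain ⟨w, hw⟩ := hne
  obtain ⟨u, hu⟩ : ∃ u : V, u = N (N w) := ⟨_, rfl⟩
  have hu0 : u ≠ 0 := by rw [hu]; exact hw
  have hmemR : ∀ v : V, N (N v) ∈ ((LinearMap.range (N ^ 2) : Submodule (ZMod 2) V) : Set V) := by
    intro v
    exact ⟨v, by rw [pow_two]; rfl⟩
  have hrange : ∀ v : V, N (N v) = 0 ∨ N (N v) = u := by
    intro v
    by_contra hcon
    push Not at hcon
    obtain ⟨hx0, hxu⟩ := hcon
    have hs : u + N (N v) ≠ 0 := by
      intro h
      apply hxu
      linear_combination (norm := abel) h + (h2 u).symm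
    have h4 : 4 ≤ ((LinearMap.range (N ^ 2) : Submodule (ZMod 2) V) : Set V).ncard := by
      apply Cfsg.Agent.Helper5.Cubic.four_le_ncard _ u (N (N v))
      · have := hmemR 0
        rwa [map_zero, map_zero] at this
      · rw [hu]; exact hmemR w
      · exact hmemR v
      · have := hmemR (w + v)
        rwa [map_add, map_add, ← hu] at this
      · exact hu0
      · exact hx0
      · exact hxu
      · exact hs
    have h4' : 4 ≤ Nat.card ↥(LinearMap.range (N ^ 2)) := h4
    omega
  -- the group side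
  obtain ⟨Ps, hPs⟩ : ∃ Ps : ↥S, Ps = ⟨P, hPS⟩ := ⟨_, rfl⟩
  have hPsv : ∀ v : V, Ps • v = P v := by intro v; rw [hPs]; rfl
  have hPs4 : Ps * Ps * (Ps * Ps) = 1 := by
    apply Subtype.ext
    rw [hPs]
    show P * P * (P * P) = 1
    have := pow_orderOf_eq_one P
    rw [hP4] at this
    rw [← pow_two, ← pow_two, ← pow_mul]
    exact this
  obtain ⟨K, hK⟩ : ∃ K : Subgroup ↥S, K = Cfsg.pPrimeCore 2 ↥S := ⟨_, rfl⟩
  haveI hKn : K.Normal := by rw [hK]; exact Subgroup.sSup_normal _ (fun _ h => h.1)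
  have hKc : (Nat.card K).Coprime 2 := by
    rw [hK]; exact Cfsg.Agent.Helper10.pPrimeCore_coprime 2 ↥S
  have hKcent : Subgroup.centralizer (K : Set ↥S) ≤ K := by
    rw [hK]
    exact Cfsg.Agent.Helper5.centralizer_pPrimeCore_le
      (Cfsg.Agent.Helper5.isPSolvable_of_isSolvable 2) hO2
  have hodd : ∀ x ∈ K, Odd (orderOf x) := by
    intro x hx
    have h1 : orderOf (⟨x, hx⟩ : ↥K) ∣ Nat.card K := orderOf_dvd_natCard _
    rw [← Subgroup.orderOf_coe] at h1
    exact Nat.coprime_two_right.mp (Nat.Coprime.coprime_dvd_left h1 hKc)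
  obtain ⟨ts, hts⟩ : ∃ ts : ↥S, ts = Ps * Ps := ⟨_, rfl⟩
  have hts2 : ts * ts = 1 := by rw [hts]; exact hPs4
  have hts1 : ts ≠ 1 := by
    intro h
    rw [hts, hPs] at h
    have hP2 : P ^ 2 = 1 := by
      have := congrArg Subtype.val h
      rw [pow_two]; exact this
    have hd := orderOf_dvd_of_pow_eq_one hP2
    rw [hP4] at hd
    omega
  have htsK : ts ∉ K := by
    intro h
    have h1 := hodd ts h
    have h2' : orderOf ts ∣ 2 := orderOf_dvd_of_pow_eq_one (by rw [pow_two]; exact hts2)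
    rcases (Nat.dvd_prime Nat.prime_two).mp h2' with h3 | h3
    · exact hts1 (orderOf_eq_one_iff.mp h3)
    · rw [h3] at h1; exact absurd h1 (by decide)
  have hex : ∃ k ∈ K, k * ts ≠ ts * k := by
    by_contra hcon
    push Not at hcon
    apply htsK
    apply hKcent
    rw [Subgroup.mem_centralizer_iff]
    exact hcon
  obtain ⟨k, hkK, hkt⟩ := hex
  have htsinv : ts⁻¹ = ts := by
    rw [inv_eq_iff_mul_eq_one]; exact hts2
  obtain ⟨f, hf⟩ : ∃ f : ↥S, f = k⁻¹ * (ts * k * ts) := ⟨_, rfl⟩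
  have hfK : f ∈ K := by
    rw [hf]
    have := hKn.conj_mem k hkK ts
    rw [htsinv] at this
    exact K.mul_mem (K.inv_mem hkK) this
  have hf1 : f ≠ 1 := by
    intro h
    apply hkt
    rw [hf] at h
    have e1 : ts * k * ts = k := by
      calc ts * k * ts = k * (k⁻¹ * (ts * k * ts)) := by group
        _ = k := by rw [h, mul_one]
    calc k * ts = (ts * k * ts) * ts := by rw [e1]
      _ = ts * k * (ts * ts) := by group
      _ = ts * k := by rw [hts2, mul_one]
  have hX : f * ts * f = ts := by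
    rw [hf]
    calc k⁻¹ * (ts * k * ts) * ts * (k⁻¹ * (ts * k * ts))
        = k⁻¹ * ts * k * (ts * ts) * (k⁻¹ * ts * k * ts) := by group
      _ = k⁻¹ * ts * k * 1 * (k⁻¹ * ts * k * ts) := by rw [hts2]
      _ = k⁻¹ * (ts * ts) * (k * ts) := by group
      _ = k⁻¹ * 1 * (k * ts) := by rw [hts2]
      _ = ts := by group
  have hinv : ts * f = f⁻¹ * ts := by
    calc ts * f = f⁻¹ * (f * ts * f) := by group
      _ = f⁻¹ * ts := by rw [hX]
  obtain ⟨g, hg⟩ : ∃ g : ↥S, g = f * (Ps * f * Ps⁻¹) := ⟨_, rfl⟩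
  have hgK : g ∈ K := by rw [hg]; exact K.mul_mem hfK (hKn.conj_mem f hfK Ps)
  have hfne : ∃ v : V, f • v ≠ v := by
    by_contra hcon
    push Not at hcon
    apply hf1
    apply Subtype.ext
    apply LinearEquiv.ext
    intro v
    exact hcon v
  refine Cfsg.Agent.Helper5.Cubic.cubic_core h2 Ps f u hu0 ?_ ?_ ?_
    (orderOf f) (hodd f hfK) (pow_orderOf_eq_one f) hfne
    (orderOf g) (hodd g hgK) ?_
  · intro v
    rw [hPsv, hPsv, hPP]
    rcases hrange v with e | e
    · left; rw [e, add_zero]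
    · right; rw [e]
  · rw [hPsv, hPN, hu, hN3, add_zero]
  · rw [← hts]; exact hinv
  · rw [← hg]; exact pow_orderOf_eq_one g

end Cfsg.Agent.S4410
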