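import Cfsg.Statements.S4419
import Mathlib
import Cfsg.Agent.S0010
import Cfsg.Agent.S0014
import Cfsg.Agent.S4208
import Cfsg.Agent.S0667
import Cfsg.Agent.S0071
import Cfsg.Agent.Helper21.Metacyclic
import Cfsg.Agent.Helper17.CharSub
import Cfsg.Agent.Helper13.Omega
import Cfsg.Agent.Helper10.PComp
-- import your own Cfsg.Agent.* helpers here

set_option autoImplicit false
open Cfsg

namespace Cfsg.Agent.S4419


open scoped Pointwise

/-- metacyclicity transfers along isomorphisms -/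
theorem isMetacyclic_of_equiv {A B : Type*} [Group A] [Group B] (e : A ≃* B)
    (h : Cfsg.IsMetacyclic A) : Cfsg.IsMetacyclic B := by
  obtain ⟨N, hNn, hNc, hQc⟩ := h
  haveI := hNn
  haveI hN'n : (N.map e.toMonoidHom).Normal := Subgroup.Normal.map hNn _ e.surjective
  refine ⟨N.map e.toMonoidHom, hN'n, ?_, ?_⟩
  · haveI := hNc
    exact isCyclic_of_surjective (N.equivMapOfInjective e.toMonoidHom e.injective)
      (N.equivMapOfInjective e.toMonoidHom e.injective).surjective
  · haveI := hQc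
    exact isCyclic_of_surjective (QuotientGroup.congr N (N.map e.toMonoidHom) e rfl)
      (QuotientGroup.congr N (N.map e.toMonoidHom) e rfl).surjective

/-- the Frattini quotient of a metacyclic `p`-group has order at most `p^2` -/
theorem frattini_index_le_of_metacyclic {Q : Type*} [Group Q] [Finite Q] {p : ℕ} [Fact p.Prime]
    (hQ : IsPGroup p Q) (hm : Cfsg.IsMetacyclic Q) :
    ∃ s : ℕ, s ≤ 2 ∧ (frattini Q).index = p ^ s := by
  classical
  have hp := (Fact.out : p.Prime)
  obtain ⟨n, hn⟩ := hQ.exists_card_eq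
  obtain ⟨s, -, hs⟩ := (Nat.dvd_prime_pow hp).mp (hn ▸ (frattini Q).index_dvd_card)
  refine ⟨s, ?_, hs⟩
  obtain ⟨N, hNn, hNc, hQc⟩ := hm
  haveI := hNn
  obtain ⟨n₀, hn₀⟩ := hNc.exists_generator
  obtain ⟨c, hc⟩ := hQc.exists_generator
  obtain ⟨b₀, rfl⟩ := QuotientGroup.mk_surjective c
  have hgen : Subgroup.closure (({(n₀ : Q), b₀} : Finset Q) : Set Q) = ⊤ := by
    rw [eq_top_iff]
    intro q _
    obtain ⟨j, hj⟩ := Subgroup.mem_zpowers_iff.mp (hc (QuotientGroup.mk q))
    have h1 : q * (b₀ ^ j)⁻¹ ∈ N := by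
      apply (QuotientGroup.eq_one_iff _).mp
      rw [QuotientGroup.mk_mul, QuotientGroup.mk_inv, QuotientGroup.mk_zpow, hj, mul_inv_cancel]
    obtain ⟨i, hi⟩ := Subgroup.mem_zpowers_iff.mp (hn₀ ⟨_, h1⟩)
    have h2 : (n₀ : Q) ^ i = q * (b₀ ^ j)⁻¹ := by
      have h3 := congrArg Subtype.val hi
      simpa using h3
    have h4 : q = (n₀ : Q) ^ i * b₀ ^ j := by rw [h2]; group
    rw [h4]
    apply mul_mem
    · exact zpow_mem (Subgroup.subset_closure (by simp)) i
    · exact zpow_mem (Subgroup.subset_closure (by simp)) j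
  have h3 := (Cfsg.Agent.S0014.result p s hQ hs).2 _ hgen
  exact h3.trans Finset.card_le_two

/-- a prime other than `p` dividing the order of the automorphism group of a metacyclic `p`-group
divides `p^2 - 1` -/
theorem prime_dvd_aut_metacyclic {Q : Type*} [Group Q] [Finite Q] {p : ℕ} [Fact p.Prime]
    (hQ : IsPGroup p Q) (hm : Cfsg.IsMetacyclic Q) (r : ℕ) (hr : r.Prime) (hrp : r ≠ p)
    (hdvd : r ∣ Nat.card (MulAut Q)) : r ∣ p ^ 2 - 1 := by
  have hp := (Fact.out : p.Prime)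
  obtain ⟨n, hn⟩ := hQ.exists_card_eq
  obtain ⟨s, hs2, hs⟩ := frattini_index_le_of_metacyclic hQ hm
  have h1 := Cfsg.Agent.S4208.result hn hs
  have h2 := dvd_trans hdvd h1
  have hfac : p ^ 2 - 1 = (p - 1) * (p + 1) := by
    obtain ⟨q, rfl⟩ : ∃ q, p = q + 1 := ⟨p - 1, by have := hp.pos; omega⟩
    have h3 : (q + 1) ^ 2 = q * (q + 1 + 1) + 1 := by ring
    rw [h3]; simp
  rcases (Nat.Prime.dvd_mul hr).mp h2 with h3 | h3
  · exact absurd ((Nat.prime_dvd_prime_iff_eq hr hp).mp (hr.dvd_of_dvd_pow h3)) hrp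
  · interval_cases s
    · rw [Finset.prod_range_zero] at h3
      exact absurd (Nat.dvd_one.mp h3) hr.ne_one
    · rw [Finset.prod_range_one, pow_zero, pow_one] at h3
      rw [hfac]; exact Dvd.dvd.mul_right h3 _
    · rw [Finset.prod_range_succ, Finset.prod_range_one, pow_zero, pow_one] at h3
      rcases (Nat.Prime.dvd_mul hr).mp h3 with h4 | h4
      · exact h4
      · have h5 : p ^ 2 - p = p * (p - 1) := by rw [Nat.mul_sub, mul_one, sq]
        rw [h5] at h4
        rcases (Nat.Prime.dvd_mul hr).mp h4 with h6 | h6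
        · exact absurd ((Nat.prime_dvd_prime_iff_eq hr hp).mp h6) hrp
        · rw [hfac]; exact Dvd.dvd.mul_right h6 _

/-- `r`-elements normalizing a metacyclic `p`-subgroup centralize it -/
theorem r_elt_centralizes {G : Type*} [Group G] [Finite G] (p : ℕ) [Fact p.Prime]
    (hcop : Nat.Coprime (Nat.card (G ⧸ Cfsg.pPrimePCore p G)) (p ^ 2 - 1))
    (Q : Subgroup G) (hQ : IsPGroup p Q) (hQm : Cfsg.IsMetacyclic Q)
    (r : ℕ) (hr : r.Prime) (hrp : r ≠ p) (a : G) (k : ℕ) (hak : a ^ r ^ k = 1)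
    (haN : a ∈ Subgroup.normalizer (Q : Set G)) : a ∈ Subgroup.centralizer (Q : Set G) := by
  have hp := (Fact.out : p.Prime)
  haveI hLn : (Cfsg.pPrimePCore p G).Normal := by
    unfold Cfsg.pPrimePCore; infer_instance
  by_cases hdvd : r ∣ p ^ 2 - 1
  · have hrL : (Nat.card (G ⧸ Cfsg.pPrimePCore p G)).Coprime r :=
      Nat.Coprime.coprime_dvd_right hdvd hcop
    have haL : a ∈ Cfsg.pPrimePCore p G := by
      apply (QuotientGroup.eq_one_iff a).mp
      have h1 : orderOf ((a : G ⧸ Cfsg.pPrimePCore p G)) ∣ r ^ k := by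
        apply orderOf_dvd_of_pow_eq_one
        rw [← QuotientGroup.mk_pow, hak]; rfl
      have h2 : orderOf ((a : G ⧸ Cfsg.pPrimePCore p G)) ∣
          Nat.card (G ⧸ Cfsg.pPrimePCore p G) := orderOf_dvd_natCard _
      have h3 : (orderOf ((a : G ⧸ Cfsg.pPrimePCore p G))).Coprime
          (orderOf ((a : G ⧸ Cfsg.pPrimePCore p G))) :=
        Nat.Coprime.coprime_dvd_left h2
          (Nat.Coprime.coprime_dvd_right h1 (Nat.Coprime.pow_right k hrL))
      exact orderOf_eq_one_iff.mp ((Nat.coprime_self _).mp h3)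
    have haK : a ∈ Cfsg.pPrimeCore p G := by
      have h0 : (QuotientGroup.mk' (Cfsg.pPrimeCore p G)) a ∈
          Cfsg.pCore p (G ⧸ Cfsg.pPrimeCore p G) := haL
      apply (QuotientGroup.eq_one_iff a).mp
      obtain ⟨j, hj⟩ := (IsPGroup.iff_orderOf.mp
        (Cfsg.Agent.S0010.pCore_isPGroup (G := G ⧸ Cfsg.pPrimeCore p G) p)) ⟨_, h0⟩
      rw [Subgroup.orderOf_mk] at hj
      have h1 : orderOf ((QuotientGroup.mk' (Cfsg.pPrimeCore p G)) a) ∣ r ^ k := by
        apply orderOf_dvd_of_pow_eq_one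
        rw [← map_pow, hak, map_one]
      rw [hj] at h1
      have hj0 : j = 0 := by
        by_contra h
        have h2 : p ∣ r ^ k := dvd_trans (dvd_pow_self p h) h1
        exact hrp ((Nat.prime_dvd_prime_iff_eq hp hr).mp (hp.dvd_of_dvd_pow h2)).symm
      rw [hj0, pow_zero] at hj
      exact orderOf_eq_one_iff.mp hj
    rw [Subgroup.mem_centralizer_iff]
    intro u hu
    have h1 : a * u * a⁻¹ * u⁻¹ ∈ Q :=
      mul_mem ((Subgroup.mem_normalizer_iff.mp haN u).mp hu) (inv_mem hu)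
    have h2 : a * u * a⁻¹ * u⁻¹ ∈ Cfsg.pPrimeCore p G := by
      have h3 := (Cfsg.pPrimeCore_normal p G).conj_mem a⁻¹ (inv_mem haK) u
      have h4 := mul_mem haK h3
      have h5 : a * (u * a⁻¹ * u⁻¹) = a * u * a⁻¹ * u⁻¹ := by group
      rw [h5] at h4; exact h4
    have h3 : Q ⊓ Cfsg.pPrimeCore p G = ⊥ := by
      apply disjoint_iff.mp
      apply Subgroup.disjoint_of_coprime_natCard
      obtain ⟨m, hm⟩ := hQ.exists_card_eq
      rw [hm]
      exact Nat.Coprime.pow_left m (Cfsg.Agent.Helper10.pPrimeCore_coprime p G).symm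
    have h4 : a * u * a⁻¹ * u⁻¹ = 1 := by
      have h5 : a * u * a⁻¹ * u⁻¹ ∈ Q ⊓ Cfsg.pPrimeCore p G := ⟨h1, h2⟩
      rwa [h3, Subgroup.mem_bot] at h5
    calc u * a = (a * u * a⁻¹ * u⁻¹)⁻¹ * (a * u) := by group
      _ = a * u := by rw [h4]; group
  · obtain ⟨α, hα⟩ : ∃ α : MulAut ↥Q,
        α = Cfsg.Agent.Helper17.conjEquivOfMemNormalizer Q a haN := ⟨_, rfl⟩
    have hαk : α ^ r ^ k = 1 := by
      ext x
      rw [hα, Cfsg.Agent.Helper13.conjEquiv_pow_coe, hak]
      simp
    have h1 : orderOf α = 1 := by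
      by_contra hne
      have h2 : orderOf α ∣ r ^ k := orderOf_dvd_of_pow_eq_one hαk
      obtain ⟨j, -, hj⟩ := (Nat.dvd_prime_pow hr).mp h2
      have hj0 : j ≠ 0 := by
        rintro rfl
        exact hne (by rw [hj, pow_zero])
      have h3 : r ∣ Nat.card (MulAut ↥Q) := by
        apply dvd_trans _ (orderOf_dvd_natCard α)
        rw [hj]; exact dvd_pow_self r hj0
      exact hdvd (prime_dvd_aut_metacyclic hQ hQm r hr hrp h3)
    have h2 : α = 1 := orderOf_eq_one_iff.mp h1
    rw [Subgroup.mem_centralizer_iff]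
    intro u hu
    have h3 := congrArg (fun f : MulAut ↥Q => ((f ⟨u, hu⟩ : ↥Q) : G)) h2
    simp only [hα, Cfsg.Agent.Helper17.conjEquivOfMemNormalizer_coe, MulAut.one_apply] at h3
    calc u * a = (a * u * a⁻¹) * a := by rw [h3]
      _ = a * u := by group

/-- `p'`-elements normalizing a metacyclic `p`-subgroup centralize it -/
theorem centralizes_of_coprime {G : Type*} [Group G] [Finite G] (p : ℕ) [Fact p.Prime]
    (hcop : Nat.Coprime (Nat.card (G ⧸ Cfsg.pPrimePCore p G)) (p ^ 2 - 1))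
    (Q : Subgroup G) (hQ : IsPGroup p Q) (hQm : Cfsg.IsMetacyclic Q) :
    ∀ n : ℕ, ∀ g : G, orderOf g = n → n.Coprime p → g ∈ Subgroup.normalizer (Q : Set G) →
      g ∈ Subgroup.centralizer (Q : Set G) := by
  intro n
  induction n using Nat.strong_induction_on with
  | _ n ih =>
  intro g hgn hnp hgN
  by_cases hn1 : n = 1
  · rw [hn1, orderOf_eq_one_iff] at hgn
    rw [hgn]; exact one_mem _
  obtain ⟨r, hr, hrn⟩ := Nat.exists_prime_and_dvd hn1
  haveI : Fact r.Prime := ⟨hr⟩
  have hrp : r ≠ p := by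
    rintro rfl
    exact hr.ne_one (Nat.Coprime.eq_one_of_dvd hnp.symm hrn)
  obtain ⟨a, c, ha, hc, hgac, ⟨k, hak⟩, hcc⟩ := Cfsg.Agent.S0667.exists_p_decomp r g
  have hzN : Subgroup.zpowers g ≤ Subgroup.normalizer (Q : Set G) := by
    rw [Subgroup.zpowers_le]; exact hgN
  have haC := r_elt_centralizes p hcop Q hQ hQm r hr hrp a k hak (hzN ha)
  have hcn : orderOf c ∣ n := by
    rw [← hgn]
    exact orderOf_dvd_of_mem_zpowers hc
  have hn0 : 0 < n := by rw [← hgn]; exact orderOf_pos g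
  have hclt : orderOf c < n := by
    apply lt_of_le_of_ne (Nat.le_of_dvd hn0 hcn)
    intro h
    rw [h] at hcc
    exact hr.ne_one (Nat.Coprime.eq_one_of_dvd hcc.symm hrn)
  have hcC := ih (orderOf c) hclt c rfl (Nat.Coprime.coprime_dvd_left hcn hnp) (hzN hc)
  rw [hgac]
  exact mul_mem haC hcC


/-- Let p be a prime and G a finite group whose Sylow p-subgroups are metacyclic (a cyclic normal subgroup with cyclic quotient). Then G has a normal p-complement if and only if the order of G/O_{p′,p}(G) is coprime to p² − 1. -/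
theorem result {G : Type*} [Group G] [Finite G] (p : ℕ) [Fact p.Prime] (S : Sylow p G) (hS : Cfsg.IsMetacyclic ↥(S : Subgroup G)) : Cfsg.HasNormalPComplement p G ↔ Nat.Coprime (Nat.card (G ⧸ Cfsg.pPrimePCore p G)) (p ^ 2 - 1) := by
  have hp := (Fact.out : p.Prime)
  constructor
  · rintro ⟨P, N, hN, hc⟩
    have hK : N ≤ Cfsg.pPrimeCore p G := by
      apply Cfsg.Agent.Helper10.le_pPrimeCore p hN
      have h3 : (P : Subgroup G).index = Nat.card N := hc.index_eq_card
      rw [← h3]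
      exact ((Nat.Prime.coprime_iff_not_dvd hp).mpr P.not_dvd_index).symm
    have hp' : IsPGroup p (G ⧸ Cfsg.pPrimeCore p G) := by
      obtain ⟨k, hk⟩ := P.2.exists_card_eq
      have h1 : (Cfsg.pPrimeCore p G).index ∣ N.index := Subgroup.index_dvd_of_le hK
      have h2 : N.index = Nat.card (P : Subgroup G) := hc.symm.index_eq_card
      rw [h2, hk] at h1
      obtain ⟨j, -, hj⟩ := (Nat.dvd_prime_pow hp).mp h1
      apply IsPGroup.of_card (n := j)
      rw [← Subgroup.index_eq_card, hj]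
    have htop : Cfsg.pPrimePCore p G = ⊤ := by
      unfold Cfsg.pPrimePCore
      have h1 : Cfsg.pCore p (G ⧸ Cfsg.pPrimeCore p G) = ⊤ := by
        rw [eq_top_iff]
        apply Cfsg.Agent.S0010.le_pCore p ⊤ inferInstance
        exact hp'.to_subgroup ⊤
      rw [h1, Subgroup.comap_top]
    have h1 : Nat.card (G ⧸ Cfsg.pPrimePCore p G) = 1 := by
      rw [← Subgroup.index_eq_card, htop, Subgroup.index_top]
    rw [h1]; exact Nat.coprime_one_left _
  · intro h
    obtain ⟨N, hN, hc⟩ := (Cfsg.Agent.S0071.result S).mpr (by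
      intro Q hQS g hg hcopg
      have hQm : Cfsg.IsMetacyclic ↥Q :=
        isMetacyclic_of_equiv (Subgroup.subgroupOfEquivOfLe hQS)
          (Cfsg.Agent.Helper21.isMetacyclic_subgroup hS (Q.subgroupOf (S : Subgroup G)))
      exact centralizes_of_coprime p h Q (S.2.to_le hQS) hQm (orderOf g) g rfl hcopg hg)
    exact ⟨S, N, hN, hc⟩

end Cfsg.Agent.S4419
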