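import Cfsg.Statements.S4585
import Mathlib
import Cfsg.Agent.Helper4.PFour

set_option autoImplicit false
open Cfsg

namespace Cfsg.Agent.S4585

open Cfsg.Agent.Helper4.PFour

/-- Let p be a prime and P a group of order p^4. Then P' has index p^2 in P if and only if P has maximal nilpotency class, that is, nilpotency class exactly 3. -/
theorem result {P : Type*} [Group P] [Finite P] (p : ℕ) [Fact p.Prime] (hP : Nat.card P = p ^ 4) :
    (commutator P).index = p ^ 2 ↔ Group.nilpotencyClass P = 3 := by
  have hp : p.Prime := Fact.out
  have hPp : IsPGroup p P := IsPGroup.of_card hP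
  have hnil : Group.IsNilpotent P := hPp.isNilpotent
  constructor
  · intro hidx
    have hcard : Nat.card (commutator P) = p ^ 2 := by
      have := (commutator P).card_mul_index
      rw [hidx, hP] at this
      have e : p ^ 4 = p ^ 2 * p ^ 2 := by ring
      rw [e] at this
      exact Nat.eq_of_mul_eq_mul_right (pow_pos hp.pos 2) this
    have hp2 : p < p ^ 2 := by
      have h3 : p * 2 ≤ p ^ 2 := by rw [pow_two]; exact Nat.mul_le_mul_left p hp.two_le
      have := hp.pos
      omega
    have hne : commutator P ≠ ⊥ := by
      intro h
      rw [h, Subgroup.card_bot] at hcard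
      have := hp.one_lt
      omega
    have hna : ¬ IsMulCommutative P := fun h => hne ((commutator_eq_bot_iff P).mpr h)
    obtain ⟨i, hi, hi2⟩ := card_center_le (n := 2) hP hna
    have hi2' : i ≠ 2 := by
      rintro rfl
      have hZidx : (Subgroup.center P).index = p ^ 2 := by
        have := (Subgroup.center P).card_mul_index
        rw [hi2, hP] at this
        have e : p ^ 4 = p ^ 2 * p ^ 2 := by ring
        rw [e] at this
        exact Nat.eq_of_mul_eq_mul_left (pow_pos hp.pos 2) this
      have := card_commutator_of_center_index p hP hZidx
      omega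
    have hnt : Nontrivial P := by
      rw [← Finite.one_lt_card_iff_nontrivial, hP]
      exact Nat.one_lt_pow (by norm_num) hp.one_lt
    have hi0 : i ≠ 0 := by
      rintro rfl
      have hZ : 1 < Nat.card (Subgroup.center P) := by
        have hcn := hPp.center_nontrivial
        exact Finite.one_lt_card
      rw [hi2, pow_zero] at hZ
      omega
    have hi1 : i = 1 := by omega
    have hZcard : Nat.card (Subgroup.center P) = p := by rw [hi2, hi1, pow_one]
    have hZle := Cfsg.Agent.Helper1.center_le_commutator_of_card_prime p hPp hZcard hne
    have hQcard : Nat.card (P ⧸ Subgroup.center P) = p ^ 3 := by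
      have := Subgroup.card_eq_card_quotient_mul_card_subgroup (Subgroup.center P)
      rw [hP, hZcard] at this
      have e : p ^ 4 = p ^ 3 * p := by ring
      rw [e] at this
      exact (Nat.eq_of_mul_eq_mul_right hp.pos this).symm
    have hQidx : (commutator (P ⧸ Subgroup.center P)).index = p ^ 2 := by
      rw [Cfsg.Agent.Helper1.index_commutator_quotient _ hZle]; exact hidx
    have hQna : ¬ IsMulCommutative (P ⧸ Subgroup.center P) := by
      intro h
      rw [(commutator_eq_bot_iff _).mpr h, Subgroup.index_bot, hQcard] at hQidx
      have := Nat.pow_right_injective hp.two_le hQidx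
      omega
    have h1 : ¬ Group.nilpotencyClass (P ⧸ Subgroup.center P) ≤ 1 := fun h =>
      hQna (Group.IsNilpotent.nilpotencyClass_le_one_iff.mp h)
    have h2 := Cfsg.Agent.Helper1.nilpotencyClass_le_of_card_pow p 3 (P ⧸ Subgroup.center P) hQcard
    have h3 : Group.nilpotencyClass P = Group.nilpotencyClass (P ⧸ Subgroup.center P) + 1 :=
      Group.nilpotencyClass_eq_quotient_center_plus_one
    have h4 : max 3 2 = 3 := by norm_num
    omega
  · intro hc
    exact index_commutator_of_maximal_class_p p 4 P (by norm_num) hP (by rw [hc])

end Cfsg.Agent.S4585
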