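import Cfsg.Statements.S4586
import Mathlib
import Cfsg.Agent.Helper4.AbNormal

set_option autoImplicit false
open Cfsg

namespace Cfsg.Agent.S4586

open Cfsg.Agent.Helper4.PFour Cfsg.Agent.Helper4.AbNormal

/-- the key identity `|P : P'| · |N'| = p · c(x)` -/
theorem key {P : Type*} [Group P] [Finite P] (p : ℕ) [Fact p.Prime] (N : Subgroup P) [N.Normal]
    (hN : N.index = p) (x : P) (hx : x ∉ N) :
    (commutator P).index * Nat.card (commutator N) =
      p * Nat.card {n : N // x * n * x⁻¹ * (n : P)⁻¹ ∈ (commutator N).map N.subtype} := by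
  have hp : p.Prime := Fact.out
  obtain ⟨D, hD⟩ : ∃ D : Subgroup P, D = (commutator N).map N.subtype := ⟨_, rfl⟩
  have hDn : D.Normal := by rw [hD]; infer_instance
  have hDN : D ≤ N := by rw [hD]; exact Subgroup.map_subtype_le _
  have hDcard : Nat.card D = Nat.card (commutator N) := by
    rw [hD]; exact Subgroup.card_map_of_injective (Subgroup.subtype_injective N)
  have hDP : D ≤ commutator P := by
    rw [hD, _root_.commutator_def ↥N, Subgroup.map_commutator, _root_.commutator_def P]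
    exact Subgroup.commutator_mono le_top le_top
  have hDcomm : ∀ a ∈ N, ∀ b ∈ N, a * b * a⁻¹ * b⁻¹ ∈ D := by
    intro a ha b hb
    rw [hD]
    exact ⟨(⟨a, ha⟩ : N) * ⟨b, hb⟩ * (⟨a, ha⟩ : N)⁻¹ * (⟨b, hb⟩ : N)⁻¹,
      comm_mem_commutator (⟨a, ha⟩ : N) ⟨b, hb⟩, rfl⟩
  rw [← hD, ← hDcard]
  have hfs : Function.Surjective (QuotientGroup.mk' D) := QuotientGroup.mk'_surjective D
  have hker : (QuotientGroup.mk' D).ker = D := QuotientGroup.ker_mk' D
  have hMn : (N.map (QuotientGroup.mk' D)).Normal :=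
    Subgroup.Normal.map inferInstance (QuotientGroup.mk' D) hfs
  have hMidx : (N.map (QuotientGroup.mk' D)).index = p := by
    rw [Subgroup.index_map_eq N hfs (by rw [hker]; exact hDN), hN]
  have hMab : ∀ a ∈ N.map (QuotientGroup.mk' D), ∀ b ∈ N.map (QuotientGroup.mk' D),
      a * b = b * a := by
    rintro _ ⟨a, ha, rfl⟩ _ ⟨b, hb, rfl⟩
    rw [← map_mul, ← map_mul]
    apply QuotientGroup.eq.mpr
    have e : (a * b)⁻¹ * (b * a) = b⁻¹ * a⁻¹ * b⁻¹⁻¹ * a⁻¹⁻¹ := by group
    rw [e]; exact hDcomm _ (inv_mem hb) _ (inv_mem ha)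
  have hmemN : ∀ a : P, QuotientGroup.mk' D a ∈ N.map (QuotientGroup.mk' D) → a ∈ N := by
    rintro a ⟨n, hn, hna⟩
    have h1 : n⁻¹ * a ∈ D := QuotientGroup.eq.mp hna
    have h2 := mul_mem hn (hDN h1)
    rwa [mul_inv_cancel_left] at h2
  have hxM : QuotientGroup.mk' D x ∉ N.map (QuotientGroup.mk' D) := fun h => hx (hmemN x h)
  have h1 := card_commutator_mul_card_centralizer hp (N.map (QuotientGroup.mk' D)) hMidx hMab
    (QuotientGroup.mk' D x) hxM
  have h2 : (commutator (P ⧸ D)).index = (commutator P).index :=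
    Cfsg.Agent.Helper1.index_commutator_quotient D hDP
  have h3 := (commutator (P ⧸ D)).card_mul_index
  have h4 := (N.map (QuotientGroup.mk' D)).card_mul_index
  rw [hMidx] at h4
  obtain ⟨Cbar, hCbar⟩ : ∃ Cbar : Subgroup (P ⧸ D), Cbar = N.map (QuotientGroup.mk' D) ⊓
      Subgroup.centralizer {QuotientGroup.mk' D x} := ⟨_, rfl⟩
  rw [← hCbar] at h1
  have h5 : (commutator (P ⧸ D)).index = p * Nat.card Cbar := by
    have hpos : 0 < Nat.card (commutator (P ⧸ D)) := Nat.card_pos
    apply Nat.eq_of_mul_eq_mul_left hpos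
    rw [h3, ← h4, ← h1]; ring
  have h6 : Nat.card (Cbar.comap (QuotientGroup.mk' D)) = Nat.card D * Nat.card Cbar := by
    have e1 := Subgroup.relIndex_comap (⊥ : Subgroup (P ⧸ D)) (QuotientGroup.mk' D)
      (Cbar.comap (QuotientGroup.mk' D))
    rw [Subgroup.map_comap_eq_self_of_surjective hfs, Subgroup.relIndex_bot_left,
      MonoidHom.comap_bot, hker] at e1
    have hle : D ≤ Cbar.comap (QuotientGroup.mk' D) := by
      intro d hd
      have h0 : QuotientGroup.mk' D d = 1 := (QuotientGroup.eq_one_iff d).mpr hd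
      rw [Subgroup.mem_comap, h0]
      exact one_mem _
    have e2 := Subgroup.relIndex_mul_relIndex ⊥ D (Cbar.comap (QuotientGroup.mk' D)) bot_le hle
    rw [Subgroup.relIndex_bot_left, Subgroup.relIndex_bot_left, e1] at e2
    exact e2.symm
  have hcomm_iff : ∀ a : P, x * a * x⁻¹ * a⁻¹ ∈ D ↔
      QuotientGroup.mk' D a * QuotientGroup.mk' D x =
        QuotientGroup.mk' D x * QuotientGroup.mk' D a := by
    intro a
    constructor
    · intro h
      have h1 : QuotientGroup.mk' D (x * a * x⁻¹ * a⁻¹) = 1 := (QuotientGroup.eq_one_iff _).mpr h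
      rw [map_mul, map_mul, map_mul, map_inv, map_inv, mul_inv_eq_one,
        mul_inv_eq_iff_eq_mul] at h1
      exact h1.symm
    · intro h
      apply (QuotientGroup.eq_one_iff _).mp
      show QuotientGroup.mk' D (x * a * x⁻¹ * a⁻¹) = 1
      rw [map_mul, map_mul, map_mul, map_inv, map_inv, mul_inv_eq_one, mul_inv_eq_iff_eq_mul]
      exact h.symm
  have hCmem : ∀ t : P ⧸ D, t ∈ Cbar → t ∈ N.map (QuotientGroup.mk' D) ∧
      t ∈ Subgroup.centralizer {QuotientGroup.mk' D x} := by
    intro t ht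
    rw [hCbar] at ht
    exact Subgroup.mem_inf.mp ht
  have h7 : Nat.card {n : N // x * n * x⁻¹ * (n : P)⁻¹ ∈ D} =
      Nat.card (Cbar.comap (QuotientGroup.mk' D)) := by
    apply Nat.card_congr
    refine ⟨fun n => ⟨n.1.1, ?_⟩, fun a => ⟨⟨a.1, ?_⟩, ?_⟩, ?_, ?_⟩
    · rw [Subgroup.mem_comap, hCbar]
      exact Subgroup.mem_inf.mpr ⟨Subgroup.mem_map_of_mem _ n.1.2,
        Subgroup.mem_centralizer_singleton_iff.mpr ((hcomm_iff n.1.1).mp n.2)⟩
    · exact hmemN _ (hCmem _ a.2).1
    · exact (hcomm_iff a.1).mpr (Subgroup.mem_centralizer_singleton_iff.mp (hCmem _ a.2).2)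
    · intro n; exact Subtype.ext (Subtype.ext rfl)
    · intro a; exact Subtype.ext rfl
  rw [h7, h6, ← h2, h5]; ring

/-- Let p be a prime, P a finite p-group and N a normal subgroup of P of index p. For x ∈ P write c(x) for the number of elements n of N whose commutator x n x⁻¹ n⁻¹ lies in the derived subgroup N' (so c(x)/#N' is the order of the centralizer of x acting on N/N'). Then [P : P'] = p² if and only if c(x) = p·#N' for every x ∈ P outside N, and also if and only if c(x) = p·#N' for some x ∈ P outside N. -/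
theorem result {P : Type*} [Group P] [Finite P] (p : ℕ) [Fact p.Prime] (hP : IsPGroup p P) (N : Subgroup P) [N.Normal] (hN : N.index = p) :
    ((commutator P).index = p ^ 2 ↔ ∀ x : P, x ∉ N →
        Nat.card {n : N // x * n * x⁻¹ * (n : P)⁻¹ ∈ (commutator N).map N.subtype} = p * Nat.card (commutator N)) ∧
    ((commutator P).index = p ^ 2 ↔ ∃ x : P, x ∉ N ∧
        Nat.card {n : N // x * n * x⁻¹ * (n : P)⁻¹ ∈ (commutator N).map N.subtype} = p * Nat.card (commutator N)) := by
  have hp : p.Prime := Fact.out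
  have hpos : 0 < Nat.card (commutator N) := Nat.card_pos
  obtain ⟨x₀, hx₀⟩ : ∃ x : P, x ∉ N := by
    by_contra hcon
    push Not at hcon
    have : N = ⊤ := eq_top_iff.mpr (fun g _ => hcon g)
    rw [this, Subgroup.index_top] at hN
    exact hp.one_lt.ne hN
  have hfwd : ∀ x : P, x ∉ N → (commutator P).index = p ^ 2 →
      Nat.card {n : N // x * n * x⁻¹ * (n : P)⁻¹ ∈ (commutator N).map N.subtype} =
        p * Nat.card (commutator N) := by
    intro x hx h
    have k := key p N hN x hx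
    rw [h] at k
    apply Nat.eq_of_mul_eq_mul_left hp.pos
    rw [← k]; ring
  have hbwd : ∀ x : P, x ∉ N →
      Nat.card {n : N // x * n * x⁻¹ * (n : P)⁻¹ ∈ (commutator N).map N.subtype} =
        p * Nat.card (commutator N) → (commutator P).index = p ^ 2 := by
    intro x hx h
    have k := key p N hN x hx
    rw [h] at k
    apply Nat.eq_of_mul_eq_mul_right hpos
    rw [k]; ring
  refine ⟨⟨fun h x hx => hfwd x hx h, fun h => hbwd x₀ hx₀ (h x₀ hx₀)⟩,
    ⟨fun h => ⟨x₀, hx₀, hfwd x₀ hx₀ h⟩, ?_⟩⟩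
  rintro ⟨x, hx, h⟩
  exact hbwd x hx h

end Cfsg.Agent.S4586
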