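import Cfsg.Statements.S4691
import Mathlib
import Cfsg.Agent.Helper25.BlockPrincipal
import Cfsg.Agent.S0071

set_option autoImplicit false
open Cfsg

namespace Cfsg.Agent.S4691

/-- Fix a prime p and a maximal ideal M of the algebraic integers containing p. A finite group G has a normal p-complement if and only if its principal p-block is nilpotent. -/
theorem result {G : Type*} [Group G] [Fintype G] (p : ℕ) [Fact p.Prime] (M : Ideal Cfsg.AlgInt) (hM : Cfsg.IsPModular p M) : Cfsg.HasNormalPComplement p G ↔ Cfsg.IsNilpotentBlock p M (Cfsg.principalBlock M G) := by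
  classical
  have hp : p.Prime := hM.1
  constructor
  · rintro ⟨P, N, hN, hc⟩
    refine ⟨Cfsg.Agent.Helper25.isPBlock_principalBlock, fun Q e hQe x hx _ hreg => ?_⟩
    have hQ : IsPGroup p Q := hQe.1.1
    obtain ⟨P', hP'⟩ := hQ.exists_le_sylow
    have hcard : Nat.card N * Nat.card (P : Subgroup G) = Nat.card G := hc.card_mul_card
    have hPP' : Nat.card (P' : Subgroup G) = Nat.card (P : Subgroup G) := by
      rw [Sylow.card_eq_multiplicity, Sylow.card_eq_multiplicity]
    have hPcard : Nat.card (P : Subgroup G) = p ^ (Nat.card G).factorization p :=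
      Sylow.card_eq_multiplicity P
    have hG0 : Nat.card G ≠ 0 := Nat.card_pos.ne'
    have hNcop : (Nat.card N).Coprime p := by
      have h1 : Nat.card N = Nat.card G / p ^ (Nat.card G).factorization p := by
        have h0 : Nat.card G = Nat.card N * p ^ (Nat.card G).factorization p := by
          rw [← hPcard]; exact hcard.symm
        exact (Nat.div_eq_of_eq_mul_left (pow_pos hp.pos _) h0).symm
      rw [h1]
      exact (Nat.coprime_ordCompl hp hG0).symm
    have hc' : N.IsComplement' (P' : Subgroup G) := by
      apply Subgroup.isComplement'_of_coprime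
      · rw [hPP']; exact hcard
      · rw [hPP', hPcard]
        exact Nat.Coprime.pow_right _ hNcop
    have h2 := (Cfsg.Agent.S0071.result P').mp ⟨N, hN, hc'⟩ Q hP' x hx
      ((Nat.Prime.coprime_iff_not_dvd hp).mpr hreg).symm
    exact h2
  · rintro ⟨-, hnil⟩
    obtain ⟨P⟩ : Nonempty (Sylow p G) := inferInstance
    obtain ⟨N, hN, hc⟩ := (Cfsg.Agent.S0071.result P).mpr (fun Q hQP g hg hcop =>
      hnil Q _ (Cfsg.Agent.Helper25.isBrauerPairOf_principal hM Q (P.2.to_le hQP)) g hg
        (Cfsg.Agent.Helper25.stabilizesBlock_principal _ g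
          (Cfsg.Agent.Helper25.normalizer_le_normalizer_centralizer Q hg))
        (fun hdvd => by
          have h1 := (Nat.Prime.coprime_iff_not_dvd hp).mp hcop.symm
          exact h1 hdvd))
    exact ⟨P, N, hN, hc⟩

end Cfsg.Agent.S4691
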