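import Cfsg.Statements.S4675
import Mathlib
import Cfsg.Agent.Helper25.BlockBF
import Cfsg.Agent.Helper25.BlockPNilp

set_option autoImplicit false
open Cfsg

namespace Cfsg.Agent.S4675

/-- Fix a prime p and a maximal ideal M of the algebraic integers containing p. Let B be a p-block of the finite group G with defect group P and p-regular rank one (a single irreducible Brauer character). Then there are a function φ on G that is, on the p-regular elements, an integer combination of the members of B, and natural numbers d_χ (χ ∈ B), such that every χ ∈ B agrees with d_χ·φ on the p-regular elements and Σ_{χ ∈ B} d_χ² equals the order of P (the single Cartan invariant of B is the order of P). -/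
theorem result {G : Type*} [Group G] [Fintype G] (p : ℕ) [Fact p.Prime] (M : Ideal Cfsg.AlgInt) (hM : Cfsg.IsPModular p M) (B : Set (Cfsg.IrrCharacter G)) (hB : Cfsg.IsPBlock M B) (P : Subgroup G) (hP : Cfsg.IsDefectGroup p M B P) (hl : Cfsg.blockRank p B = 1) : ∃ φ : G → ℂ, ∃ d : Cfsg.IrrCharacter G → ℕ, (∃ n : Cfsg.IrrCharacter G → ℤ, ∀ x : G, Cfsg.IsPRegular p x → φ x = ∑ᶠ ψ ∈ B, (n ψ : ℂ) * (ψ : G → ℂ) x) ∧ (∀ χ ∈ B, ∀ x : G, Cfsg.IsPRegular p x → (χ : G → ℂ) x = (d χ : ℂ) * φ x) ∧ ∑ᶠ χ ∈ B, d χ ^ 2 = Nat.card P := by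
  classical
  have hp := hM.1
  have hPcard : Nat.card P = p ^ blockDefect p B :=
    Cfsg.Agent.Helper7.card_defectGroup hM hB hP
  obtain ⟨χ₀, hχ₀, h0⟩ := Cfsg.Agent.Helper7.exists_height_zero hM hB
  obtain ⟨d, hd⟩ : ∃ d : ℕ, d = blockDefect p B := ⟨_, rfl⟩
  obtain ⟨S, hS⟩ : ∃ S : Finset (IrrCharacter G), S = (Set.toFinite B).toFinset := ⟨_, rfl⟩
  have hmem : ∀ ψ : IrrCharacter G, ψ ∈ S ↔ ψ ∈ B := fun ψ => by
    rw [hS]; exact Set.Finite.mem_toFinset _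
  have hrank := (Cfsg.Agent.Helper25.blockRank_eq_one_iff hp B hχ₀).mp hl
  obtain ⟨deg, hdegdef⟩ : ∃ deg : IrrCharacter G → ℕ,
      deg = fun χ : IrrCharacter G => charDegree (χ : G → ℂ) := ⟨_, rfl⟩
  have hdeg : ∀ χ : IrrCharacter G, (χ : G → ℂ) 1 = (deg χ : ℂ) := fun χ => by
    rw [hdegdef]; exact Cfsg.Agent.Helper25.irr_one_eq_degree χ
  have hdegpos : ∀ χ : IrrCharacter G, 0 < deg χ := fun χ => by
    rw [hdegdef]; exact Cfsg.Agent.Helper25.irr_degree_pos χ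
  have hd₀ : (deg χ₀ : ℂ) ≠ 0 := by exact_mod_cast (hdegpos χ₀).ne'
  have h1reg : ¬ p ∣ orderOf (1 : G) := by
    rw [orderOf_one]
    exact hp.one_lt.ne' ∘ Nat.dvd_one.mp
  have hprop : ∀ χ ∈ B, ∀ x : G, pRegularPart p (χ : G → ℂ) x
      = (deg χ : ℂ) / (deg χ₀ : ℂ) * pRegularPart p (χ₀ : G → ℂ) x := by
    intro χ hχ x
    obtain ⟨c, hc⟩ := hrank χ hχ
    have h1 := congrFun hc 1
    simp only [Pi.smul_apply, smul_eq_mul] at h1
    rw [Cfsg.Agent.Helper25.pRegularPart_of_reg h1reg,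
      Cfsg.Agent.Helper25.pRegularPart_of_reg h1reg, hdeg, hdeg] at h1
    have hc' : c = (deg χ : ℂ) / (deg χ₀ : ℂ) := by
      rw [h1]; field_simp
    have h2 := congrFun hc x
    simp only [Pi.smul_apply, smul_eq_mul] at h2
    rw [h2, hc']
  obtain ⟨n', hn'⟩ := Finset.gcd_eq_sum_mul S (fun χ : IrrCharacter G => (deg χ : ℤ))
  obtain ⟨gZ, hgZ⟩ : ∃ gZ : ℤ, gZ = S.gcd (fun χ : IrrCharacter G => (deg χ : ℤ)) := ⟨_, rfl⟩
  rw [← hgZ] at hn'
  obtain ⟨g, hg⟩ : ∃ g : ℕ, g = gZ.natAbs := ⟨_, rfl⟩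
  have hgdvd : ∀ χ ∈ S, g ∣ deg χ := by
    intro χ hχ
    have h1 : gZ ∣ (deg χ : ℤ) := by
      rw [hgZ]
      exact Finset.gcd_dvd (f := fun χ : IrrCharacter G => (deg χ : ℤ)) hχ
    rw [hg]
    have := Int.natAbs_dvd_natAbs.mpr h1
    simpa using this
  have hg0 : g ≠ 0 := by
    intro h
    have := hgdvd χ₀ ((hmem χ₀).mpr hχ₀)
    rw [h, zero_dvd_iff] at this
    exact (hdegpos χ₀).ne' this
  obtain ⟨n, hn⟩ : ∃ n : IrrCharacter G → ℤ, ∑ χ ∈ S, n χ * (deg χ : ℤ) = (g : ℤ) := by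
    rcases Int.natAbs_eq gZ with h | h
    · refine ⟨n', ?_⟩
      rw [hg, ← h, hn']
      apply Finset.sum_congr rfl
      intro χ _
      ring
    · refine ⟨fun χ => - n' χ, ?_⟩
      have h2 : (g : ℤ) = - gZ := by rw [hg]; omega
      rw [h2, hn', ← Finset.sum_neg_distrib]
      apply Finset.sum_congr rfl
      intro χ _
      ring
  obtain ⟨dd, hdd⟩ : ∃ dd : IrrCharacter G → ℕ, dd = fun χ => deg χ / g := ⟨_, rfl⟩
  have hddeq : ∀ χ ∈ S, deg χ = g * dd χ := by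
    intro χ hχ
    rw [hdd]
    exact (Nat.mul_div_cancel' (hgdvd χ hχ)).symm
  have hddval : ∀ χ : IrrCharacter G, dd χ = charDegree (χ : G → ℂ) / g := fun χ => by
    rw [hdd, hdegdef]
  have hgC : (g : ℂ) ≠ 0 := by exact_mod_cast hg0
  refine ⟨fun x => (g : ℂ) / (deg χ₀ : ℂ) * pRegularPart p (χ₀ : G → ℂ) x, dd, ⟨n, ?_⟩, ?_, ?_⟩
  · intro x hx
    have hx' : ¬ p ∣ orderOf x := hx
    rw [finsum_mem_eq_finite_toFinset_sum _ (Set.toFinite B), ← hS]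
    have h1 : ∀ ψ ∈ S, (n ψ : ℂ) * (ψ : G → ℂ) x
        = (n ψ : ℂ) * (deg ψ : ℂ) * ((χ₀ : G → ℂ) x / (deg χ₀ : ℂ)) := by
      intro ψ hψ
      have h2 := hprop ψ ((hmem ψ).mp hψ) x
      rw [Cfsg.Agent.Helper25.pRegularPart_of_reg hx',
        Cfsg.Agent.Helper25.pRegularPart_of_reg hx'] at h2
      rw [h2]
      ring
    rw [Finset.sum_congr rfl h1, ← Finset.sum_mul]
    have h2 : ∑ ψ ∈ S, (n ψ : ℂ) * (deg ψ : ℂ) = (g : ℂ) := by exact_mod_cast hn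
    beta_reduce
    rw [h2, Cfsg.Agent.Helper25.pRegularPart_of_reg hx']
    ring
  · intro χ hχ x hx
    have hx' : ¬ p ∣ orderOf x := hx
    have h2 := hprop χ hχ x
    rw [Cfsg.Agent.Helper25.pRegularPart_of_reg hx',
      Cfsg.Agent.Helper25.pRegularPart_of_reg hx'] at h2
    beta_reduce
    rw [h2, Cfsg.Agent.Helper25.pRegularPart_of_reg hx', hddeq χ ((hmem χ).mpr hχ)]
    push_cast
    field_simp
  · rw [finsum_mem_eq_finite_toFinset_sum _ (Set.toFinite B), ← hS, hPcard, ← hd]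
    obtain ⟨Sg, hSg⟩ : ∃ Sg : ℕ, Sg = ∑ ψ ∈ S, deg ψ ^ 2 := ⟨_, rfl⟩
    obtain ⟨T, hT⟩ : ∃ T : ℕ, T = ∑ ψ ∈ S, dd ψ ^ 2 := ⟨_, rfl⟩
    have hSgT : Sg = g ^ 2 * T := by
      rw [hSg, hT, Finset.mul_sum]
      apply Finset.sum_congr rfl
      intro ψ hψ
      rw [hddeq ψ hψ]
      ring
    obtain ⟨γ, hγ⟩ : ∃ γ : ℂ, γ = Cfsg.Agent.Helper25.gram p (χ₀ : G → ℂ) (χ₀ : G → ℂ) :=
      ⟨_, rfl⟩
    have hγreal : (starRingEnd ℂ) γ = γ := by
      rw [hγ]; exact (Cfsg.Agent.Helper25.gram_conj χ₀ χ₀).symm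
    have hscale : ∀ χ ∈ B, ∀ ψ : IrrCharacter G,
        Cfsg.Agent.Helper25.gram p (χ : G → ℂ) (ψ : G → ℂ)
          = (deg χ : ℂ) / (deg χ₀ : ℂ) *
            Cfsg.Agent.Helper25.gram p (χ₀ : G → ℂ) (ψ : G → ℂ) := by
      intro χ hχ ψ
      rw [Cfsg.Agent.Helper25.gram_eq, Cfsg.Agent.Helper25.gram_eq]
      simp only [hprop χ hχ, Finset.mul_sum]
      apply Finset.sum_congr rfl
      intro x _
      ring
    have hgram₀ : ∀ ψ ∈ B, Cfsg.Agent.Helper25.gram p (χ₀ : G → ℂ) (ψ : G → ℂ)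
        = (deg ψ : ℂ) / (deg χ₀ : ℂ) * γ := by
      intro ψ hψ
      rw [Cfsg.Agent.Helper25.gram_conj ψ χ₀, hscale ψ hψ χ₀, ← hγ, map_mul, map_div₀,
        map_natCast, map_natCast, hγreal]
    have hsum : γ * (Sg : ℂ) = (deg χ₀ : ℂ) ^ 2 := by
      have h1 := Cfsg.Agent.Helper25.pRegularPart_eq_sum_gram (p := p) χ₀ 1
      rw [Cfsg.Agent.Helper25.pRegularPart_of_reg h1reg, hdeg] at h1
      have h2 : ∑ ψ : IrrCharacter G, Cfsg.Agent.Helper25.gram p (χ₀ : G → ℂ) (ψ : G → ℂ) *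
          pRegularPart p (ψ : G → ℂ) 1
          = ∑ ψ ∈ S, (deg ψ : ℂ) / (deg χ₀ : ℂ) * γ * (deg ψ : ℂ) := by
        rw [← Finset.sum_subset (Finset.subset_univ S)]
        · apply Finset.sum_congr rfl
          intro ψ hψ
          rw [hgram₀ ψ ((hmem ψ).mp hψ), Cfsg.Agent.Helper25.pRegularPart_of_reg h1reg, hdeg]
        · intro ψ _ hψ
          rw [Cfsg.Agent.Helper25.gram_eq_zero_of_lr hM B
            (Cfsg.Agent.Helper25.blockCoeff_lr hM hB) hχ₀ (fun h => hψ ((hmem ψ).mpr h)),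
            zero_mul]
      rw [h2] at h1
      have h3 : ∑ ψ ∈ S, (deg ψ : ℂ) / (deg χ₀ : ℂ) * γ * (deg ψ : ℂ)
          = γ * (Sg : ℂ) / (deg χ₀ : ℂ) := by
        rw [hSg]
        push_cast
        rw [Finset.mul_sum, Finset.sum_div]
        apply Finset.sum_congr rfl
        intro ψ _
        ring
      rw [h3] at h1
      field_simp at h1
      linear_combination -h1
    have hSg0 : (Sg : ℂ) ≠ 0 := by
      intro h
      rw [h, mul_zero] at hsum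
      exact hd₀ ((pow_eq_zero_iff (two_ne_zero)).mp hsum.symm)
    have hint : ∀ χ ∈ S, ∀ ψ ∈ S,
        (Sg : ℤ) ∣ (p : ℤ) ^ d * (deg χ : ℤ) * (deg ψ : ℤ) := by
      intro χ hχ ψ hψ
      obtain ⟨k, hk⟩ := Cfsg.Agent.Helper25.gram_defect_int hM B ((hmem χ).mp hχ) ψ
      have h1 : Cfsg.Agent.Helper25.gram p (χ : G → ℂ) (ψ : G → ℂ)
          = (deg χ : ℂ) * (deg ψ : ℂ) / (Sg : ℂ) := by
        rw [hscale χ ((hmem χ).mp hχ) ψ, hgram₀ ψ ((hmem ψ).mp hψ)]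
        field_simp
        linear_combination (deg χ : ℂ) * (deg ψ : ℂ) * hsum
      rw [h1, ← hd] at hk
      refine ⟨k, ?_⟩
      have h2 : ((p : ℂ) ^ d * (deg χ : ℂ) * (deg ψ : ℂ)) = (Sg : ℂ) * (k : ℂ) := by
        push_cast at hk
        field_simp at hk
        linear_combination hk
      exact_mod_cast h2
    have hdiv : (Sg : ℤ) ∣ (p : ℤ) ^ d * (g : ℤ) ^ 2 := by
      have e : (p : ℤ) ^ d * (g : ℤ) ^ 2
          = ∑ χ ∈ S, ∑ ψ ∈ S, n χ * n ψ * ((p : ℤ) ^ d * (deg χ : ℤ) * (deg ψ : ℤ)) := by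
        rw [← hn, sq, Finset.sum_mul_sum, Finset.mul_sum]
        apply Finset.sum_congr rfl
        intro χ _
        rw [Finset.mul_sum]
        apply Finset.sum_congr rfl
        intro ψ _
        ring
      rw [e]
      exact Finset.dvd_sum (fun χ hχ => Finset.dvd_sum (fun ψ hψ =>
        Dvd.dvd.mul_left (hint χ hχ ψ hψ) _))
    have hTdvd : T ∣ p ^ d := by
      rw [hSgT] at hdiv
      have h1 : g ^ 2 * T ∣ p ^ d * g ^ 2 := by exact_mod_cast hdiv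
      rw [mul_comm (p ^ d)] at h1
      exact Nat.dvd_of_mul_dvd_mul_left (pow_pos (Nat.pos_of_ne_zero hg0) 2) h1
    obtain ⟨e, hed, hTe⟩ := (Nat.dvd_prime_pow hp).mp hTdvd
    obtain ⟨t, ht⟩ := Cfsg.Agent.Helper25.gram_defect_int hM B hχ₀ χ₀
    have htnd := Cfsg.Agent.Helper25.gram_self_not_dvd hM hB hχ₀ h0 t ht
    rw [← hd, ← hγ] at ht
    have hfinal : (p : ℤ) ^ d * (dd χ₀ : ℤ) ^ 2 = t * (p : ℤ) ^ e := by
      have h1 : ((p ^ d : ℕ) : ℂ) * (deg χ₀ : ℂ) ^ 2 = (t : ℂ) * (Sg : ℂ) := by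
        rw [← hsum, ← ht]; ring
      have h2 : (deg χ₀ : ℂ) = (g : ℂ) * (dd χ₀ : ℂ) := by
        exact_mod_cast hddeq χ₀ ((hmem χ₀).mpr hχ₀)
      have h3 : (Sg : ℂ) = (g : ℂ) ^ 2 * (p : ℂ) ^ e := by
        rw [hSgT, hTe]; push_cast; ring
      rw [h2, h3] at h1
      have h4 : ((p : ℂ) ^ d * (dd χ₀ : ℂ) ^ 2) = (t : ℂ) * (p : ℂ) ^ e := by
        have hg2 : (g : ℂ) ^ 2 ≠ 0 := pow_ne_zero 2 hgC
        apply mul_left_cancel₀ hg2
        push_cast at h1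
        linear_combination h1
      exact_mod_cast h4
    have hed' : e = d := by
      by_contra hne
      have hlt : e < d := lt_of_le_of_ne hed hne
      apply htnd
      have hpZ : (p : ℤ) ≠ 0 := by exact_mod_cast hp.ne_zero
      have h5 : (p : ℤ) ^ e * ((p : ℤ) ^ (d - e) * (dd χ₀ : ℤ) ^ 2) = (p : ℤ) ^ e * t := by
        rw [← mul_assoc, ← pow_add, Nat.add_sub_cancel' hed, hfinal]; ring
      have h6 := mul_left_cancel₀ (pow_ne_zero e hpZ) h5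
      rw [← h6]
      exact Dvd.dvd.mul_right (dvd_pow_self _ (by omega)) _
    rw [← hT, hTe, hed']

end Cfsg.Agent.S4675
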