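import Mathlib
import Cfsg.Statements.S4765
import Cfsg.Agent.Helper14.SL2Stein
import Cfsg.Agent.S2299
import Cfsg.Agent.S2300
import Cfsg.Agent.Helper25.CharKer


set_option autoImplicit false
open Cfsg

namespace Cfsg.Agent.S4765

/-- Let F be a finite field of characteristic p with at least 4 elements. Then PSL(2,F) has exactly one irreducible complex character of degree divisible by p, and its degree is the order of F. -/
theorem result (p : ℕ) [Fact p.Prime] (F : Type*) [Field F] [Fintype F] [CharP F p] (hF : 4 ≤ Fintype.card F) : Nat.card {χ : Cfsg.IrrCharacter (Matrix.ProjectiveSpecialLinearGroup (Fin 2) F) // p ∣ Cfsg.charDegree (χ : Matrix.ProjectiveSpecialLinearGroup (Fin 2) F → ℂ)} = 1 ∧ ∀ χ : Cfsg.IrrCharacter (Matrix.ProjectiveSpecialLinearGroup (Fin 2) F), p ∣ Cfsg.charDegree (χ : Matrix.ProjectiveSpecialLinearGroup (Fin 2) F → ℂ) → Cfsg.charDegree (χ : Matrix.ProjectiveSpecialLinearGroup (Fin 2) F → ℂ) = Fintype.card F := by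
  classical
  have hp := (Fact.out : p.Prime)
  have hpq : p ∣ Fintype.card F := by
    rw [← CharP.cast_eq_zero_iff F p]
    exact Nat.cast_card_eq_zero F
  have hp1 : ¬ p ∣ 1 := hp.not_dvd_one
  obtain ⟨π, hπ⟩ : ∃ π : Matrix.SpecialLinearGroup (Fin 2) F →*
      Matrix.ProjectiveSpecialLinearGroup (Fin 2) F, Function.Surjective π :=
    ⟨QuotientGroup.mk' _, QuotientGroup.mk'_surjective _⟩
  have hq1 := Cfsg.Agent.Helper14.GL2.one_lt_q (F := F)
  have hoddq : p ≠ 2 → Odd (Fintype.card F) := by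
    intro hp2
    obtain ⟨n, _, hn⟩ := FiniteField.card F p
    rw [hn]
    exact Odd.pow (hp.odd_of_ne_two hp2)
  -- degrees of characters of `SL₂`
  have hdegSL : ∀ ψ : IrrCharacter (Matrix.SpecialLinearGroup (Fin 2) F),
      p ∣ charDegree (ψ : Matrix.SpecialLinearGroup (Fin 2) F → ℂ) →
      charDegree (ψ : Matrix.SpecialLinearGroup (Fin 2) F → ℂ) = Fintype.card F := by
    intro ψ hdvd
    have h1 := Cfsg.Agent.Helper25.irr_one_eq_degree ψ
    obtain ⟨d, hd⟩ : ∃ d, d = charDegree (ψ : Matrix.SpecialLinearGroup (Fin 2) F → ℂ) :=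
      ⟨_, rfl⟩
    rw [← hd] at h1 hdvd ⊢
    have key : ∀ (a b : ℕ), ((a : ℂ) = (b : ℂ)) → a = b := fun a b h => by exact_mod_cast h
    by_cases hp2 : p = 2
    · subst hp2
      rcases (Cfsg.Agent.S2300.result (F := F)).1 (ψ : Matrix.SpecialLinearGroup (Fin 2) F → ℂ)
        ψ.2 with h | h | h | h
      · rw [h1] at h
        have := key d 1 (by push_cast; exact h)
        omega
      · rw [h1] at h
        have := key (d + 1) (Fintype.card F) (by push_cast; linear_combination h)
        omega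
      · rw [h1] at h
        exact key _ _ h
      · rw [h1] at h
        have := key d (Fintype.card F + 1) (by push_cast; exact h)
        omega
    · have hodd := hoddq hp2
      obtain ⟨m, hm⟩ := hodd
      rcases (Cfsg.Agent.S2299.result (Exists.intro m hm)).1
        (ψ : Matrix.SpecialLinearGroup (Fin 2) F → ℂ) ψ.2 with h | h | h | h | h | h
      · rw [h1] at h
        have := key d 1 (by push_cast; exact h)
        rw [this] at hdvd
        exact absurd hdvd hp1
      · rw [h1] at h
        exact key _ _ h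
      · rw [h1] at h
        have := key d (Fintype.card F + 1) (by push_cast; exact h)
        rw [this] at hdvd
        exact absurd ((Nat.dvd_add_right hpq).mp hdvd) hp1
      · rw [h1] at h
        have := key (d + 1) (Fintype.card F) (by push_cast; linear_combination h)
        rw [← this] at hpq
        exact absurd ((Nat.dvd_add_right hdvd).mp hpq) hp1
      · rw [h1] at h
        have := key d ((Fintype.card F + 1) / 2) h
        have h2 : 2 * d = Fintype.card F + 1 := by omega
        have h3 : p ∣ Fintype.card F + 1 := by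
          rw [← h2]
          exact Dvd.dvd.mul_left hdvd 2
        exact absurd ((Nat.dvd_add_right hpq).mp h3) hp1
      · rw [h1] at h
        have := key d ((Fintype.card F - 1) / 2) h
        have h2 : 2 * d + 1 = Fintype.card F := by omega
        have h3 : p ∣ 2 * d := Dvd.dvd.mul_left hdvd 2
        rw [← h2] at hpq
        exact absurd ((Nat.dvd_add_right h3).mp hpq) hp1
  have hdeg : ∀ χ : Cfsg.IrrCharacter (Matrix.ProjectiveSpecialLinearGroup (Fin 2) F),
      p ∣ Cfsg.charDegree (χ : Matrix.ProjectiveSpecialLinearGroup (Fin 2) F → ℂ) →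
      Cfsg.charDegree (χ : Matrix.ProjectiveSpecialLinearGroup (Fin 2) F → ℂ) =
        Fintype.card F := by
    intro χ h
    have := hdegSL (Cfsg.Agent.Helper25.irrComp χ π hπ)
      (by rw [Cfsg.Agent.Helper25.charDegree_irrComp]; exact h)
    rwa [Cfsg.Agent.Helper25.charDegree_irrComp] at this
  refine ⟨?_, hdeg⟩
  have hY : Nat.card {ψ : IrrCharacter (Matrix.SpecialLinearGroup (Fin 2) F) //
      (ψ : Matrix.SpecialLinearGroup (Fin 2) F → ℂ) 1 = (Fintype.card F : ℂ)} = 1 := by
    by_cases hp2 : p = 2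
    · subst hp2
      exact ((Cfsg.Agent.S2300.result (F := F)).2 hF).2.1
    · have hodd := hoddq hp2
      have h5 : 5 ≤ Fintype.card F := by
        obtain ⟨m, hm⟩ := hodd
        omega
      exact ((Cfsg.Agent.S2299.result hodd).2 h5).2.1
  rw [Nat.card_eq_one_iff_unique] at hY ⊢
  obtain ⟨hsub, ⟨ψ₀, hψ₀⟩⟩ := hY
  constructor
  · refine ⟨fun ⟨χ₁, h₁⟩ ⟨χ₂, h₂⟩ => ?_⟩
    have e1 : (Cfsg.Agent.Helper25.irrComp χ₁ π hπ :
        Matrix.SpecialLinearGroup (Fin 2) F → ℂ) 1 = (Fintype.card F : ℂ) := by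
      rw [Cfsg.Agent.Helper25.irr_one_eq_degree, Cfsg.Agent.Helper25.charDegree_irrComp,
        hdeg χ₁ h₁]
    have e2 : (Cfsg.Agent.Helper25.irrComp χ₂ π hπ :
        Matrix.SpecialLinearGroup (Fin 2) F → ℂ) 1 = (Fintype.card F : ℂ) := by
      rw [Cfsg.Agent.Helper25.irr_one_eq_degree, Cfsg.Agent.Helper25.charDegree_irrComp,
        hdeg χ₂ h₂]
    have h3 := @Subsingleton.elim _ hsub
      ⟨Cfsg.Agent.Helper25.irrComp χ₁ π hπ, e1⟩ ⟨Cfsg.Agent.Helper25.irrComp χ₂ π hπ, e2⟩
    have h4 : Cfsg.Agent.Helper25.irrComp χ₁ π hπ = Cfsg.Agent.Helper25.irrComp χ₂ π hπ :=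
      congrArg Subtype.val h3
    apply Subtype.ext
    apply Subtype.ext
    funext x
    obtain ⟨g, rfl⟩ := hπ x
    have h5 := congrArg (fun ψ : IrrCharacter (Matrix.SpecialLinearGroup (Fin 2) F) =>
      (ψ : Matrix.SpecialLinearGroup (Fin 2) F → ℂ) g) h4
    simpa using h5
  · obtain ⟨χ', hχ'⟩ := Cfsg.Agent.Helper25.exists_deflate ψ₀
      (Subgroup.center (Matrix.SpecialLinearGroup (Fin 2) F))
      (fun z hz => (Cfsg.Agent.Helper25.mem_irrKer ψ₀ z).mpr
        (Cfsg.Agent.Helper14.GL2.steinberg_center ψ₀ hψ₀ z hz))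
    have h1 : (χ' : Matrix.ProjectiveSpecialLinearGroup (Fin 2) F → ℂ) 1 =
        (Fintype.card F : ℂ) := by
      have := hχ' 1
      rw [hψ₀] at this
      exact this
    rw [Cfsg.Agent.Helper25.irr_one_eq_degree] at h1
    have h2 : charDegree (χ' : Matrix.ProjectiveSpecialLinearGroup (Fin 2) F → ℂ) =
        Fintype.card F := by exact_mod_cast h1
    exact ⟨⟨χ', by rw [h2]; exact hpq⟩⟩

end Cfsg.Agent.S4765
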