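import Mathlib
import Cfsg.Statements.S4774
import Cfsg.Agent.Helper14.PSL2Deg
import Cfsg.Agent.S4765


set_option autoImplicit false
open Cfsg

namespace Cfsg.Agent.S4774

/-- Let F be a finite field of odd characteristic t with q > 5 elements and let S be isomorphic to PSL(2,F) or to SL(2,F). Then the vertices of the character degree graph of S are the primes dividing q(q²−1); the prime t is adjacent to no vertex; two distinct primes dividing q² − 1 are adjacent exactly when one of them is 2, or both divide q + 1, or both divide q − 1. -/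
theorem result (F : Type*) [Field F] [Fintype F] (t : ℕ) [Fact t.Prime] [CharP F t] (ht : t ≠ 2) (q : ℕ) (hq : Fintype.card F = q) (h5 : 5 < q) {S : Type*} [Group S] [Finite S] (hS : Nonempty (S ≃* Matrix.ProjectiveSpecialLinearGroup (Fin 2) F) ∨ Nonempty (S ≃* Matrix.SpecialLinearGroup (Fin 2) F)) : Cfsg.degreePrimes S = {r : ℕ | r.Prime ∧ r ∣ q * (q ^ 2 - 1)} ∧ ∀ r s : ℕ, (Cfsg.degreeGraph S).Adj r s ↔ (r ≠ s ∧ r.Prime ∧ s.Prime ∧ r ∣ q ^ 2 - 1 ∧ s ∣ q ^ 2 - 1 ∧ (r = 2 ∨ s = 2 ∨ (r ∣ q + 1 ∧ s ∣ q + 1) ∨ (r ∣ q - 1 ∧ s ∣ q - 1))) := by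
  classical
  subst hq
  have htp := (Fact.out : t.Prime)
  obtain ⟨n, _, hn⟩ := FiniteField.card F t
  have hodd : Odd (Fintype.card F) := by
    rw [hn]
    exact Odd.pow (htp.odd_of_ne_two ht)
  obtain ⟨k, hk⟩ := id hodd
  have hk3 : 3 ≤ k := by omega
  have e1 : (Fintype.card F + 1) / 2 = k + 1 := by omega
  have e2 : (Fintype.card F - 1) / 2 = k := by omega
  have e3 : (Fintype.card F - 3) / 2 = k - 1 := by omega
  have key : ∀ (a b : ℕ), ((a : ℂ) = (b : ℂ)) → a = b := fun a b h => by exact_mod_cast h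
  obtain ⟨hdeg, hcnt⟩ := Cfsg.Agent.S2299.result hodd
  obtain ⟨N1, Nq, Nq1, Nqm, Nh1, Nh2⟩ := hcnt (by omega)
  -- degrees of `SL₂`
  have hSL : ∀ d, d ∈ charDegrees (Matrix.SpecialLinearGroup (Fin 2) F) →
      (d = 1 ∨ d = Fintype.card F ∨ d = Fintype.card F + 1 ∨ d + 1 = Fintype.card F ∨
        d = k + 1 ∨ d = k) := by
    rintro d ⟨χ, rfl⟩
    have h1 := Cfsg.Agent.Helper25.irr_one_eq_degree χ
    rcases hdeg (χ : Matrix.SpecialLinearGroup (Fin 2) F → ℂ) χ.2 with h | h | h | h | h | h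
    · left
      rw [h1] at h
      exact key _ 1 (by push_cast; exact h)
    · right; left
      rw [h1] at h
      exact key _ _ h
    · right; right; left
      rw [h1] at h
      exact key _ _ (by push_cast; exact h)
    · right; right; right; left
      rw [h1] at h
      exact key _ _ (by push_cast; linear_combination h)
    · right; right; right; right; left
      rw [h1, e1] at h
      exact key _ _ h
    · right; right; right; right; right
      rw [h1, e2] at h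
      exact key _ _ h
  have hD : (∀ d, d ∈ charDegrees S →
      (d = 1 ∨ d = Fintype.card F ∨ d = Fintype.card F + 1 ∨ d + 1 = Fintype.card F ∨
        d = k + 1 ∨ d = k)) ∧ Fintype.card F ∈ charDegrees S ∧
      Fintype.card F + 1 ∈ charDegrees S ∧ Fintype.card F - 1 ∈ charDegrees S := by
    rcases hS with ⟨⟨e⟩⟩ | ⟨⟨e⟩⟩
    · rw [Cfsg.Agent.Helper14.DG.charDegrees_congr e]
      refine ⟨fun d hd => hSL d (Cfsg.Agent.Helper14.DG.charDegrees_subset_of_surj
        (QuotientGroup.mk' _) (QuotientGroup.mk'_surjective _) hd), ?_, ?_, ?_⟩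
      · obtain ⟨h1, h2⟩ := Cfsg.Agent.S4765.result t F (by omega)
        have hpos : 0 < Nat.card {χ : Cfsg.IrrCharacter
            (Matrix.ProjectiveSpecialLinearGroup (Fin 2) F) //
            t ∣ Cfsg.charDegree (χ : Matrix.ProjectiveSpecialLinearGroup (Fin 2) F → ℂ)} := by
          rw [h1]
          norm_num
        obtain ⟨⟨χ, hχ⟩⟩ := (Nat.card_pos_iff.mp hpos).1
        exact ⟨χ, h2 χ hχ⟩
      · obtain ⟨⟨ψ, hψ1, hψ2⟩, _⟩ := Cfsg.Agent.Helper14.GL2.psl_exists hodd (by omega)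
        exact Cfsg.Agent.Helper14.GL2.psl_degree_of_even ψ hψ1 _ (by rw [hψ2]; push_cast; ring)
      · obtain ⟨_, ⟨ψ, hψ1, hψ2⟩⟩ := Cfsg.Agent.Helper14.GL2.psl_exists hodd (by omega)
        exact Cfsg.Agent.Helper14.GL2.psl_degree_of_even ψ hψ1 _
          (by rw [hψ2, Nat.cast_sub (by omega)]; push_cast; ring)
    · rw [Cfsg.Agent.Helper14.DG.charDegrees_congr e]
      refine ⟨hSL, ?_, ?_, ?_⟩
      · obtain ⟨χ, hχ⟩ := Cfsg.Agent.Helper14.DG.exists_of_card_pos _ (by rw [Nq]; norm_num)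
        exact Cfsg.Agent.Helper14.DG.mem_charDegrees_of_one χ _ hχ
      · obtain ⟨χ, hχ⟩ := Cfsg.Agent.Helper14.DG.exists_of_card_pos _ (by rw [Nq1]; omega)
        exact Cfsg.Agent.Helper14.DG.mem_charDegrees_of_one χ _ (by rw [hχ]; push_cast; ring)
      · obtain ⟨χ, hχ⟩ := Cfsg.Agent.Helper14.DG.exists_of_card_pos _ (by rw [Nqm]; omega)
        exact Cfsg.Agent.Helper14.DG.mem_charDegrees_of_one χ _
          (by rw [hχ, Nat.cast_sub (by omega)]; push_cast; ring)
  obtain ⟨hD1, hDq, hDq1, hDqm⟩ := hD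
  have hfac : Fintype.card F ^ 2 - 1 = (Fintype.card F - 1) * (Fintype.card F + 1) := by
    obtain ⟨m, hm⟩ : ∃ m, Fintype.card F = m + 1 := ⟨Fintype.card F - 1, by omega⟩
    rw [hm]
    have : (m + 1) ^ 2 = m * (m + 1 + 1) + 1 := by ring
    rw [this]
    simp
  have hq1 : Fintype.card F + 1 = 2 * (k + 1) := by omega
  have hqm : Fintype.card F - 1 = 2 * k := by omega
  constructor
  · ext r
    rw [Cfsg.Agent.Helper14.DG.mem_degreePrimes]
    simp only [Set.mem_ofPred_eq]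
    constructor
    · rintro ⟨hr, d, hd, hrd⟩
      refine ⟨hr, ?_⟩
      rw [hfac]
      rcases hD1 d hd with rfl | rfl | rfl | h | rfl | rfl
      · exact absurd hrd hr.not_dvd_one
      · exact Dvd.dvd.mul_right hrd _
      · exact Dvd.dvd.mul_left (Dvd.dvd.mul_left hrd _) _
      · have : d = Fintype.card F - 1 := by omega
        rw [this] at hrd
        exact Dvd.dvd.mul_left (Dvd.dvd.mul_right hrd _) _
      · rw [hq1]
        exact Dvd.dvd.mul_left (Dvd.dvd.mul_left (Dvd.dvd.mul_left hrd _) _) _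
      · rw [hqm]
        exact Dvd.dvd.mul_left (Dvd.dvd.mul_right (Dvd.dvd.mul_left hrd _) _) _
    · rintro ⟨hr, hdvd⟩
      refine ⟨hr, ?_⟩
      rw [hfac] at hdvd
      rcases (Nat.Prime.dvd_mul hr).mp hdvd with h | h
      · exact ⟨_, hDq, h⟩
      · rcases (Nat.Prime.dvd_mul hr).mp h with h | h
        · exact ⟨_, hDqm, h⟩
        · exact ⟨_, hDq1, h⟩
  · intro r s
    rw [Cfsg.Agent.Helper14.DG.degreeGraph_adj, hfac]
    constructor
    · rintro ⟨hne, hr, hs, d, hd, hdvd⟩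
      have hrd : r ∣ d := dvd_trans (Dvd.intro _ rfl) hdvd
      have hsd : s ∣ d := dvd_trans (Dvd.intro_left _ rfl) hdvd
      rcases hD1 d hd with rfl | rfl | rfl | h | rfl | rfl
      · exact absurd hrd hr.not_dvd_one
      · exfalso
        rw [hn] at hrd hsd
        have h1 := (Nat.prime_dvd_prime_iff_eq hr htp).mp (hr.dvd_of_dvd_pow hrd)
        have h2 := (Nat.prime_dvd_prime_iff_eq hs htp).mp (hs.dvd_of_dvd_pow hsd)
        exact hne (h1.trans h2.symm)
      · exact ⟨hne, hr, hs, Dvd.dvd.mul_left hrd _, Dvd.dvd.mul_left hsd _,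
          Or.inr (Or.inr (Or.inl ⟨hrd, hsd⟩))⟩
      · have : d = Fintype.card F - 1 := by omega
        rw [this] at hrd hsd
        exact ⟨hne, hr, hs, Dvd.dvd.mul_right hrd _, Dvd.dvd.mul_right hsd _,
          Or.inr (Or.inr (Or.inr ⟨hrd, hsd⟩))⟩
      · have hr' : r ∣ Fintype.card F + 1 := by rw [hq1]; exact Dvd.dvd.mul_left hrd _
        have hs' : s ∣ Fintype.card F + 1 := by rw [hq1]; exact Dvd.dvd.mul_left hsd _
        exact ⟨hne, hr, hs, Dvd.dvd.mul_left hr' _, Dvd.dvd.mul_left hs' _,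
          Or.inr (Or.inr (Or.inl ⟨hr', hs'⟩))⟩
      · have hr' : r ∣ Fintype.card F - 1 := by rw [hqm]; exact Dvd.dvd.mul_left hrd _
        have hs' : s ∣ Fintype.card F - 1 := by rw [hqm]; exact Dvd.dvd.mul_left hsd _
        exact ⟨hne, hr, hs, Dvd.dvd.mul_right hr' _, Dvd.dvd.mul_right hs' _,
          Or.inr (Or.inr (Or.inr ⟨hr', hs'⟩))⟩
    · rintro ⟨hne, hr, hs, hr1, hs1, h⟩
      refine ⟨hne, hr, hs, ?_⟩
      have hcop : Nat.Coprime r s := (Nat.coprime_primes hr hs).mpr hne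
      have h2m : 2 ∣ Fintype.card F - 1 := by rw [hqm]; exact Dvd.intro _ rfl
      have h2p : 2 ∣ Fintype.card F + 1 := by rw [hq1]; exact Dvd.intro _ rfl
      rcases h with rfl | rfl | ⟨h1, h2⟩ | ⟨h1, h2⟩
      · rcases (Nat.Prime.dvd_mul hs).mp hs1 with h | h
        · exact ⟨_, hDqm, Nat.Coprime.mul_dvd_of_dvd_of_dvd hcop h2m h⟩
        · exact ⟨_, hDq1, Nat.Coprime.mul_dvd_of_dvd_of_dvd hcop h2p h⟩
      · rcases (Nat.Prime.dvd_mul hr).mp hr1 with h | h
        · exact ⟨_, hDqm, Nat.Coprime.mul_dvd_of_dvd_of_dvd hcop h h2m⟩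
        · exact ⟨_, hDq1, Nat.Coprime.mul_dvd_of_dvd_of_dvd hcop h h2p⟩
      · exact ⟨_, hDq1, Nat.Coprime.mul_dvd_of_dvd_of_dvd hcop h1 h2⟩
      · exact ⟨_, hDqm, Nat.Coprime.mul_dvd_of_dvd_of_dvd hcop h1 h2⟩

end Cfsg.Agent.S4774
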