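import Cfsg.Statements.S4798
import Mathlib
import Cfsg.Agent.Helper2.CharExtra
import Cfsg.Agent.Helper2.IndExtra
import Cfsg.Agent.Helper25.CharArith

set_option autoImplicit false
open Cfsg

namespace Cfsg.Agent.S4798

open Cfsg.Agent.Helper25
open scoped ComplexConjugate

theorem eq_of_constituent_of_degree_le {G : Type*} [Group G] [Fintype G] {ψ : G → ℂ}
    (hψ : IsCharacter G ψ) (χ : IrrCharacter G) (h1 : classInner ψ (χ : G → ℂ) ≠ 0)
    (h2 : charDegree ψ ≤ charDegree (χ : G → ℂ)) : ψ = (χ : G → ℂ) := by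
  classical
  choose c hc using fun ξ : IrrCharacter G =>
    Cfsg.Agent.Helper2.classInner_char_nat hψ (irr_isCharacter ξ)
  have hexp := Cfsg.Agent.Helper2.classFun_eq_sum_classInner
    (Cfsg.Agent.Helper2.isClassFunction_of_isCharacter hψ)
  have hsum : charDegree ψ = ∑ ξ : IrrCharacter G, c ξ * charDegree (ξ : G → ℂ) := by
    have h3 := congrFun hexp 1
    simp only [Finset.sum_apply, Pi.smul_apply, smul_eq_mul] at h3
    rw [char_one_eq_degree hψ] at h3
    have h4 : ((charDegree ψ : ℕ) : ℂ)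
        = ((∑ ξ : IrrCharacter G, c ξ * charDegree (ξ : G → ℂ) : ℕ) : ℂ) := by
      rw [h3]
      push_cast
      apply Finset.sum_congr rfl
      intro ξ _
      rw [hc ξ, char_one_eq_degree (irr_isCharacter ξ)]
    exact_mod_cast h4
  have hsplit := (Finset.add_sum_erase Finset.univ
    (fun ξ : IrrCharacter G => c ξ * charDegree (ξ : G → ℂ)) (Finset.mem_univ χ)).symm
  have hcχ : 1 ≤ c χ := by
    rcases Nat.eq_zero_or_pos (c χ) with h0 | h0
    · exfalso
      apply h1
      rw [hc χ, h0]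
      simp
    · exact h0
  have hdpos : 0 < charDegree (χ : G → ℂ) := irr_degree_pos χ
  have hge : charDegree (χ : G → ℂ) ≤ c χ * charDegree (χ : G → ℂ) :=
    Nat.le_mul_of_pos_left _ hcχ
  have hrest : ∑ ξ ∈ Finset.univ.erase χ, c ξ * charDegree (ξ : G → ℂ) = 0 := by
    rw [hsum, hsplit] at h2
    omega
  have hcχ1 : c χ = 1 := by
    rw [hsum, hsplit, hrest, add_zero] at h2
    have h5 : c χ * charDegree (χ : G → ℂ) = 1 * charDegree (χ : G → ℂ) := by omega
    exact Nat.eq_of_mul_eq_mul_right hdpos h5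
  have hzero : ∀ ξ : IrrCharacter G, ξ ≠ χ → c ξ = 0 := by
    intro ξ hξ
    have h5 := (Finset.sum_eq_zero_iff.mp hrest) ξ (Finset.mem_erase.mpr ⟨hξ, Finset.mem_univ _⟩)
    rcases Nat.mul_eq_zero.mp h5 with h6 | h6
    · exact h6
    · exact absurd h6 (irr_degree_pos ξ).ne'
  rw [hexp, Finset.sum_eq_single χ]
  · rw [hc χ, hcχ1]
    simp
  · intro ξ _ hξ
    rw [hc ξ, hzero ξ hξ]
    simp
  · intro h
    exact absurd (Finset.mem_univ _) h

theorem exists_irr_ind {G : Type*} [Group G] [Fintype G] (p : ℕ) [Fact p.Prime]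
    (χ : IrrCharacter G) (k : ℕ) (hk : Nat.card G = p ^ k * charDegree (χ : G → ℂ))
    (P : Sylow p G) : ∃ θ : IrrCharacter ↥(P : Subgroup G),
      (χ : G → ℂ) = indFun (P : Subgroup G) (θ : ↥(P : Subgroup G) → ℂ) := by
  classical
  have hp : p.Prime := Fact.out
  haveI : Fintype (P : Subgroup G) := Fintype.ofFinite _
  set χP : ↥(P : Subgroup G) → ℂ := fun h => (χ : G → ℂ) h with hχP
  have hχPchar : IsCharacter (P : Subgroup G) χP :=
    Cfsg.Agent.Helper2.isCharacter_restrict (P : Subgroup G) (irr_isCharacter χ)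
  choose mult hmult using fun θ : IrrCharacter (P : Subgroup G) =>
    Cfsg.Agent.Helper2.classInner_char_nat hχPchar (irr_isCharacter θ)
  have hdeg : charDegree (χ : G → ℂ)
      = ∑ θ : IrrCharacter (P : Subgroup G), mult θ * charDegree (θ : ↥(P : Subgroup G) → ℂ) := by
    have h1 := congrFun (Cfsg.Agent.Helper2.classFun_eq_sum_classInner
      (Cfsg.Agent.Helper2.isClassFunction_of_isCharacter hχPchar)) 1
    simp only [Finset.sum_apply, Pi.smul_apply, smul_eq_mul] at h1
    have h2 : χP 1 = ((charDegree (χ : G → ℂ) : ℕ) : ℂ) := by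
      show (χ : G → ℂ) ((1 : ↥(P : Subgroup G)) : G) = _
      rw [OneMemClass.coe_one]
      exact char_one_eq_degree (irr_isCharacter χ)
    rw [h2] at h1
    have h3 : ((charDegree (χ : G → ℂ) : ℕ) : ℂ)
        = ((∑ θ : IrrCharacter (P : Subgroup G),
          mult θ * charDegree (θ : ↥(P : Subgroup G) → ℂ) : ℕ) : ℂ) := by
      rw [h1]
      push_cast
      apply Finset.sum_congr rfl
      intro θ _
      rw [hmult θ, char_one_eq_degree (irr_isCharacter θ)]
    exact_mod_cast h3
  set a := (P : Subgroup G).index with ha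
  set n := (Nat.card G).factorization p with hn
  have hcardP : Nat.card (P : Subgroup G) = p ^ n := P.card_eq_multiplicity
  have hGa : Nat.card G = a * p ^ n := by
    rw [← hcardP]
    exact ((P : Subgroup G).index_mul_card).symm
  have hap : ¬ p ∣ a := P.not_dvd_index
  set j := (charDegree (χ : G → ℂ)).factorization p with hj
  have hdpos := irr_degree_pos χ
  obtain ⟨θ, hθm, hθd⟩ : ∃ θ : IrrCharacter (P : Subgroup G),
      mult θ ≠ 0 ∧ ¬ p ^ (j + 1) ∣ charDegree (θ : ↥(P : Subgroup G) → ℂ) := by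
    by_contra hcon
    push Not at hcon
    have h1 : p ^ (j + 1) ∣ charDegree (χ : G → ℂ) := by
      rw [hdeg]
      apply Finset.dvd_sum
      intro θ _
      by_cases h0 : mult θ = 0
      · rw [h0, zero_mul]
        exact dvd_zero _
      · exact (hcon θ h0).mul_left _
    have h2 := (hp.pow_dvd_iff_le_factorization hdpos.ne').mp h1
    omega
  have hθdvd : charDegree (θ : ↥(P : Subgroup G) → ℂ) ∣ p ^ n := by
    rw [← hcardP]
    exact irr_degree_dvd_card θ
  obtain ⟨i, hin, hi⟩ := (Nat.dvd_prime_pow hp).mp hθdvd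
  have hij : i ≤ j := by
    by_contra h
    apply hθd
    rw [hi]
    exact pow_dvd_pow p (by omega)
  have hχ1 : charDegree (χ : G → ℂ) = a * p ^ j := by
    set c' := charDegree (χ : G → ℂ) / p ^ j with hc'
    have h1 : p ^ j * c' = charDegree (χ : G → ℂ) :=
      Nat.ordProj_mul_ordCompl_eq_self (charDegree (χ : G → ℂ)) p
    have hc'p : ¬ p ∣ c' := Nat.not_dvd_ordCompl hp hdpos.ne'
    have h2 : a * p ^ n = p ^ (k + j) * c' := by
      rw [← hGa, hk, ← h1, pow_add]
      ring
    have h3 : n ≤ k + j := by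
      have h4 : p ^ n ∣ p ^ (k + j) * c' := ⟨a, by rw [← h2]; ring⟩
      have h5 : Nat.Coprime (p ^ n) c' :=
        Nat.Coprime.pow_left n ((Nat.Prime.coprime_iff_not_dvd hp).mpr hc'p)
      exact (Nat.pow_dvd_pow_iff_le_right hp.one_lt).mp (h5.dvd_of_dvd_mul_right h4)
    have h4 : k + j ≤ n := by
      have h5 : p ^ (k + j) ∣ a * p ^ n := ⟨c', h2⟩
      have h6 : Nat.Coprime (p ^ (k + j)) a :=
        Nat.Coprime.pow_left (k + j) ((Nat.Prime.coprime_iff_not_dvd hp).mpr hap)
      exact (Nat.pow_dvd_pow_iff_le_right hp.one_lt).mp (h6.dvd_of_dvd_mul_left h5)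
    have h5 : n = k + j := le_antisymm h3 h4
    rw [← h5] at h2
    have h6 : a = c' := by
      have h7 : p ^ n * a = p ^ n * c' := by rw [← h2]; ring
      exact Nat.eq_of_mul_eq_mul_left (pow_pos hp.pos n) h7
    rw [← h1, h6]
    ring
  have hind : IsCharacter G (indFun (P : Subgroup G) (θ : ↥(P : Subgroup G) → ℂ)) :=
    Cfsg.Agent.Helper2.isCharacter_indFun (P : Subgroup G) (irr_isCharacter θ)
  have hind1 : charDegree (indFun (P : Subgroup G) (θ : ↥(P : Subgroup G) → ℂ)) = a * p ^ i := by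
    have h1 := Cfsg.Agent.Helper2.indFun_one_apply (P : Subgroup G) (θ : ↥(P : Subgroup G) → ℂ)
    rw [char_one_eq_degree hind, char_one_eq_degree (irr_isCharacter θ), hi] at h1
    exact_mod_cast h1
  have hrec : classInner (indFun (P : Subgroup G) (θ : ↥(P : Subgroup G) → ℂ)) (χ : G → ℂ)
      = (mult θ : ℂ) := by
    rw [Cfsg.Agent.Helper2.frobenius_reciprocity (P : Subgroup G) (θ : ↥(P : Subgroup G) → ℂ)
      (χ : G → ℂ) (Cfsg.Agent.Helper1.isClassFunction_irr χ)]
    have h1 := Cfsg.Agent.Helper2.classInner_conj_symm χP (θ : ↥(P : Subgroup G) → ℂ)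
    rw [hmult θ, map_natCast] at h1
    exact h1
  refine ⟨θ, ?_⟩
  symm
  apply eq_of_constituent_of_degree_le hind χ
  · rw [hrec]
    exact_mod_cast hθm
  · rw [hind1, hχ1]
    exact Nat.mul_le_mul_left a (Nat.pow_le_pow_right hp.pos hij)

/-- Let p be a prime and χ a faithful irreducible complex character of the finite group G (χ(g) = χ(1) only for g = 1), so that its codegree is #G / χ(1). Then #G / χ(1) is a power of p if and only if χ is induced from a character of a Sylow p-subgroup of G. -/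
theorem result {G : Type*} [Group G] [Fintype G] (p : ℕ) [Fact p.Prime] (χ : Cfsg.IrrCharacter G) (hfaith : ∀ g : G, (χ : G → ℂ) g = (χ : G → ℂ) 1 → g = 1) : (∃ k : ℕ, Nat.card G = p ^ k * Cfsg.charDegree (χ : G → ℂ)) ↔ ∃ (P : Sylow p G) (θ : ↥(P : Subgroup G) → ℂ), Cfsg.IsCharacter ↥(P : Subgroup G) θ ∧ (χ : G → ℂ) = Cfsg.indFun (P : Subgroup G) θ := by
  classical
  have hp : p.Prime := Fact.out
  constructor
  · rintro ⟨k, hk⟩
    obtain ⟨P⟩ : Nonempty (Sylow p G) := inferInstance
    obtain ⟨θ, hθ⟩ := exists_irr_ind p χ k hk P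
    exact ⟨P, (θ : ↥(P : Subgroup G) → ℂ), irr_isCharacter θ, hθ⟩
  · rintro ⟨P, θ, hθ, hχθ⟩
    haveI : Fintype (P : Subgroup G) := Fintype.ofFinite _
    set a := (P : Subgroup G).index with ha
    set n := (Nat.card G).factorization p with hn
    have hcardP : Nat.card (P : Subgroup G) = p ^ n := P.card_eq_multiplicity
    have hGa : Nat.card G = a * p ^ n := by
      rw [← hcardP]
      exact ((P : Subgroup G).index_mul_card).symm
    have hapos : 0 < a := Nat.pos_of_ne_zero (Subgroup.index_ne_zero_of_finite)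
    have h1 : charDegree (χ : G → ℂ) = a * charDegree θ := by
      have h2 := Cfsg.Agent.Helper2.indFun_one_apply (P : Subgroup G) θ
      rw [← hχθ, char_one_eq_degree (irr_isCharacter χ), char_one_eq_degree hθ] at h2
      exact_mod_cast h2
    have h3 : charDegree (χ : G → ℂ) ∣ Nat.card G := irr_degree_dvd_card χ
    rw [h1, hGa] at h3
    have h4 : charDegree θ ∣ p ^ n := Nat.dvd_of_mul_dvd_mul_left hapos h3
    obtain ⟨i, hin, hi⟩ := (Nat.dvd_prime_pow hp).mp h4
    refine ⟨n - i, ?_⟩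
    rw [hGa, h1, hi]
    have h5 : p ^ n = p ^ (n - i) * p ^ i := by
      rw [← pow_add]
      congr 1
      omega
    rw [h5]
    ring

end Cfsg.Agent.S4798
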