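import Cfsg.Statements.S4885
import Mathlib
import Cfsg.Agent.Helper7.PrinPSolv
import Cfsg.Agent.Helper26.PCore

set_option autoImplicit false
open Cfsg

namespace Cfsg.Agent.S4885

open Cfsg.Agent.Helper7 Cfsg.Agent.Helper25

/-- Let p and q be primes dividing the order of the finite group G, and suppose G is p-solvable and q-solvable. Fix maximal ideals of the algebraic integers containing p and q, defining the principal p-block and the principal q-block. If the irreducible characters of degree prime to p in the principal p-block are exactly the irreducible characters of degree prime to q in the principal q-block, then p = q. -/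
theorem result {G : Type*} [Group G] [Finite G] (p q : ℕ) [Fact p.Prime] [Fact q.Prime] (hp : p ∣ Nat.card G) (hq : q ∣ Nat.card G) (hps : Cfsg.IsPSolvable p G) (hqs : Cfsg.IsPSolvable q G) (Mp Mq : Ideal Cfsg.AlgInt) (hMp : Cfsg.IsPModular p Mp) (hMq : Cfsg.IsPModular q Mq) (h : ∀ χ : Cfsg.IrrCharacter G, (χ ∈ Cfsg.principalBlock Mp G ∧ ¬ p ∣ Cfsg.charDegree (χ : G → ℂ)) ↔ (χ ∈ Cfsg.principalBlock Mq G ∧ ¬ q ∣ Cfsg.charDegree (χ : G → ℂ))) : p = q := by
  classical
  by_contra hpq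
  obtain ⟨K, hKdef⟩ : ∃ K : Subgroup G, K = ⨅ χ : {χ : Cfsg.IrrCharacter G //
      χ ∈ Cfsg.principalBlock Mp G ∧ ¬ p ∣ Cfsg.charDegree (χ : G → ℂ)},
      irrKer (χ : Cfsg.IrrCharacter G) := ⟨_, rfl⟩
  haveI hKn : K.Normal := by
    rw [hKdef]
    exact Subgroup.normal_iInf_normal (fun χ => inferInstance)
  have hKle : ∀ χ : Cfsg.IrrCharacter G, χ ∈ Cfsg.principalBlock Mp G →
      ¬ p ∣ Cfsg.charDegree (χ : G → ℂ) → K ≤ irrKer χ := by
    intro χ h1 h2
    rw [hKdef]
    exact iInf_le (fun χ : {χ : Cfsg.IrrCharacter G //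
      χ ∈ Cfsg.principalBlock Mp G ∧ ¬ p ∣ Cfsg.charDegree (χ : G → ℂ)} =>
      irrKer (χ : Cfsg.IrrCharacter G)) ⟨χ, h1, h2⟩
  have hKle' : ∀ χ : Cfsg.IrrCharacter G, χ ∈ Cfsg.principalBlock Mq G →
      ¬ q ∣ Cfsg.charDegree (χ : G → ℂ) → K ≤ irrKer χ := by
    intro χ h1 h2
    obtain ⟨a, b⟩ := (h χ).mpr ⟨h1, h2⟩
    exact hKle χ a b
  have hNp : Cfsg.pPrimeCore p G ≤ K := by
    rw [hKdef]
    exact le_iInf (fun χ => prin_core_le_irrKer hMp χ.1 χ.2.1)
  have hNq : Cfsg.pPrimeCore q G ≤ K := by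
    rw [hKdef]
    exact le_iInf (fun χ => prin_core_le_irrKer hMq χ.1 ((h χ.1).mp χ.2).1)
  obtain ⟨P⟩ : Nonempty (Sylow p G) := inferInstance
  obtain ⟨Q⟩ : Nonempty (Sylow q G) := inferInstance
  have hP : K ⊓ (P : Subgroup G) ≤ (frattini (P : Subgroup G)).map (P : Subgroup G).subtype := by
    rintro x ⟨hxK, hxP⟩
    have h1 := inf_sylow_le_commutator hMp hps P K hKle ⟨x, hxP⟩ hxK
    haveI : Group.IsNilpotent (P : Subgroup G) := P.isPGroup'.isNilpotent
    exact Subgroup.mem_map.mpr ⟨⟨x, hxP⟩, Cfsg.Agent.S0586.comm_le_frattini h1, rfl⟩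
  have hQ : K ⊓ (Q : Subgroup G) ≤ (frattini (Q : Subgroup G)).map (Q : Subgroup G).subtype := by
    rintro x ⟨hxK, hxQ⟩
    have h1 := inf_sylow_le_commutator hMq hqs Q K hKle' ⟨x, hxQ⟩ hxK
    haveI : Group.IsNilpotent (Q : Subgroup G) := Q.isPGroup'.isNilpotent
    exact Subgroup.mem_map.mpr ⟨⟨x, hxQ⟩, Cfsg.Agent.S0586.comm_le_frattini h1, rfl⟩
  have hcp := pPrimeCore_quot_eq_bot_of_inf_le_frattini P K hNp hP
  have hcq := pPrimeCore_quot_eq_bot_of_inf_le_frattini Q K hNq hQ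
  have htriv : Subsingleton (G ⧸ K) := by
    by_contra hns
    rw [not_subsingleton_iff_nontrivial] at hns
    haveI := hns
    rcases Cfsg.Agent.Helper13.core_ne_bot_of_isPSolvable
      (Cfsg.Agent.Helper13.isPSolvable_quotient hps K) with h1 | h1
    · apply h1
      rw [eq_bot_iff, ← hcq]
      apply Cfsg.Agent.Helper10.le_pPrimeCore q inferInstance
      obtain ⟨n, hn⟩ := IsPGroup.iff_card.mp (Cfsg.Agent.Helper26.isPGroup_pCore p (G ⧸ K))
      rw [hn]
      exact Nat.Coprime.pow_left n ((Nat.coprime_primes Fact.out Fact.out).mpr hpq)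
    · exact h1 hcp
  have hKtop : K = ⊤ := QuotientGroup.subgroup_eq_top_of_subsingleton K htriv
  have hPtop : commutator (P : Subgroup G) = ⊤ := by
    rw [eq_top_iff]
    intro x _
    exact inf_sylow_le_commutator hMp hps P K hKle x (hKtop ▸ Subgroup.mem_top _)
  haveI : Nontrivial (P : Subgroup G) :=
    (Subgroup.nontrivial_iff_ne_bot _).mpr (P.ne_bot_of_dvd_card hp)
  haveI : Group.IsNilpotent (P : Subgroup G) := P.isPGroup'.isNilpotent
  exact (Group.IsSolvable.commutator_lt_top_of_nontrivial (P : Subgroup G)).ne hPtop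

end Cfsg.Agent.S4885
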