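import Cfsg.Statements.S4888
import Mathlib
import Cfsg.Agent.Helper7.SecOrth
import Cfsg.Agent.Helper7.SecondMain
import Cfsg.Agent.Helper7.LinChar
import Cfsg.Agent.Helper25.BlockIdem
import Cfsg.Agent.Helper25.BlockFong
import Cfsg.Agent.Helper1.TateLift
import Cfsg.Agent.S0072

set_option autoImplicit false
open Cfsg

namespace Cfsg.Agent.S4888

open Cfsg.Agent.Helper25 Cfsg.Agent.Helper7 Cfsg.Agent.Helper2
open scoped ComplexConjugate

universe u

/-- A central element acts on an irreducible character through the central character. -/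
theorem central_mul {X : Type u} [Group X] [Fintype X] (η : IrrCharacter X) (z c : X)
    (hz : ∀ y : X, y * z = z * y) :
    (η : X → ℂ) (c * z) = (η : X → ℂ) c * centralChar (η : X → ℂ) z := by
  have h := irr_sum_conj_mul η c z
  have h2 : ∀ y : X, y * z * y⁻¹ = z := fun y => by rw [hz y, mul_inv_cancel_right]
  have h3 : ∑ y : X, (η : X → ℂ) (c * (y * z * y⁻¹))
      = (Nat.card X : ℂ) * (η : X → ℂ) (c * z) := by
    rw [Finset.sum_congr rfl (fun y _ => by rw [h2 y]), Finset.sum_const, Finset.card_univ,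
      nsmul_eq_mul, Nat.card_eq_fintype_card]
  rw [h3] at h
  have hne : (Nat.card X : ℂ) ≠ 0 := card_ne_zero
  have hcent : Subgroup.centralizer ({z} : Set X) = ⊤ := by
    rw [eq_top_iff]
    intro y _
    rw [Subgroup.mem_centralizer_iff]
    intro w hw
    rw [Set.mem_singleton_iff] at hw
    rw [hw]
    exact (hz y).symm
  unfold centralChar
  rw [hcent, Subgroup.index_top, Nat.cast_one, one_mul]
  apply mul_left_cancel₀ hne
  rw [h]
  ring

/-- The `f`-isotypic trace of `g⁻¹` on `P ≤ C_G(g)` is an algebraic integer. -/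
theorem m_integral {G : Type u} [Group G] [Fintype G] (g : G)
    (P : Subgroup (Subgroup.centralizer ({g} : Set G))) [Fintype P]
    [Fintype (Subgroup.centralizer ({g} : Set G))] (f : P →* ℂˣ) (χ : IrrCharacter G) :
    IsIntegral ℤ ((Nat.card P : ℂ)⁻¹ * ∑ x : P,
      (χ : G → ℂ) (((x : Subgroup.centralizer ({g} : Set G)) : G) * g⁻¹)
        * conj ((f x : ℂˣ) : ℂ)) := by
  classical
  have hgm : g ∈ Subgroup.centralizer ({g} : Set G) := by
    rw [Subgroup.mem_centralizer_iff]
    intro h hh
    rw [Set.mem_singleton_iff] at hh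
    rw [hh]
  obtain ⟨g₀, hg₀⟩ : ∃ g₀ : Subgroup.centralizer ({g} : Set G), (g₀ : G) = g := ⟨⟨g, hgm⟩, rfl⟩
  have hcen : ∀ y : Subgroup.centralizer ({g} : Set G), y * g₀⁻¹ = g₀⁻¹ * y := by
    intro y
    have hy := y.2
    rw [Subgroup.mem_centralizer_iff] at hy
    have h1 : g * (y : G) = (y : G) * g := hy g (Set.mem_singleton g)
    apply Subtype.ext
    show (y : G) * (g₀ : G)⁻¹ = (g₀ : G)⁻¹ * (y : G)
    rw [hg₀, eq_inv_mul_iff_mul_eq, ← mul_assoc, h1, mul_assoc, mul_inv_cancel, mul_one]
  obtain ⟨θ, hθdef⟩ : ∃ θ : Subgroup.centralizer ({g} : Set G) → ℂ,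
      θ = fun c : Subgroup.centralizer ({g} : Set G) => (χ : G → ℂ) (c : G) := ⟨_, rfl⟩
  have hθc : IsCharacter (Subgroup.centralizer ({g} : Set G)) θ := by
    rw [hθdef]
    exact isCharacter_restrict _ (irr_isCharacter χ)
  have hθ := classFun_eq_sum_classInner (isClassFunction_of_isCharacter hθc)
  have hval : ∀ x : P, (χ : G → ℂ) (((x : Subgroup.centralizer ({g} : Set G)) : G) * g⁻¹)
      = ∑ η : IrrCharacter (Subgroup.centralizer ({g} : Set G)),
          classInner θ (η : Subgroup.centralizer ({g} : Set G) → ℂ) *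
            ((η : Subgroup.centralizer ({g} : Set G) → ℂ) (x : Subgroup.centralizer ({g} : Set G))
              * centralChar (η : Subgroup.centralizer ({g} : Set G) → ℂ) g₀⁻¹) := by
    intro x
    have h1 : (χ : G → ℂ) (((x : Subgroup.centralizer ({g} : Set G)) : G) * g⁻¹)
        = θ ((x : Subgroup.centralizer ({g} : Set G)) * g₀⁻¹) := by
      rw [hθdef]
      show _ = (χ : G → ℂ) (((x : Subgroup.centralizer ({g} : Set G)) : G) * (g₀ : G)⁻¹)
      rw [hg₀]
    rw [h1]
    conv_lhs => rw [hθ]
    rw [Finset.sum_apply]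
    apply Finset.sum_congr rfl
    intro η _
    rw [Pi.smul_apply, smul_eq_mul, central_mul η g₀⁻¹ (x : Subgroup.centralizer ({g} : Set G)) hcen]
  have hexp : (Nat.card P : ℂ)⁻¹ * ∑ x : P,
      (χ : G → ℂ) (((x : Subgroup.centralizer ({g} : Set G)) : G) * g⁻¹) * conj ((f x : ℂˣ) : ℂ)
      = ∑ η : IrrCharacter (Subgroup.centralizer ({g} : Set G)),
          classInner θ (η : Subgroup.centralizer ({g} : Set G) → ℂ)
            * centralChar (η : Subgroup.centralizer ({g} : Set G) → ℂ) g₀⁻¹ *
          classInner (fun x : P => (η : Subgroup.centralizer ({g} : Set G) → ℂ)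
            (x : Subgroup.centralizer ({g} : Set G))) (fun x : P => ((f x : ℂˣ) : ℂ)) := by
    have hci : ∀ η : IrrCharacter (Subgroup.centralizer ({g} : Set G)),
        classInner (fun x : P => (η : Subgroup.centralizer ({g} : Set G) → ℂ)
            (x : Subgroup.centralizer ({g} : Set G))) (fun x : P => ((f x : ℂˣ) : ℂ))
          = (Nat.card P : ℂ)⁻¹ * ∑ x : P, (η : Subgroup.centralizer ({g} : Set G) → ℂ)
            (x : Subgroup.centralizer ({g} : Set G)) * conj ((f x : ℂˣ) : ℂ) := fun η => rfl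
    have hL : (Nat.card P : ℂ)⁻¹ * ∑ x : P,
        (χ : G → ℂ) (((x : Subgroup.centralizer ({g} : Set G)) : G) * g⁻¹)
          * conj ((f x : ℂˣ) : ℂ)
        = (Nat.card P : ℂ)⁻¹ * ∑ x : P,
          (∑ η : IrrCharacter (Subgroup.centralizer ({g} : Set G)),
          classInner θ (η : Subgroup.centralizer ({g} : Set G) → ℂ) *
            ((η : Subgroup.centralizer ({g} : Set G) → ℂ) (x : Subgroup.centralizer ({g} : Set G))
              * centralChar (η : Subgroup.centralizer ({g} : Set G) → ℂ) g₀⁻¹))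
          * conj ((f x : ℂˣ) : ℂ) := by
      congr 1
      apply Finset.sum_congr rfl
      intro x _
      rw [hval x]
    rw [hL]
    simp only [hci, Finset.sum_mul, Finset.mul_sum]
    rw [Finset.sum_comm]
    apply Finset.sum_congr rfl
    intro η _
    apply Finset.sum_congr rfl
    intro x _
    ring
  rw [hexp]
  apply IsIntegral.sum
  intro η _
  obtain ⟨a, ha⟩ := classInner_char_nat hθc (irr_isCharacter η)
  obtain ⟨b, hb⟩ := classInner_char_nat
    (isCharacter_restrict P (irr_isCharacter η)) (isCharacter_of_hom f)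
  rw [ha, hb]
  exact ((isIntegral_natCast (R := ℤ) a).mul (centralChar_isIntegral η g₀⁻¹)).mul
    (isIntegral_natCast (R := ℤ) b)

/-- Under the degree hypothesis, every linear character of a `p`-subgroup `P ≤ C_G(g)` of
`p'`-index, `g` a defect class of the principal block, extends to a linear character of `G`. -/
theorem exists_linear_ext {G : Type u} [Group G] [Finite G] {p : ℕ} [Fact p.Prime]
    {M : Ideal AlgInt} (hM : IsPModular p M)
    (hyp : ∀ χ : IrrCharacter G, χ ∈ principalBlock M G →
      ¬ p ∣ charDegree (χ : G → ℂ) → charDegree (χ : G → ℂ) = 1)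
    (g : G) (hdc : IsDefectClass M (principalBlock M G) g)
    (P : Subgroup (Subgroup.centralizer ({g} : Set G))) (hP : IsPGroup p P)
    (n : ℕ) (hn : ¬ p ∣ n) (hcard : Nat.card G = n * Nat.card P)
    (f : P →* ℂˣ) :
    ∃ F : G →* ℂˣ, ∀ x : P, F ((x : Subgroup.centralizer ({g} : Set G)) : G) = f x := by
  classical
  haveI := Fintype.ofFinite G
  haveI : Fintype (Subgroup.centralizer ({g} : Set G)) := Fintype.ofFinite _
  haveI : Fintype P := Fintype.ofFinite P
  have hp : p.Prime := Fact.out
  have hB : IsPBlock M (principalBlock M G) := isPBlock_principalBlock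
  by_contra hno
  push Not at hno
  have h11 : IsPPart p (1 : G) 1 :=
    ⟨1, one_mul 1, Commute.one_left 1, ⟨0, by rw [orderOf_one, pow_zero]⟩, by
      rw [orderOf_one]; exact fun h => hp.one_lt.ne' (Nat.dvd_one.mp h)⟩
  have hbc : blockCoeff (principalBlock M G) g = (Nat.card G : ℂ)⁻¹ *
      ∑ χ ∈ (Set.toFinite (principalBlock M G)).toFinset,
        (χ : G → ℂ) 1 * (χ : G → ℂ) g⁻¹ := by
    unfold blockCoeff
    rw [finsum_mem_eq_finite_toFinset_sum _ (Set.toFinite _)]
    congr 1
    apply Finset.sum_congr rfl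
    intro χ _
    rw [irr_inv]
  have hgreg : ¬ p ∣ orderOf g := by
    intro hdvd
    obtain ⟨y, hy⟩ := exists_isPPart hp g
    have hy1 : y ≠ 1 := by
      rintro rfl
      obtain ⟨y', e1, -, -, e4⟩ := hy
      rw [one_mul] at e1
      rw [e1] at e4
      exact e4 hdvd
    have h2 := block_orth hM hB 1 g 1 y h11 hy (fun hc => hy1 (isConj_one_right.mp hc))
    apply hdc.2.1
    rw [hbc, h2, mul_zero]
    exact li_zero hM
  have hvan : ∀ x : P, x ≠ 1 → ∑ χ ∈ (Set.toFinite (principalBlock M G)).toFinset,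
      (χ : G → ℂ) 1 *
        (χ : G → ℂ) (((x : Subgroup.centralizer ({g} : Set G)) : G) * g⁻¹) = 0 := by
    intro x hx
    have hxG : ((x : Subgroup.centralizer ({g} : Set G)) : G) ≠ 1 := by
      intro h
      apply hx
      apply Subtype.ext
      apply Subtype.ext
      exact h
    obtain ⟨k, hk⟩ : ∃ k, orderOf ((x : Subgroup.centralizer ({g} : Set G)) : G) = p ^ k := by
      obtain ⟨k, hk⟩ := hP x
      have h1 : ((x : Subgroup.centralizer ({g} : Set G)) : G) ^ p ^ k = 1 := by
        have := congrArg (fun y : P => ((y : Subgroup.centralizer ({g} : Set G)) : G)) hk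
        simpa using this
      obtain ⟨j, -, hj⟩ := (Nat.dvd_prime_pow hp).mp (orderOf_dvd_of_pow_eq_one h1)
      exact ⟨j, hj⟩
    have hcomm : Commute ((x : Subgroup.centralizer ({g} : Set G)) : G) g⁻¹ := by
      have hx2 := (x : Subgroup.centralizer ({g} : Set G)).2
      rw [Subgroup.mem_centralizer_iff] at hx2
      have h1 : g * ((x : Subgroup.centralizer ({g} : Set G)) : G)
          = ((x : Subgroup.centralizer ({g} : Set G)) : G) * g := hx2 g (Set.mem_singleton g)
      have h2 : Commute ((x : Subgroup.centralizer ({g} : Set G)) : G) g := h1.symm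
      exact h2.inv_right
    have hpp : IsPPart p (((x : Subgroup.centralizer ({g} : Set G)) : G) * g⁻¹)
        ((x : Subgroup.centralizer ({g} : Set G)) : G) :=
      ⟨g⁻¹, rfl, hcomm, ⟨k, hk⟩, by rw [orderOf_inv]; exact hgreg⟩
    have h2 := block_orth hM hB 1 (((x : Subgroup.centralizer ({g} : Set G)) : G) * g⁻¹)⁻¹ 1 _
      h11 (isPPart_inv hpp) (fun hc => hxG (inv_eq_one.mp (isConj_one_right.mp hc)))
    rw [inv_inv] at h2
    exact h2
  obtain ⟨m, hm⟩ : ∃ m : IrrCharacter G → ℂ, m = fun χ : IrrCharacter G => (Nat.card P : ℂ)⁻¹ * ∑ x : P,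
      (χ : G → ℂ) (((x : Subgroup.centralizer ({g} : Set G)) : G) * g⁻¹)
        * conj ((f x : ℂˣ) : ℂ) := ⟨_, rfl⟩
  have hn0 : (n : ℂ) ≠ 0 := by
    intro h
    have : n = 0 := by exact_mod_cast h
    exact hn (this ▸ dvd_zero p)
  have hsum : ∑ χ ∈ (Set.toFinite (principalBlock M G)).toFinset, (χ : G → ℂ) 1 * m χ
      = (n : ℂ) * blockCoeff (principalBlock M G) g := by
    rw [hm]
    have e1 : ∑ χ ∈ (Set.toFinite (principalBlock M G)).toFinset, (χ : G → ℂ) 1 *
        ((Nat.card P : ℂ)⁻¹ * ∑ x : P,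
          (χ : G → ℂ) (((x : Subgroup.centralizer ({g} : Set G)) : G) * g⁻¹)
            * conj ((f x : ℂˣ) : ℂ))
        = (Nat.card P : ℂ)⁻¹ * ∑ x : P, conj ((f x : ℂˣ) : ℂ) *
          ∑ χ ∈ (Set.toFinite (principalBlock M G)).toFinset, (χ : G → ℂ) 1 *
            (χ : G → ℂ) (((x : Subgroup.centralizer ({g} : Set G)) : G) * g⁻¹) := by
      simp only [Finset.mul_sum]
      rw [Finset.sum_comm]
      apply Finset.sum_congr rfl
      intro x _
      apply Finset.sum_congr rfl
      intro χ _
      ring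
    rw [e1, Finset.sum_eq_single (1 : P)]
    · have h1 : (((1 : P) : Subgroup.centralizer ({g} : Set G)) : G) * g⁻¹ = g⁻¹ := by simp
      rw [h1, map_one, Units.val_one, map_one, one_mul]
      have hPne : (Nat.card P : ℂ) ≠ 0 := Nat.cast_ne_zero.mpr Nat.card_pos.ne'
      rw [hbc, hcard]
      push_cast
      field_simp
    · intro x _ hx
      rw [hvan x hx, mul_zero]
    · intro h
      exact absurd (Finset.mem_univ _) h
  have hli : MemLocalIdeal M
      (∑ χ ∈ (Set.toFinite (principalBlock M G)).toFinset, (χ : G → ℂ) 1 * m χ) := by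
    apply li_sum hM
    intro χ hχ
    rw [Set.Finite.mem_toFinset] at hχ
    by_cases hd : p ∣ charDegree (χ : G → ℂ)
    · rw [irr_one_eq_degree]
      apply li_mul_lr hM ((li_natCast_iff hM _).mpr hd)
      rw [hm]
      exact lr_of_isIntegral hM (m_integral g P f χ)
    · have h1 : (χ : G → ℂ) 1 = 1 := by rw [irr_one_eq_degree, hyp χ hχ hd, Nat.cast_one]
      obtain ⟨F, hF⟩ := exists_hom_of_linear (χ : G → ℂ) (irr_isCharacter χ) h1
      obtain ⟨x₀, hx₀⟩ := hno F
      have hm0 : m χ = 0 := by
        rw [hm]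
        obtain ⟨φ₁, hφ₁⟩ : ∃ φ₁ : IrrCharacter P, (φ₁ : P → ℂ) = fun x : P =>
            ((F ((x : Subgroup.centralizer ({g} : Set G)) : G) : ℂˣ) : ℂ) :=
          ⟨⟨_, isIrrCharacter_of_monoidHom
            (F.comp ((Subgroup.centralizer ({g} : Set G)).subtype.comp P.subtype))⟩, rfl⟩
        obtain ⟨φ₂, hφ₂⟩ : ∃ φ₂ : IrrCharacter P, (φ₂ : P → ℂ) = fun x : P =>
            ((f x : ℂˣ) : ℂ) := ⟨⟨_, isIrrCharacter_of_monoidHom f⟩, rfl⟩
        have hne : φ₁ ≠ φ₂ := by
          intro h
          apply hx₀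
          have h3 := congrFun (congrArg Subtype.val h) x₀
          rw [hφ₁, hφ₂] at h3
          exact Units.ext h3
        have horth := irr_classInner φ₁ φ₂
        rw [if_neg hne, hφ₁, hφ₂] at horth
        have horth' : (Nat.card P : ℂ)⁻¹ * ∑ x : P,
            ((F ((x : Subgroup.centralizer ({g} : Set G)) : G) : ℂˣ) : ℂ)
              * conj ((f x : ℂˣ) : ℂ) = 0 := horth
        have hval : ∀ x : P,
            (χ : G → ℂ) (((x : Subgroup.centralizer ({g} : Set G)) : G) * g⁻¹)
              * conj ((f x : ℂˣ) : ℂ)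
            = ((F g⁻¹ : ℂˣ) : ℂ) *
              (((F ((x : Subgroup.centralizer ({g} : Set G)) : G) : ℂˣ) : ℂ)
                * conj ((f x : ℂˣ) : ℂ)) := by
          intro x
          rw [hF]
          show ((F (((x : Subgroup.centralizer ({g} : Set G)) : G) * g⁻¹) : ℂˣ) : ℂ) * _ = _
          rw [map_mul, Units.val_mul]
          ring
        beta_reduce
        rw [Finset.sum_congr rfl (fun x _ => hval x), ← Finset.mul_sum, ← mul_assoc,
          mul_comm _ ((F g⁻¹ : ℂˣ) : ℂ), mul_assoc, horth', mul_zero]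
      rw [hm0, mul_zero]
      exact li_zero hM
  rw [hsum] at hli
  have hn' : ¬ MemLocalIdeal M (n : ℂ) := fun h => hn ((li_natCast_iff hM n).mp h)
  exact hdc.2.1 (li_of_mul_left hM (lr_natCast hM n) hn' hli)

/-- If every linear character of a `p`-subgroup `H` of `p'`-index extends to `G`, then `G` has
a normal `p`-complement. -/
theorem npc_of_ext {G : Type u} [Group G] [Finite G] {p : ℕ} [Fact p.Prime] (H : Subgroup G)
    (hH : IsPGroup p H) (hidx : H.index.Coprime p)
    (hext : ∀ f : H →* ℂˣ, ∃ F : G →* ℂˣ, ∀ x : H, F (x : G) = f x) :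
    HasNormalPComplement p G := by
  classical
  have hp : p.Prime := Fact.out
  have key : ∀ (C' : Type u) [Group C'], Nat.card C' = p → ∀ κ : H →* C',
      ∃ κ' : G →* C', ∀ h : H, κ' h = κ h := by
    intro C' _ hC' κ
    haveI : Finite C' := Nat.finite_of_card_ne_zero (by rw [hC']; exact hp.ne_zero)
    haveI : Fact (Nat.card C').Prime := ⟨by rw [hC']; exact hp⟩
    by_cases htriv : ∀ h : H, κ h = 1
    · exact ⟨1, fun h => by rw [htriv h]; rfl⟩
    · push Not at htriv
      obtain ⟨h₀, hh₀⟩ := htriv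
      haveI : IsCyclic C' := isCyclic_of_prime_card hC'
      letI : CommGroup C' := IsCyclic.commGroup
      obtain ⟨ι, hι⟩ := CommGroup.exists_apply_ne_one_of_hasEnoughRootsOfUnity C' ℂ hh₀
      have hinj : Function.Injective ι := by
        rw [← MonoidHom.ker_eq_bot_iff]
        rcases Subgroup.eq_bot_or_eq_top_of_prime_card ι.ker with h | h
        · exact h
        · exfalso
          apply hι
          have h5 : κ h₀ ∈ ι.ker := by rw [h]; trivial
          exact MonoidHom.mem_ker.mp h5
      obtain ⟨F, hF⟩ := hext (ι.comp κ)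
      obtain ⟨a, ha⟩ : ∃ a, a = (Nat.card G).factorization p := ⟨_, rfl⟩
      obtain ⟨n', hn'⟩ : ∃ n', n' = Nat.card G / p ^ a := ⟨_, rfl⟩
      have hn'card : n' * p ^ a = Nat.card G := by
        rw [hn', ha]
        exact Nat.div_mul_cancel (Nat.ordProj_dvd _ _)
      have hn'cop : Nat.Coprime n' p := by
        rw [hn', ha]
        exact (Nat.coprime_ordCompl hp (Nat.card_pos (α := G)).ne').symm
      obtain ⟨t, -, ht⟩ := Nat.exists_mul_mod_eq_one_of_coprime hn'cop hp.one_lt
      obtain ⟨F', hF'⟩ : ∃ F' : G →* ℂˣ, F' = F ^ (n' * t) := ⟨_, rfl⟩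
      have hF'H : ∀ h : H, F' (h : G) = ι (κ h) := by
        intro h
        rw [hF', MonoidHom.pow_apply, hF h, MonoidHom.comp_apply, ← map_pow]
        congr 1
        have h1 : (κ h) ^ p = 1 := by rw [← hC']; exact pow_card_eq_one'
        rw [pow_eq_pow_mod _ h1, ht, pow_one]
      have hF'p : ∀ g : G, (F' g) ^ (p ^ a) = 1 := by
        intro g
        rw [hF', MonoidHom.pow_apply, ← pow_mul, mul_right_comm, hn'card, pow_mul, ← map_pow,
          pow_card_eq_one', map_one, one_pow]
      have hrange : IsPGroup p F'.range := by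
        intro y
        obtain ⟨g, hg⟩ := y.2
        refine ⟨a, Subtype.ext ?_⟩
        rw [Subgroup.coe_pow, ← hg]
        exact hF'p g
      haveI : Finite F'.range := Finite.of_surjective F'.rangeRestrict F'.rangeRestrict_surjective
      obtain ⟨j, hj⟩ := IsPGroup.iff_card.mp hrange
      have hKidx : F'.ker.index = p ^ j := by rw [Subgroup.index_ker, hj]
      have hsup : H ⊔ F'.ker = ⊤ := by
        rw [← Subgroup.index_eq_one]
        have d1 : (H ⊔ F'.ker).index ∣ H.index := Subgroup.index_dvd_of_le le_sup_left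
        have d2 : (H ⊔ F'.ker).index ∣ p ^ j := hKidx ▸ Subgroup.index_dvd_of_le le_sup_right
        have hc : Nat.Coprime (H ⊔ F'.ker).index (p ^ j) :=
          Nat.Coprime.pow_right j (Nat.Coprime.coprime_dvd_left d1 hidx)
        exact Nat.Coprime.eq_one_of_dvd hc d2
      have hmem : ∀ g : G, F' g ∈ ι.range := by
        intro g
        have hg : g ∈ H ⊔ F'.ker := by rw [hsup]; trivial
        have hg' : g ∈ ((H ⊔ F'.ker : Subgroup G) : Set G) := hg
        rw [Subgroup.mul_normal] at hg'
        obtain ⟨h, hh, k, hk, rfl⟩ := Set.mem_mul.mp hg'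
        rw [map_mul, MonoidHom.mem_ker.mp hk, mul_one]
        exact ⟨κ ⟨h, hh⟩, (hF'H ⟨h, hh⟩).symm⟩
      refine ⟨(MonoidHom.ofInjective hinj).symm.toMonoidHom.comp
        (F'.codRestrict ι.range hmem), fun h => ?_⟩
      show (MonoidHom.ofInjective hinj).symm (⟨F' (h : G), hmem _⟩) = κ h
      rw [MulEquiv.symm_apply_eq]
      apply Subtype.ext
      rw [MonoidHom.ofInjective_apply]
      exact hF'H h
  obtain ⟨ψ, hψ⟩ := Cfsg.Agent.Helper1.tate_lift p H hidx key H hH (MonoidHom.id H)
  rw [Cfsg.Agent.S0072.npc_iff]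
  have hsurj : Function.Surjective ψ := fun h => ⟨(h : G), hψ h⟩
  obtain ⟨k, hk⟩ := IsPGroup.iff_card.mp hH
  have hKidx : ψ.ker.index = p ^ k := by
    rw [Subgroup.index_ker, ← hk, MonoidHom.range_eq_top.mpr hsurj]
    exact Subgroup.card_top
  refine ⟨ψ.ker, MonoidHom.normal_ker ψ, ?_, k, hKidx⟩
  have h1 := ψ.ker.card_mul_index
  have h2 := H.card_mul_index
  rw [hKidx] at h1
  rw [hk] at h2
  have h3 : Nat.card ψ.ker = H.index := by
    have h4 : Nat.card ψ.ker * p ^ k = H.index * p ^ k := by rw [h1, ← h2, mul_comm]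
    exact Nat.eq_of_mul_eq_mul_right (pow_pos hp.pos k) h4
  rw [h3]
  exact hidx

/-- Let G be a finite group, p a prime and M a maximal ideal of the algebraic integers containing p. Then all height-zero irreducible characters of the principal p-block of G (equivalently, all its characters of degree prime to p) have the same degree if and only if G has a normal p-complement. -/
theorem result {G : Type*} [Group G] [Finite G] (p : ℕ) [Fact p.Prime] (M : Ideal Cfsg.AlgInt) (hM : Cfsg.IsPModular p M) : (∃ d : ℕ, ∀ χ : Cfsg.IrrCharacter G, χ ∈ (Cfsg.principalBlock M G) → Cfsg.blockHeight p (Cfsg.principalBlock M G) (χ : G → ℂ) = 0 → Cfsg.charDegree (χ : G → ℂ) = d) ↔ Cfsg.HasNormalPComplement p G := by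
  classical
  have hp : p.Prime := Fact.out
  have htriv : Cfsg.charDegree ((trivChar G : Cfsg.IrrCharacter G) : G → ℂ) = 1 := by
    show ⌊((1 : ℂ)).re⌋₊ = 1
    simp
  have hinf : sInf ((fun ψ : Cfsg.IrrCharacter G =>
      (Cfsg.charDegree (ψ : G → ℂ)).factorization p) '' Cfsg.principalBlock M G) = 0 := by
    apply Nat.sInf_eq_zero.mpr
    left
    exact ⟨trivChar G, trivChar_mem_principalBlock hM, by beta_reduce; rw [htriv]; simp⟩
  have hheight : ∀ χ : Cfsg.IrrCharacter G,
      Cfsg.blockHeight p (Cfsg.principalBlock M G) (χ : G → ℂ)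
        = (Cfsg.charDegree (χ : G → ℂ)).factorization p := by
    intro χ
    unfold Cfsg.blockHeight
    rw [hinf, Nat.sub_zero]
  constructor
  · rintro ⟨d, hd⟩
    have hd1 : d = 1 := by
      rw [← htriv]
      symm
      apply hd _ (trivChar_mem_principalBlock hM)
      rw [hheight, htriv]
      simp
    have hyp : ∀ χ : Cfsg.IrrCharacter G, χ ∈ Cfsg.principalBlock M G →
        ¬ p ∣ Cfsg.charDegree (χ : G → ℂ) → Cfsg.charDegree (χ : G → ℂ) = 1 := by
      intro χ hχ hnd
      rw [← hd1]
      apply hd χ hχ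
      rw [hheight]
      exact Nat.factorization_eq_zero_of_not_dvd hnd
    obtain ⟨g, hdc, hgidx⟩ := exists_isDefectClass_principal (G := G) hM
    obtain ⟨P⟩ : Nonempty (Sylow p (Subgroup.centralizer ({g} : Set G))) := inferInstance
    have hPidx := P.not_dvd_index
    have hn : ¬ p ∣ (P : Subgroup (Subgroup.centralizer ({g} : Set G))).index
        * (Subgroup.centralizer ({g} : Set G)).index := by
      intro h
      rcases (Nat.Prime.dvd_mul hp).mp h with h | h
      · exact hPidx h
      · exact hgidx h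
    have hcard : Nat.card G = ((P : Subgroup (Subgroup.centralizer ({g} : Set G))).index
        * (Subgroup.centralizer ({g} : Set G)).index)
        * Nat.card (P : Subgroup (Subgroup.centralizer ({g} : Set G))) := by
      rw [← (Subgroup.centralizer ({g} : Set G)).card_mul_index,
        ← (P : Subgroup (Subgroup.centralizer ({g} : Set G))).card_mul_index]
      ring
    have hHidx : ((P : Subgroup (Subgroup.centralizer ({g} : Set G))).map
        (Subgroup.centralizer ({g} : Set G)).subtype).index.Coprime p := by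
      rw [Subgroup.index_map_subtype]
      exact ((Nat.Prime.coprime_iff_not_dvd hp).mpr hn).symm
    apply npc_of_ext _ (P.2.map _) hHidx
    intro f
    obtain ⟨e, he⟩ : ∃ e : (P : Subgroup (Subgroup.centralizer ({g} : Set G))) ≃*
        ((P : Subgroup (Subgroup.centralizer ({g} : Set G))).map
          (Subgroup.centralizer ({g} : Set G)).subtype),
        ∀ x : (P : Subgroup (Subgroup.centralizer ({g} : Set G))),
          ((e x : ((P : Subgroup (Subgroup.centralizer ({g} : Set G))).map
            (Subgroup.centralizer ({g} : Set G)).subtype)) : G)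
            = ((x : Subgroup.centralizer ({g} : Set G)) : G) :=
      ⟨(P : Subgroup (Subgroup.centralizer ({g} : Set G))).equivMapOfInjective
        (Subgroup.centralizer ({g} : Set G)).subtype (Subgroup.subtype_injective _),
        fun x => Subgroup.coe_equivMapOfInjective_apply _ _ _ x⟩
    obtain ⟨F, hF⟩ := exists_linear_ext hM hyp g hdc
      (P : Subgroup (Subgroup.centralizer ({g} : Set G))) P.2 _ hn hcard
      (f.comp e.toMonoidHom)
    refine ⟨F, fun y => ?_⟩
    have h1 := hF (e.symm y)
    rw [← he (e.symm y), MulEquiv.apply_symm_apply] at h1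
    rw [h1]
    show f (e (e.symm y)) = f y
    rw [MulEquiv.apply_symm_apply]
  · intro hnpc
    rw [Cfsg.Agent.S0072.npc_iff] at hnpc
    obtain ⟨N, hN, hcop, k, hk⟩ := hnpc
    refine ⟨1, fun χ hχ hh => ?_⟩
    rw [hheight] at hh
    haveI := hN
    have hNp : ¬ p ∣ Nat.card N := fun h =>
      hp.one_lt.ne' (Nat.Coprime.eq_one_of_dvd hcop.symm h)
    have hle := le_irrKer_of_mem_principalBlock hM N hNp χ hχ
    have hdvd : Cfsg.charDegree (χ : G → ℂ) ∣ p ^ k := by
      rw [← hk]
      exact dvd_trans (irr_degree_dvd_index_ker χ) (Subgroup.index_dvd_of_le hle)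
    obtain ⟨j, -, hj⟩ := (Nat.dvd_prime_pow hp).mp hdvd
    rw [hj] at hh ⊢
    rw [Nat.Prime.factorization_pow hp] at hh
    have hj0 : j = 0 := by simpa using hh
    rw [hj0, pow_zero]

end Cfsg.Agent.S4888
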