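import Cfsg.Statements.S4996
import Mathlib
import Cfsg.Agent.Helper2.CosetAvg
import Cfsg.Agent.Helper2.GalSum
import Cfsg.Agent.S4798

set_option autoImplicit false
open Cfsg

namespace Cfsg.Agent.S4996

open Cfsg.Agent.Helper2 Cfsg.Agent.Helper25
open scoped ComplexConjugate

/-- Let N be a normal subgroup of the finite group G and χ an irreducible complex character of G. Then the restriction of χ to N is not irreducible if and only if χ vanishes on some whole coset Nx of N in G. -/
theorem result {G : Type*} [Group G] [Finite G] (N : Subgroup G) [N.Normal] (χ : Cfsg.IrrCharacter G) : ¬ Cfsg.IsIrrCharacter ↥N (fun n : ↥N => (χ : G → ℂ) n) ↔ ∃ x : G, ∀ n : ↥N, (χ : G → ℂ) ((n : G) * x) = 0 := by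
  classical
  haveI : Fintype G := Fintype.ofFinite G
  haveI : Fintype ↥N := Fintype.ofFinite _
  have hχc : IsCharacter G (χ : G → ℂ) := irr_isCharacter χ
  set Φ : G → ℂ := (χ : G → ℂ) * (fun g => conj ((χ : G → ℂ) g)) with hΦ
  have hΦc : IsCharacter G Φ := isCharacter_mul hχc (isCharacter_conj hχc)
  set Ψ : G → ℂ := cosetAvg N Φ with hΨ
  have hΨc : IsCharacter G Ψ := isCharacter_cosetAvg N hΦc
  have hNpos : (0 : ℝ) < (Nat.card ↥N : ℝ) := by exact_mod_cast Nat.card_pos
  -- real form
  set a : G → ℝ := fun g => (Nat.card ↥N : ℝ)⁻¹ *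
    ∑ x : G, if x ∈ N then ‖(χ : G → ℂ) (x * g)‖ ^ 2 else 0 with ha
  have hΨa : ∀ g, Ψ g = ((a g : ℝ) : ℂ) := by
    intro g
    rw [hΨ, cosetAvg_apply]
    show _ = (((Nat.card ↥N : ℝ)⁻¹ *
      ∑ x : G, if x ∈ N then ‖(χ : G → ℂ) (x * g)‖ ^ 2 else 0 : ℝ) : ℂ)
    rw [Complex.ofReal_mul, Complex.ofReal_inv, Complex.ofReal_natCast, Complex.ofReal_sum]
    congr 1
    apply Finset.sum_congr rfl
    intro x _
    by_cases hx : x ∈ N
    · rw [if_pos hx, if_pos hx, hΦ]
      simp only [Pi.mul_apply]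
      rw [Complex.mul_conj, Complex.normSq_eq_norm_sq]
    · rw [if_neg hx, if_neg hx, Complex.ofReal_zero]
  have hsum_nonneg : ∀ g, 0 ≤ ∑ x : G, if x ∈ N then ‖(χ : G → ℂ) (x * g)‖ ^ 2 else 0 := by
    intro g
    apply Finset.sum_nonneg
    intro x _
    split_ifs
    · positivity
    · exact le_refl _
  have ha_nonneg : ∀ g, 0 ≤ a g := fun g => mul_nonneg (inv_nonneg.mpr hNpos.le) (hsum_nonneg g)
  have hnorm : ∀ g, ‖Ψ g‖ = a g := by
    intro g
    rw [hΨa g, Complex.norm_real, Real.norm_of_nonneg (ha_nonneg g)]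
  have ha0 : ∀ g, a g = 0 ↔ ∀ n : ↥N, (χ : G → ℂ) ((n : G) * g) = 0 := by
    intro g
    constructor
    · intro h n
      have h1 : ∑ x : G, (if x ∈ N then ‖(χ : G → ℂ) (x * g)‖ ^ 2 else 0) = 0 := by
        rcases mul_eq_zero.mp h with h2 | h2
        · exact absurd h2 (inv_ne_zero hNpos.ne')
        · exact h2
      have h3 := (Finset.sum_eq_zero_iff_of_nonneg (fun x _ => by
        split_ifs
        · positivity
        · exact le_refl _)).mp h1 (n : G) (Finset.mem_univ _)
      rw [if_pos n.2] at h3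
      exact norm_eq_zero.mp (pow_eq_zero_iff (by norm_num) |>.mp h3)
    · intro h
      rw [ha]
      simp only
      have h1 : ∑ x : G, (if x ∈ N then ‖(χ : G → ℂ) (x * g)‖ ^ 2 else 0) = 0 := by
        apply Finset.sum_eq_zero
        intro x _
        by_cases hx : x ∈ N
        · rw [if_pos hx, h ⟨x, hx⟩, norm_zero]
          ring
        · rw [if_neg hx]
      rw [h1, mul_zero]
  -- the sum of a over G
  have hχsq : ∑ g : G, ‖(χ : G → ℂ) g‖ ^ 2 = (Nat.card G : ℝ) := by
    have h1 := classInner_self_eq (χ : G → ℂ)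
    rw [classInner_irr_irr χ χ, if_pos rfl] at h1
    have h2 : (1 : ℝ) = (Nat.card G : ℝ)⁻¹ * ∑ g : G, Complex.normSq ((χ : G → ℂ) g) := by
      exact_mod_cast h1
    have hG : (0 : ℝ) < (Nat.card G : ℝ) := by exact_mod_cast Nat.card_pos
    have h3 : ∑ g : G, Complex.normSq ((χ : G → ℂ) g) = (Nat.card G : ℝ) := by
      field_simp at h2
      linarith
    rw [← h3]
    apply Finset.sum_congr rfl
    intro g _
    rw [Complex.normSq_eq_norm_sq]
  have hasum : ∑ g : G, a g = (Nat.card G : ℝ) := by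
    rw [ha]
    simp only
    rw [← Finset.mul_sum, Finset.sum_comm]
    have h1 : ∀ x : G, ∑ g : G, (if x ∈ N then ‖(χ : G → ℂ) (x * g)‖ ^ 2 else 0)
        = if x ∈ N then (Nat.card G : ℝ) else 0 := by
      intro x
      by_cases hx : x ∈ N
      · simp only [if_pos hx]
        rw [← hχsq]
        exact Equiv.sum_comp (Equiv.mulLeft x) (fun g => ‖(χ : G → ℂ) g‖ ^ 2)
      · simp only [if_neg hx, Finset.sum_const_zero]
    rw [Finset.sum_congr rfl (fun x _ => h1 x), ← Finset.sum_filter, Finset.sum_const,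
      nsmul_eq_mul]
    have h2 : ((Finset.univ.filter (fun x : G => x ∈ N)).card : ℝ) = (Nat.card ↥N : ℝ) := by
      congr 1
      exact (Nat.subtype_card _ (fun x => by simp)).symm
    rw [h2]
    field_simp
  -- a 1 and irreducibility of the restriction
  have hχN : IsCharacter ↥N (fun n : ↥N => (χ : G → ℂ) n) := isCharacter_restrict N hχc
  have ha1 : (classInner (fun n : ↥N => (χ : G → ℂ) n) (fun n : ↥N => (χ : G → ℂ) n))
      = ((a 1 : ℝ) : ℂ) := by
    rw [classInner_self_eq]
    congr 1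
    show (Nat.card ↥N : ℝ)⁻¹ * ∑ n : ↥N, Complex.normSq ((χ : G → ℂ) n)
      = (Nat.card ↥N : ℝ)⁻¹ * ∑ x : G, if x ∈ N then ‖(χ : G → ℂ) (x * 1)‖ ^ 2 else 0
    congr 1
    rw [← Finset.sum_filter]
    rw [Finset.sum_subtype (p := fun x => x ∈ N) (Finset.univ.filter (fun x : G => x ∈ N))
      (by simp) (fun x => ‖(χ : G → ℂ) (x * 1)‖ ^ 2)]
    apply Finset.sum_congr rfl
    intro n _
    rw [Complex.normSq_eq_norm_sq, mul_one]
  have hirr : IsIrrCharacter ↥N (fun n : ↥N => (χ : G → ℂ) n) ↔ a 1 = 1 := by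
    constructor
    · intro h
      have h1 := classInner_irr_irr (⟨_, h⟩ : IrrCharacter ↥N) ⟨_, h⟩
      rw [if_pos rfl] at h1
      rw [ha1] at h1
      exact_mod_cast h1
    · intro h
      apply isIrrCharacter_of_classInner_self hχN
      rw [ha1, h]
      norm_num
  have hdeg : a 1 = (charDegree Ψ : ℝ) := by
    have h1 := char_one_eq_degree hΨc
    rw [hΨa 1] at h1
    exact_mod_cast h1
  rw [hirr]
  constructor
  · intro hne
    by_contra hcon
    push Not at hcon
    have hnz : ∀ g, Ψ g ≠ 0 := by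
      intro g h0
      obtain ⟨n, hn⟩ := hcon g
      apply hn
      have h1 : a g = 0 := by
        rw [hΨa g] at h0
        exact_mod_cast h0
      exact (ha0 g).mp h1 n
    have hdeg2 : (2 : ℝ) ≤ a 1 := by
      rw [hdeg]
      have h1 : charDegree Ψ ≠ 1 := by
        intro h
        apply hne
        rw [hdeg, h]
        norm_num
      have h2 : charDegree Ψ ≠ 0 := by
        intro h
        have h3 : a 1 = 0 := by rw [hdeg, h]; norm_num
        have h4 := hnz 1
        rw [hΨa 1, h3] at h4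
        exact h4 (by norm_num)
      have h3 : 2 ≤ charDegree Ψ := by omega
      exact_mod_cast h3
    obtain ⟨ι, hι, hne', m, hm, hmain⟩ := char_galois_sum_norm G
    have hιpos : (0 : ℝ) < Fintype.card ι := by exact_mod_cast Fintype.card_pos
    have hF : ∀ g : G, (Fintype.card ι : ℝ) ≤ ∑ i, a (g ^ m i) := by
      intro g
      have h1 := hmain Ψ hΨc g (hnz g)
      rw [Finset.sum_congr rfl (fun i _ => hnorm (g ^ m i))] at h1
      exact h1
    have hF1 : 2 * (Fintype.card ι : ℝ) ≤ ∑ i, a ((1 : G) ^ m i) := by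
      simp only [one_pow, Finset.sum_const, Finset.card_univ, nsmul_eq_mul]
      nlinarith
    have htotal : ∑ g : G, ∑ i, a (g ^ m i) = (Fintype.card ι : ℝ) * (Nat.card G : ℝ) := by
      rw [Finset.sum_comm]
      have h1 : ∀ i, ∑ g : G, a (g ^ m i) = (Nat.card G : ℝ) := by
        intro i
        rw [← hasum]
        exact Equiv.sum_comp (powCoprime (hm i)) a
      rw [Finset.sum_congr rfl (fun i _ => h1 i), Finset.sum_const, Finset.card_univ,
        nsmul_eq_mul]
    have hlower : 2 * (Fintype.card ι : ℝ) + ((Nat.card G : ℝ) - 1) * (Fintype.card ι : ℝ)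
        ≤ ∑ g : G, ∑ i, a (g ^ m i) := by
      rw [← Finset.add_sum_erase Finset.univ _ (Finset.mem_univ (1 : G))]
      apply add_le_add hF1
      have h1 : ((Finset.univ.erase (1 : G)).card : ℝ) = (Nat.card G : ℝ) - 1 := by
        rw [Finset.card_erase_of_mem (Finset.mem_univ _), Finset.card_univ,
          Nat.card_eq_fintype_card, Nat.cast_sub Fintype.card_pos]
        norm_num
      rw [← h1, ← nsmul_eq_mul]
      exact Finset.card_nsmul_le_sum _ _ _ (fun g _ => hF g)
    rw [htotal] at hlower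
    nlinarith
  · rintro ⟨x, hx⟩ h1
    have hax : a x = 0 := (ha0 x).mpr hx
    have hΨ1 : charDegree Ψ = 1 := by
      have h2 := hdeg
      rw [h1] at h2
      exact_mod_cast h2.symm
    have hinner : classInner Ψ (trivChar G : G → ℂ) ≠ 0 := by
      unfold classInner
      have h2 : ∑ g : G, Ψ g * conj ((trivChar G : G → ℂ) g) = ((Nat.card G : ℝ) : ℂ) := by
        rw [← hasum]
        push_cast
        apply Finset.sum_congr rfl
        intro g _
        rw [trivChar_apply, map_one, mul_one, hΨa g]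
      rw [h2]
      have hG : (Nat.card G : ℂ) ≠ 0 := by exact_mod_cast (Nat.card_pos (α := G)).ne'
      push_cast
      rw [inv_mul_cancel₀ hG]
      exact one_ne_zero
    have heq := Cfsg.Agent.S4798.eq_of_constituent_of_degree_le hΨc (trivChar G) hinner
      (by rw [hΨ1, charDegree_trivChar])
    have h3 := congrFun heq x
    rw [trivChar_apply, hΨa x, hax] at h3
    norm_num at h3

end Cfsg.Agent.S4996
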