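import Cfsg.Statements.S5178
import Cfsg.Agent.Helper27.UA8
import Cfsg.Agent.Helper4.PFour


set_option autoImplicit false
universe u
open Cfsg

namespace Cfsg.Agent.S5178

open Cfsg.Agent.Helper27 Cfsg.FusionSystem


/-- Let p be an odd prime, S a finite p-group containing an extraspecial subgroup Q of index p, and F a saturated fusion system over S whose largest subgroup normal in F is trivial. Then the centre of S equals the centre of Q. -/
theorem result {Ω : Type u} [Group Ω] {S : Subgroup Ω} [Finite S] (p : ℕ) [Fact p.Prime] (hp : Odd p) (hS : IsPGroup p S)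
    (Q : Subgroup Ω) (hQS : Q ≤ S) (hQ : Cfsg.IsExtraspecial p ↥Q) (hQi : (Q.subgroupOf S).index = p)
    (F : Cfsg.FusionSystem S) (hF : F.IsSaturated p) (hO : F.core = ⊥) :
    S ⊓ Subgroup.centralizer (S : Set Ω) = Q ⊓ Subgroup.centralizer (Q : Set Ω) := by
  have hp' : p.Prime := Fact.out
  have hp2 : p ≠ 2 := by
    rintro rfl
    exact (by decide : ¬ Odd 2) hp
  obtain ⟨hcommQ, hcard⟩ := extraspecial_facts hQ
  obtain ⟨Z₀, hZ₀⟩ : ∃ Z₀ : Subgroup Ω, Z₀ = Q ⊓ Subgroup.centralizer (Q : Set Ω) := ⟨_, rfl⟩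
  obtain ⟨Z, hZ⟩ : ∃ Z : Subgroup Ω, Z = S ⊓ Subgroup.centralizer (S : Set Ω) := ⟨_, rfl⟩
  rw [← hZ₀] at hcommQ hcard
  rw [← hZ₀, ← hZ]
  have hZ₀Q : Z₀ ≤ Q := by rw [hZ₀]; exact inf_le_left
  have hZS : Z ≤ S := by rw [hZ]; exact inf_le_left
  have hZc : ∀ z ∈ Z, ∀ s ∈ S, s * z = z * s := fun z hz => (mem_center_iff.mp (hZ ▸ hz)).2
  have hcenQ : ∀ z ∈ Z₀, ∀ s ∈ Q, s * z = z * s := fun z hz => (mem_center_iff.mp (hZ₀ ▸ hz)).2
  haveI : Finite Q := finite_of_le hQS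
  haveI : Finite Z₀ := finite_of_le (hZ₀Q.trans hQS)
  obtain ⟨x₀, hx₀S, hx₀Q⟩ : ∃ x₀ ∈ S, x₀ ∉ Q := by
    by_contra hcon
    push Not at hcon
    have h1 : Q.subgroupOf S = ⊤ := Subgroup.subgroupOf_eq_top.mpr hcon
    rw [h1, Subgroup.index_top] at hQi
    exact hp'.one_lt.ne hQi
  have hQnorm := (gen_of_index_prime hS hQi hx₀S hx₀Q).2.2
  -- `Z(Q) ≤ Z(S)`
  have hZ₀Z : Z₀ ≤ Z := by
    haveI hN : (Z₀.subgroupOf S).Normal := by
      constructor
      intro n hn k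
      rw [Subgroup.mem_subgroupOf] at hn ⊢
      rw [hZ₀]
      have hn' : (n : Ω) ∈ Z₀ := hn
      have hnQ : (n : Ω) ∈ Q := hZ₀Q hn'
      refine mem_center_iff.mpr ⟨hQnorm k k.2 n hnQ n.2, fun s hs => ?_⟩
      have h1 : (k : Ω)⁻¹ * s * ((k : Ω)⁻¹)⁻¹ ∈ Q := hQnorm _ (S.inv_mem k.2) s hs (hQS hs)
      have h2 := hcenQ n hn' _ h1
      rw [inv_inv] at h2
      show s * ((k : Ω) * n * (k : Ω)⁻¹) = (k : Ω) * n * (k : Ω)⁻¹ * s
      have e1 : s * ((k : Ω) * n * (k : Ω)⁻¹) =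
          (k : Ω) * (((k : Ω)⁻¹ * s * k) * n) * (k : Ω)⁻¹ := by group
      rw [e1, h2]; group
    have hNc : Nat.card ↥(Z₀.subgroupOf S) = p := by
      rw [Nat.card_congr (Subgroup.subgroupOfEquivOfLe (hZ₀Q.trans hQS)).toEquiv]; exact hcard
    have h1 := Cfsg.Agent.Helper4.PFour.le_center_of_normal_card_prime hS (Z₀.subgroupOf S) hNc
    intro z hz
    rw [hZ]
    have hzS : z ∈ S := hQS (hZ₀Q hz)
    have h2 : (⟨z, hzS⟩ : ↥S) ∈ Subgroup.center ↥S := h1 (Subgroup.mem_subgroupOf.mpr hz)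
    refine mem_center_iff.mpr ⟨hzS, fun s hs => ?_⟩
    exact congrArg Subtype.val (Subgroup.mem_center_iff.mp h2 ⟨s, hs⟩)
  by_contra hne
  obtain ⟨z₁, hz₁Z, hz₁Z₀⟩ : ∃ z₁ ∈ Z, z₁ ∉ Z₀ := by
    by_contra hcon
    push Not at hcon
    exact hne (le_antisymm hcon hZ₀Z)
  have hz₁S : z₁ ∈ S := hZS hz₁Z
  have hz₁Q : z₁ ∉ Q := by
    intro h
    apply hz₁Z₀
    rw [hZ₀]
    exact mem_center_iff.mpr ⟨h, fun s hs => hZc z₁ hz₁Z s (hQS hs)⟩
  have gz := (gen_of_index_prime hS hQi hz₁S hz₁Q).1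
  -- commutators of `S` lie in `Z(Q)`
  have hcommS : ∀ a ∈ S, ∀ b ∈ S, a * b * a⁻¹ * b⁻¹ ∈ Z₀ := by
    intro a ha b hb
    obtain ⟨i, q, hq, rfl⟩ := gz a ha
    obtain ⟨j, q', hq', rfl⟩ := gz b hb
    have hci : ∀ s ∈ S, s * z₁ ^ i = z₁ ^ i * s :=
      fun s hs => ((show Commute s z₁ from hZc z₁ hz₁Z s hs).pow_right i).eq
    have hcj : ∀ s ∈ S, s * z₁ ^ j = z₁ ^ j * s :=
      fun s hs => ((show Commute s z₁ from hZc z₁ hz₁Z s hs).pow_right j).eq
    have hqS := hQS hq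
    have hq'S := hQS hq'
    rw [comm_central_cancel (hci _ (S.mul_mem (S.mul_mem hqS hb) (S.inv_mem hqS))) (hcj q hqS)
      (hcj _ (S.mul_mem (S.mul_mem (S.mul_mem hqS hq'S) (S.inv_mem hqS)) (S.inv_mem hq'S)))]
    exact hcommQ q hq q' hq'
  have hcenS : ∀ z ∈ Z₀, ∀ s ∈ S, s * z = z * s := fun z hz s hs => hZc z (hZ₀Z hz) s hs
  obtain ⟨z₀, hz₀, hz₀ne⟩ : ∃ z₀ ∈ Z₀, z₀ ≠ 1 := by
    by_contra hcon
    push Not at hcon
    have h1 : Z₀ = ⊥ := (Subgroup.eq_bot_iff_forall _).mpr hcon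
    rw [h1, Subgroup.card_bot] at hcard
    exact hp'.one_lt.ne hcard
  have hgen : ∀ z ∈ Z₀, ∃ i : ℕ, z = z₀ ^ i := fun z hz => pow_of_card_prime hcard hz₀ hz₀ne hz
  have hCZ₀ : (commutator ↥S).map S.subtype ≤ Z₀ := by
    have h1 : commutator ↥S ≤ Z₀.comap S.subtype := by
      rw [commutator_def, Subgroup.commutator_le]
      intro g₁ _ g₂ _
      rw [Subgroup.mem_comap]
      have h2 := hcommS _ g₁.2 _ g₂.2
      simpa [commutatorElement_def] using h2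
    rintro _ ⟨y', hy', rfl⟩
    exact h1 hy'
  -- the essential subgroups
  have hess : ∀ E : Subgroup Ω, F.IsEssential p E →
      ∃ (A M : Subgroup Ω) (x : Ω), UACtx p S A E M x ∧ ∀ v ∈ E ⊓ A, v ∈ Z := by
    intro E hE
    have hES : E ≤ S := hE.2.1.1
    haveI : Finite E := finite_of_le hES
    have hEc : Cfsg.FusionSystem.centralizerIn S E ≤ E := hE.1.2 E (isConj_refl F hES)
    have hEne : E ≠ S := (ess_key hS hF hE).1
    have hcent : ∀ z ∈ S ⊓ Subgroup.centralizer (S : Set Ω), z ∈ E := by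
      intro z hz
      apply hEc
      rw [mem_centralizerIn]
      obtain ⟨hzS, hzc⟩ := Subgroup.mem_inf.mp hz
      exact ⟨hzS, fun y hy => Subgroup.mem_centralizer_iff.mp hzc y (hES hy)⟩
    have hZE : Z ≤ E := fun z hz => hcent z (hZ ▸ hz)
    have hZ₀E : Z₀ ≤ E := hZ₀Z.trans hZE
    obtain ⟨s₀, hs₀S, hs₀E⟩ : ∃ s₀ ∈ S, s₀ ∉ E := by
      by_contra hcon
      push Not at hcon
      exact hEne (le_antisymm hES hcon)
    have hstruct : (∀ a ∈ E, ∀ b ∈ E, a * b = b * a) ∧ (E.subgroupOf S).index = p := by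
      by_contra hcon
      apply ess_central_comm hS hF hE le_rfl hES hcommS hcenS hZ₀E hz₀ hgen
      intro g
      obtain ⟨w, hw⟩ : ∃ w : Ω, w = (g ⟨z₀, hZ₀E hz₀⟩ : Ω) := ⟨_, rfl⟩
      have hwE : w ∈ E := hw ▸ (g ⟨z₀, hZ₀E hz₀⟩).2
      rw [← hw]
      by_contra hcon2
      push Not at hcon2
      have hcon' : ∀ s ∈ S, s * w = w * s → s ∈ E :=
        fun s hs h => by_contra (fun hsE => hcon2 s hs hsE h)
      by_cases hab : ∀ a ∈ E, ∀ b ∈ E, a * b = b * a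
      · apply hcon
        refine ⟨hab, ?_⟩
        have hwS : w ∈ S := hES hwE
        obtain ⟨f₁, hf₁⟩ : ∃ f₁ : ↥S →* ↥Z₀, ∀ s : ↥S, s ∈ f₁.ker ↔ (s : Ω) * w = w * s :=
          ⟨commHom hcommS hcenS le_rfl hwS, fun s => commHom_ker hcommS hcenS le_rfl hwS s⟩
        have hker : E.subgroupOf S = f₁.ker := by
          ext s
          rw [Subgroup.mem_subgroupOf, hf₁]
          exact ⟨fun h => hab _ h w hwE, fun h => hcon' s s.2 h⟩
        rw [hker, Subgroup.index_ker]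
        have hdvd : Nat.card f₁.range ∣ p := hcard ▸ Subgroup.card_subgroup_dvd_card f₁.range
        rcases (Nat.dvd_prime hp').mp hdvd with h1 | h1
        · exfalso
          have h2 : f₁.ker.index = 1 := by rw [Subgroup.index_ker]; exact h1
          rw [Subgroup.index_eq_one, ← hker, Subgroup.subgroupOf_eq_top] at h2
          exact hs₀E (h2 hs₀S)
        · exact h1
      · push Not at hab
        obtain ⟨a, ha, b, hb, hab⟩ := hab
        have hc : a * b * a⁻¹ * b⁻¹ ∈ Z₀ := hcommS a (hES ha) b (hES hb)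
        have hcne : a * b * a⁻¹ * b⁻¹ ≠ 1 := by
          intro h
          apply hab
          exact mul_inv_eq_iff_eq_mul.mp (mul_inv_eq_one.mp h)
        obtain ⟨i, hi⟩ := pow_of_card_prime hcard hc hcne hz₀
        have hwZ : w ∈ Z₀ := by
          have e : (⟨z₀, hZ₀E hz₀⟩ : ↥E) =
              (⟨a, ha⟩ * ⟨b, hb⟩ * (⟨a, ha⟩ : ↥E)⁻¹ * (⟨b, hb⟩ : ↥E)⁻¹) ^ i := Subtype.ext hi
          rw [hw, e, map_pow, map_mul, map_mul, map_mul, map_inv, map_inv]
          exact Z₀.pow_mem (hcommS _ (hES (g ⟨a, ha⟩).2) _ (hES (g ⟨b, hb⟩).2)) i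
        exact hs₀E (hcon' s₀ hs₀S (hcenS w hwZ s₀ hs₀S))
    obtain ⟨hab, hEidx⟩ := hstruct
    obtain ⟨f, hf⟩ : ∃ f : ↥S →* ↥Z₀, ∀ s : ↥S, s ∈ f.ker ↔ (s : Ω) * s₀ = s₀ * s :=
      ⟨commHom hcommS hcenS le_rfl hs₀S, fun s => commHom_ker hcommS hcenS le_rfl hs₀S s⟩
    obtain ⟨A, hAdef⟩ : ∃ A : Subgroup Ω, A = f.ker.map S.subtype := ⟨_, rfl⟩
    have hAmem : ∀ a : Ω, a ∈ A ↔ a ∈ S ∧ a * s₀ = s₀ * a := by
      intro a
      rw [hAdef, Subgroup.mem_map]
      constructor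
      · rintro ⟨s, hs, rfl⟩
        exact ⟨s.2, (hf s).mp hs⟩
      · rintro ⟨haS, hac⟩
        exact ⟨⟨a, haS⟩, (hf _).mpr hac, rfl⟩
    have hAS : A ≤ S := fun a ha => ((hAmem a).mp ha).1
    obtain ⟨x, hxE, hxs⟩ : ∃ x ∈ E, x * s₀ ≠ s₀ * x := by
      by_contra hcon
      push Not at hcon
      exact hs₀E (hEc (mem_centralizerIn.mpr ⟨hs₀S, fun y hy => hcon y hy⟩))
    have hxA : x ∉ A := fun h => hxs ((hAmem x).mp h).2
    have hAsub : A.subgroupOf S = f.ker := by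
      ext s
      rw [Subgroup.mem_subgroupOf, hAmem, hf]
      exact ⟨fun h => h.2, fun h => ⟨s.2, h⟩⟩
    have hAidx : (A.subgroupOf S).index = p := by
      rw [hAsub, Subgroup.index_ker]
      have hdvd : Nat.card f.range ∣ p := hcard ▸ Subgroup.card_subgroup_dvd_card f.range
      rcases (Nat.dvd_prime hp').mp hdvd with h1 | h1
      · exfalso
        have h2 : f.ker.index = 1 := by rw [Subgroup.index_ker]; exact h1
        rw [Subgroup.index_eq_one, ← hAsub, Subgroup.subgroupOf_eq_top] at h2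
        exact hxA (h2 (hES hxE))
      · exact h1
    have genE := (gen_of_index_prime hS hEidx hs₀S hs₀E).1
    have hAcomm : ∀ a ∈ A, ∀ b ∈ A, a * b = b * a := by
      intro a ha b hb
      obtain ⟨haS, hac⟩ := (hAmem a).mp ha
      obtain ⟨hbS, hbc⟩ := (hAmem b).mp hb
      obtain ⟨i, e, he, hae⟩ := genE a haS
      obtain ⟨j, e', he', hbe⟩ := genE b hbS
      have ce : Commute s₀ e := by
        have e1 : e = (s₀ ^ i)⁻¹ * a := by rw [hae]; group
        rw [e1]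
        exact (((Commute.refl s₀).pow_right i).inv_right).mul_right
          (show Commute a s₀ from hac).symm
      have ce' : Commute s₀ e' := by
        have e1 : e' = (s₀ ^ j)⁻¹ * b := by rw [hbe]; group
        rw [e1]
        exact (((Commute.refl s₀).pow_right j).inv_right).mul_right
          (show Commute b s₀ from hbc).symm
      rw [hae, hbe]
      have c1 : Commute (s₀ ^ i) (s₀ ^ j) := (Commute.refl s₀).pow_pow i j
      have c2 : Commute (s₀ ^ i) e' := ce'.pow_left i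
      have c3 : Commute e (s₀ ^ j) := (ce.pow_left j).symm
      have c4 : Commute e e' := hab e he e' he'
      exact ((c1.mul_right c2).mul_left (c3.mul_right c4)).eq
    have h : UAHyp p S A x := ⟨hS, hAS, hAcomm, hAidx, hES hxE, hxA⟩
    obtain ⟨M, hMP, hMc, hMidx, hkey⟩ := ua_key hS hF h hE hxE
    have hna' : ¬ ∀ s ∈ S, ∀ t ∈ S, s * t = t * s := fun hall => hxs (hall x (hES hxE) s₀ hs₀S)
    have c : UACtx p S A E M x := ⟨h, hna', hES, hEne, hxE, hcent, hMP, hMc, hMidx, hkey⟩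
    refine ⟨A, M, x, c, ?_⟩
    intro v hv
    obtain ⟨hvE, hvA⟩ := Subgroup.mem_inf.mp hv
    rw [hZ]
    apply (h.psi_eq_one_iff hvA).mp
    unfold psi
    rw [hab v hvE x hxE, mul_inv_cancel_right, mul_inv_cancel]
  by_cases hex : ∃ P₁ : Subgroup Ω, F.IsEssential p P₁
  · obtain ⟨P₁, hP₁⟩ := hex
    obtain ⟨A₁, M₁, x₁, c₁, hH₁⟩ := hess P₁ hP₁
    have h1 := center_le_comm_of_typeH hS hF hp2 hO hZ rfl (fun P hP => Or.inl (hess P hP)) hP₁ c₁
      hH₁
    exact hz₁Z₀ (hCZ₀ (h1 hz₁Z))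
  · push Not at hex
    have hSn : F.IsNormal S := by
      apply Cfsg.Agent.Helper26.normal_of_invariant p hS F hF S
      intro P hP
      rcases hP with hPS' | hP
      · rw [hPS']
        refine ⟨le_rfl, fun α hα => ?_⟩
        rw [Cfsg.Agent.Helper26.map_aut_eq_iff]
        exact ⟨fun x _ => (α x).2, fun x _ => (α⁻¹ x).2⟩
      · exact absurd hP (hex P)
    have hSbot : S ≤ ⊥ := by rw [← hO]; exact le_sSup hSn
    have h1 : z₁ = 1 := Subgroup.mem_bot.mp (hSbot hz₁S)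
    exact hz₁Z₀ (by rw [h1]; exact Z₀.one_mem)

end Cfsg.Agent.S5178
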