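import Cfsg.Statements.S5179
import Cfsg.Agent.Helper27.Pair


set_option autoImplicit false
universe u
open Cfsg

namespace Cfsg.Agent.S5179

open Cfsg.Agent.Helper27 Cfsg.FusionSystem


/-- Let p be an odd prime, S a finite p-group of order at least p⁶ containing an extraspecial subgroup Q of index p, and F a saturated fusion system over S whose largest subgroup normal in F is trivial. Then no proper subgroup of Q is essential in F: an essential subgroup of F contained in Q equals Q. -/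
theorem result {Ω : Type u} [Group Ω] {S : Subgroup Ω} [Finite S] (p : ℕ) [Fact p.Prime] (hp : Odd p) (hS : IsPGroup p S)
    (Q : Subgroup Ω) (hQS : Q ≤ S) (hQ : Cfsg.IsExtraspecial p ↥Q) (hQi : (Q.subgroupOf S).index = p)
    (h6 : p ^ 6 ≤ Nat.card S)
    (F : Cfsg.FusionSystem S) (hF : F.IsSaturated p) (hO : F.core = ⊥)
    (E : Subgroup Ω) (hEQ : E ≤ Q) (hE : F.IsEssential p E) : E = Q := by
  have hp' : p.Prime := Fact.out
  obtain ⟨hcomm, hcard⟩ := extraspecial_facts hQ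
  obtain ⟨Z₀, hZ₀⟩ : ∃ Z₀ : Subgroup Ω, Z₀ = Q ⊓ Subgroup.centralizer (Q : Set Ω) := ⟨_, rfl⟩
  rw [← hZ₀] at hcomm hcard
  have hZ₀Q : Z₀ ≤ Q := by rw [hZ₀]; exact inf_le_left
  have hcen : ∀ z ∈ Z₀, ∀ s ∈ Q, s * z = z * s := fun z hz => (mem_center_iff.mp (hZ₀ ▸ hz)).2
  have hES : E ≤ S := hE.2.1.1
  haveI : Finite Q := finite_of_le hQS
  haveI : Finite E := finite_of_le hES
  haveI : Finite Z₀ := finite_of_le (hZ₀Q.trans hQS)
  have hEc : Cfsg.FusionSystem.centralizerIn S E ≤ E := hE.1.2 E (isConj_refl F hES)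
  have hZ₀E : Z₀ ≤ E := fun z hz => hEc (mem_centralizerIn.mpr
    ⟨hQS (hZ₀Q hz), fun y hy => hcen z hz y (hEQ hy)⟩)
  by_contra hne
  obtain ⟨q₀, hq₀Q, hq₀E⟩ : ∃ q₀ ∈ Q, q₀ ∉ E := by
    by_contra hcon
    push Not at hcon
    exact hne (le_antisymm hEQ hcon)
  have hQN : ∀ s ∈ Q, s ∈ Subgroup.normalizer (E : Set Ω) := by
    intro s hs
    apply mem_normalizer_of_forall
    intro y hy
    have h1 := hZ₀E (hcomm s hs y (hEQ hy))
    have e : s * y * s⁻¹ = (s * y * s⁻¹ * y⁻¹) * y := by group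
    rw [e]; exact E.mul_mem h1 hy
  obtain ⟨z₀, hz₀, hz₀ne⟩ : ∃ z₀ ∈ Z₀, z₀ ≠ 1 := by
    by_contra hcon
    push Not at hcon
    have h1 : Z₀ = ⊥ := (Subgroup.eq_bot_iff_forall _).mpr hcon
    rw [h1, Subgroup.card_bot] at hcard
    exact hp'.one_lt.ne hcard
  have hgen : ∀ z ∈ Z₀, ∃ i : ℕ, z = z₀ ^ i := fun z hz => pow_of_card_prime hcard hz₀ hz₀ne hz
  have hQcard : p ^ 5 ≤ Nat.card Q := by
    have h1 := Subgroup.card_mul_index (Q.subgroupOf S)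
    rw [hQi, Nat.card_congr (Subgroup.subgroupOfEquivOfLe hQS).toEquiv] at h1
    rw [← h1] at h6
    have e : p ^ 6 = p ^ 5 * p := by ring
    rw [e] at h6
    exact Nat.le_of_mul_le_mul_right h6 hp'.pos
  obtain ⟨ζ, hζ⟩ : ∃ ζ : ↥E, ζ = ⟨z₀, hZ₀E hz₀⟩ := ⟨_, rfl⟩
  have hζv : (ζ : Ω) = z₀ := by rw [hζ]
  -- (C1)
  have C1 : ∀ g : MulAut ↥E, ∃ s ∈ Q, s ∉ E ∧ s * (g ζ : Ω) = (g ζ : Ω) * s := by
    intro g
    obtain ⟨w, hw⟩ : ∃ w : Ω, w = (g ζ : Ω) := ⟨_, rfl⟩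
    have hwE : w ∈ E := hw ▸ (g ζ).2
    rw [← hw]
    by_contra hcon
    push Not at hcon
    have hcon' : ∀ s ∈ Q, s * w = w * s → s ∈ E :=
      fun s hs h => by_contra (fun hsE => hcon s hs hsE h)
    by_cases hab : ∀ a ∈ E, ∀ b ∈ E, a * b = b * a
    · have hwQ : w ∈ Q := hEQ hwE
      obtain ⟨f₁, hf₁⟩ : ∃ f₁ : ↥Q →* ↥Z₀, ∀ s : ↥Q, s ∈ f₁.ker ↔ (s : Ω) * w = w * s :=
        ⟨commHom hcomm hcen le_rfl hwQ, fun s => commHom_ker hcomm hcen le_rfl hwQ s⟩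
      have h1 : Nat.card Q ≤ Nat.card f₁.ker * p := card_le_ker_mul f₁ hcard
      have h2 : Nat.card f₁.ker ≤ Nat.card E := by
        have hle : f₁.ker ≤ E.subgroupOf Q :=
          fun s hs => Subgroup.mem_subgroupOf.mpr (hcon' s s.2 ((hf₁ s).mp hs))
        calc Nat.card f₁.ker ≤ Nat.card (E.subgroupOf Q) := Subgroup.card_le_of_le hle
          _ = Nat.card E := Nat.card_congr (Subgroup.subgroupOfEquivOfLe hEQ).toEquiv
      have hidx : (E.subgroupOf Q).index = p := by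
        have h3 := Subgroup.card_mul_index (E.subgroupOf Q)
        rw [Nat.card_congr (Subgroup.subgroupOfEquivOfLe hEQ).toEquiv] at h3
        obtain ⟨n, hn⟩ := IsPGroup.index (hS.to_le hQS) (E.subgroupOf Q)
        have hEpos : 0 < Nat.card E := Nat.card_pos
        have hle : (E.subgroupOf Q).index ≤ p := by
          have h4 : Nat.card E * (E.subgroupOf Q).index ≤ Nat.card E * p := by
            rw [h3]; exact h1.trans (Nat.mul_le_mul_right p h2)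
          exact Nat.le_of_mul_le_mul_left h4 hEpos
        have hne1 : (E.subgroupOf Q).index ≠ 1 := by
          intro h
          rw [Subgroup.index_eq_one, Subgroup.subgroupOf_eq_top] at h
          exact hq₀E (h hq₀Q)
        rw [hn] at hle hne1 ⊢
        have hn1 : n = 1 := by
          rcases n with _ | _ | n
          · exact absurd (pow_zero p) hne1
          · rfl
          · exfalso
            have h5 : p ^ 2 ≤ p ^ (n + 1 + 1) := Nat.pow_le_pow_right hp'.pos (by omega)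
            have h2p : p < p ^ 2 := by nlinarith [hp'.two_le]
            omega
        rw [hn1, pow_one]
      obtain ⟨f₂, hf₂⟩ : ∃ f₂ : ↥E →* ↥Z₀, ∀ e : ↥E, e ∈ f₂.ker ↔ (e : Ω) * q₀ = q₀ * e :=
        ⟨commHom hcomm hcen hEQ hq₀Q, fun e => commHom_ker hcomm hcen hEQ hq₀Q e⟩
      have h3 : Nat.card E ≤ Nat.card f₂.ker * p := card_le_ker_mul f₂ hcard
      have h4 : Nat.card f₂.ker ≤ p := by
        have hgenQ := (gen_of_index_prime (hS.to_le hQS) hidx hq₀Q hq₀E).1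
        have hle : f₂.ker.map E.subtype ≤ Z₀ := by
          rintro _ ⟨e, he, rfl⟩
          rw [hZ₀]
          refine mem_center_iff.mpr ⟨hEQ e.2, fun s hs => ?_⟩
          obtain ⟨i, a, ha, rfl⟩ := hgenQ s hs
          have c1 : Commute (q₀ ^ i) (e : Ω) :=
            (show Commute q₀ (e : Ω) from ((hf₂ e).mp he).symm).pow_left i
          have c2 : Commute a (e : Ω) := hab a ha e e.2
          exact (c1.mul_left c2).eq
        calc Nat.card f₂.ker = Nat.card (f₂.ker.map E.subtype) :=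
              (Subgroup.card_map_of_injective (Subgroup.subtype_injective E)).symm
          _ ≤ Nat.card Z₀ := Subgroup.card_le_of_le hle
          _ = p := hcard
      have h5 : Nat.card Q ≤ p ^ 3 := by
        calc Nat.card Q ≤ Nat.card f₁.ker * p := h1
          _ ≤ Nat.card E * p := Nat.mul_le_mul_right p h2
          _ ≤ (Nat.card f₂.ker * p) * p := Nat.mul_le_mul_right p h3
          _ ≤ (p * p) * p := Nat.mul_le_mul_right p (Nat.mul_le_mul_right p h4)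
          _ = p ^ 3 := by ring
      have h6' : p ^ 5 ≤ p ^ 3 := hQcard.trans h5
      have h7 := (Nat.pow_le_pow_iff_right hp'.one_lt).mp h6'
      omega
    · push Not at hab
      obtain ⟨a, ha, b, hb, hab⟩ := hab
      have hc : a * b * a⁻¹ * b⁻¹ ∈ Z₀ := hcomm a (hEQ ha) b (hEQ hb)
      have hcne : a * b * a⁻¹ * b⁻¹ ≠ 1 := by
        intro h
        apply hab
        exact mul_inv_eq_iff_eq_mul.mp (mul_inv_eq_one.mp h)
      obtain ⟨i, hi⟩ := pow_of_card_prime hcard hc hcne hz₀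
      have hwZ : w ∈ Z₀ := by
        have e : ζ = (⟨a, ha⟩ * ⟨b, hb⟩ * (⟨a, ha⟩ : ↥E)⁻¹ * (⟨b, hb⟩ : ↥E)⁻¹) ^ i :=
          Subtype.ext (hζv.trans hi)
        rw [hw, e, map_pow, map_mul, map_mul, map_mul, map_inv, map_inv]
        exact Z₀.pow_mem (hcomm _ (hEQ (g ⟨a, ha⟩).2) _ (hEQ (g ⟨b, hb⟩).2)) i
      exact hq₀E (hcon' q₀ hq₀Q (hcen w hwZ q₀ hq₀Q))
  have hfix : ∀ (t : Ω) (ht : t ∈ Q) (y : ↥E), t * (y : Ω) = (y : Ω) * t →
      conjAut E t (hQN t ht) y = y := by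
    intro t ht y h
    apply Subtype.ext
    show t * (y : Ω) * t⁻¹ = y
    rw [h, mul_inv_cancel_right]
  have hpow : ∀ (t : Ω) (ht : t ∈ Q) (y : ↥E), ∃ i : ℕ, y⁻¹ * conjAut E t (hQN t ht) y = ζ ^ i := by
    intro t ht y
    have h1 : (y : Ω)⁻¹ * t * ((y : Ω)⁻¹)⁻¹ * t⁻¹ ∈ Z₀ := hcomm _ (Q.inv_mem (hEQ y.2)) t ht
    obtain ⟨i, hi⟩ := hgen _ h1
    refine ⟨i, Subtype.ext ?_⟩
    show (y : Ω)⁻¹ * (t * (y : Ω) * t⁻¹) = (ζ : Ω) ^ i
    rw [hζv, ← hi, inv_inv]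
    group
  have hζs : ∀ (t : Ω) (ht : t ∈ Q), conjAut E t (hQN t ht) ζ = ζ :=
    fun t ht => hfix t ht ζ (by rw [hζv]; exact hcen z₀ hz₀ t ht)
  obtain ⟨Mq, hMq, hpair⟩ := ess_pair hS hF hE
  apply hMq
  intro g hg
  obtain ⟨s, hsQ, hsE, hsw⟩ := C1 g
  obtain ⟨s', hs'Q, hs'E, hs'w⟩ := C1 g⁻¹
  obtain ⟨u, hu⟩ : ∃ u : MulAut ↥E, u = conjAut E s (hQN s hsQ) := ⟨_, rfl⟩
  obtain ⟨u₂, hu₂⟩ : ∃ u₂ : MulAut ↥E, u₂ = conjAut E s' (hQN s' hs'Q) := ⟨_, rfl⟩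
  have huζ : u ζ = ζ := by rw [hu]; exact hζs s hsQ
  have hu₂ζ : u₂ ζ = ζ := by rw [hu₂]; exact hζs s' hs'Q
  have hugζ : u (g ζ) = g ζ := by rw [hu]; exact hfix s hsQ (g ζ) hsw
  have hu₂gζ : u₂ (g⁻¹ ζ) = g⁻¹ ζ := by rw [hu₂]; exact hfix s' hs'Q (g⁻¹ ζ) hs'w
  have hupow : ∀ y : ↥E, ∃ i : ℕ, y⁻¹ * u y = ζ ^ i := by
    intro y; rw [hu]; exact hpow s hsQ y
  have hu₂pow : ∀ y : ↥E, ∃ i : ℕ, y⁻¹ * u₂ y = ζ ^ i := by
    intro y; rw [hu₂]; exact hpow s' hs'Q y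
  have hu'ζ : (g * u₂ * g⁻¹) ζ = ζ := by
    rw [MulAut.mul_apply, MulAut.mul_apply, hu₂gζ, MulAut.apply_inv_self]
  have hu'gζ : (g * u₂ * g⁻¹) (g ζ) = g ζ := by
    rw [MulAut.mul_apply, MulAut.mul_apply, MulAut.inv_apply_self, hu₂ζ]
  have hu'pow : ∀ y : ↥E, ∃ j : ℕ, y⁻¹ * (g * u₂ * g⁻¹) y = (g ζ) ^ j := by
    intro y
    obtain ⟨j, hj⟩ := hu₂pow (g⁻¹ y)
    refine ⟨j, ?_⟩
    have e : y⁻¹ * (g * u₂ * g⁻¹) y = g ((g⁻¹ y)⁻¹ * u₂ (g⁻¹ y)) := by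
      rw [MulAut.mul_apply, MulAut.mul_apply, map_mul, map_inv, MulAut.apply_inv_self]
    rw [e, hj, map_pow]
  obtain ⟨K, hK, hKu, hKu'⟩ := two_fix_pgroup (hS.to_le hES) u (g * u₂ * g⁻¹)
    (fun y => by obtain ⟨i, hi⟩ := hupow y; rw [hi, map_pow, huζ])
    (fun y => by obtain ⟨i, hi⟩ := hupow y; rw [hi, map_pow, hu'ζ])
    (fun y => by obtain ⟨j, hj⟩ := hu'pow y; rw [hj, map_pow, hugζ])
    (fun y => by obtain ⟨j, hj⟩ := hu'pow y; rw [hj, map_pow, hu'gζ])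
  exact hpair g hg s (hQS hsQ) (hQN s hsQ) hsE s' (hQS hs'Q) (hQN s' hs'Q) hs'E K hK
    (by rw [← hu]; exact hKu) (by rw [← hu₂]; exact hKu')

end Cfsg.Agent.S5179
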