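import Cfsg.Statements.S5185
import Cfsg.Agent.Helper27.FusBasic
import Cfsg.Agent.Helper27.SpeNormal
import Cfsg.Agent.Helper27.SL2Elem

set_option autoImplicit false
universe u
open Cfsg

namespace Cfsg.Agent.S5185

open Cfsg.FusionSystem Cfsg.Agent.Helper27

/-- Let F be a saturated fusion system over a finite p-group S and H an essential subgroup of order p². Then H is elementary abelian (isomorphic to C_p × C_p) and its F-automorphism group contains a subgroup isomorphic to SL(2,p). -/
theorem result {Ω : Type u} [Group Ω] {S : Subgroup Ω} [Finite S] (p : ℕ) [Fact p.Prime] (hS : IsPGroup p S)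
    (F : Cfsg.FusionSystem S) (hF : F.IsSaturated p) (H : Subgroup Ω) (hH : F.IsEssential p H) (hcard : Nat.card H = p ^ 2) :
    Cfsg.IsElementaryAbelian p H ∧
      ∃ K : Subgroup ↥(F.autGroup H), Nonempty (↥K ≃* Matrix.SpecialLinearGroup (Fin 2) (ZMod p)) := by
  obtain ⟨hc, hn, hnorm, E, hE⟩ := hH
  have hp' := (Fact.out : p.Prime)
  have hHS : H ≤ S := hn.1
  have : Finite H := finite_of_le hHS
  have hcomm : ∀ a b : H, a * b = b * a := IsPGroup.commutative_of_card_eq_prime_sq hcard
  have hI : (Inn H).subgroupOf (F.autGroup H) = ⊥ := by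
    rw [Subgroup.eq_bot_iff_forall]
    intro a ha
    rw [Subgroup.mem_subgroupOf] at ha
    obtain ⟨g, hg⟩ := ha
    apply Subtype.ext
    rw [← hg]
    ext x
    show ((g * x * g⁻¹ : H) : Ω) = x
    rw [hcomm g x, mul_inv_cancel_right]
  have hnoQ : ∀ R : Subgroup (F.autGroup H ⧸ (Inn H).subgroupOf (F.autGroup H)),
      R.Normal → IsPGroup p R → R = ⊥ := fun R hRn hRp => spe_no_normal_p hE hRn hRp
  have hX : ∀ R : Subgroup (F.autGroup H), R.Normal → IsPGroup p R → R = ⊥ := by
    intro R hRn hRp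
    have h1 := hnoQ (R.map (QuotientGroup.mk' _))
      (hRn.map _ (QuotientGroup.mk'_surjective _)) (hRp.map _)
    have h2 : R ≤ (QuotientGroup.mk' ((Inn H).subgroupOf (F.autGroup H))).ker :=
      (Subgroup.map_eq_bot_iff _).mp h1
    rw [QuotientGroup.ker_mk', hI] at h2
    exact le_bot_iff.mp h2
  have hpX : p ∣ Nat.card (F.autGroup H) := by
    have h1 : p ∣ Nat.card (F.autGroup H ⧸ (Inn H).subgroupOf (F.autGroup H)) := hE.1
    rw [Subgroup.card_eq_card_quotient_mul_card_subgroup ((Inn H).subgroupOf (F.autGroup H))]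
    exact h1.mul_right _
  have hexp : ∀ g : H, g ^ p = 1 := by
    by_contra hcon
    push Not at hcon
    obtain ⟨h, hh⟩ := hcon
    have hord : orderOf h = p ^ 2 := by
      have h1 : orderOf h ∣ p ^ 2 := hcard ▸ orderOf_dvd_natCard h
      obtain ⟨k, hk, hkc⟩ := (Nat.dvd_prime_pow hp').mp h1
      interval_cases k
      · exfalso
        apply hh
        rw [pow_zero, orderOf_eq_one_iff] at hkc
        rw [hkc, one_pow]
      · exfalso
        apply hh
        rw [pow_one] at hkc
        rw [← hkc]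
        exact pow_orderOf_eq_one h
      · exact hkc
    have hcyc : IsCyclic H := isCyclic_of_orderOf_eq_card h (by rw [hord, hcard])
    have hAc : ∀ a b : MulAut H, a * b = b * a := by
      intro a b
      apply (IsCyclic.mulAutMulEquiv H).injective
      rw [map_mul, map_mul, mul_comm]
    obtain ⟨P, hPE, hPne, -⟩ := Cfsg.Agent.Helper17.spe_exists_sylow hE
    have hPn : (P : Subgroup (F.autGroup H ⧸ (Inn H).subgroupOf (F.autGroup H))).Normal := by
      constructor
      intro n hn g
      have h2 : g * n * g⁻¹ = n := by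
        obtain ⟨g', rfl⟩ := QuotientGroup.mk_surjective g
        obtain ⟨n', rfl⟩ := QuotientGroup.mk_surjective n
        have h1 : g' * n' = n' * g' := Subtype.ext (hAc _ _)
        rw [← QuotientGroup.mk_mul, h1, QuotientGroup.mk_mul, mul_inv_cancel_right]
      rw [h2]
      exact hn
    exact hPne (hnoQ _ hPn P.isPGroup')
  refine ⟨⟨⟨⟨fun a b => hcomm a b⟩⟩, fun a ha => ?_⟩, ?_⟩
  · exact congrArg Subtype.val (hexp ⟨a, ha⟩)
  · obtain ⟨ρ, hinj, hrange⟩ :=
      Cfsg.Agent.Helper27.SL2E.exists_sl2 hcard hexp hcomm (F.autGroup H) hX hpX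
    refine ⟨ρ.range.subgroupOf (F.autGroup H), ⟨?_⟩⟩
    exact (Subgroup.subgroupOfEquivOfLe hrange).trans (MonoidHom.ofInjective hinj).symm

end Cfsg.Agent.S5185
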