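import Cfsg.Statements.S5186
import Cfsg.Agent.Helper27.OrderPCube

set_option autoImplicit false
universe u
open Cfsg

namespace Cfsg.Agent.S5186

open Cfsg.FusionSystem Cfsg.Agent.Helper27

/-- Let F be a saturated fusion system over a finite p-group S and H an essential subgroup of order p³. Then H is elementary abelian, or p is odd and H is extraspecial of exponent p, or p = 2 and H is the quaternion group of order 8. -/
theorem result {Ω : Type u} [Group Ω] {S : Subgroup Ω} [Finite S] (p : ℕ) [Fact p.Prime] (hS : IsPGroup p S)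
    (F : Cfsg.FusionSystem S) (hF : F.IsSaturated p) (H : Subgroup Ω) (hH : F.IsEssential p H) (hcard : Nat.card H = p ^ 3) :
    Cfsg.IsElementaryAbelian p H ∨ (Odd p ∧ Cfsg.IsExtraspecial p ↥H ∧ ∀ x ∈ H, x ^ p = 1) ∨
      (p = 2 ∧ Nonempty (↥H ≃* QuaternionGroup 2)) := by
  have hHS : H ≤ S := hH.2.1.1
  haveI : Finite H := finite_of_le hHS
  rcases cube_cases (G := H) hcard with ⟨hc, hexp⟩ | ⟨hodd, hex, hexp⟩ | ⟨h2, hq⟩ | hch
  · left
    exact ⟨⟨⟨fun a b => hc a b⟩⟩, fun a ha => congrArg Subtype.val (hexp ⟨a, ha⟩)⟩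
  · right; left
    exact ⟨hodd, hex, fun x hx => congrArg Subtype.val (hexp ⟨x, hx⟩)⟩
  · right; right
    exact ⟨h2, hq⟩
  · exact absurd hch (essential_no_charChain hS hH)

end Cfsg.Agent.S5186
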