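import Cfsg.Statements.S5187
import Cfsg.Agent.Helper27.FusBasic
import Cfsg.Agent.Helper27.SpeNormal
import Cfsg.Agent.Helper27.RankTwoMain

set_option autoImplicit false
universe u
open Cfsg

namespace Cfsg.Agent.S5187

open Cfsg.FusionSystem Cfsg.Agent.Helper27

/-- Let F be a saturated fusion system over a finite p-group S and H an abelian essential subgroup that can be generated by two elements (its Frattini quotient has order at most p²). Then H is elementary abelian of order p², or p ≤ 3 and H is homocyclic of rank two, that is isomorphic to C_{pᵏ} × C_{pᵏ} for some k. -/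
theorem result {Ω : Type u} [Group Ω] {S : Subgroup Ω} [Finite S] (p : ℕ) [Fact p.Prime] (hS : IsPGroup p S)
    (F : Cfsg.FusionSystem S) (hF : F.IsSaturated p) (H : Subgroup Ω) (hH : F.IsEssential p H) (hab : IsMulCommutative ↥H) (hrk : (frattini ↥H).index ≤ p ^ 2) :
    (Cfsg.IsElementaryAbelian p H ∧ Nat.card H = p ^ 2) ∨
      (p ≤ 3 ∧ ∃ k : ℕ, Nonempty (↥H ≃* Multiplicative (ZMod (p ^ k) × ZMod (p ^ k)))) := by
  obtain ⟨hc, hn, hnorm, E, hE⟩ := hH
  have hp' := (Fact.out : p.Prime)
  have hHS : H ≤ S := hn.1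
  have : Finite H := finite_of_le hHS
  haveI := hab
  have hcomm : ∀ a b : H, a * b = b * a := fun a b => hab.is_comm.comm a b
  have hHp : IsPGroup p H := by
    have h1 : IsPGroup p (H.subgroupOf S) := hS.to_subgroup _
    exact h1.of_equiv (Subgroup.subgroupOfEquivOfLe hHS)
  have hI : (Inn H).subgroupOf (F.autGroup H) = ⊥ := by
    rw [Subgroup.eq_bot_iff_forall]
    intro a ha
    rw [Subgroup.mem_subgroupOf] at ha
    obtain ⟨g, hg⟩ := ha
    apply Subtype.ext
    rw [← hg]
    ext x
    show ((g * x * g⁻¹ : H) : Ω) = x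
    rw [hcomm g x, mul_inv_cancel_right]
  have hnoQ : ∀ R : Subgroup (F.autGroup H ⧸ (Inn H).subgroupOf (F.autGroup H)),
      R.Normal → IsPGroup p R → R = ⊥ := fun R hRn hRp => spe_no_normal_p hE hRn hRp
  have hX : ∀ R : Subgroup (F.autGroup H), R.Normal → IsPGroup p R → R = ⊥ := by
    intro R hRn hRp
    have h1 := hnoQ (R.map (QuotientGroup.mk' _))
      (hRn.map _ (QuotientGroup.mk'_surjective _)) (hRp.map _)
    have h2 : R ≤ (QuotientGroup.mk' ((Inn H).subgroupOf (F.autGroup H))).ker :=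
      (Subgroup.map_eq_bot_iff _).mp h1
    rw [QuotientGroup.ker_mk', hI] at h2
    exact le_bot_iff.mp h2
  have hpX : p ∣ Nat.card (F.autGroup H) := by
    have h1 : p ∣ Nat.card (F.autGroup H ⧸ (Inn H).subgroupOf (F.autGroup H)) := hE.1
    rw [Subgroup.card_eq_card_quotient_mul_card_subgroup ((Inn H).subgroupOf (F.autGroup H))]
    exact h1.mul_right _
  rcases rank_two_main hHp (F.autGroup H) hpX hX hrk with ⟨hexp, hcard⟩ | h
  · left
    refine ⟨⟨⟨⟨fun a b => hcomm a b⟩⟩, fun a ha => ?_⟩, hcard⟩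
    exact congrArg Subtype.val (hexp ⟨a, ha⟩)
  · right
    exact h

end Cfsg.Agent.S5187
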