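import Cfsg.Statements.S5206
import Cfsg.Agent.Helper5.PlaneModel

set_option autoImplicit false
universe u
open Cfsg

namespace Cfsg.Agent.S5206


open Cfsg Cfsg.FusionSystem Cfsg.Agent.Helper17 Cfsg.Agent.Helper5 Cfsg.Agent.Helper5.Plane

/-- (⇒) a `Qd(p)`-section of `G` is seen in a model of some normalizer system -/
theorem not_sectionFree_of_involves {G : Type u} [Group G] [Finite G] {p : ℕ} [Fact p.Prime]
    (hp : p ≠ 2) (P : Sylow p G)
    (hsf : (Cfsg.groupFusionSystem (P : Subgroup G)).IsSectionFree p ↥(Cfsg.qd p))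
    (hinv : Cfsg.Involves ↥(Cfsg.qd p) G) : False := by
  obtain ⟨R, lam, hpl⟩ := isPlane_of_hasQdSec (hasQdSec_of_involves hinv)
  obtain ⟨Q, R', lam', hQP, hR'Q, hpc, hsyl, hpl'⟩ := exists_centric_plane P hpl
  obtain ⟨K, hKn, hKmem, hKdec⟩ := exists_pprime_cent (P.2.to_le hQP) hpc
  haveI := hKn
  have hmodel := isModel_quot P hQP hsyl K hKmem hKdec
  refine hsf Q (fullyNormalized_of_sylIn P hQP hsyl) (centric_of_pCent P hQP hpc) _
    (normSys (P : Subgroup G) Q hQP) (↥(Subgroup.normalizer (Q : Set G)) ⧸ K) _ hmodel ?_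
  have h1 := hpl'.subgroupOf (Subgroup.normalizer (Q : Set G))
    (hR'Q.trans Subgroup.le_normalizer) le_rfl
  obtain ⟨lam₃, h3, -⟩ := h1.map (QuotientGroup.mk' K) (fun r hr hr1 => by
    have hrK : r ∈ K := (QuotientGroup.eq_one_iff r).mp hr1
    have hrR : (r : G) ∈ R' := Subgroup.mem_subgroupOf.mp hr
    obtain ⟨k, hk⟩ := hpl'.1 ⟨(r : G), hrR⟩
    exact Subtype.ext (pprime_elt_eq_one ((hKmem r).mp hrK).2 ⟨k, congrArg Subtype.val hk⟩))
  exact involves_of_hasQdSec (h3.hasQdSec hp)

/-- Let p be an odd prime, G a finite group and P a Sylow p-subgroup of G. Then the fusion system of G on P is Qd(p)-free (Qd(p), the natural semidirect product of an elementary abelian group of order p² by SL₂(p), is not involved in any model of the normalizer system of a fully normalized centric subgroup) if and only if Qd(p) is not involved in G. -/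
theorem result {G : Type u} [Group G] [Finite G] {p : ℕ} [Fact p.Prime] (hp : p ≠ 2) (P : Sylow p G) : (Cfsg.groupFusionSystem (P : Subgroup G)).IsSectionFree p ↥(Cfsg.qd p) ↔ ¬ Cfsg.Involves ↥(Cfsg.qd p) G := by
  constructor
  · intro hsf hinv
    exact not_sectionFree_of_involves hp P hsf hinv
  · intro hfree Q hfn hcen N hN L _ ι hmodel hinvL
    exact hfree (involves_of_model hp P Q N hN L ι hmodel hinvL)

end Cfsg.Agent.S5206
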