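import Cfsg.Statements.S5212
import Cfsg.Agent.Helper27.MetaAut
import Cfsg.Agent.Helper27.FusChain


set_option autoImplicit false
open Cfsg

namespace Cfsg.Agent.S5212

/-- Let S be a finite metacyclic 2-group that is not homocyclic abelian (a direct product of cyclic groups of one common order), not dihedral, not semidihedral and not generalized quaternion. Then every saturated fusion system over S is the inner fusion system of S. -/
theorem result {Ω : Type*} [Group Ω] {S : Subgroup Ω} [Finite S] (hS : IsPGroup 2 S) (F : Cfsg.FusionSystem S) (hF : F.IsSaturated 2) (hm : Cfsg.IsMetacyclic ↥S) (hh : ¬ ∃ n k : ℕ, Nonempty (↥S ≃* Multiplicative (Fin k → ZMod (2 ^ n)))) (hd : ¬ ∃ m : ℕ, Nonempty (↥S ≃* DihedralGroup m)) (hq : ¬ ∃ m : ℕ, Nonempty (↥S ≃* QuaternionGroup m)) (hsd : ¬ Cfsg.IsQuasiDihedral ↥S) : ∀ P : Subgroup Ω, F.Hom P = (Cfsg.innerFusionSystem S).Hom P := by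
  intro P
  refine Cfsg.Agent.Helper27.eq_inner_of_pgroup hS hF (fun R hRn hRc hRr α hα => ?_) P
  have hmc : ¬ ((∃ m, Nonempty (↥S ≃* DihedralGroup m)) ∨ (∃ m, Nonempty (↥S ≃* QuaternionGroup m)) ∨
      Cfsg.IsQuasiDihedral ↥S) := by
    rintro (h | h | h)
    exacts [hd h, hq h, hsd h]
  have hSR : S ≤ R := Cfsg.Agent.Helper27.closed_le_radical_of_metacyclic_two hS hF
    (Cfsg.Agent.Helper27.stronglyClosed_top F) hm hmc hRn hRc hRr
  have hRS : R = S := le_antisymm hRn.1 hSR
  subst hRS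
  exact Cfsg.Agent.Helper27.aut_pow_two_of_metacyclic hS hm (by
    rintro (h | h | h | h)
    exacts [hh h, hd h, hq h, hsd h]) α

end Cfsg.Agent.S5212
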