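import Cfsg.Statements.S5222
import Cfsg.Agent.Helper27.FrattiniCore
import Cfsg.Agent.Helper26.KNormApps

open Cfsg.FusionSystem Cfsg.Agent.Helper27
open scoped commutatorElement

set_option autoImplicit false
open Cfsg

namespace Cfsg.Agent.S5222

/-- Let F be a saturated fusion system over a finite p-group S whose normalizer fusion system of S is the inner fusion system of S (Aut_F(S) is a p-group). Then for every subgroup Q of S with [S, S] ≤ Q ≤ Φ(S), the normalizer fusion system of Q in F is the inner fusion system of N_S(Q) = S. -/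
theorem result {Ω : Type*} [Group Ω] {S : Subgroup Ω} [Finite S] (p : ℕ) [Fact p.Prime] (hS : IsPGroup p S) (F : Cfsg.FusionSystem S) (hF : F.IsSaturated p) (hN : ∀ N : Cfsg.FusionSystem (Cfsg.FusionSystem.normalizerIn S S), F.IsNormalizerSystem S N → ∀ P : Subgroup Ω, N.Hom P = (Cfsg.innerFusionSystem (Cfsg.FusionSystem.normalizerIn S S)).Hom P) (Q : Subgroup Ω) (h1 : (commutator ↥S).map S.subtype ≤ Q) (h2 : Q ≤ (frattini ↥S).map S.subtype) : ∀ N : Cfsg.FusionSystem (Cfsg.FusionSystem.normalizerIn S Q), F.IsNormalizerSystem Q N → ∀ P : Subgroup Ω, N.Hom P = (Cfsg.innerFusionSystem (Cfsg.FusionSystem.normalizerIn S Q)).Hom P := by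
  classical
  intro N hNQ P
  have hQS : Q ≤ S := h2.trans (Subgroup.map_subtype_le _)
  have hcommS : ∀ s ∈ S, ∀ t ∈ S, s * t * s⁻¹ * t⁻¹ ∈ Q := by
    intro s hs t ht
    apply h1
    refine ⟨⁅(⟨s, hs⟩ : S), ⟨t, ht⟩⁆, ?_, rfl⟩
    rw [commutator_def]
    exact Subgroup.commutator_mem_commutator (Subgroup.mem_top _) (Subgroup.mem_top _)
  have hQn : ∀ s ∈ S, ∀ x ∈ Q, s * x * s⁻¹ ∈ Q := by
    intro s hs x hx
    have h := hcommS s hs x (hQS hx)
    have e : s * x * s⁻¹ = (s * x * s⁻¹ * x⁻¹) * x := by group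
    rw [e]
    exact Q.mul_mem h hx
  have hTS : normalizerIn S Q = S :=
    le_antisymm (normalizerIn_le S Q) (fun s hs => ⟨hs, normal_mem_normalizer hQS hQn hs⟩)
  have hfinT : Finite (normalizerIn S Q) := finite_of_le (normalizerIn_le S Q)
  have hTp : IsPGroup p (normalizerIn S Q) := hS.to_le (normalizerIn_le S Q)
  have hQfn := fullyNormalized_of_normal F hQS hQn
  have hNsat : N.IsSaturated p :=
    Cfsg.Agent.Helper26.normalizerSystem_saturated p hS F hF Q hQfn N hNQ
  have hQT : Q ≤ normalizerIn S Q := le_normalizerIn hQS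
  have hNnormal : N.IsNormal Q := by
    apply normal_of_extend hQT
    intro P f hf
    obtain ⟨hfF, hPT, hfT, f', hf', hf'f, hf'Q, hf'Qs⟩ := (mor_normalizerSys_iff hNQ).mp hf
    refine ⟨f', ?_, hf'f, hf'Q, hf'Qs⟩
    rw [mor_normalizerSys_iff hNQ]
    refine ⟨hf', sup_le hPT hQT, fun x hx => ?_, f', ?_, fun x _ => rfl, hf'Q, hf'Qs⟩
    · rw [hTS]; exact hf'.mem hx
    · rw [sup_assoc, sup_idem]; exact hf'
  have hcommT : ∀ s ∈ normalizerIn S Q, ∀ t ∈ normalizerIn S Q, s * t * s⁻¹ * t⁻¹ ∈ Q :=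
    fun s hs t ht => hcommS s (normalizerIn_le S Q hs) t (normalizerIn_le S Q ht)
  have hfratT : Q ≤ (frattini (normalizerIn S Q)).map (normalizerIn S Q).subtype := by
    have key : ∀ T' : Subgroup Ω, T' = S → Q ≤ (frattini T').map T'.subtype := by
      rintro _ rfl
      exact h2
    exact key _ hTS
  have hinnS : ∀ f, Mor F S f → ∃ s ∈ S, ∀ x ∈ S, f x = s * x * s⁻¹ := by
    intro f hfF
    have hN₀ : F.IsNormalizerSystem S (Cfsg.Agent.Helper26.normalizerSystem F S le_rfl) :=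
      fun P => rfl
    have hSS : normalizerIn S S = S :=
      le_antisymm (normalizerIn_le S S) (le_normalizerIn le_rfl)
    have hfS : ∀ x ∈ S, f x ∈ S := fun x hx => hfF.mem hx
    have hmor : Mor (Cfsg.Agent.Helper26.normalizerSystem F S le_rfl) S f := by
      rw [mor_normalizerSys_iff hN₀]
      refine ⟨hfF, le_normalizerIn le_rfl, fun x hx => ?_, f, ?_, fun x _ => rfl, hfS, ?_⟩
      · rw [hSS]; exact hfS x hx
      · rw [sup_idem]; exact hfF
      · intro q hq
        have himg := hfF.img_top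
        rw [← himg] at hq
        obtain ⟨x, hx, rfl⟩ := hfF.mem_img.mp hq
        exact ⟨x, hx, rfl⟩
    obtain ⟨φ, hφ, hφf⟩ := hmor
    rw [hN _ hN₀ S] at hφ
    obtain ⟨-, g, hg, hφg⟩ := hφ
    exact ⟨g, normalizerIn_le S S hg, fun x hx => by rw [← hφf ⟨x, hx⟩]; exact hφg ⟨x, hx⟩⟩
  have hinnT : ∀ f, Mor N (normalizerIn S Q) f →
      ∃ s ∈ normalizerIn S Q, ∀ x ∈ normalizerIn S Q, f x = s * x * s⁻¹ := by
    intro f hf
    have hfF : Mor F (normalizerIn S Q) f := ((mor_normalizerSys_iff hNQ).mp hf).1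
    rw [hTS] at hfF ⊢
    exact hinnS f hfF
  have key := inner_of_frattini_normal hTp hNsat hNnormal hcommT hfratT hinnT
  ext φ
  constructor
  · intro hφ
    obtain ⟨s, hs, hfs⟩ := key P (fn φ) (mor_of_hom hφ)
    exact ⟨(N.le_of_mem hφ).1, s, hs, fun x => by rw [← fn_apply φ x]; exact hfs x x.2⟩
  · intro hφ
    exact inner_subsystem N le_rfl P hφ

end Cfsg.Agent.S5222
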