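import Cfsg.Statements.S5236
import Cfsg.Agent.Helper27.FusChainNormal

set_option autoImplicit false
open Cfsg

namespace Cfsg.Agent.S5236

open Cfsg.FusionSystem Cfsg.Agent.Helper27
open scoped commutatorElement

/-- Let p be an odd prime, F a saturated fusion system over a finite p-group S and P a subgroup of S strongly closed in F. Then P is normal in F if and only if Ω₁(P) (the subgroup generated by the elements of order p of P) has a chain of subgroups 1 = Q₀ ≤ Q₁ ≤ ⋯ ≤ Qₙ = Ω₁(P), each strongly closed in F, with [Qᵢ₊₁, P] ≤ Qᵢ for all i. -/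
theorem result {Ω : Type*} [Group Ω] {S : Subgroup Ω} [Finite S] (p : ℕ) [Fact p.Prime] (hS : IsPGroup p S) (F : Cfsg.FusionSystem S) (hF : F.IsSaturated p) (hp : p ≠ 2) (P : Subgroup Ω) (hP : F.StronglyClosed P) : F.IsNormal P ↔ ∃ (n : ℕ) (Q : Fin (n + 1) → Subgroup Ω), Q 0 = ⊥ ∧ Q (Fin.last n) = Cfsg.omegaOne p P ∧ Monotone Q ∧ (∀ i : Fin (n + 1), F.StronglyClosed (Q i)) ∧ ∀ i : Fin n, ⁅Q i.succ, P⁆ ≤ Q i.castSucc := by
  constructor
  · intro hN
    have hPS := hP.1
    haveI : Finite P := finite_of_le hPS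
    haveI : Group.IsNilpotent P := (hS.to_le hPS).isNilpotent
    obtain ⟨n, hn⟩ := (Group.IsNilpotent.nilpotent' (G := P))
    refine ⟨n, fun i => Cfsg.omegaOne p P ⊓
      (Subgroup.upperCentralSeries P (i : ℕ)).map P.subtype, ?_, ?_, ?_, ?_, ?_⟩
    · show Cfsg.omegaOne p P ⊓
        (Subgroup.upperCentralSeries P ((0 : Fin (n + 1)) : ℕ)).map P.subtype = ⊥
      rw [Fin.val_zero, Subgroup.upperCentralSeries_zero, Subgroup.map_bot, inf_bot_eq]
    · show Cfsg.omegaOne p P ⊓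
        (Subgroup.upperCentralSeries P ((Fin.last n : Fin (n + 1)) : ℕ)).map P.subtype = _
      rw [Fin.val_last, hn, ← MonoidHom.range_eq_map, Subgroup.range_subtype]
      exact inf_eq_left.mpr (omegaOne_le p P)
    · intro i j hij
      exact inf_le_inf_left _ (Subgroup.map_mono (Subgroup.upperCentralSeries_mono _ hij))
    · intro i
      refine ⟨inf_le_left.trans ((omegaOne_le p P).trans hPS), fun R' hR' φ hφ x => ?_⟩
      obtain ⟨f', hf', hf'x, hf'P, -⟩ := normal_extend hN (mor_of_hom hφ)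
      have hx := hR' x.2
      have e : φ x = f' x := by rw [hf'x x x.2, fn_apply]
      rw [e]
      refine ⟨omegaOne_mor_mem hf' le_sup_right hf'P _ hx.1, ?_⟩
      obtain ⟨z, hz, hzx⟩ := hx.2
      have h1 := ucs_mor_mem hf' le_sup_right hf'P (i : ℕ) z hz
      refine ⟨_, h1, ?_⟩
      show f' z = f' x
      rw [← hzx]
      rfl
    · intro i
      rw [Subgroup.commutator_le]
      rintro g₁ ⟨hg₁, z, hz, rfl⟩ g₂ hg₂
      refine ⟨?_, ?_⟩
      · have h1 := omegaOne_mor_mem (p := p) (Mor.conj F hPS (hPS hg₂)) le_rfl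
          (fun x hx => P.mul_mem (P.mul_mem hg₂ hx) (P.inv_mem hg₂)) _ (Subgroup.inv_mem _ hg₁)
        have h2 := Subgroup.mul_mem _ hg₁ h1
        have e : ⁅(P.subtype z), g₂⁆ = P.subtype z * (g₂ * (P.subtype z)⁻¹ * g₂⁻¹) := by
          rw [commutatorElement_def]; group
        rw [e]
        exact h2
      · rw [Fin.val_succ] at hz
        have h1 := Subgroup.mem_upperCentralSeries_succ_iff.mp hz ⟨g₂, hg₂⟩
        rw [Fin.val_castSucc]
        exact ⟨_, h1, rfl⟩
  · rintro ⟨n, Q, hQ0, hQl, -, hQ, hQc⟩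
    have hPn : ∀ s ∈ S, ∀ x ∈ P, s * x * s⁻¹ ∈ P :=
      fun s hs x hx => StronglyClosed.conj_mem hP hs hx
    apply normal_of_le_nSys hP.1 hPn
    apply alperin hS hF (nSys F P hP.1 hPn)
    intro R hRn hRc hRr _ f hf hfi
    have hPR : P ≤ R := le_of_normalizer_le hS hP.1 hPn hRn.1 (fun y hy hyR =>
      chain_key hS hp hP Q hQ0 hQl hQ hQc hRn.1 hRr (hRc.2 R (isConj_refl F hRn.1)) hy hyR)
    exact mor_nSys_iff.mpr ⟨f, hf.restrict (sup_le le_rfl hPR), fun _ _ => rfl,
      fun x hx => StronglyClosed.mor hP (hf.restrict hPR) le_rfl hx⟩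

end Cfsg.Agent.S5236
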