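import Cfsg.Statements.S5244
import Cfsg.Agent.Helper27.UA7
import Cfsg.Agent.Helper26.NormalSys


set_option autoImplicit false
open Cfsg

namespace Cfsg.Agent.S5244

open Cfsg.Agent.Helper27 Cfsg.FusionSystem


/-- Let p be an odd prime, S a finite nonabelian p-group with a unique abelian subgroup A of index p, and F a saturated fusion system over S with no nontrivial normal subgroup (O_p(F) = 1) in which A is not F-essential. Then some subgroup Z(S)⟨x⟩ with x ∈ S outside A is F-essential, the centre Z(S) is contained in the commutator subgroup of S, and S has maximal nilpotency class (if S has order pⁿ with n ≥ 3, the term of index n − 2 of its lower central series, counting S itself as the term of index 0, is nontrivial). -/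
theorem result {Ω : Type*} [Group Ω] {S : Subgroup Ω} [Finite S] (p : ℕ) [Fact p.Prime] (hS : IsPGroup p S) (F : Cfsg.FusionSystem S) (hF : F.IsSaturated p) (hp : p ≠ 2) (hna : ¬ IsMulCommutative ↥S) (A : Subgroup Ω) (hA : A ≤ S ∧ IsMulCommutative ↥A ∧ (A.subgroupOf S).index = p) (huniq : ∀ B : Subgroup Ω, B ≤ S → IsMulCommutative ↥B → (B.subgroupOf S).index = p → B = A) (hcore : F.core = ⊥) (hAe : ¬ F.IsEssential p A) : (∃ x ∈ S, x ∉ A ∧ F.IsEssential p ((S ⊓ Subgroup.centralizer (S : Set Ω)) ⊔ Subgroup.zpowers x)) ∧ (S ⊓ Subgroup.centralizer (S : Set Ω)) ≤ (commutator ↥S).map S.subtype ∧ ∀ n : ℕ, Nat.card S = p ^ n → 3 ≤ n → Subgroup.lowerCentralSeries S (n - 2) ≠ ⊥ := by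
  have hp' : p.Prime := Fact.out
  have hcomm : ∀ a ∈ A, ∀ b ∈ A, a * b = b * a := fun a ha b hb =>
    congrArg Subtype.val (hA.2.1.is_comm.comm ⟨a, ha⟩ ⟨b, hb⟩)
  have hna' : ¬ ∀ s ∈ S, ∀ t ∈ S, s * t = t * s := by
    intro hall
    exact hna ⟨⟨fun a b => Subtype.ext (hall a a.2 b b.2)⟩⟩
  obtain ⟨Z, hZ⟩ : ∃ Z : Subgroup Ω, Z = S ⊓ Subgroup.centralizer (S : Set Ω) := ⟨_, rfl⟩
  obtain ⟨Z₀, hZ₀⟩ : ∃ Z₀ : Subgroup Ω, Z₀ = Z ⊓ (commutator ↥S).map S.subtype := ⟨_, rfl⟩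
  rw [← hZ]
  have hZS : Z ≤ S := by rw [hZ]; exact inf_le_left
  haveI : Finite Z := finite_of_le hZS
  have hZc : ∀ z ∈ Z, ∀ s ∈ S, s * z = z * s := fun z hz => (mem_center_iff.mp (hZ ▸ hz)).2
  -- an element outside `A`
  obtain ⟨x₀, hx₀S, hx₀A⟩ : ∃ x₀ ∈ S, x₀ ∉ A := by
    by_contra hcon
    push Not at hcon
    exact hna' (fun s hs t ht => hcomm s (hcon s hs) t (hcon t ht))
  have h₀ : UAHyp p S A x₀ := ⟨hS, hA.1, hcomm, hA.2.2, hx₀S, hx₀A⟩
  have hZA : Z ≤ A := fun z hz => h₀.center_le hna' (hZ ▸ hz)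
  -- contexts for essential subgroups
  have ess_ctx : ∀ P : Subgroup Ω, F.IsEssential p P → ∃ x M, UACtx p S A P M x := by
    intro P hP
    have hPS : P ≤ S := hP.2.1.1
    have hPc : Cfsg.FusionSystem.centralizerIn S P ≤ P := hP.1.2 P (isConj_refl F hPS)
    have hPA' : ¬ P ≤ A := by
      intro hle
      apply hAe
      have hPA : P = A := le_antisymm hle (fun a ha => hPc (mem_centralizerIn.mpr
        ⟨hA.1 ha, fun y hy => hcomm y (hle hy) a ha⟩))
      rw [← hPA]; exact hP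
    obtain ⟨x, hxP, hxA⟩ := SetLike.not_le_iff_exists.mp hPA'
    have h : UAHyp p S A x := ⟨hS, hA.1, hcomm, hA.2.2, hPS hxP, hxA⟩
    obtain ⟨M, hMP, hMc, hMidx, hkey⟩ := ua_key hS hF h hP hxP
    have hPne : P ≠ S := (ess_key hS hF hP).1
    have hcent : ∀ z ∈ S ⊓ Subgroup.centralizer (S : Set Ω), z ∈ P := by
      intro z hz
      apply hPc
      rw [mem_centralizerIn]
      obtain ⟨hzS, hzc⟩ := Subgroup.mem_inf.mp hz
      exact ⟨hzS, fun y hy => Subgroup.mem_centralizer_iff.mp hzc y (hPS hy)⟩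
    exact ⟨x, M, ⟨h, hna', hPS, hPne, hxP, hcent, hMP, hMc, hMidx, hkey⟩⟩
  have hαZ : ∀ β : MulAut ↥S, ∀ z : ↥S, (z : Ω) ∈ Z → (β z : Ω) ∈ Z := by
    intro β z hz
    rw [hZ] at hz ⊢
    exact aut_center_top β z hz
  -- part 1
  have part1 : ∃ x ∈ S, x ∉ A ∧ F.IsEssential p (Z ⊔ Subgroup.zpowers x) := by
    by_contra hcon
    push Not at hcon
    have hZn : F.IsNormal Z := by
      apply Cfsg.Agent.Helper26.normal_of_invariant p hS F hF Z
      intro P hP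
      rcases hP with hPS' | hP
      · rw [hPS']
        refine ⟨hZS, fun α hα => ?_⟩
        rw [Cfsg.Agent.Helper26.map_aut_eq_iff]
        exact ⟨fun z hz => hαZ α z hz, fun z hz => hαZ α⁻¹ z hz⟩
      · obtain ⟨x, M, c⟩ := ess_ctx P hP
        have hZP : Z ≤ P := fun z hz => c.hcent z (hZ ▸ hz)
        refine ⟨hZP, fun α hα => ?_⟩
        by_cases hH : ∀ v ∈ P ⊓ A, v ∈ Z
        · exfalso
          have hPeq : P = Z ⊔ Subgroup.zpowers x :=
            c.eq_sup_zpowers (le_antisymm (le_inf hZP hZA) hH)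
          exact hcon x c.h.hxS c.h.hxA (hPeq ▸ hP)
        · push Not at hH
          obtain ⟨v, hv, hvZ⟩ := hH
          rw [hZ] at hvZ
          rw [Cfsg.Agent.Helper26.map_aut_eq_iff]
          constructor
          · intro z hz
            rw [hZ] at hz ⊢
            exact c.aut_center hv hvZ α z hz
          · intro z hz
            rw [hZ] at hz ⊢
            exact c.aut_center hv hvZ α⁻¹ z hz
    have hZbot : Z ≤ ⊥ := by rw [← hcore]; exact le_sSup hZn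
    obtain ⟨a, ha, hne, hz⟩ := h₀.exists_central_comm hna'
    exact hne (Subgroup.mem_bot.mp (hZbot (by rw [hZ]; exact hz)))
  obtain ⟨x₁, hx₁S, hx₁A, hP₁⟩ := part1
  have h₁ : UAHyp p S A x₁ := ⟨hS, hA.1, hcomm, hA.2.2, hx₁S, hx₁A⟩
  obtain ⟨P₁, hP₁def⟩ : ∃ P₁ : Subgroup Ω, P₁ = Z ⊔ Subgroup.zpowers x₁ := ⟨_, rfl⟩
  have hP₁' : F.IsEssential p P₁ := by rw [hP₁def]; exact hP₁
  obtain ⟨x, M, c⟩ := ess_ctx P₁ hP₁'
  have hZP₁ : Z ≤ P₁ := by rw [hP₁def]; exact le_sup_left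
  have hH₁ : ∀ v ∈ P₁ ⊓ A, v ∈ Z := by
    intro v hv
    obtain ⟨hvP, hvA⟩ := Subgroup.mem_inf.mp hv
    have hle : P₁ ≤ Subgroup.centralizer ({x₁} : Set Ω) := by
      rw [hP₁def]
      refine sup_le ?_ ?_
      · intro z hz
        rw [Subgroup.mem_centralizer_iff]
        intro y hy
        rw [Set.mem_singleton_iff.mp hy]
        exact hZc z hz x₁ hx₁S
      · rw [Subgroup.zpowers_le, Subgroup.mem_centralizer_iff]
        intro y hy
        rw [Set.mem_singleton_iff.mp hy]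
    have h1 := Subgroup.mem_centralizer_iff.mp (hle hvP) x₁ (Set.mem_singleton x₁)
    rw [hZ]
    apply (h₁.psi_eq_one_iff hvA).mp
    unfold psi
    rw [← h1, mul_inv_cancel_right, mul_inv_cancel]
  obtain ⟨Mq₁, hMq₁, hty₁⟩ := c.typeH hS hF hp hP₁' hZ hZ₀ hH₁ hZP₁
  obtain ⟨g₁, hg₁, hg₁M⟩ := SetLike.not_le_iff_exists.mp hMq₁
  obtain ⟨ρ₁, hρ₁G, hρ₁inv, hρ₁fix, hρ₁dec⟩ := hty₁ g₁ hg₁ hg₁M
  -- `Z₀` is preserved by all of `Aut_F(Z)`
  have hσ₀ : ∀ τ ∈ F.autGroup Z, ∀ z : ↥Z, (z : Ω) ∈ Z₀ → (τ z : Ω) ∈ Z₀ := by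
    intro τ hτ z hz
    obtain ⟨f, hf, hfe⟩ := central_aut_extend hS hF hZS hZc τ hτ
    rw [hZ₀] at hz ⊢
    refine Subgroup.mem_inf.mpr ⟨(τ z).2, ?_⟩
    rw [← hfe]
    exact h₀.mor_comm hf (Subgroup.mem_inf.mp hz).2
  -- the fixed points of `ρ₁`
  obtain ⟨T, hT⟩ : ∃ T : Subgroup Ω, ∀ t : Ω, t ∈ T ↔ ∃ ht : t ∈ Z, ρ₁ ⟨t, ht⟩ = ⟨t, ht⟩ := by
    refine ⟨{ carrier := {t | ∃ ht : t ∈ Z, ρ₁ ⟨t, ht⟩ = ⟨t, ht⟩}
              one_mem' := ⟨Z.one_mem, map_one ρ₁⟩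
              mul_mem' := ?_
              inv_mem' := ?_ }, fun t => Iff.rfl⟩
    · rintro a b ⟨ha, ha'⟩ ⟨hb, hb'⟩
      refine ⟨Z.mul_mem ha hb, ?_⟩
      have e : (⟨a * b, Z.mul_mem ha hb⟩ : ↥Z) = ⟨a, ha⟩ * ⟨b, hb⟩ := rfl
      rw [e, map_mul, ha', hb']
    · rintro a ⟨ha, ha'⟩
      refine ⟨Z.inv_mem ha, ?_⟩
      have e : (⟨a⁻¹, Z.inv_mem ha⟩ : ↥Z) = (⟨a, ha⟩ : ↥Z)⁻¹ := rfl
      rw [e, map_inv, ha']
  have hTZ : T ≤ Z := fun t ht => ((hT t).mp ht).1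
  -- `T` is invariant under every automorphism preserving `Z`
  have hT_Z : ∀ (P : Subgroup Ω) (hPS : P ≤ S) (hZP : Z ≤ P) (α : MulAut ↥P), α ∈ F.autGroup P →
      (∀ z : ↥P, (z : Ω) ∈ Z → (α z : Ω) ∈ Z) → ∀ t : ↥P, (t : Ω) ∈ T → (α t : Ω) ∈ T := by
    intro P hPS hZP α hα hαZ' t ht
    obtain ⟨σ, hσ, hσe⟩ := restrict_aut (F := F) hPS hZP α hα hαZ'
    obtain ⟨htZ, htfix⟩ := (hT _).mp ht
    have h1 := inv_fix_invariant hS hF hZS hZc hρ₁G hσ hρ₁inv hσ₀ htfix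
    have h2 : ((σ ⟨t, htZ⟩ : ↥Z) : Ω) = (α t : Ω) := hσe ⟨t, htZ⟩
    rw [← h2, hT]
    exact ⟨(σ ⟨t, htZ⟩).2, h1⟩
  have hTn : F.IsNormal T := by
    apply Cfsg.Agent.Helper26.normal_of_invariant p hS F hF T
    intro P hP
    rcases hP with hPS' | hP
    · rw [hPS']
      refine ⟨hTZ.trans hZS, fun α hα => ?_⟩
      rw [Cfsg.Agent.Helper26.map_aut_eq_iff]
      exact ⟨fun t ht => hT_Z S le_rfl hZS α hα (hαZ α) t ht,
        fun t ht => hT_Z S le_rfl hZS α⁻¹ ((F.autGroup S).inv_mem hα) (hαZ α⁻¹) t ht⟩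
    · obtain ⟨x', M', c'⟩ := ess_ctx P hP
      have hPS : P ≤ S := c'.hPS
      have hZP : Z ≤ P := fun z hz => c'.hcent z (hZ ▸ hz)
      refine ⟨hTZ.trans hZP, ?_⟩
      have hall : ∀ α ∈ F.autGroup P, ∀ t : ↥P, (t : Ω) ∈ T → (α t : Ω) ∈ T := by
        by_cases hH : ∀ v ∈ P ⊓ A, v ∈ Z
        · obtain ⟨Mq, hMq, hty⟩ := c'.typeH hS hF hp hP hZ hZ₀ hH hZP
          obtain ⟨g₀, hg₀, hg₀M⟩ := SetLike.not_le_iff_exists.mp hMq
          have star : ∀ g ∈ F.autGroup P, g ∉ Mq → ∀ t : ↥P, (t : Ω) ∈ Z →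
              ((t : Ω) ∈ T ↔ ((g⁻¹ t : ↥P) : Ω) ∈ Z) := by
            intro g hg hgM t htZ
            obtain ⟨ρ, hρG, hρinv, hρfix, -⟩ := hty g hg hgM
            have hρeq : ρ = ρ₁ := inv_unique hS hF hZS hZc hρG hρ₁G hρinv hρ₁inv
            rw [hT]
            have h1 := hρfix ⟨t, htZ⟩
            rw [hρeq] at h1
            constructor
            · rintro ⟨ht', hfix⟩
              exact h1.mp hfix
            · intro h2
              exact ⟨htZ, h1.mpr h2⟩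
          have hC : ∀ g ∈ F.autGroup P, g ∉ Mq → ∀ t : ↥P, (t : Ω) ∈ T → (g t : Ω) ∈ T := by
            intro g hg hgM t ht
            have hgi : g⁻¹ ∈ F.autGroup P := (F.autGroup P).inv_mem hg
            have hgiM : g⁻¹ ∉ Mq := fun h => hgM (by simpa using Mq.inv_mem h)
            have h1 := (star g⁻¹ hgi hgiM t (hTZ ht)).mp ht
            rw [inv_inv] at h1
            refine (star g hg hgM (g t) h1).mpr ?_
            rw [MulAut.inv_apply_self]
            exact hTZ ht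
          intro α hα
          exact compl_gen (G := F.autGroup P) (Mq := Mq) hg₀ hg₀M
            (fun g => ∀ t : ↥P, (t : Ω) ∈ T → (g t : Ω) ∈ T)
            (fun a b ha hb t ht => by rw [MulAut.mul_apply]; exact ha _ (hb t ht)) hC α hα
        · push Not at hH
          obtain ⟨v, hv, hvZ⟩ := hH
          rw [hZ] at hvZ
          intro α hα t ht
          refine hT_Z P hPS hZP α hα (fun z hz => ?_) t ht
          rw [hZ] at hz ⊢
          exact c'.aut_center hv hvZ α z hz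
      intro α hα
      rw [Cfsg.Agent.Helper26.map_aut_eq_iff]
      exact ⟨fun t ht => hall α hα t ht, fun t ht => hall α⁻¹ ((F.autGroup P).inv_mem hα) t ht⟩
  have hTbot : T ≤ ⊥ := by rw [← hcore]; exact le_sSup hTn
  -- part 2
  have part2 : Z ≤ (commutator ↥S).map S.subtype := by
    intro z hz
    obtain ⟨t, htfix, hzt⟩ := hρ₁dec ⟨z, hz⟩
    have htT : (t : Ω) ∈ T := (hT _).mpr ⟨t.2, htfix⟩
    have ht1 : (t : Ω) = 1 := Subgroup.mem_bot.mp (hTbot htT)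
    have e : (((⟨z, hz⟩ : ↥Z) * t⁻¹ : ↥Z) : Ω) = z := by
      show z * (t : Ω)⁻¹ = z
      rw [ht1, inv_one, mul_one]
    rw [e, hZ₀] at hzt
    exact (Subgroup.mem_inf.mp hzt).2
  refine ⟨⟨x₁, hx₁S, hx₁A, hP₁⟩, part2, ?_⟩
  intro n hn h3
  have hZcard : Nat.card ↥Z = p := by
    have h1 := c.card_center_comm
    have h2 : (S ⊓ Subgroup.centralizer (S : Set Ω)) ⊓ (commutator ↥S).map S.subtype = Z := by
      rw [← hZ]; exact inf_eq_left.mpr part2
    rw [h2] at h1; exact h1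
  have hidx : ((S ⊓ Subgroup.centralizer (S : Set Ω)).subgroupOf S).index = p ^ (n - 1) := by
    rw [← hZ]
    have h1 := Subgroup.card_mul_index (Z.subgroupOf S)
    rw [Nat.card_congr (Subgroup.subgroupOfEquivOfLe hZS).toEquiv, hZcard, hn] at h1
    have h2 : p ^ n = p * p ^ (n - 1) := by
      rw [← pow_succ']; congr 1; omega
    rw [h2] at h1
    exact Nat.eq_of_mul_eq_mul_left hp'.pos h1
  have hL : ¬ Subgroup.lowerCentralSeries S (n - 3) ≤ Z := by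
    by_cases h4 : 4 ≤ n
    · have h5 := c.maxclass hidx (by omega)
      have e : n - 1 - 2 = n - 3 := by omega
      rw [e, ← hZ] at h5
      exact h5
    · have e : n - 3 = 0 := by omega
      rw [e, Subgroup.lowerCentralSeries_zero]
      intro hle
      exact hna' (fun s hs t ht => (hZc t (hle ht) s hs))
  have e : n - 2 = (n - 3) + 1 := by omega
  rw [e, Subgroup.lowerCentralSeries_succ]
  intro hbot
  apply hL
  intro l hl
  have hlS : l ∈ S := Subgroup.lowerCentralSeries_antitone S (Nat.zero_le (n - 3)) hl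
  rw [hZ]
  refine mem_center_iff.mpr ⟨hlS, fun s hs => ?_⟩
  have h1 := Subgroup.commutator_mem_commutator hl hs
  rw [hbot, Subgroup.mem_bot, commutatorElement_def] at h1
  exact (mul_inv_eq_iff_eq_mul.mp (mul_inv_eq_one.mp h1)).symm

end Cfsg.Agent.S5244
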