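import Cfsg.Statements.S5245
import Cfsg.Agent.Helper27.FusAutSys

open Cfsg.Agent.Helper27 Cfsg.FusionSystem


set_option autoImplicit false
open Cfsg

namespace Cfsg.Agent.S5245

/-- Let F be an extremely sparse fusion system over a finite p-group S (saturated, not the inner system, and every saturated fusion system over any subgroup T of S contained in F is F itself or the inner system of T). Then S is normal in F, the focal and hyperfocal subgroups of F are both S, and Aut_F(S) is generated by the inner automorphisms of S together with a single automorphism of prime order q ≠ p (F is the fusion system of the semidirect product of S by a cyclic group of prime order). -/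
theorem result {Ω : Type*} [Group Ω] {S : Subgroup Ω} [Finite S] (p : ℕ) [Fact p.Prime] (hS : IsPGroup p S) (F : Cfsg.FusionSystem S) (hF : F.IsSaturated p) (hxs : ¬ (∀ P : Subgroup Ω, F.Hom P = (Cfsg.innerFusionSystem S).Hom P) ∧ ∀ (T : Subgroup Ω) (E : Cfsg.FusionSystem T), E.IsSaturated p → E.IsSubsystemOf F → (T = S ∧ ∀ P : Subgroup Ω, E.Hom P = F.Hom P) ∨ (∀ P : Subgroup Ω, E.Hom P = (Cfsg.innerFusionSystem T).Hom P)) : F.IsNormal S ∧ F.focalSubgroup = S ∧ F.hyperfocalSubgroup p = S ∧ ∃ (q : ℕ) (β : MulAut ↥S), q.Prime ∧ q ≠ p ∧ β ∈ F.autGroup S ∧ orderOf β = q ∧ (F.autGroup S : Subgroup (MulAut ↥S)) = Cfsg.Inn ↥S ⊔ Subgroup.zpowers β := by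
  classical
  obtain ⟨hnot, hsp⟩ := hxs
  have hp := (Fact.out : p.Prime)
  have dich : ∀ (T : Subgroup Ω), T ≤ S → ∀ α ∈ F.autGroup T, (orderOf α).Coprime p →
      α = 1 ∨ (T = S ∧ ∀ P : Subgroup Ω,
        (autSys T (Inn T ⊔ Subgroup.zpowers α) le_sup_left).Hom P = F.Hom P) := by
    intro T hTS α hα hco
    haveI : Finite T := finite_of_le hTS
    have hT : IsPGroup p T := hS.to_le hTS
    have hAF : Inn T ⊔ Subgroup.zpowers α ≤ F.autGroup T :=
      sup_le (Inn_le_autGroup F hTS) (by rw [Subgroup.zpowers_le]; exact hα)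
    have hidx : ¬ p ∣ (Inn T).relIndex (Inn T ⊔ Subgroup.zpowers α) := by
      haveI := Inn_normal' T
      rw [Subgroup.relIndex_sup_left]
      intro hdvd
      have h1 : (Inn T).relIndex (Subgroup.zpowers α) ∣ Nat.card (Subgroup.zpowers α) :=
        Subgroup.relIndex_dvd_card _ _
      rw [Nat.card_zpowers] at h1
      exact (Nat.Prime.coprime_iff_not_dvd hp).mp hco.symm (hdvd.trans h1)
    rcases hsp T (autSys T _ le_sup_left) (autSys_saturated p hT hidx) (autSys_subsystem F hTS hAF) with h | h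
    · right
      exact h
    · left
      have hαI : α ∈ Inn T := autSys_inner h (Subgroup.mem_sup_right (Subgroup.mem_zpowers α))
      obtain ⟨k, hk⟩ := (isPGroup_Inn hT) ⟨α, hαI⟩
      have hk' : α ^ (p ^ k) = 1 := by simpa using congrArg Subtype.val hk
      have h1 : orderOf α ∣ p ^ k := orderOf_dvd_of_pow_eq_one hk'
      exact orderOf_eq_one_iff.mp (Nat.Coprime.eq_one_of_dvd (hco.pow_right k) h1)
  have A' : ∀ (T : Subgroup Ω), T ≤ S → T ≠ S → ∀ α ∈ F.autGroup T, (orderOf α).Coprime p → α = 1 := by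
    intro T hTS hne α hα hco
    rcases dich T hTS α hα hco with h | h
    · exact h
    · exact absurd h.1 hne
  have hpg : ∀ (T : Subgroup Ω), T ≤ S → T ≠ S → IsPGroup p (F.autGroup T) := by
    intro T hTS hne
    haveI : Finite T := finite_of_le hTS
    apply isPGroup_of_coprime_trivial p
    intro g hg
    have h1 := A' T hTS hne g.1 g.2 (by rw [Subgroup.orderOf_coe]; exact hg)
    exact Subtype.ext h1
  have hSn : ∀ s ∈ S, ∀ x ∈ S, s * x * s⁻¹ ∈ S :=
    fun s hs x hx => S.mul_mem (S.mul_mem hs hx) (S.inv_mem hs)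
  have hnorm : F.IsNormal S := by
    apply normal_of_le_nSys le_rfl hSn
    apply alperin hS hF (nSys F S le_rfl hSn)
    intro R hRfn _ _ _ f hf himg
    by_cases hRS : R = S
    · rw [mor_nSys_iff]
      rw [hRS] at hf
      refine ⟨f, ?_, fun x _ => rfl, fun x hx => hf.mem hx⟩
      rw [hRS, sup_idem]
      exact hf
    · haveI : Finite R := finite_of_le hRfn.1
      obtain ⟨-, R₀, hR₀⟩ := (fullyNormalized_props hS hF hRfn).2.2
      have htop := sylow_eq_top_of_isPGroup (hpg R hRfn.1 hRS) R₀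
      obtain ⟨α, hα, hαf⟩ := exists_aut_of_mor hf (fun x hx => by rw [← himg]; exact apply_mem_img hx)
      have hαS : α ∈ autInducedBy S R := by
        have h1 : (⟨α, hα⟩ : F.autGroup R) ∈ (R₀ : Subgroup (F.autGroup R)) := by
          rw [htop]
          trivial
        rw [hR₀] at h1
        exact Subgroup.mem_subgroupOf.mp h1
      obtain ⟨g, hg, hαg⟩ := (mem_autInducedBy_iff S R α).mp hαS
      exact (Mor.conj (nSys F S le_rfl hSn) hRfn.1 hg).congr (fun x hx => by rw [← hαf ⟨x, hx⟩, hαg])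
  have hnotp : ¬ IsPGroup p (F.autGroup S) := by
    intro hpgS
    apply hnot
    intro P
    ext φ
    constructor
    · intro hφ
      have hPS := (F.le_of_mem hφ).1
      obtain ⟨f', hf', hext, hQ, -⟩ := normal_extend hnorm (mor_of_hom hφ)
      rw [sup_eq_right.mpr hPS] at hf'
      obtain ⟨α, hα, hαf⟩ := exists_aut_of_mor hf' hQ
      obtain ⟨-, R₀, hR₀⟩ := (fullyNormalized_props hS hF (fullyNormalized_top F)).2.2
      have htop := sylow_eq_top_of_isPGroup hpgS R₀
      have hαS : α ∈ autInducedBy S S := by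
        have h1 : (⟨α, hα⟩ : F.autGroup S) ∈ (R₀ : Subgroup (F.autGroup S)) := by
          rw [htop]
          trivial
        rw [hR₀] at h1
        exact Subgroup.mem_subgroupOf.mp h1
      obtain ⟨g, hg, hαg⟩ := (mem_autInducedBy_iff S S α).mp hαS
      refine ⟨hPS, g, hg, fun x => ?_⟩
      rw [← fn_apply φ x, ← hext x x.2, ← hαf ⟨x, hPS x.2⟩, hαg]
    · rintro ⟨hPS, g, hg, h⟩
      have h1 : φ = conjHom P g := MonoidHom.ext (fun x => by rw [h]; rfl)
      rw [h1]
      exact F.conj_mem hPS hg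
  obtain ⟨β, hβ, q, hq, hqp, hβord⟩ : ∃ β ∈ F.autGroup S, ∃ q : ℕ, q.Prime ∧ q ≠ p ∧ orderOf β = q := by
    by_contra hcon
    apply hnotp
    apply isPGroup_of_coprime_trivial p
    intro g hg
    by_contra hg1
    have ho1 : orderOf g ≠ 1 := fun h => hg1 (orderOf_eq_one_iff.mp h)
    have hq := Nat.minFac_prime ho1
    have hqd := Nat.minFac_dvd (orderOf g)
    apply hcon
    refine ⟨((g ^ (orderOf g / (orderOf g).minFac) : F.autGroup S) : MulAut S),
      (g ^ (orderOf g / (orderOf g).minFac)).2, (orderOf g).minFac, hq, ?_, ?_⟩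
    · intro h
      rw [h] at hqd
      exact (Nat.Prime.coprime_iff_not_dvd hp).mp hg.symm hqd
    · rw [Subgroup.orderOf_coe]
      exact orderOf_pow_orderOf_div (orderOf_pos g).ne' hqd
  have hqpc : Nat.Coprime q p := (Nat.coprime_primes hq hp).mpr hqp
  have hco : (orderOf β).Coprime p := by rw [hβord]; exact hqpc
  have hβ1 : β ≠ 1 := by
    intro h
    rw [h, orderOf_one] at hβord
    exact hq.ne_one hβord.symm
  have hEq : ∀ P : Subgroup Ω, (autSys S (Inn S ⊔ Subgroup.zpowers β) le_sup_left).Hom P = F.Hom P := by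
    rcases dich S le_rfl β hβ hco with h | h
    · exact absurd h hβ1
    · exact h.2
  have hAut : (F.autGroup S : Subgroup (MulAut S)) = Inn S ⊔ Subgroup.zpowers β := by
    have h1 : F.autGroup S = (autSys S (Inn S ⊔ Subgroup.zpowers β) le_sup_left).autGroup S := by
      unfold FusionSystem.autGroup
      rw [hEq S]
    rw [h1, autSys_autGroup]
  have hmorβ : Mor F S (autFn β) := (mem_autGroup_iff le_rfl β).mp hβ
  have hβq : β ^ q = 1 := by rw [← hβord]; exact pow_orderOf_eq_one β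
  obtain ⟨T₀, hT₀⟩ : ∃ T₀ : Subgroup Ω,
      T₀ = Subgroup.closure {y : Ω | ∃ x : S, y = (x : Ω)⁻¹ * (β x : Ω)} := ⟨_, rfl⟩
  have hT₀S : T₀ ≤ S := by
    rw [hT₀, Subgroup.closure_le]
    rintro _ ⟨x, rfl⟩
    exact S.mul_mem (S.inv_mem x.2) (β x).2
  have hT₀hyp : T₀ ≤ F.hyperfocalSubgroup p := by
    rw [hT₀]
    apply Subgroup.closure_mono
    rintro _ ⟨x, rfl⟩
    refine ⟨S, ⟨β, hβ⟩, x, le_rfl, ?_, rfl⟩
    apply Subgroup.subset_closure
    show Nat.Coprime (orderOf (⟨β, hβ⟩ : F.autGroup S)) p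
    rw [Subgroup.orderOf_mk]
    exact hco
  have hT₀foc : T₀ ≤ F.focalSubgroup := by
    rw [hT₀]
    apply Subgroup.closure_mono
    rintro _ ⟨x, rfl⟩
    obtain ⟨φ, hφ, hφf⟩ := hmorβ
    exact ⟨S, φ, x, hφ, by rw [hφf, autFn_apply]⟩
  have hfocS : F.focalSubgroup ≤ S := by
    unfold FusionSystem.focalSubgroup
    rw [Subgroup.closure_le]
    rintro _ ⟨P, φ, x, hφ, rfl⟩
    exact S.mul_mem (S.inv_mem ((F.le_of_mem hφ).1 x.2)) ((F.le_of_mem hφ).2 x)
  have hT₀eq : T₀ = S := by
    by_contra hne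
    have hβT : ∀ x ∈ T₀, autFn β x ∈ T₀ := by
      intro x hx
      rw [hT₀] at hx
      induction hx using Subgroup.closure_induction with
      | mem y hy =>
        obtain ⟨x, rfl⟩ := hy
        rw [hmorβ.map_mul (S.inv_mem x.2) (β x).2, hmorβ.map_inv x.2, autFn_apply, autFn_apply, hT₀]
        exact Subgroup.subset_closure ⟨β x, rfl⟩
      | one =>
        rw [hmorβ.map_one]
        exact one_mem _
      | mul a b ha hb iha ihb =>
        have haT : a ∈ T₀ := by rw [hT₀]; exact ha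
        have hbT : b ∈ T₀ := by rw [hT₀]; exact hb
        rw [hmorβ.map_mul (hT₀S haT) (hT₀S hbT)]
        exact mul_mem iha ihb
      | inv a ha iha =>
        have haT : a ∈ T₀ := by rw [hT₀]; exact ha
        rw [hmorβ.map_inv (hT₀S haT)]
        exact inv_mem iha
    have hmorT : Mor F T₀ (autFn β) := hmorβ.restrict hT₀S
    haveI : Finite T₀ := finite_of_le hT₀S
    obtain ⟨β₀, hβ₀, hβ₀f⟩ := exists_aut_of_mor hmorT hβT
    have hpow : ∀ n : ℕ, ∀ x : T₀, ((β₀ ^ n) x : Ω) = ((β ^ n) ⟨x, hT₀S x.2⟩ : Ω) := by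
      intro n
      induction n with
      | zero =>
        intro x
        simp
      | succ k ih =>
        intro x
        rw [pow_succ, pow_succ, MulAut.mul_apply, MulAut.mul_apply, ih]
        have h1 : (⟨(β₀ x : Ω), hT₀S (β₀ x).2⟩ : S) = β ⟨x, hT₀S x.2⟩ := by
          apply Subtype.ext
          rw [hβ₀f, autFn_of_mem β (hT₀S x.2)]
        rw [h1]
    have hβ₀q : β₀ ^ q = 1 := by
      ext x
      rw [hpow, hβq]
      rfl
    have hβ₀1 : β₀ = 1 := by
      apply A' T₀ hT₀S hne β₀ hβ₀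
      have h1 : orderOf β₀ ∣ q := orderOf_dvd_of_pow_eq_one hβ₀q
      exact Nat.Coprime.coprime_dvd_left h1 hqpc
    have hfix : ∀ t ∈ T₀, autFn β t = t := by
      intro t ht
      rw [← hβ₀f ⟨t, ht⟩, hβ₀1]
      rfl
    apply hβ1
    ext x
    obtain ⟨t, ht⟩ : ∃ t : Ω, t = (x : Ω)⁻¹ * (β x : Ω) := ⟨_, rfl⟩
    have htT : t ∈ T₀ := by
      rw [hT₀, ht]
      exact Subgroup.subset_closure ⟨x, rfl⟩
    have hβx : (β x : Ω) = x * t := by
      rw [ht]
      group
    have hn : ∀ n : ℕ, ((β ^ n) x : Ω) = x * t ^ n := by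
      intro n
      induction n with
      | zero => simp
      | succ k ih =>
        rw [pow_succ', MulAut.mul_apply, ← autFn_apply β ((β ^ k) x), ih,
          hmorβ.map_mul x.2 (S.pow_mem (hT₀S htT) k), autFn_apply, hβx,
          hmorβ.map_pow (hT₀S htT), hfix t htT, pow_succ', mul_assoc]
    have htq : t ^ q = 1 := by
      have h1 := hn q
      rw [hβq] at h1
      have h2 : (x : Ω) = x * t ^ q := h1
      exact mul_left_cancel (a := (x : Ω)) (by rw [mul_one]; exact h2.symm)
    obtain ⟨k, hk⟩ := hS ⟨t, hT₀S htT⟩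
    have hk' : t ^ (p ^ k) = 1 := by simpa using congrArg Subtype.val hk
    have ho : orderOf t ∣ Nat.gcd q (p ^ k) :=
      Nat.dvd_gcd (orderOf_dvd_of_pow_eq_one htq) (orderOf_dvd_of_pow_eq_one hk')
    have hg : Nat.gcd q (p ^ k) = 1 := Nat.Coprime.pow_right k hqpc
    rw [hg] at ho
    have ht1 : t = 1 := orderOf_eq_one_iff.mp (Nat.dvd_one.mp ho)
    rw [hβx, ht1, mul_one]
    rfl
  refine ⟨hnorm, le_antisymm hfocS ?_, le_antisymm (Cfsg.Agent.Helper26.hyperfocal_le F p) ?_,
    q, β, hq, hqp, hβ, hβord, hAut⟩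
  · exact (le_of_eq hT₀eq.symm).trans hT₀foc
  · exact (le_of_eq hT₀eq.symm).trans hT₀hyp

end Cfsg.Agent.S5245
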