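import Cfsg.Statements.S5249
import Cfsg.Agent.S2794


set_option autoImplicit false
open Cfsg

namespace Cfsg.Agent.S5249


universe u

open Cfsg.Agent.Helper13 Cfsg.Agent.Helper17 Cfsg.Agent.Helper5 Cfsg.Agent.S0653 Cfsg.Agent.S2794

theorem inducedFunctor_top_zj (Pb : Type u) [Group Pb] [Finite Pb] {p : ℕ} [Fact p.Prime]
    (hPb : IsPGroup p Pb) :
    Cfsg.inducedFunctor zjFun (⊤ : Subgroup Pb) = zjFun Pb := by
  have h := (zjFun_char p).2 ↥(⊤ : Subgroup Pb) Pb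
    (hPb.of_injective (⊤ : Subgroup Pb).subtype (Subgroup.subtype_injective _))
    (Subgroup.topEquiv : ↥(⊤ : Subgroup Pb) ≃* Pb)
  rw [← h]
  rfl

/-- control of fusion by `Z(J)` read through an embedding of the Sylow subgroup. -/
theorem zj_ctl_emb {p : ℕ} [Fact p.Prime] (hp : p ≠ 2) {X Pb : Type u} [Group X] [Finite X]
    [Group Pb] [Finite Pb] (hPb : IsPGroup p Pb) (ι : Pb →* X) (hι : Function.Injective ι)
    (T : Sylow p X) (hT : (T : Subgroup X) = ι.range) (hfree : ¬ HasQdSec p X)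
    (P' : Subgroup Pb) (xb : X) (hx : ∀ y ∈ P', xb * ι y * xb⁻¹ ∈ ι.range) :
    ∃ nb : X, (∀ y ∈ P', nb * ι y * nb⁻¹ = xb * ι y * xb⁻¹) ∧
      nb ∈ Subgroup.normalizer ((((zjFun Pb).map ι : Subgroup X)) : Set X) := by
  have hctl := zj_famCtl hp X hfree T
  have hB : P'.map ι ≤ (T : Subgroup X) := by
    rw [hT]
    rintro _ ⟨y, -, rfl⟩
    exact ⟨y, rfl⟩
  have hxB : cj xb (P'.map ι) ≤ (T : Subgroup X) := by
    rw [hT]
    rintro _ ⟨_, ⟨y, hy, rfl⟩, rfl⟩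
    exact hx y hy
  obtain ⟨g', hch, hag⟩ := hctl (P'.map ι) xb hB (Subgroup.mem_top _) hxB
  have hZ : Cfsg.inducedFunctor zjFun (T : Subgroup X) = (zjFun Pb).map ι := by
    have h1 := inducedFunctor_map zjFun (zjFun_char p) ι hι (⊤ : Subgroup Pb)
      (hPb.of_injective (⊤ : Subgroup Pb).subtype (Subgroup.subtype_injective _))
    rw [inducedFunctor_top_zj Pb hPb, ← MonoidHom.range_eq_map, ← hT] at h1
    exact h1
  refine ⟨g', fun y hy => hag _ ⟨y, hy, rfl⟩, ?_⟩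
  refine FChain.mem_of_subgroup (K := Subgroup.normalizer
    ((((zjFun Pb).map ι : Subgroup X)) : Set X)) ?_ hch
  intro y hy
  obtain ⟨W, hW, -, hy2⟩ := (fst_indFam_iff _ _ _ y).mp hy
  rw [Set.mem_singleton_iff.mp hW, hZ] at hy2
  exact hy2

/-- the homomorphism induced on `P' ⊔ Q` by conjugation with `nb`. -/
theorem exists_conj_hom {X Pb : Type u} [Group X] [Group Pb] (ι : Pb →* X)
    (hι : Function.Injective ι) (Q P' : Subgroup Pb) (nb : X)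
    (hn : nb ∈ Subgroup.normalizer (((Q.map ι : Subgroup X)) : Set X))
    (hP' : ∀ y ∈ P', nb * ι y * nb⁻¹ ∈ ι.range) :
    ∃ ψ : ↥(P' ⊔ Q) →* Pb, ∀ y : ↥(P' ⊔ Q), ι (ψ y) = nb * ι (y : Pb) * nb⁻¹ := by
  have hall : ∀ y ∈ P' ⊔ Q, nb * ι y * nb⁻¹ ∈ ι.range := by
    have hle : P' ⊔ Q ≤ (ι.range.comap ((MulAut.conj nb).toMonoidHom.comp ι)) := by
      apply sup_le
      · intro y hy
        exact hP' y hy
      · intro y hy
        have h1 : nb * ι y * nb⁻¹ ∈ Q.map ι :=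
          ((Subgroup.mem_normalizer_iff.mp hn) (ι y)).1 ⟨y, hy, rfl⟩
        obtain ⟨z, -, hz⟩ := h1
        exact ⟨z, hz⟩
    intro y hy
    exact hle hy
  choose f hf using fun y : ↥(P' ⊔ Q) => hall y.1 y.2
  refine ⟨MonoidHom.mk' f ?_, fun y => hf y⟩
  intro a b
  apply hι
  rw [map_mul, hf, hf, hf]
  simp only [Subgroup.coe_mul, map_mul]
  group

/-- Let p be an odd prime, G a finite group in which Qd(p) (the natural semidirect product of an elementary abelian group of order p² by SL₂(p)) is not involved, and P a Sylow p-subgroup of G. Then the fusion system of G on P is a solvable fusion system. -/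
theorem result {G : Type*} [Group G] [Finite G] {p : ℕ} [Fact p.Prime] (hp : p ≠ 2) (hqd : ¬ Cfsg.Involves ↥(Cfsg.qd p) G) (P : Sylow p G) : (Cfsg.groupFusionSystem (P : Subgroup G)).IsSolvableSystem := by
  intro R hsc hRne hRn E hE
  obtain ⟨hRP, hker, -, hHom⟩ := hE
  have hfreeG : ¬ HasQdSec p G := by
    intro h
    obtain ⟨L, ψ, hψ⟩ := h
    obtain ⟨L', hL', ⟨e⟩⟩ := Cfsg.Agent.Helper5.sec_of_surj L ψ hψ
    exact hqd ⟨L, L', hL', ⟨e⟩⟩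
  obtain ⟨N, hNdef⟩ : ∃ N : Subgroup G, N = Subgroup.normalizer (R : Set G) := ⟨_, rfl⟩
  have hPN : (P : Subgroup G) ≤ N := by
    rw [hNdef]; exact (Subgroup.normal_subgroupOf_iff_le_normalizer hRP).mp hRn
  haveI hRNn : (R.subgroupOf N).Normal := by
    rw [hNdef]; exact Subgroup.normal_in_normalizer
  obtain ⟨θ, hθ⟩ : ∃ θ : ↥(P : Subgroup G) →* ↥(P : Subgroup G) ⧸ R.subgroupOf (P : Subgroup G),
      θ = QuotientGroup.mk' (R.subgroupOf (P : Subgroup G)) := ⟨_, rfl⟩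
  rw [← hθ] at hker hHom
  have hθsurj : Function.Surjective θ := by rw [hθ]; exact QuotientGroup.mk'_surjective _
  obtain ⟨π, hπ⟩ : ∃ π : ↥N →* ↥N ⧸ R.subgroupOf N, π = QuotientGroup.mk' (R.subgroupOf N) :=
    ⟨_, rfl⟩
  have hπsurj : Function.Surjective π := by rw [hπ]; exact QuotientGroup.mk'_surjective _
  have hπker : ∀ x : ↥N, π x = 1 ↔ (x : G) ∈ R := by
    intro x
    rw [hπ, QuotientGroup.mk'_apply, QuotientGroup.eq_one_iff]
    exact Subgroup.mem_subgroupOf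
  have hincl : R.subgroupOf (P : Subgroup G) ≤
      (R.subgroupOf N).comap (Subgroup.inclusion hPN) := fun s hs => hs
  obtain ⟨ι, hιmk⟩ : ∃ ι : (↥(P : Subgroup G) ⧸ R.subgroupOf (P : Subgroup G)) →*
      (↥N ⧸ R.subgroupOf N), ∀ s : ↥(P : Subgroup G), ι (θ s) = π (Subgroup.inclusion hPN s) := by
    refine ⟨QuotientGroup.map (R.subgroupOf (P : Subgroup G)) (R.subgroupOf N)
      (Subgroup.inclusion hPN) hincl, fun s => ?_⟩
    rw [hθ, hπ]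
    rfl
  have hιinj : Function.Injective ι := by
    rw [injective_iff_map_eq_one]
    intro y hy
    obtain ⟨s, rfl⟩ := hθsurj y
    rw [hιmk, hπker] at hy
    exact (hker s).mpr hy
  obtain ⟨TX, hTX⟩ : ∃ TX : Sylow p (↥N ⧸ R.subgroupOf N),
      (TX : Subgroup (↥N ⧸ R.subgroupOf N)) = ι.range := by
    refine ⟨(P.subtype hPN).mapSurjective hπsurj, ?_⟩
    rw [Sylow.coe_mapSurjective, Sylow.coe_subtype]
    ext z
    constructor
    · rintro ⟨x, hx, rfl⟩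
      exact ⟨θ ⟨x, hx⟩, hιmk _⟩
    · rintro ⟨y, rfl⟩
      obtain ⟨s, rfl⟩ := hθsurj y
      exact ⟨Subgroup.inclusion hPN s, s.2, (hιmk s).symm⟩
  have hfreeX : ¬ HasQdSec p (↥N ⧸ R.subgroupOf N) := by
    intro h2
    apply hfreeG
    have h3 : HasQdSec p ↥N := hasQdSec_lift p π hπsurj h2
    exact hasQdSec_of_injective p N.subtype N.subtype_injective h3
  have hPb : IsPGroup p (↥(P : Subgroup G) ⧸ R.subgroupOf (P : Subgroup G)) := P.2.to_quotient _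
  haveI hnt : Nontrivial (↥(P : Subgroup G) ⧸ R.subgroupOf (P : Subgroup G)) := by
    by_contra hnt
    rw [not_nontrivial_iff_subsingleton] at hnt
    apply hRne
    apply le_antisymm hRP
    intro s hs
    have h1 : θ ⟨s, hs⟩ = 1 := Subsingleton.elim _ _
    exact (hker ⟨s, hs⟩).mp h1
  obtain ⟨Q, hQdef⟩ : ∃ Q : Subgroup (↥(P : Subgroup G) ⧸ R.subgroupOf (P : Subgroup G)),
      Q = zjFun (↥(P : Subgroup G) ⧸ R.subgroupOf (P : Subgroup G)) := ⟨_, rfl⟩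
  have hQne : Q ≠ ⊥ := by
    rw [hQdef]; exact (zjFun_char p).1 _ hPb hnt
  suffices hnorm : E.IsNormal Q by
    intro hcore
    have h1 : Q ≤ E.core := le_sSup hnorm
    rw [hcore] at h1
    exact hQne (le_bot_iff.mp h1)
  refine ⟨le_top, ?_⟩
  intro P' φ' hφ'
  obtain ⟨-, φ, hφ, hind⟩ := (hHom P' φ').mp hφ'
  obtain ⟨hPt, hφS, g, hg⟩ := hφ
  obtain ⟨hPt', hφS', hP'mem, hind⟩ := hind
  have hpre : ∀ s : ↥(P : Subgroup G), θ s ∈ P' → (s : G) ∈ FusionSystem.preimageAlong θ P' :=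
    fun s hs => ⟨s, hs, rfl⟩
  have hgS : ∀ s : ↥(P : Subgroup G), θ s ∈ P' → g * (s : G) * g⁻¹ ∈ (P : Subgroup G) := by
    intro s hs
    have h1 := hφS ⟨s, hpre s hs⟩
    rw [hg] at h1
    exact h1
  have hRpre : ∀ r (hr : r ∈ R), θ ⟨r, hRP hr⟩ ∈ P' := by
    intro r hr
    rw [(hker ⟨r, hRP hr⟩).mpr hr]; exact P'.one_mem
  have hgR : ∀ r ∈ R, g * r * g⁻¹ ∈ R := by
    intro r hr
    have hmem : Cfsg.conjHom R g ∈ (Cfsg.groupFusionSystem (P : Subgroup G)).Hom R :=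
      ⟨hRP, fun x => hgS ⟨x, hRP x.2⟩ (hRpre x x.2), g, fun x => rfl⟩
    exact hsc.2 R le_rfl _ hmem ⟨r, hr⟩
  have hgN : g ∈ N := by
    rw [hNdef]
    apply mem_normalizer_of_cj_le
    rintro _ ⟨r, hr, rfl⟩
    exact hgR r hr
  have hconjπ : ∀ (a : G) (ha : a ∈ N) (s : ↥(P : Subgroup G))
      (has : a * (s : G) * a⁻¹ ∈ (P : Subgroup G)),
      π ⟨a, ha⟩ * ι (θ s) * (π ⟨a, ha⟩)⁻¹ = ι (θ ⟨a * (s : G) * a⁻¹, has⟩) := by
    intro a ha s has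
    rw [hιmk, hιmk, ← map_inv, ← map_mul, ← map_mul]
    rfl
  have hxb : ∀ y ∈ P', π ⟨g, hgN⟩ * ι y * (π ⟨g, hgN⟩)⁻¹ ∈ ι.range := by
    intro y hy
    obtain ⟨s, rfl⟩ := hθsurj y
    exact ⟨θ ⟨g * (s : G) * g⁻¹, hgS s hy⟩, (hconjπ g hgN s (hgS s hy)).symm⟩
  obtain ⟨nb, hnb, hnbN⟩ := zj_ctl_emb hp hPb ι hιinj TX hTX hfreeX P' (π ⟨g, hgN⟩) hxb
  rw [← hQdef] at hnbN
  have hP'n : ∀ y ∈ P', nb * ι y * nb⁻¹ ∈ ι.range := fun y hy => by
    rw [hnb y hy]; exact hxb y hy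
  obtain ⟨ψ, hψ⟩ := exists_conj_hom ι hιinj Q P' nb hnbN hP'n
  obtain ⟨⟨n, hnN⟩, hn⟩ := hπsurj nb
  have hnS : ∀ s : ↥(P : Subgroup G), θ s ∈ P' ⊔ Q → n * (s : G) * n⁻¹ ∈ (P : Subgroup G) := by
    intro s hs
    obtain ⟨t, ht⟩ := hθsurj (ψ ⟨θ s, hs⟩)
    have h1 := hψ ⟨θ s, hs⟩
    rw [← ht, hιmk, hιmk, ← hn, ← map_inv, ← map_mul, ← map_mul] at h1
    have h2 : π ((Subgroup.inclusion hPN t)⁻¹ *
        (⟨n, hnN⟩ * Subgroup.inclusion hPN s * ⟨n, hnN⟩⁻¹)) = 1 := by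
      rw [map_mul, map_inv, h1, inv_mul_cancel]
    have h4 : (t : G)⁻¹ * (n * (s : G) * n⁻¹) ∈ R := (hπker _).mp h2
    have h5 := (P : Subgroup G).mul_mem t.2 (hRP h4)
    rwa [mul_inv_cancel_left] at h5
  have hle : FusionSystem.preimageAlong θ (P' ⊔ Q) ≤ (P : Subgroup G) := by
    rintro _ ⟨s, -, rfl⟩
    exact s.2
  have hmem : ∀ x : ↥(FusionSystem.preimageAlong θ (P' ⊔ Q)), θ ⟨x, hle x.2⟩ ∈ P' ⊔ Q := by
    intro x
    obtain ⟨s, hs, hsx⟩ := x.2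
    have e : s = ⟨x, hle x.2⟩ := Subtype.ext hsx
    rw [← e]; exact hs
  have hS' : ∀ x : ↥(FusionSystem.preimageAlong θ (P' ⊔ Q)),
      Cfsg.conjHom (FusionSystem.preimageAlong θ (P' ⊔ Q)) n x ∈ (P : Subgroup G) :=
    fun x => hnS ⟨x, hle x.2⟩ (hmem x)
  refine ⟨ψ, ?_, ?_, ?_⟩
  · rw [hHom]
    refine ⟨le_top, Cfsg.conjHom (FusionSystem.preimageAlong θ (P' ⊔ Q)) n,
      ⟨hle, hS', n, fun x => rfl⟩, hle, hS', hmem, ?_⟩
    intro x
    apply hιinj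
    rw [hψ, ← hn]
    exact hconjπ n hnN ⟨x, hle x.2⟩ (hS' x)
  · rintro ⟨y, hy⟩
    obtain ⟨s, rfl⟩ := hθsurj y
    have h1 := hind ⟨s, hpre s hy⟩
    have h2 : φ' ⟨θ s, hy⟩ = θ ⟨φ ⟨s, hpre s hy⟩, hφS' _⟩ := h1
    rw [h2]
    apply hιinj
    rw [hψ]
    have e : (⟨φ ⟨s, hpre s hy⟩, hφS' _⟩ : ↥(P : Subgroup G)) =
        ⟨g * (s : G) * g⁻¹, hgS s hy⟩ := Subtype.ext (hg _)
    rw [e, ← hconjπ g hgN s (hgS s hy)]
    exact hnb (θ s) hy
  · ext z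
    constructor
    · rintro ⟨y, hy, rfl⟩
      have h1 : nb * ι (y : _) * nb⁻¹ ∈ Q.map ι :=
        ((Subgroup.mem_normalizer_iff.mp hnbN) (ι y)).1 ⟨y, hy, rfl⟩
      obtain ⟨w, hw, hwe⟩ := h1
      have h2 : ψ y = w := hιinj (by rw [hψ, hwe])
      rw [h2]; exact hw
    · intro hz
      have h1 : nb⁻¹ * ι z * nb⁻¹⁻¹ ∈ Q.map ι :=
        ((Subgroup.mem_normalizer_iff.mp (Subgroup.inv_mem _ hnbN)) (ι z)).1 ⟨z, hz, rfl⟩
      obtain ⟨w, hw, hwe⟩ := h1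
      refine ⟨⟨w, Subgroup.mem_sup_right hw⟩, hw, ?_⟩
      apply hιinj
      rw [hψ]
      show nb * ι w * nb⁻¹ = ι z
      rw [hwe]; group

end Cfsg.Agent.S5249
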