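import Cfsg.Statements.S5274
import Cfsg.Agent.Helper27.FusBasic
import Cfsg.Agent.Helper27.FusSat
import Cfsg.Agent.Helper27.FusInner
import Cfsg.Agent.S5132
import Cfsg.Agent.S5133
import Cfsg.Agent.S5134

set_option autoImplicit false
open Cfsg

namespace Cfsg.Agent.S5274

open Cfsg.FusionSystem Cfsg.Agent.Helper27

universe u

theorem isConjElt_iff {Ω : Type*} [Group Ω] {S : Subgroup Ω} (F : FusionSystem S) (x y : Ω) :
    F.IsConjElt x y ↔ ∃ f, Mor F (Subgroup.zpowers x) f ∧ f x = y := by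
  constructor
  · rintro ⟨φ, hφ, hxy⟩
    exact ⟨fn φ, mor_of_hom hφ, by rw [fn_of_mem φ (Subgroup.mem_zpowers x)]; exact hxy⟩
  · rintro ⟨f, ⟨φ, hφ, hφf⟩, hxy⟩
    exact ⟨φ, hφ, by rw [hφf]; exact hxy⟩

theorem mor_map_zpow {Ω : Type*} [Group Ω] {S : Subgroup Ω} {F : FusionSystem S} {P : Subgroup Ω}
    {f : Ω → Ω} (h : Mor F P f) {x : Ω} (hx : x ∈ P) (k : ℤ) : f (x ^ k) = f x ^ k := by
  cases k with
  | ofNat n => simpa using h.map_pow hx n
  | negSucc n =>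
    rw [zpow_negSucc, zpow_negSucc, h.map_inv (P.pow_mem hx _), h.map_pow hx]

/-- two involutions of `S` commute -/
theorem invol_comm {Ω : Type u} [Group Ω] {S : Subgroup Ω} [Finite S] (hS : IsPGroup 2 S)
    (F : FusionSystem S) (hF : F.IsSaturated 2)
    (h : ∀ x ∈ S, ∃ z ∈ S ⊓ Subgroup.centralizer (S : Set Ω), F.IsConjElt x z)
    {s t : Ω} (hs : s ∈ S) (ht : t ∈ S) (hs2 : s * s = 1) (ht2 : t * t = 1) : s * t = t * s := by
  haveI : Fact (Nat.Prime 2) := ⟨Nat.prime_two⟩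
  obtain ⟨r, hr⟩ : ∃ r, r = s * t := ⟨_, rfl⟩
  have hrS : r ∈ S := hr ▸ S.mul_mem hs ht
  have hsinv : s⁻¹ = s := inv_eq_of_mul_eq_one_left hs2
  have htinv : t⁻¹ = t := inv_eq_of_mul_eq_one_left ht2
  have hconj : s * r * s⁻¹ = r⁻¹ := by
    rw [hr, mul_inv_rev, htinv, hsinv, ← mul_assoc s s t, hs2, one_mul]
  obtain ⟨z, hz, hxz⟩ := h r hrS
  obtain ⟨f, hf, hfr⟩ := (isConjElt_iff F r z).mp hxz
  obtain ⟨g, hg, hgf, hg2, hgi⟩ := hf.exists_inv
  obtain ⟨Q, hQ⟩ : ∃ Q, Q = img (Subgroup.zpowers r) f := ⟨_, rfl⟩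
  rw [← hQ] at hg hg2 hgi
  have hPS : Subgroup.zpowers r ≤ S := hf.le
  have hQS : Q ≤ S := hg.le
  haveI : Finite Q := finite_of_le hQS
  have hinvr : ∀ x ∈ Subgroup.zpowers r, s * x * s⁻¹ = x⁻¹ := by
    intro x hx
    obtain ⟨k, rfl⟩ := Subgroup.mem_zpowers_iff.mp hx
    rw [← conj_zpow, hconj, inv_zpow]
  have hc : Mor F (Subgroup.zpowers r) (fun x => s * x * s⁻¹) := Mor.conj F hPS hs
  have h1 : Mor F Q ((fun x => s * x * s⁻¹) ∘ g) := hg.comp hc (fun y hy => (hg2 y hy).1)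
  have h2 : Mor F Q (f ∘ ((fun x => s * x * s⁻¹) ∘ g)) := by
    refine h1.comp hf (fun y hy => ?_)
    show s * g y * s⁻¹ ∈ Subgroup.zpowers r
    rw [hinvr _ (hg2 y hy).1]
    exact Subgroup.inv_mem _ (hg2 y hy).1
  have hψ : ∀ y ∈ Q, (f ∘ ((fun x => s * x * s⁻¹) ∘ g)) y = y⁻¹ := by
    intro y hy
    show f (s * g y * s⁻¹) = y⁻¹
    rw [hinvr _ (hg2 y hy).1, hf.map_inv (hg2 y hy).1, (hg2 y hy).2]
  obtain ⟨α, hα, hαf⟩ := exists_aut_of_mor h2 (fun y hy => by rw [hψ y hy]; exact Q.inv_mem hy)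
  have hQc : ∀ y ∈ Q, ∀ a ∈ S, a * y = y * a := by
    intro y hy a ha
    rw [hQ] at hy
    obtain ⟨x, hx, rfl⟩ := hf.mem_img.mp hy
    obtain ⟨k, rfl⟩ := Subgroup.mem_zpowers_iff.mp hx
    rw [mor_map_zpow hf (Subgroup.mem_zpowers r) k, hfr]
    have h3 : z ^ k ∈ Subgroup.centralizer (S : Set Ω) := Subgroup.zpow_mem _ hz.2 k
    exact (Subgroup.mem_centralizer_iff.mp h3) a ha
  have hQfn : F.IsFullyNormalized Q := by
    refine ⟨hQS, fun Q' _ => ?_⟩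
    have : Finite (normalizerIn S Q) := finite_of_le (normalizerIn_le S Q)
    refine Subgroup.card_le_of_le ((normalizerIn_le S Q').trans ?_)
    intro a ha
    refine ⟨ha, mem_normalizer_of_forall (fun y hy => ?_)⟩
    rw [hQc y hy a ha, mul_inv_cancel_right]
    exact hy
  obtain ⟨-, -, -, R, hR⟩ := fullyNormalized_props hS hF hQfn
  have hbot : autInducedBy S Q = ⊥ := by
    rw [eq_bot_iff]
    intro β hβ
    rw [mem_autInducedBy_iff] at hβ
    obtain ⟨a, ha, hβ⟩ := hβ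
    rw [Subgroup.mem_bot]
    apply MulEquiv.ext
    intro x
    apply Subtype.ext
    rw [hβ x, hQc x x.2 a ha, mul_inv_cancel_right]
    rfl
  rw [hbot, Subgroup.bot_subgroupOf] at hR
  have hodd : ¬ 2 ∣ Nat.card (F.autGroup Q) := by
    have h3 := R.not_dvd_index
    rw [hR, Subgroup.index_bot] at h3
    exact h3
  have hα2 : α * α = 1 := by
    apply MulEquiv.ext
    intro y
    apply Subtype.ext
    show ((α (α y) : Q) : Ω) = y
    rw [hαf, hψ _ (α y).2, hαf, hψ _ y.2, inv_inv]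
  have hα1 : α = 1 := by
    have h3 : orderOf (⟨α, hα⟩ : F.autGroup Q) ∣ 2 := by
      apply orderOf_dvd_of_pow_eq_one
      apply Subtype.ext
      rw [pow_two]
      exact hα2
    have h4 : orderOf (⟨α, hα⟩ : F.autGroup Q) ∣ Nat.card (F.autGroup Q) := orderOf_dvd_natCard _
    rcases (Nat.dvd_prime Nat.prime_two).mp h3 with h5 | h5
    · have h6 := orderOf_eq_one_iff.mp h5
      exact congrArg Subtype.val h6
    · exfalso
      rw [h5] at h4
      exact hodd h4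
  have hzQ : z ∈ Q := by
    rw [hQ, ← hfr]
    exact apply_mem_img (Subgroup.mem_zpowers r)
  have hz2 : z⁻¹ = z := by
    have h3 := hαf ⟨z, hzQ⟩
    rw [hα1, hψ z hzQ] at h3
    exact h3.symm
  have hzz : z * z = 1 := by
    nth_rewrite 1 [← hz2]
    exact inv_mul_cancel z
  have hrr : r * r = 1 := by
    apply hf.inj (Subgroup.mul_mem _ (Subgroup.mem_zpowers r) (Subgroup.mem_zpowers r))
      (Subgroup.one_mem _)
    rw [hf.map_mul (Subgroup.mem_zpowers r) (Subgroup.mem_zpowers r), hfr, hf.map_one, hzz]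
  rw [hr] at hrr
  calc s * t = (s * t) * ((s * t) * (t * s)) := by
        rw [mul_assoc s t (t * s), ← mul_assoc t t s, ht2, one_mul, hs2, mul_one]
    _ = (s * t * (s * t)) * (t * s) := (mul_assoc (s * t) (s * t) (t * s)).symm
    _ = t * s := by rw [hrr, one_mul]

theorem main (n : ℕ) : ∀ {Ω : Type u} [Group Ω] (S : Subgroup Ω) [Finite S], Nat.card S = n →
    IsPGroup 2 S → ∀ F : FusionSystem S, F.IsSaturated 2 →
    (∀ x ∈ S, ∃ z ∈ S ⊓ Subgroup.centralizer (S : Set Ω), F.IsConjElt x z) →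
    ∀ a ∈ S, ∀ b ∈ S, a * b = b * a := by
  induction n using Nat.strong_induction_on with
  | _ n ih =>
    intro Ω _ S _ hn hS F hF h
    haveI : Fact (Nat.Prime 2) := ⟨Nat.prime_two⟩
    by_cases htriv : ∀ x ∈ S, x = 1
    · intro a ha b hb
      rw [htriv a ha, htriv b hb]
    push Not at htriv
    obtain ⟨x₁, hx₁S, hx₁⟩ := htriv
    have hcomm : ∀ {s t : Ω}, s ∈ S → t ∈ S → s * s = 1 → t * t = 1 → s * t = t * s :=
      fun hs ht hs2 ht2 => invol_comm hS F hF h hs ht hs2 ht2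
    obtain ⟨E, hE⟩ : ∃ E : Subgroup Ω, ∀ x, x ∈ E ↔ (x ∈ S ∧ x * x = 1) :=
      ⟨{ carrier := {x | x ∈ S ∧ x * x = 1}
         mul_mem' := by
           rintro a b ⟨ha, ha2⟩ ⟨hb, hb2⟩
           refine ⟨S.mul_mem ha hb, ?_⟩
           have e1 : a * b * (a * b) = a * b * (b * a) :=
             congrArg (fun w => a * b * w) (hcomm ha hb ha2 hb2)
           rw [e1, mul_assoc, ← mul_assoc b b a, hb2, one_mul, ha2]
         one_mem' := ⟨S.one_mem, mul_one 1⟩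
         inv_mem' := by
           rintro a ⟨ha, ha2⟩
           have e1 : a⁻¹ = a := inv_eq_of_mul_eq_one_left ha2
           show a⁻¹ ∈ S ∧ a⁻¹ * a⁻¹ = 1
           rw [e1]
           exact ⟨ha, ha2⟩ }, fun x => Iff.rfl⟩
    have hES : E ≤ S := fun x hx => ((hE x).mp hx).1
    have hEsc : F.StronglyClosed E := by
      refine ⟨hES, fun R hR φ hφ x => ?_⟩
      rw [hE]
      refine ⟨(F.le_of_mem hφ).2 x, ?_⟩
      have h1 : (x : Ω) * (x : Ω) = 1 := ((hE _).mp (hR x.2)).2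
      have h2 : x * x = 1 := Subtype.ext h1
      rw [← map_mul, h2, map_one]
    haveI hEn : (E.subgroupOf S).Normal := by
      constructor
      intro n hn g
      rw [Subgroup.mem_subgroupOf] at hn ⊢
      rw [hE] at hn ⊢
      refine ⟨(g * n * g⁻¹).2, ?_⟩
      have h1 := hn.2
      show (g : Ω) * n * (g : Ω)⁻¹ * ((g : Ω) * n * (g : Ω)⁻¹) = 1
      have e1 : (g : Ω) * n * (g : Ω)⁻¹ * ((g : Ω) * n * (g : Ω)⁻¹) =
          (g : Ω) * ((n : Ω) * n) * (g : Ω)⁻¹ := by group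
      rw [e1, h1, mul_one, mul_inv_cancel]
    have hEne : ∃ y ∈ E, y ≠ 1 := by
      obtain ⟨k, hk⟩ := (IsPGroup.iff_orderOf.mp hS) ⟨x₁, hx₁S⟩
      have hk' : orderOf x₁ = 2 ^ k := by
        rw [← hk]
        exact (Subgroup.orderOf_mk x₁ hx₁S).symm
      have hk0 : k ≠ 0 := by
        intro h0
        rw [h0, pow_zero, orderOf_eq_one_iff] at hk'
        exact hx₁ hk'
      refine ⟨x₁ ^ 2 ^ (k - 1), ?_, ?_⟩
      · rw [hE]
        refine ⟨S.pow_mem hx₁S _, ?_⟩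
        rw [← pow_add, ← two_mul, ← pow_succ', Nat.sub_add_cancel (Nat.pos_of_ne_zero hk0), ← hk']
        exact pow_orderOf_eq_one x₁
      · apply pow_ne_one_of_lt_orderOf (by positivity)
        rw [hk']
        exact Nat.pow_lt_pow_right (by norm_num) (by omega)
    obtain ⟨F', hF'⟩ := Cfsg.Agent.S5132.result 2 hS F E hEsc
    have hsm := Cfsg.Agent.S5134.result 2 hS F hF E hEsc (QuotientGroup.mk' (E.subgroupOf S)) F' hF'
    have hF'sat := Cfsg.Agent.S5133.result 2 hS F hF F' (QuotientGroup.mk' (E.subgroupOf S)) hsm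
    obtain ⟨θ, hθ⟩ : ∃ θ : S →* S ⧸ E.subgroupOf S, θ = QuotientGroup.mk' (E.subgroupOf S) :=
      ⟨_, rfl⟩
    rw [← hθ] at hsm hF'
    obtain ⟨⟨-, hmor⟩, -, hlift⟩ := hsm
    have hθker : ∀ s : S, θ s = 1 ↔ (s : Ω) ∈ E := hF'.2.1
    have hθsurj : Function.Surjective θ := hθ ▸ QuotientGroup.mk'_surjective _
    have hS'p : IsPGroup 2 (⊤ : Subgroup (S ⧸ E.subgroupOf S)) :=
      (hS.to_quotient (E.subgroupOf S)).to_subgroup ⊤
    have hcard : Nat.card (⊤ : Subgroup (S ⧸ E.subgroupOf S)) < n := by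
      rw [Subgroup.card_top, ← hn,
        Subgroup.card_eq_card_quotient_mul_card_subgroup (E.subgroupOf S)]
      have h1 : 1 < Nat.card (E.subgroupOf S) := by
        obtain ⟨y, hyE, hy1⟩ := hEne
        rw [Finite.one_lt_card_iff_nontrivial]
        exact ⟨⟨⟨⟨y, hES hyE⟩, Subgroup.mem_subgroupOf.mpr hyE⟩, 1,
          fun h => hy1 (congrArg (fun w : E.subgroupOf S => ((w : S) : Ω)) h)⟩⟩
      have h2 : 0 < Nat.card (S ⧸ E.subgroupOf S) := Nat.card_pos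
      nlinarith
    have h' : ∀ x' ∈ (⊤ : Subgroup (S ⧸ E.subgroupOf S)),
        ∃ z' ∈ (⊤ : Subgroup (S ⧸ E.subgroupOf S)) ⊓
          Subgroup.centralizer (((⊤ : Subgroup (S ⧸ E.subgroupOf S)) : Set (S ⧸ E.subgroupOf S))),
          F'.IsConjElt x' z' := by
      intro x' _
      obtain ⟨x₀, rfl⟩ := hθsurj x'
      obtain ⟨z, hz, hxz⟩ := h x₀ x₀.2
      obtain ⟨φ, hφ, hφx⟩ := hxz
      obtain ⟨φ', hφ', hP, hφS, hP', hind⟩ := hmor _ φ hφ
      have hzS : z ∈ S := hz.1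
      refine ⟨θ ⟨z, hzS⟩, Subgroup.mem_inf.mpr ⟨Subgroup.mem_top _, ?_⟩, ?_⟩
      · rw [Subgroup.mem_centralizer_iff]
        intro y' _
        obtain ⟨y, rfl⟩ := hθsurj y'
        rw [← map_mul, ← map_mul]
        congr 1
        apply Subtype.ext
        exact (Subgroup.mem_centralizer_iff.mp hz.2) y y.2
      · rw [isConjElt_iff]
        have hx' : θ x₀ ∈ imageAlong θ (Subgroup.zpowers (x₀ : Ω)) :=
          hP' ⟨x₀, Subgroup.mem_zpowers _⟩
        refine ⟨fn φ', (mor_of_hom hφ').restrict ((Subgroup.zpowers_le).mpr hx'), ?_⟩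
        rw [fn_of_mem φ' hx']
        subst hφx
        exact hind ⟨x₀, Subgroup.mem_zpowers _⟩
    have hab' := ih _ hcard (⊤ : Subgroup (S ⧸ E.subgroupOf S)) rfl hS'p F' hF'sat h'
    have hdecomp : ∀ x ∈ S, ∃ w₁ ∈ S, ∃ w₂ ∈ S, (∀ y ∈ S, w₁ * y = y * w₁) ∧ w₂ * w₂ = 1 ∧
        x = w₁ * w₂ := by
      intro x hxS
      obtain ⟨z, hz, hxz⟩ := h x hxS
      obtain ⟨φ, hφ, hφx⟩ := hxz
      obtain ⟨φ', hφ', hP, hφS, hP', hind⟩ := hmor _ φ hφ
      have hzS : z ∈ S := hz.1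
      have hx' : θ ⟨x, hxS⟩ ∈ imageAlong θ (Subgroup.zpowers x) :=
        hP' ⟨x, Subgroup.mem_zpowers _⟩
      have hφ'x : φ' ⟨θ ⟨x, hxS⟩, hx'⟩ = θ ⟨z, hzS⟩ := by
        subst hφx
        exact hind ⟨x, Subgroup.mem_zpowers _⟩
      obtain ⟨κ', hκ', -, hκ'φ⟩ := abelian_extend hS'p hF'sat hab' (mor_of_hom hφ')
      have hκ'x : κ' (θ ⟨x, hxS⟩) = θ ⟨z, hzS⟩ := by
        rw [hκ'φ _ hx', fn_of_mem φ' hx', hφ'x]
      obtain ⟨κh, hκh, hκhκ'⟩ := hκ'
      obtain ⟨κ, hκ, hQ, hκS, hQ', hind2⟩ := hlift ⊤ le_rfl κh hκh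
      have hmemQ : ∀ y ∈ S, y ∈ preimageAlong θ (⊤ : Subgroup (S ⧸ E.subgroupOf S)) :=
        fun y hy => ⟨⟨y, hy⟩, Subgroup.mem_top _, rfl⟩
      obtain ⟨k, hk⟩ : ∃ k : S → S, ∀ y : S, ((k y : S) : Ω) = κ ⟨y, hmemQ y y.2⟩ :=
        ⟨fun y => ⟨κ ⟨y, hmemQ y y.2⟩, hκS _⟩, fun _ => rfl⟩
      have hkmul : ∀ a b : S, k (a * b) = k a * k b := by
        intro a b
        apply Subtype.ext
        rw [Subgroup.coe_mul, hk, hk, hk, ← map_mul]
        rfl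
      have hkinj : Function.Injective k := by
        intro a b hab
        have h1 : κ ⟨a, hmemQ a a.2⟩ = κ ⟨b, hmemQ b b.2⟩ := by rw [← hk, ← hk, hab]
        have h2 := F.injective_of_mem hκ h1
        exact Subtype.ext (congrArg (fun w : preimageAlong θ ⊤ => (w : Ω)) h2)
      have hksurj : Function.Surjective k := Finite.surjective_of_injective hkinj
      have hk1 : k 1 = 1 := by
        have h1 := hkmul 1 1
        rw [mul_one] at h1
        exact mul_eq_left.mp h1.symm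
      have hkθ : ∀ y : S, θ (k y) = κ' (θ y) := by
        intro y
        have h1 := hind2 ⟨y, hmemQ y y.2⟩
        rw [hκhκ'] at h1
        have h2 : k y = ⟨κ ⟨y, hmemQ y y.2⟩, hκS _⟩ := Subtype.ext (hk y)
        rw [h2]
        exact h1.symm
      have h3 : θ (k ⟨x, hxS⟩) = θ ⟨z, hzS⟩ := by rw [hkθ, hκ'x]
      obtain ⟨e, he⟩ : ∃ e : S, e = (⟨z, hzS⟩ : S)⁻¹ * k ⟨x, hxS⟩ := ⟨_, rfl⟩
      have heE : (e : Ω) ∈ E := by
        rw [← hθker, he, map_mul, map_inv, h3, inv_mul_cancel]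
      have hee : e * e = 1 := Subtype.ext ((hE _).mp heE).2
      obtain ⟨w₁, hw₁⟩ := hksurj ⟨z, hzS⟩
      obtain ⟨w₂, hw₂⟩ := hksurj e
      refine ⟨w₁, w₁.2, w₂, w₂.2, ?_, ?_, ?_⟩
      · intro y hy
        have h5 : k (w₁ * ⟨y, hy⟩) = k (⟨y, hy⟩ * w₁) := by
          rw [hkmul, hkmul, hw₁]
          apply Subtype.ext
          show z * (k ⟨y, hy⟩ : Ω) = (k ⟨y, hy⟩ : Ω) * z
          exact ((Subgroup.mem_centralizer_iff.mp hz.2) _ (k ⟨y, hy⟩).2).symm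
        exact congrArg (fun w : S => (w : Ω)) (hkinj h5)
      · have h5 : k (w₂ * w₂) = k 1 := by
          rw [hkmul, hw₂, hk1, hee]
        exact congrArg (fun w : S => (w : Ω)) (hkinj h5)
      · have h5 : k ⟨x, hxS⟩ = k (w₁ * w₂) := by
          rw [hkmul, hw₁, hw₂, he, mul_inv_cancel_left]
        exact congrArg (fun w : S => (w : Ω)) (hkinj h5)
    intro a ha b hb
    obtain ⟨w₁, hw₁, w₂, hw₂, hc₁, hi₁, rfl⟩ := hdecomp a ha
    obtain ⟨v₁, hv₁, v₂, hv₂, hc₂, hi₂, rfl⟩ := hdecomp b hb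
    have h5 := hcomm hw₂ hv₂ hi₁ hi₂
    have e1 : w₂ * v₁ = v₁ * w₂ := (hc₂ w₂ hw₂).symm
    have e2 : v₂ * w₁ = w₁ * v₂ := (hc₁ v₂ hv₂).symm
    have e3 : w₁ * v₁ = v₁ * w₁ := hc₁ v₁ hv₁
    calc w₁ * w₂ * (v₁ * v₂) = w₁ * (w₂ * v₁) * v₂ := by simp only [mul_assoc]
      _ = w₁ * (v₁ * w₂) * v₂ := by rw [e1]
      _ = (w₁ * v₁) * (w₂ * v₂) := by simp only [mul_assoc]
      _ = (v₁ * w₁) * (v₂ * w₂) := by rw [e3, h5]
      _ = v₁ * (w₁ * v₂) * w₂ := by simp only [mul_assoc]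
      _ = v₁ * (v₂ * w₁) * w₂ := by rw [e2]
      _ = v₁ * v₂ * (w₁ * w₂) := by simp only [mul_assoc]


/-- Let F be a saturated fusion system over a finite 2-group S. Suppose that every element of S is F-conjugate to an element of the centre Z(S) (some map of F defined on the cyclic subgroup it generates sends it into Z(S)). Then S is abelian. -/
theorem result {Ω : Type*} [Group Ω] {S : Subgroup Ω} [Finite S] (hS : IsPGroup 2 ↥S) (F : Cfsg.FusionSystem S) (hF : F.IsSaturated 2) (h : ∀ x ∈ S, ∃ z ∈ S ⊓ Subgroup.centralizer (S : Set Ω), F.IsConjElt x z) : IsMulCommutative ↥S := by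
  exact ⟨⟨fun a b => Subtype.ext (main _ S rfl hS F hF h a a.2 b b.2)⟩⟩

end Cfsg.Agent.S5274
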