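import Cfsg.Statements.S5283
import Cfsg.Agent.Helper27.SuperSolB


set_option autoImplicit false
open Cfsg

namespace Cfsg.Agent.S5283

/-- Call a saturated fusion system F over a finite p-group S supersoluble when S has a chain of subgroups 1 = S_0 ≤ S_1 ≤ … ≤ S_m = S, each strongly closed in F, with each S_{i+1} generated by S_i together with one further element (cyclic steps). Then every saturated fusion system over S is supersoluble if and only if S is normal in every saturated fusion system over S (S is resistant) and every subgroup of Aut(S) of order prime to p is abelian of exponent dividing p − 1. -/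
theorem result {Ω : Type*} [Group Ω] {S : Subgroup Ω} [Finite S] (p : ℕ) [Fact p.Prime] (hS : IsPGroup p ↥S) : (∀ F : Cfsg.FusionSystem S, F.IsSaturated p → (∃ (m : ℕ) (c : Fin (m + 1) → Subgroup Ω), c 0 = ⊥ ∧ c (Fin.last m) = S ∧ (∀ i : Fin (m + 1), F.StronglyClosed (c i)) ∧ ∀ i : Fin m, c i.castSucc ≤ c i.succ ∧ ∃ x ∈ S, c i.succ = c i.castSucc ⊔ Subgroup.zpowers x)) ↔ (∀ F : Cfsg.FusionSystem S, F.IsSaturated p → F.IsNormal S) ∧ ∀ H : Subgroup (MulAut ↥S), (Nat.card ↥H).Coprime p → IsMulCommutative ↥H ∧ ∀ h ∈ H, h ^ (p - 1) = 1 := by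
  constructor
  · intro hall
    have hall' : ∀ F : Cfsg.FusionSystem S, F.IsSaturated p → ∃ (m : ℕ) (c : ℕ → Subgroup Ω),
        c 0 = ⊥ ∧ c m = S ∧ (∀ i, F.StronglyClosed (c i)) ∧
        ∀ i, c i ≤ c (i + 1) ∧ ∃ x ∈ S, c (i + 1) = c i ⊔ Subgroup.zpowers x := by
      intro F hF
      obtain ⟨m, c, h0, hm, hc, hstep⟩ := hall F hF
      obtain ⟨D, hD0, hDm, hDc, hDs⟩ := Cfsg.Agent.Helper27.exists_nat_chain m c h0 hm
        (fun P => F.StronglyClosed P) hc hstep
      exact ⟨m, D, hD0, hDm, hDc, hDs⟩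
    refine ⟨fun F hF => ?_, fun H hH => ?_⟩
    · obtain ⟨m, c, h0, hm, hc, hstep⟩ := hall' F hF
      exact Cfsg.Agent.Helper27.normal_of_cyclic_chain hS hF m c h0 hm hc hstep
    · obtain ⟨hab, hexp⟩ := Cfsg.Agent.Helper27.pprime_abelian_of_chains hS hall' H hH
      exact ⟨⟨⟨fun a b => Subtype.ext (hab a a.2 b b.2)⟩⟩, hexp⟩
  · rintro ⟨hres, hH⟩ F hF
    obtain ⟨m, c, h0, hm, hc, hstep⟩ := Cfsg.Agent.Helper27.chain_of_resistant hS hF (hres F hF)
      (fun H hHc => ⟨fun a ha b hb => by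
        have h1 := (hH H hHc).1
        have h2 := h1.is_comm.comm (⟨a, ha⟩ : H) ⟨b, hb⟩
        exact congrArg Subtype.val h2, (hH H hHc).2⟩)
    exact ⟨m, fun i => c i.val, h0, hm, fun i => hc i.val, fun i => hstep i.val⟩

end Cfsg.Agent.S5283
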