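import Cfsg.Statements.S5284
import Cfsg.Agent.Helper27.SuperSolB
import Cfsg.Agent.Helper27.AbSuperE


set_option autoImplicit false
open Cfsg

namespace Cfsg.Agent.S5284

/-- Let S be a finite abelian p-group. Every saturated fusion system over S is supersoluble (S has a chain of F-strongly closed subgroups from 1 to S with cyclic steps) if and only if the invariants of S are pairwise distinct, that is, S is not isomorphic to a direct product (Z/p^n × Z/p^n) × H with n ≥ 1. -/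
theorem result {Ω : Type*} [Group Ω] {S : Subgroup Ω} [Finite S] (p : ℕ) [Fact p.Prime] (hS : IsPGroup p ↥S) (hab : IsMulCommutative ↥S) : (∀ F : Cfsg.FusionSystem S, F.IsSaturated p → (∃ (m : ℕ) (c : Fin (m + 1) → Subgroup Ω), c 0 = ⊥ ∧ c (Fin.last m) = S ∧ (∀ i : Fin (m + 1), F.StronglyClosed (c i)) ∧ ∀ i : Fin m, c i.castSucc ≤ c i.succ ∧ ∃ x ∈ S, c i.succ = c i.castSucc ⊔ Subgroup.zpowers x)) ↔ ¬ ∃ (n : ℕ) (H : Type) (_ : CommGroup H), 0 < n ∧ Nonempty (↥S ≃* (Multiplicative (ZMod (p ^ n)) × Multiplicative (ZMod (p ^ n))) × H) := by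
  have hcomm : ∀ a b : S, a * b = b * a := fun a b => hab.is_comm.comm a b
  constructor
  · intro hall
    have hall' : ∀ F : Cfsg.FusionSystem S, F.IsSaturated p → ∃ (m : ℕ) (c : ℕ → Subgroup Ω),
        c 0 = ⊥ ∧ c m = S ∧ (∀ i, F.StronglyClosed (c i)) ∧
        ∀ i, c i ≤ c (i + 1) ∧ ∃ x ∈ S, c (i + 1) = c i ⊔ Subgroup.zpowers x := by
      intro F hF
      obtain ⟨m, c, h0, hm, hc, hstep⟩ := hall F hF
      obtain ⟨D, hD0, hDm, hDc, hDs⟩ := Cfsg.Agent.Helper27.exists_nat_chain m c h0 hm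
        (fun P => F.StronglyClosed P) hc hstep
      exact ⟨m, D, hD0, hDm, hDc, hDs⟩
    rintro ⟨n, H, instH, hn, ⟨φ⟩⟩
    obtain ⟨K, hK, hbad⟩ := Cfsg.Agent.Helper27.exists_bad_pprime (p := p) hn φ
    exact hbad (Cfsg.Agent.Helper27.pprime_abelian_of_chains hS hall' K hK)
  · intro hno F hF
    have hSn : F.IsNormal S := by
      apply Cfsg.Agent.Helper27.normal_of_le_radicals hS hF (Cfsg.Agent.Helper27.stronglyClosed_top F)
      intro R hRn hRc hRr
      have h1 := hRc.2 R (Cfsg.Agent.Helper27.isConj_refl F hRn.1)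
      intro s hs
      apply h1
      rw [Cfsg.Agent.Helper27.mem_centralizerIn]
      refine ⟨hs, fun y hy => ?_⟩
      exact congrArg Subtype.val (hcomm ⟨y, hRn.1 hy⟩ ⟨s, hs⟩)
    obtain ⟨m, c, h0, hm, hc, hstep⟩ := Cfsg.Agent.Helper27.chain_of_resistant hS hF hSn
      (fun H hH => Cfsg.Agent.Helper27.pprime_abelian_of_norep hcomm hS hno H hH)
    exact ⟨m, fun i => c i.val, h0, hm, fun i => hc i.val, fun i => hstep i.val⟩

end Cfsg.Agent.S5284
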