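import Cfsg.Statements.S5298
import Cfsg.Agent.Helper27.SmallCyc

set_option autoImplicit false
universe u
open Cfsg

namespace Cfsg.Agent.S5298

open Cfsg.FusionSystem Cfsg.Agent.Helper27

/-- Let F be a saturated fusion system over a finite p-group S. If every map of F between cyclic subgroups of the hyperfocal subgroup of F of order p or 4 is conjugation by an element of S, then F is the inner fusion system of S. -/
theorem result {Ω : Type u} [Group Ω] {S : Subgroup Ω} [Finite S] (p : ℕ) [Fact p.Prime] (hS : IsPGroup p S)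
    (F : Cfsg.FusionSystem S) (hF : F.IsSaturated p)
    (h : ∀ A B : Subgroup Ω, A ≤ (F.hyperfocalSubgroup p) → B ≤ (F.hyperfocalSubgroup p) → IsCyclic ↥A → (Nat.card ↥A = p ∨ Nat.card ↥A = 4) → IsCyclic ↥B → (Nat.card ↥B = p ∨ Nat.card ↥B = 4) →
      F.homSet A B ⊆ (Cfsg.innerFusionSystem S).Hom A) :
    ∀ P : Subgroup Ω, F.Hom P = (Cfsg.innerFusionSystem S).Hom P := by
  have hTS := Helper26.hyperfocal_le F p
  have key : ∀ P : Subgroup Ω, P ≤ S → IsPGroup p (F.autGroup P) := by
    intro P hP
    have hfinP : Finite P := finite_of_le hP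
    apply isPGroup_of_coprime_trivial p
    intro g hg
    obtain ⟨α, hαdef⟩ : ∃ α : MulAut P, α = (g : MulAut P) := ⟨_, rfl⟩
    have hαA : α ∈ F.autGroup P := by rw [hαdef]; exact g.2
    have hord : orderOf α = orderOf g := by rw [hαdef, Subgroup.orderOf_coe]
    have hcop : Nat.Coprime (orderOf α) p := by rw [hord]; exact hg
    suffices hα1 : α = 1 by
      apply Subtype.ext
      rw [← hαdef, hα1]
      rfl
    have hP_p : IsPGroup p P := hS.to_le hP
    have hBT := autComm_le_hyperfocal (p := p) hP hαA hcop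
    apply aut_eq_one_of_autComm hP_p α hcop
    apply small_conj_trivial_aux p S (F.hyperfocalSubgroup p) hS hTS (Nat.card (autComm α))
      (autComm α) le_rfl (hP_p.to_subgroup _) (P.subtype.comp (autComm α).subtype)
      (Subtype.val_injective.comp Subtype.val_injective) (fun b => hBT b b.2) _
      (Helper1.restrictAut_coprime α _ (autComm_inv α) hcop)
    intro b hb
    show ∃ s ∈ S, ((α (b : P) : P) : Ω) = s * (((b : P) : P) : Ω) * s⁻¹
    by_cases hb1 : b = 1
    · refine ⟨1, S.one_mem, ?_⟩
      rw [hb1]
      simp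
    have hsm : ((b : P) ^ p = 1 ∨ (p = 2 ∧ (b : P) ^ 4 = 1)) := by
      rcases hb with hb | ⟨h2, hb⟩
      · left
        have := congrArg Subtype.val hb
        simpa using this
      · right
        refine ⟨h2, ?_⟩
        have := congrArg Subtype.val hb
        simpa using this
    have hb1' : (b : P) ≠ 1 := fun h0 => hb1 (Subtype.ext h0)
    have hordb := small_order hsm hb1'
    have hordΩ : orderOf (((b : P) : P) : Ω) = orderOf (b : P) := Subgroup.orderOf_coe _
    have hordα : orderOf ((α (b : P) : P) : Ω) = orderOf (b : P) := by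
      rw [Subgroup.orderOf_coe]
      exact MulEquiv.orderOf_eq α _
    obtain ⟨φ, hφ, hφb⟩ := exists_homSet_zpowers hP hαA (b : P)
    have hin := h (Subgroup.zpowers (((b : P) : P) : Ω)) (Subgroup.zpowers ((α (b : P) : P) : Ω))
      (by rw [Subgroup.zpowers_le]; exact hBT b b.2)
      (by rw [Subgroup.zpowers_le]; exact hBT _ (autComm_inv α b b.2))
      inferInstance (by rw [Nat.card_zpowers, hordΩ]; exact hordb)
      inferInstance (by rw [Nat.card_zpowers, hordα]; exact hordb) hφ
    obtain ⟨-, s, hs, hφs⟩ := hin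
    refine ⟨s, hs, ?_⟩
    rw [← hφb, hφs]
  have hFeq := Helper26.eq_inner_of_pgroup_auts p hS F hF key
  intro P
  exact congrArg (fun E : Cfsg.FusionSystem S => E.Hom P) hFeq

end Cfsg.Agent.S5298
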