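import Cfsg.Statements.S5299
-- import your own Cfsg.Agent.* helpers here

set_option autoImplicit false
universe u
open Cfsg

namespace Cfsg.Agent.S5299

universe v w

def Inv' (A : Type w) [Group A] (L : Type v) [Group L] : Prop :=
  ∃ (M : Type v) (_ : Group M) (i : M →* L) (f : M →* A), Function.Injective i ∧ Function.Surjective f

theorem inv'_of_involves {A : Type w} [Group A] {L : Type v} [Group L] (h : Cfsg.Involves A L) : Inv' A L := by
  obtain ⟨K, R, hN, ⟨e⟩⟩ := h
  exact ⟨K, inferInstance, K.subtype, e.toMonoidHom.comp (QuotientGroup.mk' _), Subgroup.subtype_injective K,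
    e.surjective.comp (QuotientGroup.mk'_surjective _)⟩

theorem involves_of_inv' {A : Type w} [Group A] {L : Type v} [Group L] (h : Inv' A L) : Cfsg.Involves A L := by
  obtain ⟨M, _, i, f, hi, hf⟩ := h
  let e₀ : M ≃* i.range := MonoidHom.ofInjective hi
  let f₀ : i.range →* A := f.comp e₀.symm.toMonoidHom
  have hf₀ : Function.Surjective f₀ := hf.comp e₀.symm.surjective
  have hEq : (f₀.ker.map i.range.subtype).subgroupOf i.range = f₀.ker :=
    Subgroup.comap_map_eq_self_of_injective (Subgroup.subtype_injective _) _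
  have hN : ((f₀.ker.map i.range.subtype).subgroupOf i.range).Normal := by
    rw [hEq]
    infer_instance
  refine ⟨i.range, f₀.ker.map i.range.subtype, hN, ?_⟩
  exact ⟨(QuotientGroup.quotientMulEquivOfEq hEq).trans (QuotientGroup.quotientKerEquivOfSurjective f₀ hf₀)⟩

theorem inv'_subgroup {H : Type w} [Group H] {L : Type v} [Group L] (h : Inv' H L) (Q : Subgroup H) :
    Inv' Q L := by
  obtain ⟨M, _, i, f, hi, hf⟩ := h
  refine ⟨↥(Q.comap f), inferInstance, i.comp (Q.comap f).subtype,
    (f.comp (Q.comap f).subtype).codRestrict Q (fun x => x.2), hi.comp (Subgroup.subtype_injective _), ?_⟩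
  intro q
  obtain ⟨m, hm⟩ := hf q
  exact ⟨⟨m, by
    show f m ∈ Q
    rw [hm]
    exact q.2⟩, Subtype.ext hm⟩

open scoped Pointwise in
theorem inv'_sylow {A : Type w} [Group A] {L : Type v} [Group L] [Finite L] (p : ℕ) [Fact p.Prime]
    (hA : IsPGroup p A) (h : Inv' A L) (T : Sylow p L) : Inv' A ↥(T : Subgroup L) := by
  obtain ⟨M, _, i, f, hi, hf⟩ := h
  haveI : Finite M := Finite.of_injective i hi
  obtain ⟨P⟩ := (Sylow.nonempty : Nonempty (Sylow p M))
  have hPtop : (P : Subgroup M).map f = ⊤ := by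
    have h1 : ((P.mapSurjective hf : Sylow p A) : Subgroup A) = (P : Subgroup M).map f := rfl
    rw [← h1]
    exact ((P.mapSurjective hf).3 (hA.to_subgroup ⊤) le_top).symm
  have hPi : IsPGroup p ((P : Subgroup M).map i) := P.2.map i
  obtain ⟨T', hT'⟩ := hPi.exists_le_sylow
  obtain ⟨g, hg⟩ := MulAction.exists_smul_eq L T' T
  have hmem : ∀ m : ↥(P : Subgroup M), (MulAut.conj g).toMonoidHom (i m) ∈ (T : Subgroup L) := by
    intro m
    have h0 : i m ∈ (T' : Subgroup L) := hT' ⟨m, m.2, rfl⟩
    have h1 : (MulAut.conj g) • (i m) ∈ (MulAut.conj g) • (T' : Subgroup L) :=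
      Subgroup.smul_mem_pointwise_smul _ _ _ h0
    have h2 : ((g • T' : Sylow p L) : Subgroup L) = MulAut.conj g • (T' : Subgroup L) :=
      Sylow.coe_subgroup_smul
    rw [← h2, hg] at h1
    exact h1
  refine ⟨↥(P : Subgroup M), inferInstance,
    (((MulAut.conj g).toMonoidHom.comp i).comp (P : Subgroup M).subtype).codRestrict (T : Subgroup L) hmem,
    f.comp (P : Subgroup M).subtype, ?_, ?_⟩
  · intro a b hab
    have h1 : (MulAut.conj g) (i a) = (MulAut.conj g) (i b) := congrArg Subtype.val hab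
    exact Subtype.ext (hi ((MulAut.conj g).injective h1))
  · intro a
    have ha : a ∈ (P : Subgroup M).map f := by rw [hPtop]; exact Subgroup.mem_top a
    obtain ⟨m, hm, rfl⟩ := ha
    exact ⟨⟨m, hm⟩, rfl⟩

theorem inv'_pullback {A : Type w} [Group A] {L : Type v} [Group L] {N : Type v} [Group N] (ι : N →* L)
    (hι : Function.Injective ι) (T : Subgroup L) (hT : T = ι.range) (h : Inv' A ↥T) : Inv' A N := by
  obtain ⟨M, _, i, f, hi, hf⟩ := h
  let e : N ≃* ι.range := MonoidHom.ofInjective hι
  have hmem : ∀ m : M, (T.subtype.comp i) m ∈ ι.range := fun m => hT ▸ (i m).2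
  refine ⟨M, inferInstance, e.symm.toMonoidHom.comp ((T.subtype.comp i).codRestrict ι.range hmem), f, ?_, hf⟩
  intro a b hab
  have h1 : (T.subtype.comp i).codRestrict ι.range hmem a = (T.subtype.comp i).codRestrict ι.range hmem b :=
    e.symm.injective hab
  have h2 := congrArg (fun x : ι.range => (x : L)) h1
  exact hi (Subtype.ext h2)

theorem inv'_inclusion {A : Type w} [Group A] {Ω : Type v} [Group Ω] {N S : Subgroup Ω} (hNS : N ≤ S)
    (h : Inv' A ↥N) : Inv' A ↥S := by
  obtain ⟨M, _, i, f, hi, hf⟩ := h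
  exact ⟨M, inferInstance, (Subgroup.inclusion hNS).comp i, f,
    (Subgroup.inclusion_injective hNS).comp hi, hf⟩


/-- Let F be a saturated fusion system over a finite p-group S, H a finite group and Q a p-subgroup of H. If Q is not involved in S (no section of S is isomorphic to Q), then F is H-free: H is involved in no model of the normalizer system of a fully normalized centric subgroup. -/
theorem result {Ω : Type u} [Group Ω] {S : Subgroup Ω} [Finite S] (p : ℕ) [Fact p.Prime] (hS : IsPGroup p S)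
    (F : Cfsg.FusionSystem S) (hF : F.IsSaturated p) (H : Type*) [Group H] [Finite H] (Q : Subgroup H) (hQ : IsPGroup p Q)
    (hfree : ¬ Cfsg.Involves (↥Q) (↥S)) : F.IsSectionFree p H := by
  intro Q' _ _ N _ L _ ι hM hInv
  obtain ⟨hfin, ⟨hιinj, -⟩, ⟨T, hT⟩, -⟩ := hM
  apply hfree
  apply involves_of_inv'
  have h1 : Inv' H L := inv'_of_involves hInv
  have h2 : Inv' Q L := inv'_subgroup h1 Q
  have h3 : Inv' Q ↥(T : Subgroup L) := inv'_sylow p hQ h2 T
  have h4 : Inv' Q ↥(Cfsg.FusionSystem.normalizerIn S Q') := inv'_pullback ι hιinj _ hT h3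
  exact inv'_inclusion (inf_le_left : Cfsg.FusionSystem.normalizerIn S Q' ≤ S) h4

end Cfsg.Agent.S5299
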