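import Cfsg.Statements.S5424
-- import your own Cfsg.Agent.* helpers here
import Cfsg.Agent.S1339
import Cfsg.Agent.S5421
import Cfsg.Agent.Helper1.Heis2
import Cfsg.Agent.Helper28.Basic

set_option autoImplicit false
open Cfsg

namespace Cfsg.Agent.S5424

open scoped Matrix commutatorElement
open Cfsg.Agent.S1339

/-- index embedding `Fin n → Fin (n+2)` missing `0, 1`. -/
def hi {n : ℕ} (k : Fin n) : Fin (n + 2) := k.succ.succ

theorem z2c (a : ZMod 2) : a = 0 ∨ a = 1 := by revert a; decide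

theorem z2s (a : ZMod 2) : a + a = 0 := by revert a; decide

theorem z2two : (2 : ZMod 2) = 0 := by decide

theorem idx3 {n : ℕ} (i : Fin (n + 2)) : i = 0 ∨ i = 1 ∨ ∃ k : Fin n, i = hi k := by
  refine Fin.cases (Or.inl rfl) (fun i' => ?_) i
  exact Fin.cases (Or.inr (Or.inl rfl)) (fun k => Or.inr (Or.inr ⟨k, rfl⟩)) i'

theorem hi_ne0 {n : ℕ} (k : Fin n) : hi k ≠ 0 := Fin.succ_ne_zero _

theorem hi_ne1 {n : ℕ} (k : Fin n) : hi k ≠ 1 := by
  intro h
  have := congrArg Fin.val h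
  simp [hi] at this

theorem hi_inj {n : ℕ} : Function.Injective (hi : Fin n → Fin (n + 2)) :=
  fun _ _ h => Fin.succ_injective _ (Fin.succ_injective _ h)

theorem one_ne0 {n : ℕ} : (1 : Fin (n + 2)) ≠ 0 := by
  intro h
  have := congrArg Fin.val h
  simp at this

theorem zero_ne1 {n : ℕ} : (0 : Fin (n + 2)) ≠ 1 := fun h => one_ne0 h.symm

theorem sum3 {n : ℕ} (f : Fin (n + 2) → ZMod 2) :
    ∑ j, f j = f 0 + f 1 + ∑ l : Fin n, f (hi l) := by
  rw [Fin.sum_univ_succ, Fin.sum_univ_succ, ← add_assoc]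
  rfl

theorem mv_apply {n : ℕ} (g : Matrix.SpecialLinearGroup (Fin (n + 2)) (ZMod 2)) (y : Fin (n + 2) → ZMod 2) (i : Fin (n + 2)) :
    mv g y i = g.1 i 0 * y 0 + g.1 i 1 * y 1 + ∑ l : Fin n, g.1 i (hi l) * y (hi l) := by
  unfold mv
  rw [Matrix.mulVec, dotProduct, sum3]

theorem mv_single {n : ℕ} (g : Matrix.SpecialLinearGroup (Fin (n + 2)) (ZMod 2)) (j i : Fin (n + 2)) :
    mv g (Pi.single j 1) i = g.1 i j := by
  unfold mv
  rw [Matrix.mulVec_single_one]
  rfl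

theorem mv_zero {n : ℕ} (g : Matrix.SpecialLinearGroup (Fin (n + 2)) (ZMod 2)) : mv g 0 = 0 := by
  unfold mv; rw [Matrix.mulVec_zero]

theorem mul_entry {n : ℕ} (g h : Matrix.SpecialLinearGroup (Fin (n + 2)) (ZMod 2)) (i j : Fin (n + 2)) :
    (g * h).1 i j = g.1 i 0 * h.1 0 j + g.1 i 1 * h.1 1 j
      + ∑ m : Fin n, g.1 i (hi m) * h.1 (hi m) j := by
  rw [Matrix.SpecialLinearGroup.coe_mul, Matrix.mul_apply, sum3]

/-- the transvection `1 + E_{ij}` as an element of `SL`. -/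
def tv {n : ℕ} (i j : Fin (n + 2)) : Matrix.SpecialLinearGroup (Fin (n + 2)) (ZMod 2) :=
  if h : i = j then 1 else ⟨Matrix.transvection i j 1, Matrix.det_transvection_of_ne i j h 1⟩

theorem tv_mv {n : ℕ} {i j : Fin (n + 2)} (h : i ≠ j) (y : Fin (n + 2) → ZMod 2) :
    mv (tv i j) y = y + y j • (Pi.single i (1 : ZMod 2) : Fin (n + 2) → ZMod 2) := by
  have e : tv i j = (⟨Matrix.transvection i j 1, Matrix.det_transvection_of_ne i j h 1⟩ :
      Matrix.SpecialLinearGroup (Fin (n + 2)) (ZMod 2)) := dif_neg h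
  rw [e]
  exact transv_mv i j y

theorem tv_entry {n : ℕ} {i j : Fin (n + 2)} (h : i ≠ j) (a b : Fin (n + 2)) :
    (tv i j).1 a b = (if a = b then 1 else 0) + (if j = b then 1 else 0) * (if a = i then 1 else 0) := by
  rw [← mv_single (tv i j) b a, tv_mv h]
  simp only [Pi.add_apply, Pi.smul_apply, Pi.single_apply, smul_eq_mul]

theorem tv_mem_PT {n : ℕ} {i j : Fin (n + 2)} (h : i ≠ j) : tv i j ∈ PT (ZMod 2) i := by
  refine ⟨?_, fun y k hk => ?_⟩
  · rw [tv_mv h]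
    simp [Pi.single_apply, Ne.symm h]
  · rw [tv_mv h]
    simp [Pi.single_apply, hk]

theorem cent_fix {n : ℕ} {i j : Fin (n + 2)} (h : i ≠ j) {c : Matrix.SpecialLinearGroup (Fin (n + 2)) (ZMod 2)}
    (hc : c ∈ Subgroup.centralizer ({tv i j} : Set (Matrix.SpecialLinearGroup (Fin (n + 2)) (ZMod 2)))) :
    mv c (Pi.single i 1) = Pi.single i 1 ∧ ∀ y, mv c y j = y j := by
  have hcomm : c * tv i j = tv i j * c :=
    (Subgroup.mem_centralizer_iff.mp hc _ (Set.mem_singleton _)).symm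
  have key : ∀ y : Fin (n + 2) → ZMod 2, y j • mv c (Pi.single i 1)
      = mv c y j • (Pi.single i (1 : ZMod 2) : Fin (n + 2) → ZMod 2) := by
    intro y
    have h1 := congrArg (fun g => mv g y) hcomm
    simp only [mv_mul, tv_mv h, mv_add, mv_smul] at h1
    exact add_left_cancel h1
  have h3 := key (Pi.single j 1)
  rw [Pi.single_eq_same, one_smul] at h3
  have h5 : mv c (Pi.single j 1) j = 1 := by
    rcases z2c (mv c (Pi.single j 1) j) with h0 | h0
    · exfalso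
      rw [h0, zero_smul] at h3
      have h6 : mv c⁻¹ (mv c (Pi.single i 1))
          = (Pi.single i (1 : ZMod 2) : Fin (n + 2) → ZMod 2) := mv_inv_l _ _
      rw [h3, mv_zero] at h6
      have := congrFun h6 i
      simp at this
    · exact h0
  rw [h5, one_smul] at h3
  refine ⟨h3, fun y => ?_⟩
  have h7 := congrFun (key y) i
  rw [h3] at h7
  simpa using h7.symm

theorem mem_cent {n : ℕ} {i j : Fin (n + 2)} (h : i ≠ j) {c : Matrix.SpecialLinearGroup (Fin (n + 2)) (ZMod 2)}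
    (h1 : mv c (Pi.single i 1) = Pi.single i 1) (h2 : ∀ y, mv c y j = y j) :
    c ∈ Subgroup.centralizer ({tv i j} : Set (Matrix.SpecialLinearGroup (Fin (n + 2)) (ZMod 2))) := by
  rw [Subgroup.mem_centralizer_iff]
  intro u hu
  rw [Set.mem_singleton_iff] at hu
  subst hu
  apply mv_ext
  intro y
  rw [mv_mul, mv_mul, tv_mv h, tv_mv h, mv_add, mv_smul, h1, h2]

theorem PT_le_cent {n : ℕ} {i j : Fin (n + 2)} (h : i ≠ j) :
    PT (ZMod 2) i ≤ Subgroup.centralizer ({tv i j} : Set (Matrix.SpecialLinearGroup (Fin (n + 2)) (ZMod 2))) := fun _ hg =>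
  mem_cent h hg.1 (fun y => hg.2 y j (fun hji => h hji.symm))

theorem cent_le_norm_PT {n : ℕ} {i j : Fin (n + 2)} (h : i ≠ j) :
    Subgroup.centralizer ({tv i j} : Set (Matrix.SpecialLinearGroup (Fin (n + 2)) (ZMod 2)))
      ≤ Subgroup.normalizer ((PT (ZMod 2) i : Subgroup (Matrix.SpecialLinearGroup (Fin (n + 2)) (ZMod 2))) : Set (Matrix.SpecialLinearGroup (Fin (n + 2)) (ZMod 2))) := by
  have hconj : ∀ c ∈ Subgroup.centralizer ({tv i j} : Set (Matrix.SpecialLinearGroup (Fin (n + 2)) (ZMod 2))),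
      ∀ g ∈ PT (ZMod 2) i, c * g * c⁻¹ ∈ PT (ZMod 2) i := by
    intro c hc g hg
    have hA := (cent_fix h hc).1
    have hci : mv c⁻¹ (Pi.single i 1) = (Pi.single i (1 : ZMod 2) : Fin (n + 2) → ZMod 2) := by
      calc mv c⁻¹ (Pi.single i 1) = mv c⁻¹ (mv c (Pi.single i 1)) := by rw [hA]
        _ = Pi.single i 1 := mv_inv_l _ _
    refine ⟨?_, fun y k hk => ?_⟩
    · rw [mv_mul, mv_mul, hci, hg.1, hA]
    · rw [mv_mul, mv_mul, PT_form hg (mv c⁻¹ y), mv_add, mv_smul, hA, mv_inv_r]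
      simp [hk]
  intro c hc
  rw [Subgroup.mem_normalizer_iff]
  intro g
  constructor
  · exact hconj c hc g
  · intro hg
    have := hconj c⁻¹ (Subgroup.inv_mem _ hc) _ hg
    have e : c⁻¹ * (c * g * c⁻¹) * c⁻¹⁻¹ = g := by group
    rwa [e] at this

theorem PT_pgroup {n : ℕ} (i : Fin (n + 2)) : IsPGroup 2 (PT (ZMod 2) i : Subgroup (Matrix.SpecialLinearGroup (Fin (n + 2)) (ZMod 2))) := by
  intro g
  refine ⟨1, ?_⟩
  apply Subtype.ext
  rw [pow_one]
  simpa using PT_sq (by decide : (2 : ZMod 2) = 0) g.2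

theorem PT_le_core {n : ℕ} {i j : Fin (n + 2)} (h : i ≠ j) :
    PT (ZMod 2) i ≤ (Cfsg.pCore 2 ↥(Subgroup.centralizer ({tv i j} : Set (Matrix.SpecialLinearGroup (Fin (n + 2)) (ZMod 2))))).map
      (Subgroup.centralizer ({tv i j} : Set (Matrix.SpecialLinearGroup (Fin (n + 2)) (ZMod 2)))).subtype := by
  intro d hd
  exact ⟨⟨d, PT_le_cent h hd⟩,
    Cfsg.Agent.Helper18.mem_pCore_of_mem_normalized _ _ (PT_pgroup i) (cent_le_norm_PT h) d
      (PT_le_cent h hd) hd, rfl⟩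

/-- the candidate for `O_2(C(z))`. -/
def Q0 (n : ℕ) : Subgroup (Matrix.SpecialLinearGroup (Fin (n + 2)) (ZMod 2)) where
  carrier := {g | mv g (Pi.single 0 1) = Pi.single 0 1 ∧ (∀ y, mv g y 1 = y 1) ∧
    ∀ y, y 1 = 0 → ∀ k : Fin n, mv g y (hi k) = y (hi k)}
  one_mem' := ⟨mv_one _, fun y => by rw [mv_one], fun y _ k => by rw [mv_one]⟩
  mul_mem' := by
    rintro a b ⟨ha1, ha2, ha3⟩ ⟨hb1, hb2, hb3⟩
    refine ⟨by rw [mv_mul, hb1, ha1], fun y => by rw [mv_mul, ha2, hb2], fun y hy k => ?_⟩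
    rw [mv_mul, ha3 _ (by rw [hb2, hy]) k, hb3 y hy k]
  inv_mem' := by
    rintro a ⟨ha1, ha2, ha3⟩
    refine ⟨?_, fun y => ?_, fun y hy k => ?_⟩
    · calc mv a⁻¹ (Pi.single 0 1) = mv a⁻¹ (mv a (Pi.single 0 1)) := by rw [ha1]
        _ = Pi.single 0 1 := mv_inv_l _ _
    · have := ha2 (mv a⁻¹ y)
      rw [mv_inv_r] at this
      exact this.symm
    · have h1 : mv a⁻¹ y 1 = 0 := by
        have := ha2 (mv a⁻¹ y)
        rw [mv_inv_r] at this
        rw [← this]; exact hy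
      have := ha3 (mv a⁻¹ y) h1 k
      rw [mv_inv_r] at this
      exact this.symm

theorem Q0_le_cent (n : ℕ) : Q0 n ≤ Subgroup.centralizer ({tv 0 1} : Set (Matrix.SpecialLinearGroup (Fin (n + 2)) (ZMod 2))) :=
  fun _ hg => mem_cent zero_ne1 hg.1 hg.2.1

theorem PT_le_Q0 (n : ℕ) : PT (ZMod 2) (0 : Fin (n + 2)) ≤ Q0 n := fun _ hg =>
  ⟨hg.1, fun y => hg.2 y 1 one_ne0, fun y _ k => hg.2 y (hi k) (hi_ne0 k)⟩

theorem eq_add_e0 {n : ℕ} (x y : Fin (n + 2) → ZMod 2) (h1 : x 1 = y 1)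
    (h2 : ∀ k : Fin n, x (hi k) = y (hi k)) :
    ∃ lam : ZMod 2, x = y + lam • (Pi.single 0 (1 : ZMod 2) : Fin (n + 2) → ZMod 2) := by
  refine ⟨x 0 + y 0, ?_⟩
  funext i
  rcases idx3 i with rfl | rfl | ⟨k, rfl⟩
  · simp only [Pi.add_apply, Pi.smul_apply, Pi.single_eq_same, smul_eq_mul, mul_one]
    rw [add_comm (x 0), ← add_assoc, z2s, zero_add]
  · simp [h1, Pi.single_apply, one_ne0]
  · simp [h2 k, Pi.single_apply, hi_ne0]

theorem cent_le_norm_Q0 (n : ℕ) :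
    Subgroup.centralizer ({tv 0 1} : Set (Matrix.SpecialLinearGroup (Fin (n + 2)) (ZMod 2)))
      ≤ Subgroup.normalizer ((Q0 n : Subgroup (Matrix.SpecialLinearGroup (Fin (n + 2)) (ZMod 2))) : Set (Matrix.SpecialLinearGroup (Fin (n + 2)) (ZMod 2))) := by
  have hconj : ∀ c ∈ Subgroup.centralizer ({tv 0 1} : Set (Matrix.SpecialLinearGroup (Fin (n + 2)) (ZMod 2))),
      ∀ g ∈ Q0 n, c * g * c⁻¹ ∈ Q0 n := by
    intro c hc g hg
    obtain ⟨hA, hB⟩ := cent_fix zero_ne1 hc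
    obtain ⟨hA', hB'⟩ := cent_fix zero_ne1 (Subgroup.inv_mem _ hc)
    refine ⟨?_, fun y => ?_, fun y hy k => ?_⟩
    · rw [mv_mul, mv_mul, hA', hg.1, hA]
    · rw [mv_mul, mv_mul, hB, hg.2.1, hB']
    · have h1 : mv c⁻¹ y 1 = 0 := by rw [hB', hy]
      obtain ⟨lam, h2⟩ := eq_add_e0 (mv g (mv c⁻¹ y)) (mv c⁻¹ y) (hg.2.1 _)
        (fun k => hg.2.2 _ h1 k)
      rw [mv_mul, mv_mul, h2, mv_add, mv_smul, hA, mv_inv_r]
      simp [hi_ne0, Pi.single_apply]
  intro c hc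
  rw [Subgroup.mem_normalizer_iff]
  intro g
  constructor
  · exact hconj c hc g
  · intro hg
    have := hconj c⁻¹ (Subgroup.inv_mem _ hc) _ hg
    have e : c⁻¹ * (c * g * c⁻¹) * c⁻¹⁻¹ = g := by group
    rwa [e] at this

theorem Q0_entries {n : ℕ} {g : Matrix.SpecialLinearGroup (Fin (n + 2)) (ZMod 2)} (hg : g ∈ Q0 n) :
    (∀ i, g.1 i 0 = if i = 0 then 1 else 0) ∧ (∀ j, g.1 1 j = if j = 1 then 1 else 0) ∧
    (∀ k l : Fin n, g.1 (hi k) (hi l) = if k = l then 1 else 0) := by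
  refine ⟨fun i => ?_, fun j => ?_, fun k l => ?_⟩
  · rw [← mv_single g 0 i, hg.1, Pi.single_apply]
  · rw [← mv_single g j 1, hg.2.1, Pi.single_apply]
    by_cases hj : j = 1
    · subst hj; simp
    · simp [hj, Ne.symm hj]
  · rw [← mv_single g (hi l) (hi k),
      hg.2.2 _ (by simp [Pi.single_apply, (hi_ne1 l).symm]) k, Pi.single_apply]
    simp [hi_inj.eq_iff]

theorem Q0_form_hi {n : ℕ} {g : Matrix.SpecialLinearGroup (Fin (n + 2)) (ZMod 2)} (hg : g ∈ Q0 n) (y : Fin (n + 2) → ZMod 2) (k : Fin n) :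
    mv g y (hi k) = y (hi k) + g.1 (hi k) 1 * y 1 := by
  obtain ⟨h1, h2, h3⟩ := Q0_entries hg
  rw [mv_apply, h1, if_neg (hi_ne0 k), zero_mul, zero_add]
  simp only [h3]
  rw [add_comm]
  congr 1
  simp

theorem Q0_form_0 {n : ℕ} {g : Matrix.SpecialLinearGroup (Fin (n + 2)) (ZMod 2)} (hg : g ∈ Q0 n) (y : Fin (n + 2) → ZMod 2) :
    mv g y 0 = y 0 + g.1 0 1 * y 1 + ∑ l : Fin n, g.1 0 (hi l) * y (hi l) := by
  obtain ⟨h1, h2, h3⟩ := Q0_entries hg
  rw [mv_apply, h1, if_pos rfl, one_mul]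

theorem uu_mul {n : ℕ} {g h : Matrix.SpecialLinearGroup (Fin (n + 2)) (ZMod 2)} (hg : g ∈ Q0 n) (hh : h ∈ Q0 n) (l : Fin n) :
    (g * h).1 0 (hi l) = g.1 0 (hi l) + h.1 0 (hi l) := by
  obtain ⟨h1, h2, h3⟩ := Q0_entries hh
  rw [← mv_single (g * h) (hi l) 0, mv_mul, Q0_form_0 hg]
  simp only [mv_single, h2, h3, if_neg (hi_ne1 l)]
  simp [add_comm]

theorem cc_mul {n : ℕ} {g h : Matrix.SpecialLinearGroup (Fin (n + 2)) (ZMod 2)} (hg : g ∈ Q0 n) (hh : h ∈ Q0 n) (k : Fin n) :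
    (g * h).1 (hi k) 1 = g.1 (hi k) 1 + h.1 (hi k) 1 := by
  obtain ⟨h1, h2, h3⟩ := Q0_entries hh
  rw [← mv_single (g * h) 1 (hi k), mv_mul, Q0_form_hi hg]
  simp only [mv_single, h2, ↓reduceIte, mul_one]
  rw [add_comm]

theorem ker_cases {n : ℕ} {g : Matrix.SpecialLinearGroup (Fin (n + 2)) (ZMod 2)} (hg : g ∈ Q0 n) (hu : ∀ l : Fin n, g.1 0 (hi l) = 0)
    (hc : ∀ k : Fin n, g.1 (hi k) 1 = 0) : g = 1 ∨ g = tv 0 1 := by
  have key : ∀ y : Fin (n + 2) → ZMod 2,
      mv g y = y + (g.1 0 1 * y 1) • (Pi.single 0 (1 : ZMod 2) : Fin (n + 2) → ZMod 2) := by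
    intro y
    funext i
    rcases idx3 i with rfl | rfl | ⟨k, rfl⟩
    · rw [Q0_form_0 hg]
      simp [hu]
    · rw [hg.2.1]
      simp [Pi.single_apply, one_ne0]
    · rw [Q0_form_hi hg, hc]
      simp [Pi.single_apply, hi_ne0]
  rcases z2c (g.1 0 1) with h | h
  · left
    apply mv_ext
    intro y
    rw [key, h, mv_one]
    simp
  · right
    apply mv_ext
    intro y
    rw [key, h, tv_mv zero_ne1, one_mul]

theorem tv_hi1_mem {n : ℕ} (k : Fin n) : tv (hi k) 1 ∈ Q0 n := by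
  refine ⟨?_, fun y => ?_, fun y hy l => ?_⟩
  · rw [tv_mv (hi_ne1 k)]
    simp [Pi.single_apply, one_ne0]
  · rw [tv_mv (hi_ne1 k)]
    simp [Pi.single_apply, (hi_ne1 k).symm]
  · rw [tv_mv (hi_ne1 k), hy, zero_smul, add_zero]

theorem tv0_mem {n : ℕ} {j : Fin (n + 2)} (h : (0 : Fin (n + 2)) ≠ j) : tv 0 j ∈ Q0 n :=
  PT_le_Q0 n (tv_mem_PT h)

/-- an element of `Q0` commuting with all of `Q0` has trivial `u`- and `c`-parts. -/
theorem comm_data {n : ℕ} {x : Matrix.SpecialLinearGroup (Fin (n + 2)) (ZMod 2)} (hx : x ∈ Q0 n) (hcomm : ∀ q ∈ Q0 n, q * x = x * q) :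
    (∀ l : Fin n, x.1 0 (hi l) = 0) ∧ (∀ k : Fin n, x.1 (hi k) 1 = 0) := by
  refine ⟨fun l => ?_, fun k => ?_⟩
  · have hne : hi l ≠ (1 : Fin (n + 2)) := hi_ne1 l
    have h1 := congrArg (fun g => mv g (Pi.single 1 1)) (hcomm _ (tv_hi1_mem l))
    simp only [mv_mul, tv_mv hne, mv_add, mv_smul] at h1
    have h1 := congrFun h1 0
    simp only [mv_single, Pi.add_apply, Pi.smul_apply, smul_eq_mul, Pi.single_apply] at h1
    have h2 := (Q0_entries hx).2.1 1
    simp only [if_true] at h2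
    rw [h2] at h1
    simpa [one_ne0, (hi_ne0 l).symm] using h1.symm
  · have hne : (0 : Fin (n + 2)) ≠ hi k := (hi_ne0 k).symm
    have h1 := congrArg (fun g => mv g (Pi.single 1 1)) (hcomm _ (tv0_mem hne))
    simp only [mv_mul, tv_mv hne, mv_add, mv_smul] at h1
    have h1 := congrFun h1 0
    simp only [mv_single, Pi.add_apply, Pi.smul_apply, smul_eq_mul, Pi.single_apply] at h1
    have h2 := (Q0_entries hx).1 0
    simp only [if_true] at h2
    rw [h2] at h1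
    simpa [one_ne0, hi_ne1 k] using h1

/-- the homomorphism recording the `u`- and `c`-parts. -/
def DD (n : ℕ) : ↥(Q0 n) →* Multiplicative ((Fin n → ZMod 2) × (Fin n → ZMod 2)) :=
  MonoidHom.mk' (fun g => Multiplicative.ofAdd
    ((fun l => g.1.1 0 (hi l) : Fin n → ZMod 2), (fun k => g.1.1 (hi k) 1 : Fin n → ZMod 2))) (by
    intro g h
    show Multiplicative.ofAdd _ = Multiplicative.ofAdd (_ + _)
    congr 1
    refine Prod.ext (funext fun l => ?_) (funext fun k => ?_)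
    · exact uu_mul g.2 h.2 l
    · exact cc_mul g.2 h.2 k)

/-- the homomorphism recording the `c`-part. -/
def CCh (n : ℕ) : ↥(Q0 n) →* Multiplicative (Fin n → ZMod 2) :=
  MonoidHom.mk' (fun g => Multiplicative.ofAdd (fun k => g.1.1 (hi k) 1 : Fin n → ZMod 2)) (by
    intro g h
    show Multiplicative.ofAdd _ = Multiplicative.ofAdd (_ + _)
    congr 1
    funext k
    exact cc_mul g.2 h.2 k)

/-- the central involution, as an element of `Q0`. -/
def z0 (n : ℕ) : ↥(Q0 n) := ⟨tv 0 1, tv0_mem zero_ne1⟩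

theorem tv01_ne_one (n : ℕ) : (tv 0 1 : Matrix.SpecialLinearGroup (Fin (n + 2)) (ZMod 2)) ≠ 1 := by
  intro h
  have h1 := tv_entry (n := n) zero_ne1 0 1
  rw [h, Matrix.SpecialLinearGroup.coe_one, Matrix.one_apply_ne zero_ne1] at h1
  simp [zero_ne1] at h1

theorem z0_ne_one (n : ℕ) : z0 n ≠ 1 := fun h => tv01_ne_one n (congrArg Subtype.val h)

theorem z0_sq (n : ℕ) : z0 n ^ 2 = 1 :=
  Subtype.ext (PT_sq (by decide : (2 : ZMod 2) = 0) (tv_mem_PT zero_ne1))

theorem order_z0 (n : ℕ) : orderOf (z0 n) = 2 := orderOf_eq_prime (z0_sq n) (z0_ne_one n)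

theorem mem_zp_of_data {n : ℕ} {x : ↥(Q0 n)} (hu : ∀ l : Fin n, x.1.1 0 (hi l) = 0)
    (hc : ∀ k : Fin n, x.1.1 (hi k) 1 = 0) : x ∈ Subgroup.zpowers (z0 n) := by
  rcases ker_cases x.2 hu hc with h1 | h1
  · have : x = 1 := Subtype.ext h1
    rw [this]; exact Subgroup.one_mem _
  · have : x = z0 n := Subtype.ext h1
    rw [this]; exact Subgroup.mem_zpowers _

theorem mem_zp_of_DD {n : ℕ} {x : ↥(Q0 n)} (h : DD n x = 1) : x ∈ Subgroup.zpowers (z0 n) := by
  have h' : ((fun l => x.1.1 0 (hi l) : Fin n → ZMod 2), (fun k => x.1.1 (hi k) 1 : Fin n → ZMod 2))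
      = ((0 : Fin n → ZMod 2), (0 : Fin n → ZMod 2)) := Multiplicative.ofAdd.injective h
  exact mem_zp_of_data (fun l => congrFun (congrArg Prod.fst h') l)
    (fun k => congrFun (congrArg Prod.snd h') k)

theorem DD_z0 (n : ℕ) : DD n (z0 n) = 1 := by
  have h : ((fun l => (z0 n).1.1 0 (hi l) : Fin n → ZMod 2),
      (fun k => (z0 n).1.1 (hi k) 1 : Fin n → ZMod 2)) = ((0 : Fin n → ZMod 2), (0 : Fin n → ZMod 2)) := by
    refine Prod.ext (funext fun l => ?_) (funext fun k => ?_)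
    · show (tv 0 1 : Matrix.SpecialLinearGroup (Fin (n + 2)) (ZMod 2)).1 0 (hi l) = 0
      rw [tv_entry zero_ne1]
      simp [(hi_ne0 l).symm, (hi_ne1 l).symm]
    · show (tv 0 1 : Matrix.SpecialLinearGroup (Fin (n + 2)) (ZMod 2)).1 (hi k) 1 = 0
      rw [tv_entry zero_ne1]
      simp [hi_ne0 k, hi_ne1 k]
  exact congrArg Multiplicative.ofAdd h

theorem ker_DD (n : ℕ) : (DD n).ker = Subgroup.zpowers (z0 n) :=
  le_antisymm (fun _ hx => mem_zp_of_DD (MonoidHom.mem_ker.mp hx))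
    (Subgroup.zpowers_le.mpr (MonoidHom.mem_ker.mpr (DD_z0 n)))

theorem mult_sq {n : ℕ} (w : Multiplicative ((Fin n → ZMod 2) × (Fin n → ZMod 2))) : w ^ 2 = 1 := by
  rw [pow_two]
  show Multiplicative.ofAdd (Multiplicative.toAdd w + Multiplicative.toAdd w) = Multiplicative.ofAdd 0
  congr 1
  exact Prod.ext (funext fun l => z2s _) (funext fun l => z2s _)

theorem esdata (n : ℕ) : Cfsg.Agent.Helper1.ESData 2 ↥(Q0 n) (z0 n) where
  hz1 := z0_ne_one n
  hzp := z0_sq n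
  hcen := by
    apply le_antisymm
    · intro x hx
      obtain ⟨hu, hc⟩ := comm_data x.2 (fun q hq =>
        congrArg Subtype.val (Subgroup.mem_center_iff.mp hx ⟨q, hq⟩))
      exact mem_zp_of_data hu hc
    · rw [Subgroup.zpowers_le, Subgroup.mem_center_iff]
      intro g
      apply Subtype.ext
      exact (Subgroup.mem_centralizer_iff.mp (Q0_le_cent n g.2) _ (Set.mem_singleton _)).symm
  hcomm := by
    intro a b
    apply mem_zp_of_DD
    rw [map_commutatorElement]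
    exact commutatorElement_eq_one_iff_commute.mpr (Commute.all _ _)
  hpow := by
    intro a
    apply mem_zp_of_DD
    rw [map_pow]
    exact mult_sq _

theorem DD_surj (n : ℕ) : Function.Surjective (DD n) := by
  intro v
  let R : AddSubgroup ((Fin n → ZMod 2) × (Fin n → ZMod 2)) :=
    { carrier := {w | ∃ x, DD n x = Multiplicative.ofAdd w}
      zero_mem' := ⟨1, map_one _⟩
      add_mem' := by
        rintro a b ⟨x, hx⟩ ⟨y, hy⟩
        exact ⟨x * y, by rw [map_mul, hx, hy]; rfl⟩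
      neg_mem' := by
        rintro a ⟨x, hx⟩
        exact ⟨x⁻¹, by rw [map_inv, hx]; rfl⟩ }
  have h1 : ∀ k : Fin n, ((Pi.single k 1 : Fin n → ZMod 2), (0 : Fin n → ZMod 2)) ∈ R := by
    intro k
    refine ⟨⟨tv 0 (hi k), tv0_mem (hi_ne0 k).symm⟩, ?_⟩
    show Multiplicative.ofAdd _ = Multiplicative.ofAdd _
    congr 1
    refine Prod.ext (funext fun l => ?_) (funext fun l => ?_)
    · show (tv 0 (hi k) : Matrix.SpecialLinearGroup (Fin (n + 2)) (ZMod 2)).1 0 (hi l)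
          = (Pi.single k 1 : Fin n → ZMod 2) l
      rw [tv_entry (hi_ne0 k).symm, Pi.single_apply]
      by_cases hkl : l = k
      · subst hkl; simp [(hi_ne0 l).symm]
      · have : ¬ (hi k = hi l) := fun e => hkl (hi_inj e).symm
        simp [(hi_ne0 l).symm, hkl, this]
    · show (tv 0 (hi k) : Matrix.SpecialLinearGroup (Fin (n + 2)) (ZMod 2)).1 (hi l) 1
          = (0 : Fin n → ZMod 2) l
      rw [tv_entry (hi_ne0 k).symm]
      simp [hi_ne0 l, hi_ne1 l, hi_ne1 k]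
  have h2 : ∀ k : Fin n, ((0 : Fin n → ZMod 2), (Pi.single k 1 : Fin n → ZMod 2)) ∈ R := by
    intro k
    refine ⟨⟨tv (hi k) 1, tv_hi1_mem k⟩, ?_⟩
    show Multiplicative.ofAdd _ = Multiplicative.ofAdd _
    congr 1
    refine Prod.ext (funext fun l => ?_) (funext fun l => ?_)
    · show (tv (hi k) 1 : Matrix.SpecialLinearGroup (Fin (n + 2)) (ZMod 2)).1 0 (hi l)
          = (0 : Fin n → ZMod 2) l
      rw [tv_entry (hi_ne1 k)]
      simp [(hi_ne0 l).symm, (hi_ne1 l).symm, (hi_ne0 k).symm]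
    · show (tv (hi k) 1 : Matrix.SpecialLinearGroup (Fin (n + 2)) (ZMod 2)).1 (hi l) 1
          = (Pi.single k 1 : Fin n → ZMod 2) l
      rw [tv_entry (hi_ne1 k), Pi.single_apply]
      by_cases hkl : l = k
      · subst hkl; simp [hi_ne1 l]
      · have : ¬ (hi l = hi k) := fun e => hkl (hi_inj e)
        simp [hi_ne1 l, hkl, this]
  have hall : ∀ w, w ∈ R := by
    intro w
    have hw : w = ∑ k, (w.1 k • ((Pi.single k 1 : Fin n → ZMod 2), (0 : Fin n → ZMod 2)))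
        + ∑ k, (w.2 k • ((0 : Fin n → ZMod 2), (Pi.single k 1 : Fin n → ZMod 2))) := by
      refine Prod.ext (funext fun l => ?_) (funext fun l => ?_)
      · simp [Prod.fst_sum, Finset.sum_apply, Pi.single_apply]
      · simp [Prod.snd_sum, Finset.sum_apply, Pi.single_apply]
    rw [hw]
    refine R.add_mem (R.sum_mem fun k _ => ?_) (R.sum_mem fun k _ => ?_)
    · rcases z2c (w.1 k) with h | h
      · rw [h, zero_smul]; exact R.zero_mem
      · rw [h, one_smul]; exact h1 k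
    · rcases z2c (w.2 k) with h | h
      · rw [h, zero_smul]; exact R.zero_mem
      · rw [h, one_smul]; exact h2 k
  obtain ⟨x, hx⟩ := hall (Multiplicative.toAdd v)
  exact ⟨x, hx⟩

theorem CCh_surj (n : ℕ) : Function.Surjective (CCh n) := by
  intro v
  obtain ⟨x, hx⟩ := DD_surj n (Multiplicative.ofAdd ((0 : Fin n → ZMod 2), Multiplicative.toAdd v))
  refine ⟨x, ?_⟩
  have h' : ((fun l => x.1.1 0 (hi l) : Fin n → ZMod 2), (fun k => x.1.1 (hi k) 1 : Fin n → ZMod 2))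
      = ((0 : Fin n → ZMod 2), Multiplicative.toAdd v) := Multiplicative.ofAdd.injective hx
  show Multiplicative.ofAdd _ = Multiplicative.ofAdd (Multiplicative.toAdd v)
  congr 1
  exact congrArg Prod.snd h'

theorem card_vec (n : ℕ) : Nat.card (Fin n → ZMod 2) = 2 ^ n := by
  rw [Nat.card_eq_fintype_card]
  simp [ZMod.card]

theorem card_Q0 (n : ℕ) : Nat.card ↥(Q0 n) = 2 ^ (2 * n + 1) := by
  have h1 := Subgroup.card_mul_index (DD n).ker
  rw [Subgroup.index_ker, ker_DD, Nat.card_zpowers, order_z0,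
    MonoidHom.range_eq_top_of_surjective _ (DD_surj n), Subgroup.card_top] at h1
  have h2 : Nat.card (Multiplicative ((Fin n → ZMod 2) × (Fin n → ZMod 2))) = 2 ^ n * 2 ^ n := by
    rw [Nat.card_congr Multiplicative.toAdd, Nat.card_prod, card_vec]
  rw [h2] at h1
  rw [← h1, ← pow_add, ← pow_succ']
  congr 1
  omega

/-- the lower right block. -/
def blk {n : ℕ} (g : Matrix.SpecialLinearGroup (Fin (n + 2)) (ZMod 2)) : Matrix (Fin n) (Fin n) (ZMod 2) :=
  Matrix.of fun k l => g.1 (hi k) (hi l)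

theorem cent_entries {n : ℕ} {c : Matrix.SpecialLinearGroup (Fin (n + 2)) (ZMod 2)}
    (hc : c ∈ Subgroup.centralizer ({tv 0 1} : Set (Matrix.SpecialLinearGroup (Fin (n + 2)) (ZMod 2)))) :
    (∀ i, c.1 i 0 = if i = 0 then 1 else 0) ∧ (∀ j, c.1 1 j = if j = 1 then 1 else 0) := by
  obtain ⟨h1, h2⟩ := cent_fix zero_ne1 hc
  refine ⟨fun i => ?_, fun j => ?_⟩
  · rw [← mv_single c 0 i, h1, Pi.single_apply]
  · rw [← mv_single c j 1, h2, Pi.single_apply]
    by_cases hj : j = 1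
    · subst hj; simp
    · simp [hj, Ne.symm hj]

theorem blk_mul {n : ℕ} {c d : Matrix.SpecialLinearGroup (Fin (n + 2)) (ZMod 2)}
    (hc : c ∈ Subgroup.centralizer ({tv 0 1} : Set (Matrix.SpecialLinearGroup (Fin (n + 2)) (ZMod 2))))
    (hd : d ∈ Subgroup.centralizer ({tv 0 1} : Set (Matrix.SpecialLinearGroup (Fin (n + 2)) (ZMod 2)))) :
    blk (c * d) = blk c * blk d := by
  ext k l
  rw [Matrix.mul_apply]
  show (c * d).1 (hi k) (hi l) = ∑ m, c.1 (hi k) (hi m) * d.1 (hi m) (hi l)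
  rw [mul_entry, (cent_entries hc).1, (cent_entries hd).2, if_neg (hi_ne0 k), if_neg (hi_ne1 l)]
  simp

theorem blk_one {n : ℕ} : blk (1 : Matrix.SpecialLinearGroup (Fin (n + 2)) (ZMod 2)) = 1 := by
  ext k l
  show (1 : Matrix.SpecialLinearGroup (Fin (n + 2)) (ZMod 2)).1 (hi k) (hi l) = _
  rw [Matrix.SpecialLinearGroup.coe_one, Matrix.one_apply, Matrix.one_apply]
  simp [hi_inj.eq_iff]

theorem blk_of_Q0 {n : ℕ} {g : Matrix.SpecialLinearGroup (Fin (n + 2)) (ZMod 2)} (hg : g ∈ Q0 n) :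
    blk g = 1 := by
  ext k l
  show g.1 (hi k) (hi l) = _
  rw [(Q0_entries hg).2.2, Matrix.one_apply]

theorem mem_Q0_of_blk {n : ℕ} {c : Matrix.SpecialLinearGroup (Fin (n + 2)) (ZMod 2)}
    (hc : c ∈ Subgroup.centralizer ({tv 0 1} : Set (Matrix.SpecialLinearGroup (Fin (n + 2)) (ZMod 2))))
    (hb : blk c = 1) : c ∈ Q0 n := by
  obtain ⟨h1, h2⟩ := cent_fix zero_ne1 hc
  refine ⟨h1, h2, fun y hy k => ?_⟩
  rw [mv_apply, (cent_entries hc).1, if_neg (hi_ne0 k), hy, mul_zero, zero_mul, zero_add, zero_add]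
  have : ∀ l, c.1 (hi k) (hi l) = if k = l then 1 else 0 := fun l => by
    have := congrFun (congrFun hb k) l
    rw [Matrix.one_apply] at this
    exact this
  simp [this]

/-- the action of the centralizer on `F_2^n` through the lower right block. -/
def actC (n : ℕ) : MulAction
    ↥(Subgroup.centralizer ({tv 0 1} : Set (Matrix.SpecialLinearGroup (Fin (n + 2)) (ZMod 2))))
    (Fin n → ZMod 2) where
  smul c v := blk c.1 *ᵥ v
  one_smul v := by
    show blk (1 : Matrix.SpecialLinearGroup (Fin (n + 2)) (ZMod 2)) *ᵥ v = v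
    rw [blk_one, Matrix.one_mulVec]
  mul_smul c d v := by
    show blk (c.1 * d.1) *ᵥ v = blk c.1 *ᵥ (blk d.1 *ᵥ v)
    rw [blk_mul c.2 d.2, Matrix.mulVec_mulVec]

theorem tvhh_mem {n : ℕ} {k l : Fin n} (h : k ≠ l) :
    tv (hi k) (hi l) ∈ Subgroup.centralizer ({tv 0 1} : Set (Matrix.SpecialLinearGroup (Fin (n + 2)) (ZMod 2))) := by
  have hne : hi k ≠ hi l := fun e => h (hi_inj e)
  refine mem_cent zero_ne1 ?_ (fun y => ?_)
  · rw [tv_mv hne]
    simp [Pi.single_apply, hi_ne0 l]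
  · rw [tv_mv hne]
    simp [Pi.single_apply, (hi_ne1 k).symm]

theorem tvhh_blk {n : ℕ} {k l : Fin n} (h : k ≠ l) (v : Fin n → ZMod 2) :
    blk (tv (hi k) (hi l)) *ᵥ v = v + v l • (Pi.single k (1 : ZMod 2) : Fin n → ZMod 2) := by
  have hne : hi k ≠ hi l := fun e => h (hi_inj e)
  funext a
  rw [Matrix.mulVec, dotProduct]
  have e : ∀ b : Fin n, blk (tv (hi k) (hi l)) a b
      = (if a = b then 1 else 0) + (if l = b then 1 else 0) * (if a = k then 1 else 0) := by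
    intro b
    show (tv (hi k) (hi l)).1 (hi a) (hi b) = _
    rw [tv_entry hne]
    simp only [hi_inj.eq_iff]
  simp only [e, add_mul, Finset.sum_add_distrib]
  simp [Pi.single_apply]

theorem core_le_Q0 (n : ℕ) (hn : 2 ≤ n) :
    (Cfsg.pCore 2 ↥(Subgroup.centralizer ({tv 0 1} : Set (Matrix.SpecialLinearGroup (Fin (n + 2)) (ZMod 2))))).map
      (Subgroup.centralizer ({tv 0 1} : Set (Matrix.SpecialLinearGroup (Fin (n + 2)) (ZMod 2)))).subtype ≤ Q0 n := by
  letI := actC n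
  have hPp : IsPGroup 2 (Cfsg.pCore 2
      ↥(Subgroup.centralizer ({tv 0 1} : Set (Matrix.SpecialLinearGroup (Fin (n + 2)) (ZMod 2))))) :=
    Cfsg.Agent.Helper28.pCore_isPGroup 2 _
  have hPn : (Cfsg.pCore 2
      ↥(Subgroup.centralizer ({tv 0 1} : Set (Matrix.SpecialLinearGroup (Fin (n + 2)) (ZMod 2))))).Normal :=
    Cfsg.Agent.Helper28.pCore_normal 2 _
  -- the additive subgroup of vectors fixed by the core
  let W : AddSubgroup (Fin n → ZMod 2) :=
    { carrier := {v | ∀ p ∈ Cfsg.pCore 2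
        ↥(Subgroup.centralizer ({tv 0 1} : Set (Matrix.SpecialLinearGroup (Fin (n + 2)) (ZMod 2)))),
        blk p.1 *ᵥ v = v}
      zero_mem' := fun p _ => Matrix.mulVec_zero _
      add_mem' := by
        intro a b ha hb p hp
        rw [Matrix.mulVec_add, ha p hp, hb p hp]
      neg_mem' := by
        intro a ha p hp
        rw [Matrix.mulVec_neg, ha p hp] }
  have hWC : ∀ (c : ↥(Subgroup.centralizer ({tv 0 1} : Set (Matrix.SpecialLinearGroup (Fin (n + 2)) (ZMod 2)))))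
      (v : Fin n → ZMod 2), v ∈ W → blk c.1 *ᵥ v ∈ W := by
    intro c v hv p hp
    have hq := hv (c⁻¹ * p * c) (by
      have := hPn.conj_mem p hp c⁻¹
      rwa [inv_inv] at this)
    have e : p * c = c * (c⁻¹ * p * c) := by group
    have e' : blk (p.1 * c.1) = blk (c.1 * (c⁻¹ * p * c).1) := congrArg (fun x : ↥(Subgroup.centralizer
      ({tv 0 1} : Set (Matrix.SpecialLinearGroup (Fin (n + 2)) (ZMod 2)))) => blk x.1) e
    rw [Matrix.mulVec_mulVec, ← blk_mul p.2 c.2, e', blk_mul c.2 (c⁻¹ * p * c).2,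
      ← Matrix.mulVec_mulVec, hq]
  have hfix0 : (0 : Fin n → ZMod 2) ∈ MulAction.fixedPoints
      ↥(Cfsg.pCore 2 ↥(Subgroup.centralizer ({tv 0 1} : Set (Matrix.SpecialLinearGroup (Fin (n + 2)) (ZMod 2)))))
      (Fin n → ZMod 2) := by
    intro p
    show blk p.1.1 *ᵥ (0 : Fin n → ZMod 2) = 0
    exact Matrix.mulVec_zero _
  have hdvd : 2 ∣ Nat.card (Fin n → ZMod 2) := by
    rw [card_vec]
    exact dvd_pow_self 2 (by omega)
  obtain ⟨v, hv, hv0⟩ := hPp.exists_fixed_point_of_prime_dvd_card_of_fixed_point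
    (Fin n → ZMod 2) hdvd hfix0
  have hvW : v ∈ W := fun p hp => hv ⟨p, hp⟩
  -- a coordinate where `v` is nonzero
  obtain ⟨l, hl⟩ : ∃ l, v l = 1 := by
    by_contra hcon
    apply hv0
    funext l
    rcases z2c (v l) with h | h
    · exact h.symm
    · exact absurd ⟨l, h⟩ hcon
  have hδ : ∀ k : Fin n, k ≠ l → (Pi.single k (1 : ZMod 2) : Fin n → ZMod 2) ∈ W := by
    intro k hk
    have h1 := hWC ⟨tv (hi k) (hi l), tvhh_mem hk⟩ v hvW
    rw [tvhh_blk hk, hl, one_smul] at h1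
    have h2 := W.add_mem h1 hvW
    have e : v + (Pi.single k (1 : ZMod 2) : Fin n → ZMod 2) + v = Pi.single k 1 := by
      funext a
      simp only [Pi.add_apply]
      rw [add_comm, ← add_assoc, z2s, zero_add]
    rwa [e] at h2
  obtain ⟨k0, hk0⟩ : ∃ k0 : Fin n, k0 ≠ l := by
    by_cases h0 : (⟨0, by omega⟩ : Fin n) = l
    · refine ⟨⟨1, by omega⟩, ?_⟩
      intro h1
      rw [← h0] at h1
      simp at h1
    · exact ⟨_, h0⟩
  have hδl : (Pi.single l (1 : ZMod 2) : Fin n → ZMod 2) ∈ W := by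
    have h1 := hWC ⟨tv (hi l) (hi k0), tvhh_mem (Ne.symm hk0)⟩ _ (hδ k0 hk0)
    rw [tvhh_blk (Ne.symm hk0), Pi.single_eq_same, one_smul] at h1
    have h2 := W.add_mem h1 (hδ k0 hk0)
    have e : (Pi.single k0 (1 : ZMod 2) : Fin n → ZMod 2) + Pi.single l 1 + Pi.single k0 1
        = Pi.single l 1 := by
      funext a
      simp only [Pi.add_apply]
      rw [add_comm, ← add_assoc, z2s, zero_add]
    rwa [e] at h2
  have hδ' : ∀ k : Fin n, (Pi.single k (1 : ZMod 2) : Fin n → ZMod 2) ∈ W := by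
    intro k
    by_cases hk : k = l
    · rw [hk]; exact hδl
    · exact hδ k hk
  have hall : ∀ w : Fin n → ZMod 2, w ∈ W := by
    intro w
    rw [pi_eq_sum_univ' w]
    refine W.sum_mem fun k _ => ?_
    rcases z2c (w k) with h | h
    · rw [h, zero_smul]; exact W.zero_mem
    · rw [h, one_smul]; exact hδ' k
  rintro _ ⟨p, hp, rfl⟩
  apply mem_Q0_of_blk p.2
  ext k l'
  have h1 := congrFun (hall (Pi.single l' 1) p hp) k
  rw [Matrix.mulVec_single_one] at h1
  rw [Matrix.one_apply, ← Pi.single_apply]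
  exact h1

/-- three-way eliminator on `Fin (n+2)`. -/
def c3 {n : ℕ} (x0 x1 : ZMod 2) (f : Fin n → ZMod 2) : Fin (n + 2) → ZMod 2 :=
  Fin.cons x0 (Fin.cons x1 f)

theorem c3_0 {n : ℕ} (x0 x1 : ZMod 2) (f : Fin n → ZMod 2) : c3 x0 x1 f 0 = x0 := rfl

theorem c3_1 {n : ℕ} (x0 x1 : ZMod 2) (f : Fin n → ZMod 2) : c3 x0 x1 f 1 = x1 := by
  have h : (1 : Fin (n + 2)) = Fin.succ 0 := rfl
  unfold c3
  rw [h, Fin.cons_succ, Fin.cons_zero]

theorem c3_hi {n : ℕ} (x0 x1 : ZMod 2) (f : Fin n → ZMod 2) (k : Fin n) :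
    c3 x0 x1 f (hi k) = f k := by
  unfold c3 hi
  rw [Fin.cons_succ, Fin.cons_succ]

/-- block diagonal embedding `A ↦ diag(1, 1, A)`. -/
def embM {n : ℕ} (A : Matrix (Fin n) (Fin n) (ZMod 2)) : Matrix (Fin (n + 2)) (Fin (n + 2)) (ZMod 2) :=
  Matrix.of fun i j => c3 (c3 1 0 (fun _ => 0) j) (c3 0 1 (fun _ => 0) j)
    (fun k => c3 0 0 (fun l => A k l) j) i

theorem embM_mulVec {n : ℕ} (A : Matrix (Fin n) (Fin n) (ZMod 2)) (y : Fin (n + 2) → ZMod 2) :
    embM A *ᵥ y = c3 (y 0) (y 1) (A *ᵥ fun l => y (hi l)) := by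
  funext i
  rw [Matrix.mulVec, dotProduct, sum3]
  rcases idx3 i with rfl | rfl | ⟨k, rfl⟩
  · simp [embM, c3_0, c3_1, c3_hi]
  · simp [embM, c3_0, c3_1, c3_hi]
  · simp [embM, c3_0, c3_1, c3_hi, Matrix.mulVec, dotProduct]

theorem embM_mul {n : ℕ} (A B : Matrix (Fin n) (Fin n) (ZMod 2)) :
    embM (A * B) = embM A * embM B := by
  apply Matrix.toLin'.injective
  apply LinearMap.ext
  intro y
  rw [Matrix.toLin'_apply, Matrix.toLin'_apply, ← Matrix.mulVec_mulVec]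
  simp only [embM_mulVec, c3_0, c3_1, c3_hi, Matrix.mulVec_mulVec]

theorem embM_one {n : ℕ} : embM (1 : Matrix (Fin n) (Fin n) (ZMod 2)) = 1 := by
  apply Matrix.toLin'.injective
  apply LinearMap.ext
  intro y
  rw [Matrix.toLin'_apply, Matrix.toLin'_apply, embM_mulVec, Matrix.one_mulVec, Matrix.one_mulVec]
  funext i
  rcases idx3 i with rfl | rfl | ⟨k, rfl⟩
  · rw [c3_0]
  · rw [c3_1]
  · rw [c3_hi]

theorem embM_det {n : ℕ} (A : Matrix (Fin n) (Fin n) (ZMod 2)) (hA : A.det = 1) :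
    (embM A).det = 1 := by
  have h1 : embM A * embM A⁻¹ = 1 := by
    rw [← embM_mul, Matrix.mul_nonsing_inv A (by rw [hA]; exact isUnit_one), embM_one]
  have h2 := congrArg Matrix.det h1
  rw [Matrix.det_mul, Matrix.det_one] at h2
  rcases z2c (embM A).det with h | h
  · rw [h, zero_mul] at h2
    exact absurd h2 (by decide)
  · exact h

/-- the embedding of `SL_n(2)` as the complement. -/
def psi (n : ℕ) : Matrix.SpecialLinearGroup (Fin n) (ZMod 2) →*
    Matrix.SpecialLinearGroup (Fin (n + 2)) (ZMod 2) :=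
  MonoidHom.mk' (fun A => ⟨embM A.1, embM_det A.1 A.2⟩) (by
    intro A B
    apply Subtype.ext
    show embM (A * B).1 = embM A.1 * embM B.1
    rw [Matrix.SpecialLinearGroup.coe_mul, embM_mul])

theorem psi_mv (n : ℕ) (A : Matrix.SpecialLinearGroup (Fin n) (ZMod 2)) (y : Fin (n + 2) → ZMod 2) :
    mv (psi n A) y = c3 (y 0) (y 1) (A.1 *ᵥ fun l => y (hi l)) :=
  embM_mulVec A.1 y

theorem blk_psi (n : ℕ) (A : Matrix.SpecialLinearGroup (Fin n) (ZMod 2)) : blk (psi n A) = A.1 := by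
  ext k l
  show embM A.1 (hi k) (hi l) = A.1 k l
  simp [embM, c3_hi]

theorem psi_mem_cent (n : ℕ) (A : Matrix.SpecialLinearGroup (Fin n) (ZMod 2)) :
    psi n A ∈ Subgroup.centralizer ({tv 0 1} : Set (Matrix.SpecialLinearGroup (Fin (n + 2)) (ZMod 2))) := by
  refine mem_cent zero_ne1 ?_ (fun y => ?_)
  · rw [psi_mv]
    have : (fun l : Fin n => (Pi.single 0 1 : Fin (n + 2) → ZMod 2) (hi l)) = 0 := by
      funext l
      simp [Pi.single_apply, hi_ne0]
    rw [this, Matrix.mulVec_zero]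
    funext i
    rcases idx3 i with rfl | rfl | ⟨k, rfl⟩
    · simp [c3_0]
    · simp [c3_1, Pi.single_apply, one_ne0]
    · simp [c3_hi, Pi.single_apply, hi_ne0]
  · rw [psi_mv, c3_1]

theorem psi_inj (n : ℕ) : Function.Injective (psi n) := by
  intro A B h
  have := congrArg blk h
  rw [blk_psi, blk_psi] at this
  exact Subtype.ext this

theorem Q0_inf_K (n : ℕ) : Q0 n ⊓ (psi n).range = ⊥ := by
  rw [eq_bot_iff]
  rintro x ⟨hx, ⟨A, rfl⟩⟩
  have h1 := blk_of_Q0 hx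
  rw [blk_psi] at h1
  have : A = 1 := Subtype.ext (by rw [Matrix.SpecialLinearGroup.coe_one]; exact h1)
  rw [this, map_one]
  exact Subgroup.mem_bot.mpr rfl

theorem blk_det {n : ℕ} {c : Matrix.SpecialLinearGroup (Fin (n + 2)) (ZMod 2)}
    (hc : c ∈ Subgroup.centralizer ({tv 0 1} : Set (Matrix.SpecialLinearGroup (Fin (n + 2)) (ZMod 2)))) :
    (blk c).det = 1 := by
  have h1 : blk c * blk c⁻¹ = 1 := by
    rw [← blk_mul hc (Subgroup.inv_mem _ hc), mul_inv_cancel, blk_one]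
  have h2 := congrArg Matrix.det h1
  rw [Matrix.det_mul, Matrix.det_one] at h2
  rcases z2c (blk c).det with h | h
  · rw [h, zero_mul] at h2
    exact absurd h2 (by decide)
  · exact h

theorem Q0_sup_K (n : ℕ) : Q0 n ⊔ (psi n).range
    = Subgroup.centralizer ({tv 0 1} : Set (Matrix.SpecialLinearGroup (Fin (n + 2)) (ZMod 2))) := by
  apply le_antisymm
  · refine sup_le (Q0_le_cent n) ?_
    rintro _ ⟨A, rfl⟩
    exact psi_mem_cent n A
  · intro c hc
    let A : Matrix.SpecialLinearGroup (Fin n) (ZMod 2) := ⟨blk c, blk_det hc⟩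
    have hpc := psi_mem_cent n A⁻¹
    have hq : c * psi n A⁻¹ ∈ Q0 n := by
      apply mem_Q0_of_blk (Subgroup.mul_mem _ hc hpc)
      rw [blk_mul hc hpc, blk_psi]
      show A.1 * (A⁻¹).1 = 1
      rw [← Matrix.SpecialLinearGroup.coe_mul, mul_inv_cancel, Matrix.SpecialLinearGroup.coe_one]
    have e : c = c * psi n A⁻¹ * psi n A := by
      rw [mul_assoc, ← map_mul, inv_mul_cancel, map_one, mul_one]
    rw [e]
    exact Subgroup.mul_mem_sup hq ⟨A, rfl⟩

theorem exists_E (n : ℕ) : ∃ E : Subgroup (Matrix.SpecialLinearGroup (Fin (n + 2)) (ZMod 2)),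
    E ≤ Q0 n ∧ Cfsg.IsElementaryAbelian 2 E ∧ Nat.card ↥E = 2 ^ (n + 1) := by
  have hPT : ∀ x ∈ (CCh n).ker.map (Q0 n).subtype, x ∈ PT (ZMod 2) (0 : Fin (n + 2)) := by
    rintro _ ⟨x, hx, rfl⟩
    have h' : (fun k => x.1.1 (hi k) 1 : Fin n → ZMod 2) = 0 :=
      Multiplicative.ofAdd.injective (MonoidHom.mem_ker.mp hx)
    have hc : ∀ k : Fin n, x.1.1 (hi k) 1 = 0 := fun k => congrFun h' k
    refine ⟨x.2.1, fun y k hk => ?_⟩
    rcases idx3 k with rfl | rfl | ⟨k', rfl⟩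
    · exact absurd rfl hk
    · exact x.2.2.1 y
    · show mv x.1 y (hi k') = y (hi k')
      rw [Q0_form_hi x.2, hc, zero_mul, add_zero]
  have hsq : ∀ x ∈ (CCh n).ker.map (Q0 n).subtype, x ^ 2 = 1 :=
    fun x hx => PT_sq (by decide : (2 : ZMod 2) = 0) (hPT x hx)
  refine ⟨(CCh n).ker.map (Q0 n).subtype, Subgroup.map_subtype_le _, ⟨⟨⟨fun a b => ?_⟩⟩, hsq⟩, ?_⟩
  · apply Subtype.ext
    have ha := hsq a.1 a.2
    have hb := hsq b.1 b.2
    have hab := hsq (a.1 * b.1) (Subgroup.mul_mem _ a.2 b.2)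
    show a.1 * b.1 = b.1 * a.1
    have ha' : a.1⁻¹ = a.1 := inv_eq_of_mul_eq_one_right (by rw [← pow_two]; exact ha)
    have hb' : b.1⁻¹ = b.1 := inv_eq_of_mul_eq_one_right (by rw [← pow_two]; exact hb)
    have hab' : (a.1 * b.1)⁻¹ = a.1 * b.1 :=
      inv_eq_of_mul_eq_one_right (by rw [← pow_two]; exact hab)
    rw [← hab', mul_inv_rev, ha', hb']
  · rw [Subgroup.card_map_of_injective (Subgroup.subtype_injective _)]
    have h1 := Subgroup.card_mul_index (CCh n).ker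
    rw [Subgroup.index_ker, MonoidHom.range_eq_top_of_surjective _ (CCh_surj n), Subgroup.card_top,
      card_Q0, Nat.card_congr Multiplicative.toAdd, card_vec] at h1
    have h3 : 2 ^ (2 * n + 1) = 2 ^ (n + 1) * 2 ^ n := by
      rw [← pow_add]; congr 1; omega
    rw [h3] at h1
    exact Nat.eq_of_mul_eq_mul_right (by positivity) h1

/-- Let G be the special linear group of degree n + 2 over the field with two elements, n ≥ 2, let z be a transvection, and let Q be the largest normal 2-subgroup of the centralizer C of z. Then Q is extraspecial of order 2^(2n+1) with an elementary abelian subgroup of order 2^(n+1) (plus type), Q is a large extraspecial 2-subgroup of G, and C is the split extension of Q by the special linear group of degree n over the field with two elements. -/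
theorem result (n : ℕ) (hn : 2 ≤ n) (z : Matrix.SpecialLinearGroup (Fin (n + 2)) (ZMod 2)) (hz : (z : Matrix (Fin (n + 2)) (Fin (n + 2)) (ZMod 2)) = Matrix.transvection 0 1 1) (Q : Subgroup (Matrix.SpecialLinearGroup (Fin (n + 2)) (ZMod 2))) (hQ : Q = (Cfsg.pCore 2 ↥(Subgroup.centralizer ({z} : Set (Matrix.SpecialLinearGroup (Fin (n + 2)) (ZMod 2))))).map (Subgroup.centralizer ({z} : Set (Matrix.SpecialLinearGroup (Fin (n + 2)) (ZMod 2)))).subtype) : Cfsg.IsExtraspecial 2 ↥Q ∧ Nat.card ↥Q = 2 ^ (2 * n + 1) ∧ (∃ E : Subgroup (Matrix.SpecialLinearGroup (Fin (n + 2)) (ZMod 2)), E ≤ Q ∧ Cfsg.IsElementaryAbelian 2 E ∧ Nat.card ↥E = 2 ^ (n + 1)) ∧ Cfsg.IsLargeExtraspecial Q ∧ ∃ K : Subgroup (Matrix.SpecialLinearGroup (Fin (n + 2)) (ZMod 2)), K ≤ Subgroup.centralizer ({z} : Set (Matrix.SpecialLinearGroup (Fin (n + 2)) (ZMod 2))) ∧ Q ⊓ K = ⊥ ∧ Q ⊔ K = Subgroup.centralizer ({z} : Set (Matrix.SpecialLinearGroup (Fin (n + 2)) (ZMod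 2))) ∧ Nonempty (↥K ≃* Matrix.SpecialLinearGroup (Fin n) (ZMod 2)) := by
  classical
  have hz' : z = tv 0 1 := by
    apply Subtype.ext
    rw [hz]
    have e : (tv 0 1 : Matrix.SpecialLinearGroup (Fin (n + 2)) (ZMod 2))
        = (⟨Matrix.transvection 0 1 1, Matrix.det_transvection_of_ne 0 1 zero_ne1 1⟩ :
          Matrix.SpecialLinearGroup (Fin (n + 2)) (ZMod 2)) := dif_neg zero_ne1
    rw [e]
  subst hz'
  have hQ0 : Q = Q0 n := by
    rw [hQ]
    apply le_antisymm (core_le_Q0 n hn)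
    intro d hd
    have hdC := Q0_le_cent n hd
    exact ⟨⟨d, hdC⟩, Cfsg.Agent.Helper18.mem_pCore_of_mem_normalized _ _
      (IsPGroup.of_card (card_Q0 n)) (cent_le_norm_Q0 n) d hdC hd, rfl⟩
  clear hQ
  subst hQ0
  have hn0 : 0 < n := by omega
  have hne : (0 : Fin (n + 2)) ≠ hi (⟨0, hn0⟩ : Fin n) := (hi_ne0 _).symm
  have hES : Cfsg.IsExtraspecial 2 ↥(Q0 n) := by
    refine Cfsg.Agent.Helper1.extraspecial_of_esdata_two (esdata n) ?_
    refine ⟨⟨tv 0 (hi (⟨0, hn0⟩ : Fin n)), tv0_mem hne⟩, fun hcen => ?_⟩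
    obtain ⟨hu, -⟩ := comm_data (tv0_mem hne) (fun q hq =>
      congrArg Subtype.val (Subgroup.mem_center_iff.mp hcen ⟨q, hq⟩))
    have h1 := hu ⟨0, hn0⟩
    rw [tv_entry hne] at h1
    simp [hne] at h1
  refine ⟨hES, card_Q0 n, exists_E n, ?_, (psi n).range, ?_, Q0_inf_K n, Q0_sup_K n,
    ⟨(MonoidHom.ofInjective (psi_inj n)).symm⟩⟩
  · have hcm : ∀ x, x ∈ (Subgroup.center ↥(Q0 n)).map (Q0 n).subtype → x = 1 ∨ x = tv 0 1 := by
      intro x hx
      obtain ⟨hxQ, hxc⟩ := (Cfsg.Agent.Helper28.mem_center_map_iff (Q0 n) x).mp hx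
      obtain ⟨hu, hc⟩ := comm_data hxQ hxc
      exact ker_cases hxQ hu hc
    have hzc : tv 0 1 ∈ (Subgroup.center ↥(Q0 n)).map (Q0 n).subtype := by
      rw [Cfsg.Agent.Helper28.mem_center_map_iff]
      refine ⟨tv0_mem zero_ne1, fun q hq => ?_⟩
      exact (Subgroup.mem_centralizer_iff.mp (Q0_le_cent n hq) _ (Set.mem_singleton _)).symm
    refine Cfsg.Agent.S5421.result (Q0 n) hES ?_ ?_ (tv 0 (hi (⟨0, hn0⟩ : Fin n))) (tv0_mem hne)
      ?_ ?_ ?_
    · ext g
      constructor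
      · intro hg
        have hcomm : ∀ q ∈ Q0 n, q * g = g * q :=
          fun q hq => Subgroup.mem_centralizer_iff.mp hg q hq
        have hcen : ∀ j : Fin (n + 2), (0 : Fin (n + 2)) ≠ j → g ∈ Subgroup.centralizer
            ({tv 0 j} : Set (Matrix.SpecialLinearGroup (Fin (n + 2)) (ZMod 2))) := by
          intro j hj
          rw [Subgroup.mem_centralizer_iff]
          intro u hu
          rw [Set.mem_singleton_iff] at hu
          subst hu
          exact hcomm _ (tv0_mem hj)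
        have hgPT : g ∈ PT (ZMod 2) (0 : Fin (n + 2)) :=
          ⟨(cent_fix zero_ne1 (hcen 1 zero_ne1)).1,
            fun y k hk => (cent_fix (Ne.symm hk) (hcen k (Ne.symm hk))).2 y⟩
        rw [Cfsg.Agent.Helper28.mem_center_map_iff]
        exact ⟨PT_le_Q0 n hgPT, hcomm⟩
      · intro hg
        obtain ⟨-, hc⟩ := (Cfsg.Agent.Helper28.mem_center_map_iff (Q0 n) g).mp hg
        rw [Subgroup.mem_centralizer_iff]
        exact fun q hq => hc q hq
    · intro g hg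
      apply cent_le_norm_Q0 n
      rw [Subgroup.mem_centralizer_iff]
      intro u hu
      rw [Set.mem_singleton_iff] at hu
      subst hu
      exact Subgroup.mem_centralizer_iff.mp hg _ hzc
    · intro hb
      obtain ⟨hbQ, hbc⟩ := (Cfsg.Agent.Helper28.mem_center_map_iff (Q0 n) _).mp hb
      obtain ⟨hu, -⟩ := comm_data hbQ hbc
      have h1 := hu ⟨0, hn0⟩
      rw [tv_entry hne] at h1
      simp [hne] at h1
    · refine orderOf_eq_prime (PT_sq z2two (tv_mem_PT hne)) ?_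
      intro h
      have h1 := tv_entry (n := n) hne 0 (hi (⟨0, hn0⟩ : Fin n))
      rw [h, Matrix.SpecialLinearGroup.coe_one, Matrix.one_apply_ne hne] at h1
      simp [hne] at h1
    · intro x hx
      apply PT_le_core hne
      rcases hcm x hx with h | h
      · rw [h]; exact Subgroup.one_mem _
      · rw [h]; exact tv_mem_PT zero_ne1
  · rintro _ ⟨A, rfl⟩
    exact psi_mem_cent n A

end Cfsg.Agent.S5424
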