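import Cfsg.Statements.S5620
import Cfsg.Agent.Helper28.M24Act
import Cfsg.Agent.Helper3.M12Core

set_option autoImplicit false
open scoped Pointwise
open Cfsg

namespace Cfsg.Agent.S5620

open Cfsg.Spor Cfsg.Agent.Helper28.Code Cfsg.Agent.Helper28.M24Act Cfsg.Agent.Helper28.Leech
open scoped Pointwise

theorem D_mem : squareDodecad ∈ dodecads := by
  rw [← Cfsg.Agent.Helper3.dStd_eq]; exact Cfsg.Agent.Helper3.dStd_mem

theorem zero_mem : (some 0 : GolayPt) ∈ squareDodecad := by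
  rw [← Cfsg.Agent.Helper3.dStd_eq]; decide +kernel

theorem none_not_mem : (none : GolayPt) ∉ squareDodecad := by
  rw [← Cfsg.Agent.Helper3.dStd_eq]; decide +kernel

theorem compl_mem : Finset.univ \ squareDodecad ∈ dodecads := by
  have h := (mem_dod _).mp D_mem
  rw [mem_dod, ← Finset.compl_eq_univ_sdiff, ofSet_compl, Finset.card_compl, card_pts, h.2]
  exact ⟨golayCode.add_mem one_mem h.1, rfl⟩

theorem mem_M12 (h : Equiv.Perm GolayPt) : h ∈ M12 ↔ h ∈ M24 ∧ h • squareDodecad = squareDodecad :=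
  Iff.rfl

theorem mem_M11 (h : Equiv.Perm GolayPt) :
    h ∈ M11 ↔ (h ∈ M24 ∧ h • squareDodecad = squareDodecad) ∧ h (some 0) = some 0 := Iff.rfl

theorem smul_compl_iff (h : Equiv.Perm GolayPt) (A : Finset GolayPt) :
    h • (Finset.univ \ A) = Finset.univ \ A ↔ h • A = A := by
  rw [Finset.smul_finset_sdiff, Finset.smul_finset_univ, ← Finset.compl_eq_univ_sdiff,
    ← Finset.compl_eq_univ_sdiff, compl_inj_iff]

/-- conjugating the point stabilizer in the stabilizer of the dodecad of squares -/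
theorem conj_M11 {g : Equiv.Perm GolayPt} (hg : g ∈ M24) {A : Finset GolayPt}
    (hA : g • squareDodecad = A) {p : GolayPt} (hp : g (some 0) = p) (x : Equiv.Perm GolayPt) :
    x ∈ MulAut.conj g • M11 ↔ (x ∈ M24 ∧ x • A = A) ∧ x p = p := by
  rw [Subgroup.mem_pointwise_smul_iff_inv_smul_mem, MulAut.smul_def, ← map_inv,
    MulAut.conj_apply, inv_inv, mem_M11]
  constructor
  · rintro ⟨⟨h1, h2⟩, h3⟩
    refine ⟨⟨?_, ?_⟩, ?_⟩
    · have h4 := mul_mem (mul_mem hg h1) (inv_mem hg)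
      have e : g * (g⁻¹ * x * g) * g⁻¹ = x := by group
      rwa [e] at h4
    · rw [← hA]
      have h4 : g • ((g⁻¹ * x * g) • squareDodecad) = g • squareDodecad := by rw [h2]
      rw [← mul_smul] at h4
      have e : g * (g⁻¹ * x * g) = x * g := by group
      rw [e, mul_smul] at h4
      exact h4
    · rw [← hp]
      have h4 : g ((g⁻¹ * x * g) (some 0)) = g (some 0) := by rw [h3]
      simpa using h4
  · rintro ⟨⟨h1, h2⟩, h3⟩
    refine ⟨⟨mul_mem (mul_mem (inv_mem hg) h1) hg, ?_⟩, ?_⟩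
    · rw [mul_smul, mul_smul, hA, h2, ← hA, inv_smul_smul]
    · show g⁻¹ (x (g (some 0))) = some 0
      rw [hp, h3, ← hp]; simp

/-- Inside the stabiliser of the dodecad of squares (a Mathieu group of degree 12), the stabiliser of the residue 0 (a point of the dodecad) and the stabiliser of the extra point (a point outside the dodecad) are isomorphic but not conjugate; conjugation by a suitable element of the code's group that maps the dodecad of squares onto its complement carries the first onto the second. -/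
theorem result : Nonempty (↥(Cfsg.Spor.M12 ⊓ MulAction.stabilizer (Equiv.Perm Cfsg.GolayPt) (none : Cfsg.GolayPt)) ≃* ↥Cfsg.Spor.M11) ∧ (¬ ∃ k ∈ Cfsg.Spor.M12, MulAut.conj k • Cfsg.Spor.M11 = Cfsg.Spor.M12 ⊓ MulAction.stabilizer (Equiv.Perm Cfsg.GolayPt) (none : Cfsg.GolayPt)) ∧ ∃ g ∈ Cfsg.M24, g • Cfsg.Spor.squareDodecad = Finset.univ \ Cfsg.Spor.squareDodecad ∧ MulAut.conj g • Cfsg.Spor.M11 = Cfsg.Spor.M12 ⊓ MulAction.stabilizer (Equiv.Perm Cfsg.GolayPt) (none : Cfsg.GolayPt) := by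
  have hnone : (none : GolayPt) ∈ Finset.univ \ squareDodecad := by
    rw [Finset.mem_sdiff]; exact ⟨Finset.mem_univ _, none_not_mem⟩
  obtain ⟨g1, hg1, e1, f1⟩ := Cfsg.Agent.Helper12.exists_M24_dodecad_pt_in D_mem zero_mem
  obtain ⟨g2, hg2, e2, f2⟩ := Cfsg.Agent.Helper12.exists_M24_dodecad_pt_in compl_mem hnone
  have hg : g2 * g1⁻¹ ∈ M24 := mul_mem hg2 (inv_mem hg1)
  have hgD : (g2 * g1⁻¹) • squareDodecad = Finset.univ \ squareDodecad := by
    conv_lhs => rw [← e1]
    rw [mul_smul, inv_smul_smul, e2]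
  have hg0 : (g2 * g1⁻¹) (some 0) = none := by
    rw [← f1]; simp [f2]
  have hconj : MulAut.conj (g2 * g1⁻¹) • M11
      = M12 ⊓ MulAction.stabilizer (Equiv.Perm GolayPt) (none : GolayPt) := by
    ext x
    rw [conj_M11 hg hgD hg0, smul_compl_iff]
    rfl
  refine ⟨⟨((Subgroup.equivSMul (MulAut.conj (g2 * g1⁻¹)) M11).trans
    (MulEquiv.subgroupCongr hconj)).symm⟩, ?_, ⟨g2 * g1⁻¹, hg, hgD, hconj⟩⟩
  rintro ⟨k, hk, hkeq⟩
  have hkM : k ∈ M24 := hk.1
  have hkD : k • squareDodecad = squareDodecad := hk.2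
  have hp : k (some 0) ∈ squareDodecad := by
    have h1 : k • (some 0 : GolayPt) ∈ k • squareDodecad := Finset.smul_mem_smul_finset zero_mem
    rw [hkD] at h1
    exact h1
  have hq : ∃ q ∈ Finset.univ \ squareDodecad, q ≠ (none : GolayPt) := by
    have hc : ((Finset.univ \ squareDodecad).erase none).Nonempty := by
      rw [← Finset.card_pos, Finset.card_erase_of_mem hnone, ((mem_dod _).mp compl_mem).2]
      norm_num
    obtain ⟨q, hq⟩ := hc
    exact ⟨q, Finset.mem_of_mem_erase hq, Finset.ne_of_mem_erase hq⟩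
  obtain ⟨q, hqD, hqn⟩ := hq
  rw [Finset.mem_sdiff] at hqD
  obtain ⟨σ, hσ, hσD, hσp, hσn⟩ := (trans_dodecad D_mem).t2' (k (some 0)) none q hp
    none_not_mem hqD.2
  have h1 : σ ∈ MulAut.conj k • M11 := by
    rw [conj_M11 hkM hkD rfl]
    exact ⟨⟨hσ, hσD⟩, hσp⟩
  rw [hkeq] at h1
  have h2 : σ none = none := h1.2
  rw [hσn] at h2
  exact hqn h2

end Cfsg.Agent.S5620
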