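import Cfsg.Statements.S5726
-- import your own Cfsg.Agent.* helpers here

set_option autoImplicit false
open Cfsg

namespace Cfsg.Agent.S5726

theorem sylow_orbit_dvd {G Ω : Type*} [Group G] [Finite G] [MulAction G Ω] {p : ℕ} [Fact p.Prime]
    (P : Sylow p G) (ω : Ω) (j : ℕ) (hj : p ^ j ∣ (MulAction.stabilizer G ω).index) :
    p ^ j ∣ (MulAction.orbit (P : Subgroup G) ω).ncard := by
  have hstab : MulAction.stabilizer (P : Subgroup G) ω = (MulAction.stabilizer G ω).subgroupOf P := by
    ext g
    rfl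
  rw [← MulAction.index_stabilizer, hstab]
  change p ^ j ∣ (MulAction.stabilizer G ω).relIndex P
  rw [← Subgroup.inf_relIndex_left]
  have h1 := Subgroup.relIndex_mul_index
    (inf_le_left : (P : Subgroup G) ⊓ MulAction.stabilizer G ω ≤ P)
  have h2 := Subgroup.relIndex_mul_index
    (inf_le_right : (P : Subgroup G) ⊓ MulAction.stabilizer G ω ≤ MulAction.stabilizer G ω)
  have h3 : p ^ j ∣ ((P : Subgroup G) ⊓ MulAction.stabilizer G ω).relIndex P * (P : Subgroup G).index := by
    rw [h1, ← h2]
    exact Dvd.dvd.mul_left hj _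
  have hcop : Nat.Coprime (p ^ j) (P : Subgroup G).index :=
    Nat.Coprime.pow_left j ((Nat.Prime.coprime_iff_not_dvd Fact.out).mpr P.not_dvd_index)
  exact hcop.dvd_of_dvd_mul_right h3

/-- If a finite group acts faithfully and transitively on a set with p^k elements, p a prime and k ≥ 1, then some element of order p fixes no point. -/
theorem result {G Ω : Type*} [Group G] [Finite G] [MulAction G Ω] [FaithfulSMul G Ω] [Fintype Ω] (htr : MulAction.IsPretransitive G Ω)
    (p k : ℕ) (hp : p.Prime) (hk : 1 ≤ k) (hΩ : Fintype.card Ω = p ^ k) :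
    ∃ g : G, orderOf g = p ∧ ∀ ω : Ω, g • ω ≠ ω := by
  have : Fact p.Prime := ⟨hp⟩
  obtain ⟨P⟩ : Nonempty (Sylow p G) := inferInstance
  have hidx : ∀ ω : Ω, (MulAction.stabilizer G ω).index = p ^ k := by
    intro ω
    rw [MulAction.index_stabilizer_of_transitive, Nat.card_eq_fintype_card, hΩ]
  have horb : ∀ ω : Ω, MulAction.orbit (P : Subgroup G) ω = Set.univ := by
    intro ω
    have hdvd := sylow_orbit_dvd P ω k (by rw [hidx])
    have hpos : 0 < (MulAction.orbit (P : Subgroup G) ω).ncard :=
      (Set.ncard_pos).mpr (MulAction.nonempty_orbit _)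
    apply Set.eq_of_subset_of_ncard_le (Set.subset_univ _)
    rw [Set.ncard_univ, Nat.card_eq_fintype_card, hΩ]
    exact Nat.le_of_dvd hpos hdvd
  obtain ⟨ω₀⟩ : Nonempty Ω := by
    rw [← Fintype.card_pos_iff, hΩ]
    exact pow_pos hp.pos k
  have hPnt : Nontrivial (P : Subgroup G) := by
    by_contra hnt
    rw [not_nontrivial_iff_subsingleton] at hnt
    have h0 : MulAction.orbit (P : Subgroup G) ω₀ = {ω₀} := by
      ext x
      constructor
      · rintro ⟨g, rfl⟩
        rw [Subsingleton.elim g 1]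
        show (1 : (P : Subgroup G)) • ω₀ ∈ ({ω₀} : Set Ω)
        rw [one_smul]
        rfl
      · rintro rfl
        exact MulAction.mem_orbit_self _
    rw [horb] at h0
    have h1 : (Set.univ : Set Ω).ncard = 1 := by rw [h0, Set.ncard_singleton]
    rw [Set.ncard_univ, Nat.card_eq_fintype_card, hΩ] at h1
    have h2 : 1 < p ^ k := Nat.one_lt_pow (by omega) hp.one_lt
    omega
  have hPp : IsPGroup p (P : Subgroup G) := P.isPGroup'
  have hZ : Nontrivial (Subgroup.center (P : Subgroup G)) := hPp.center_nontrivial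
  have hZp : IsPGroup p (Subgroup.center (P : Subgroup G)) := hPp.to_subgroup _
  obtain ⟨z, hz⟩ : ∃ z : Subgroup.center (P : Subgroup G), orderOf z = p := by
    apply exists_prime_orderOf_dvd_card' p
    obtain ⟨n, hn⟩ := IsPGroup.iff_card.mp hZp
    rw [hn]
    have hn0 : n ≠ 0 := by
      rintro rfl
      have h3 := Finite.one_lt_card (α := Subgroup.center (P : Subgroup G))
      rw [hn] at h3
      simp at h3
    exact dvd_pow_self p hn0
  have hord : orderOf ((z : (P : Subgroup G)) : G) = p := by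
    rw [Subgroup.orderOf_coe, Subgroup.orderOf_coe, hz]
  refine ⟨((z : (P : Subgroup G)) : G), hord, ?_⟩
  intro ω hω
  have hall : ∀ ω' : Ω, ((z : (P : Subgroup G)) : G) • ω' = ω' := by
    intro ω'
    have hmem : ω' ∈ MulAction.orbit (P : Subgroup G) ω := by
      rw [horb]
      trivial
    obtain ⟨h, rfl⟩ := hmem
    have hc : (z : (P : Subgroup G)) * h = h * z := (Subgroup.mem_center_iff.mp z.2 h).symm
    show ((z : (P : Subgroup G)) : G) • ((h : G) • ω) = (h : G) • ω
    rw [smul_smul, ← Subgroup.coe_mul, hc, Subgroup.coe_mul, mul_smul, hω]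
  have h1 : ((z : (P : Subgroup G)) : G) = 1 :=
    FaithfulSMul.eq_of_smul_eq_smul (α := Ω) (fun ω' => by rw [hall, one_smul])
  rw [h1, orderOf_one] at hord
  exact hp.one_lt.ne hord

end Cfsg.Agent.S5726
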