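import Cfsg.Statements.S5727
-- import your own Cfsg.Agent.* helpers here
import Cfsg.Agent.S5726

set_option autoImplicit false
open Cfsg

namespace Cfsg.Agent.S5727

theorem sylow_orbit_dvd {G Ω : Type*} [Group G] [Finite G] [MulAction G Ω] {p : ℕ} [Fact p.Prime]
    (P : Sylow p G) (ω : Ω) (j : ℕ) (hj : p ^ j ∣ (MulAction.stabilizer G ω).index) :
    p ^ j ∣ (MulAction.orbit (P : Subgroup G) ω).ncard := by
  have hstab : MulAction.stabilizer (P : Subgroup G) ω = (MulAction.stabilizer G ω).subgroupOf P := by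
    ext g
    rfl
  rw [← MulAction.index_stabilizer, hstab]
  change p ^ j ∣ (MulAction.stabilizer G ω).relIndex P
  rw [← Subgroup.inf_relIndex_left]
  have h1 := Subgroup.relIndex_mul_index
    (inf_le_left : (P : Subgroup G) ⊓ MulAction.stabilizer G ω ≤ P)
  have h2 := Subgroup.relIndex_mul_index
    (inf_le_right : (P : Subgroup G) ⊓ MulAction.stabilizer G ω ≤ MulAction.stabilizer G ω)
  have h3 : p ^ j ∣ ((P : Subgroup G) ⊓ MulAction.stabilizer G ω).relIndex P * (P : Subgroup G).index := by
    rw [h1, ← h2]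
    exact Dvd.dvd.mul_left hj _
  have hcop : Nat.Coprime (p ^ j) (P : Subgroup G).index :=
    Nat.Coprime.pow_left j ((Nat.Prime.coprime_iff_not_dvd Fact.out).mpr P.not_dvd_index)
  exact hcop.dvd_of_dvd_mul_right h3

theorem exists_derangement_lt {G Ω : Type*} [Group G] [Finite G] [MulAction G Ω] [FaithfulSMul G Ω]
    [Fintype Ω] (htr : MulAction.IsPretransitive G Ω) (p m : ℕ) (hp : p.Prime) (hm : 1 ≤ m) (hmp : m < p)
    (hΩ : Fintype.card Ω = m * p) : ∃ g : G, orderOf g = p ∧ ∀ ω : Ω, g • ω ≠ ω := by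
  classical
  have : Fact p.Prime := ⟨hp⟩
  obtain ⟨P⟩ : Nonempty (Sylow p G) := inferInstance
  have hPp : IsPGroup p (P : Subgroup G) := P.isPGroup'
  obtain ⟨a, ha⟩ := IsPGroup.iff_card.mp hPp
  have hidx : ∀ ω : Ω, (MulAction.stabilizer G ω).index = m * p := by
    intro ω
    rw [MulAction.index_stabilizer_of_transitive, Nat.card_eq_fintype_card, hΩ]
  have horb : ∀ ω : Ω, (MulAction.orbit (P : Subgroup G) ω).ncard = p := by
    intro ω
    have hdvd : p ∣ (MulAction.orbit (P : Subgroup G) ω).ncard := by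
      have h0 := sylow_orbit_dvd P ω 1 (by rw [hidx, pow_one]; exact dvd_mul_left p m)
      rwa [pow_one] at h0
    have hdvdP : (MulAction.orbit (P : Subgroup G) ω).ncard ∣ p ^ a := by
      rw [← ha, ← MulAction.index_stabilizer]
      exact Subgroup.index_dvd_card _
    obtain ⟨i, hi, hi'⟩ := (Nat.dvd_prime_pow hp).mp hdvdP
    have hle : (MulAction.orbit (P : Subgroup G) ω).ncard ≤ m * p := by
      rw [← hΩ, ← Nat.card_eq_fintype_card, ← Set.ncard_univ]
      exact Set.ncard_le_ncard (Set.subset_univ _)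
    rw [hi'] at hdvd hle ⊢
    have hi1 : i ≠ 0 := by
      rintro rfl
      rw [pow_zero, Nat.dvd_one] at hdvd
      exact hp.one_lt.ne' hdvd
    have hi2 : i < 2 := by
      by_contra hcon
      push Not at hcon
      have h5 : p ^ 2 ≤ p ^ i := Nat.pow_le_pow_right hp.pos hcon
      have h6 : m * p < p * p := Nat.mul_lt_mul_of_pos_right hmp hp.pos
      nlinarith
    have hi3 : i = 1 := by omega
    rw [hi3, pow_one]
  obtain ⟨ω₀⟩ : Nonempty Ω := by
    rw [← Fintype.card_pos_iff, hΩ]
    exact Nat.mul_pos hm hp.pos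
  have ha0 : a ≠ 0 := by
    rintro rfl
    have h1 : (MulAction.orbit (P : Subgroup G) ω₀).ncard ∣ p ^ 0 := by
      rw [← ha, ← MulAction.index_stabilizer]
      exact Subgroup.index_dvd_card _
    rw [horb, pow_zero, Nat.dvd_one] at h1
    exact hp.one_lt.ne' h1
  have hstab_idx : ∀ ω : Ω, (MulAction.stabilizer (P : Subgroup G) ω).index = p := fun ω => by
    rw [MulAction.index_stabilizer, horb]
  have hnormal : ∀ ω : Ω, (MulAction.stabilizer (P : Subgroup G) ω).Normal := by
    intro ω
    apply Subgroup.normal_of_index_eq_minFac_card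
    rw [hstab_idx, ha, Nat.pow_minFac ha0, Nat.Prime.minFac_eq hp]
  have hfix : ∀ (g : (P : Subgroup G)) (ω : Ω), g • ω = ω →
      ∀ h : (P : Subgroup G), g • (h • ω) = h • ω := by
    intro g ω hg h
    have hmem : g ∈ MulAction.stabilizer (P : Subgroup G) ω := hg
    have h1 := (hnormal ω).conj_mem g hmem h⁻¹
    rw [inv_inv] at h1
    have h2 : (h⁻¹ * g * h) • ω = ω := h1
    calc g • (h • ω) = h • ((h⁻¹ * g * h) • ω) := by
          rw [smul_smul, smul_smul]
          congr 1
          group
      _ = h • ω := by rw [h2]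
  have hex : ∃ g : (P : Subgroup G), ∀ ω : Ω, g • ω ≠ ω := by
    by_contra hcon
    push Not at hcon
    let _ : Fintype (P : Subgroup G) := Fintype.ofFinite _
    have hcount : ∑ g : (P : Subgroup G), (Finset.univ.filter (fun ω : Ω => g • ω = ω)).card
        = ∑ ω : Ω, (Finset.univ.filter (fun g : (P : Subgroup G) => g • ω = ω)).card :=
      Finset.sum_card_bipartiteAbove_eq_sum_card_bipartiteBelow
        (fun (g : (P : Subgroup G)) (ω : Ω) => g • ω = ω)
    have hL : ∀ g : (P : Subgroup G), p ≤ (Finset.univ.filter (fun ω : Ω => g • ω = ω)).card := by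
      intro g
      obtain ⟨ω, hω⟩ := hcon g
      have hsub : (MulAction.orbit (P : Subgroup G) ω) ⊆
          ((Finset.univ.filter (fun ω : Ω => g • ω = ω) : Finset Ω) : Set Ω) := by
        rintro _ ⟨h, rfl⟩
        exact Finset.mem_coe.mpr (Finset.mem_filter.mpr ⟨Finset.mem_univ _, hfix g ω hω h⟩)
      have h3 := Set.ncard_le_ncard hsub (Finset.finite_toSet _)
      rwa [horb, Set.ncard_coe_finset] at h3
    have hR : ∀ ω : Ω, p * (Finset.univ.filter (fun g : (P : Subgroup G) => g • ω = ω)).card
        = Fintype.card (P : Subgroup G) := by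
      intro ω
      have h1 := Subgroup.card_mul_index (MulAction.stabilizer (P : Subgroup G) ω)
      rw [hstab_idx] at h1
      have h2 : Nat.card (MulAction.stabilizer (P : Subgroup G) ω)
          = (Finset.univ.filter (fun g : (P : Subgroup G) => g • ω = ω)).card := by
        rw [← Nat.card_eq_finsetCard]
        exact Nat.card_congr (Equiv.subtypeEquivRight (fun g => by simp [MulAction.mem_stabilizer_iff]))
      rw [← h2, mul_comm, h1, Nat.card_eq_fintype_card]
    have h3 : p * Fintype.card (P : Subgroup G)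
        ≤ ∑ g : (P : Subgroup G), (Finset.univ.filter (fun ω : Ω => g • ω = ω)).card := by
      calc p * Fintype.card (P : Subgroup G) = ∑ _g : (P : Subgroup G), p := by
            simp [mul_comm]
        _ ≤ _ := Finset.sum_le_sum (fun g _ => hL g)
    have h4 : p * ∑ ω : Ω, (Finset.univ.filter (fun g : (P : Subgroup G) => g • ω = ω)).card
        = m * p * Fintype.card (P : Subgroup G) := by
      rw [Finset.mul_sum, Finset.sum_congr rfl (fun ω _ => hR ω), Finset.sum_const, Finset.card_univ,
        hΩ, smul_eq_mul]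
    have hPpos : 0 < Fintype.card (P : Subgroup G) := Fintype.card_pos
    rw [hcount] at h3
    have h5 : p * (p * Fintype.card (P : Subgroup G)) ≤ m * p * Fintype.card (P : Subgroup G) := by
      rw [← h4]
      exact Nat.mul_le_mul_left p h3
    have h6 : m * p * Fintype.card (P : Subgroup G) < p * (p * Fintype.card (P : Subgroup G)) := by
      have h7 : m * (p * Fintype.card (P : Subgroup G)) < p * (p * Fintype.card (P : Subgroup G)) :=
        Nat.mul_lt_mul_of_pos_right hmp (Nat.mul_pos hp.pos hPpos)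
      rwa [mul_assoc]
    omega
  obtain ⟨g, hg⟩ := hex
  have hgp : (g : G) ^ p = 1 := by
    apply FaithfulSMul.eq_of_smul_eq_smul (α := Ω)
    intro ω
    rw [one_smul]
    have h1 : g ^ p ∈ MulAction.stabilizer (P : Subgroup G) ω := by
      have h2 := @Subgroup.pow_index_mem _ _ (MulAction.stabilizer (P : Subgroup G) ω) (hnormal ω) g
      rwa [hstab_idx] at h2
    exact h1
  have hg1 : (g : G) ≠ 1 := by
    intro h1
    apply hg ω₀
    show (g : G) • ω₀ = ω₀
    rw [h1, one_smul]
  refine ⟨(g : G), ?_, fun ω => hg ω⟩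
  have h1 := orderOf_dvd_of_pow_eq_one hgp
  rcases (Nat.dvd_prime hp).mp h1 with h | h
  · exact absurd (orderOf_eq_one_iff.mp h) hg1
  · exact h

/-- If a finite group acts faithfully and transitively on a set with m·p elements, where p is a prime and 1 ≤ m ≤ p, then some element of order p fixes no point. -/
theorem result {G Ω : Type*} [Group G] [Finite G] [MulAction G Ω] [FaithfulSMul G Ω] [Fintype Ω] (htr : MulAction.IsPretransitive G Ω)
    (p m : ℕ) (hp : p.Prime) (hm : 1 ≤ m) (hmp : m ≤ p) (hΩ : Fintype.card Ω = m * p) :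
    ∃ g : G, orderOf g = p ∧ ∀ ω : Ω, g • ω ≠ ω := by
  rcases Nat.lt_or_eq_of_le hmp with hlt | heq
  · exact exists_derangement_lt htr p m hp hm hlt hΩ
  · subst heq
    exact Cfsg.Agent.S5726.result htr m 2 hp (by norm_num) (by rw [hΩ, pow_two])

end Cfsg.Agent.S5727
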