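import Cfsg.Statements.S5728
-- import your own Cfsg.Agent.* helpers here

set_option autoImplicit false
open Cfsg

namespace Cfsg.Agent.S5728

/-- An elusive transitive action. Let p = 2^s − 1 be a prime and let F be the field with p² elements. Inside the group of affine maps x ↦ a·x + b of F (a ≠ 0), consider the subgroup of maps with both coefficients in the prime field. Then every element of prime order of the affine group is conjugate, within the affine group, to an element of that subgroup; equivalently, in the transitive action of the affine group on the cosets of that subgroup (of degree p(p + 1)) every element of prime order fixes a point. -/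
theorem result (p s : ℕ) [Fact p.Prime] (hs : p = 2 ^ s - 1)
    (g : Equiv.Perm (GaloisField p 2)) (hg : g ∈ Cfsg.affineGroup (GaloisField p 2)) (hord : (orderOf g).Prime) :
    ∃ x ∈ Cfsg.affineGroup (GaloisField p 2), ∃ a b : ZMod p, a ≠ 0 ∧
      ∀ y : GaloisField p 2, (x * g * x⁻¹) y = algebraMap (ZMod p) (GaloisField p 2) a * y + algebraMap (ZMod p) (GaloisField p 2) b := by
  classical
  obtain ⟨a, b, hab⟩ := hg
  have hg1 : g ≠ 1 := by
    intro h; rw [h, orderOf_one] at hord; exact Nat.not_prime_one hord
  by_cases ha1 : (a : GaloisField p 2) = 1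
  · have hb0 : b ≠ 0 := by
      intro hb
      apply hg1
      ext y
      rw [hab, ha1, hb]; simp
    let x : Equiv.Perm (GaloisField p 2) :=
      { toFun := fun y => b⁻¹ * y
        invFun := fun y => b * y
        left_inv := fun y => by
          show b * (b⁻¹ * y) = y
          rw [← mul_assoc, mul_inv_cancel₀ hb0, one_mul]
        right_inv := fun y => by
          show b⁻¹ * (b * y) = y
          rw [← mul_assoc, inv_mul_cancel₀ hb0, one_mul] }
    refine ⟨x, ⟨Units.mk0 b⁻¹ (inv_ne_zero hb0), 0, fun y => ?_⟩, 1, 1, one_ne_zero, fun y => ?_⟩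
    · show b⁻¹ * y = b⁻¹ * y + 0
      rw [add_zero]
    · show b⁻¹ * g (b * y) = _
      rw [hab, ha1]
      simp only [map_one, one_mul]
      field_simp
  · have h1a : (1 : GaloisField p 2) - a ≠ 0 := sub_ne_zero.mpr (Ne.symm ha1)
    obtain ⟨y₀, hy₀⟩ : ∃ y₀ : GaloisField p 2, y₀ = b / (1 - a) := ⟨_, rfl⟩
    have hfix : (a : GaloisField p 2) * y₀ + b = y₀ := by
      rw [hy₀]; field_simp; ring
    let x : Equiv.Perm (GaloisField p 2) :=
      { toFun := fun y => y - y₀
        invFun := fun y => y + y₀
        left_inv := fun y => by simp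
        right_inv := fun y => by simp }
    have hx : x ∈ Cfsg.affineGroup (GaloisField p 2) :=
      ⟨1, -y₀, fun y => by show y - y₀ = ((1 : (GaloisField p 2)ˣ) : GaloisField p 2) * y + -y₀; rw [Units.val_one]; ring⟩
    have hconj : ∀ y, (x * g * x⁻¹) y = a * y := by
      intro y
      show g (y + y₀) - y₀ = a * y
      rw [hab]; linear_combination hfix
    have hpow : ∀ n : ℕ, ∀ y, ((x * g * x⁻¹) ^ n) y = (a : GaloisField p 2) ^ n * y := by
      intro n
      induction n with
      | zero => intro y; simp
      | succ n ih => intro y; rw [pow_succ, Equiv.Perm.mul_apply, hconj, ih]; ring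
    have hord' : orderOf (x * g * x⁻¹) = orderOf g := by
      have h := MulEquiv.orderOf_eq (MulAut.conj x) g
      rwa [MulAut.conj_apply] at h
    obtain ⟨ℓ, hℓ⟩ : ∃ ℓ, ℓ = orderOf g := ⟨_, rfl⟩
    rw [← hℓ] at hord hord'
    have h1 : (x * g * x⁻¹) ^ ℓ = 1 := by rw [← hord']; exact pow_orderOf_eq_one _
    have haℓ : (a : GaloisField p 2) ^ ℓ = 1 := by
      have h := hpow ℓ 1
      rw [h1] at h
      simpa using h.symm
    haveI : Fact ℓ.Prime := ⟨hord⟩
    have hoa : orderOf (a : GaloisField p 2) = ℓ := orderOf_eq_prime haℓ ha1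
    letI : Fintype (GaloisField p 2) := Fintype.ofFinite _
    have hcard : Fintype.card (GaloisField p 2) = p ^ 2 := by
      rw [← Nat.card_eq_fintype_card]; exact GaloisField.card p 2 (by norm_num)
    have ha0 : (a : GaloisField p 2) ≠ 0 := a.ne_zero
    have hfl := FiniteField.pow_card_sub_one_eq_one (a : GaloisField p 2) ha0
    rw [hcard] at hfl
    have hdvd : ℓ ∣ p ^ 2 - 1 := by rw [← hoa]; exact orderOf_dvd_of_pow_eq_one hfl
    have hp2 : 2 ≤ p := (Fact.out : p.Prime).two_le
    have hpow2 : p + 1 = 2 ^ s := by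
      have := Nat.one_le_two_pow (n := s)
      omega
    have hfac : p ^ 2 - 1 = (p - 1) * 2 ^ s := by
      rw [← hpow2]
      obtain ⟨k, rfl⟩ : ∃ k, p = k + 1 := ⟨p - 1, by omega⟩
      apply Nat.sub_eq_of_eq_add
      simp only [Nat.add_sub_cancel]
      ring
    rw [hfac] at hdvd
    have hdvd' : ℓ ∣ p - 1 := by
      rcases (Nat.Prime.dvd_mul hord).mp hdvd with h | h
      · exact h
      · have h2 : ℓ ∣ 2 := Nat.Prime.dvd_of_dvd_pow hord h
        have hℓ2 : ℓ = 2 := (Nat.prime_dvd_prime_iff_eq hord Nat.prime_two).mp h2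
        rw [hℓ2]
        have hs0 : s ≠ 0 := by
          intro h0; rw [h0] at hpow2; omega
        obtain ⟨m, hm⟩ : 2 ∣ 2 ^ s := dvd_pow_self 2 hs0
        exact ⟨m - 1, by omega⟩
    have hap1 : (a : GaloisField p 2) ^ (p - 1) = 1 := by
      rw [← orderOf_dvd_iff_pow_eq_one, hoa]; exact hdvd'
    have hap : (a : GaloisField p 2) ^ p = a := by
      have e : p - 1 + 1 = p := by omega
      have h3 : (a : GaloisField p 2) ^ (p - 1 + 1) = a := by rw [pow_succ, hap1, one_mul]
      rw [e] at h3
      exact h3
    have hbot : (a : GaloisField p 2) ∈ (⊥ : Subfield (GaloisField p 2)) :=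
      (Subfield.mem_bot_iff_pow_eq_self (GaloisField p 2) p).mpr hap
    obtain ⟨n, hn⟩ := (mem_bot_iff_intCast p (GaloisField p 2)).mp hbot
    refine ⟨x, hx, (n : ZMod p), 0, ?_, fun y => ?_⟩
    · intro h0
      apply ha0
      rw [← hn]
      have h' := congrArg (algebraMap (ZMod p) (GaloisField p 2)) h0
      rwa [map_intCast, map_zero] at h'
    · rw [hconj, map_intCast, map_zero, add_zero, hn]

end Cfsg.Agent.S5728
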