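import Cfsg.Statements.S5885
-- import your own Cfsg.Agent.* helpers here

set_option autoImplicit false
open Cfsg

namespace Cfsg.Agent.S5885


open scoped Pointwise

theorem coatom_subgroupOf_elim {G : Type*} [Group G] {H M : Subgroup G}
    (hmax : IsCoatom (H.subgroupOf M)) (L : Subgroup G) (hHL : H ≤ L) (hLM : L ≤ M) :
    L ≤ H ∨ M ≤ L := by
  by_cases hLH : L ≤ H
  · exact Or.inl hLH
  · right
    have hlt : H.subgroupOf M < L.subgroupOf M := by
      refine lt_of_le_of_ne ?_ ?_
      · intro x hx; exact hHL hx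
      · intro heq
        apply hLH
        intro l hl
        have h1 : (⟨l, hLM hl⟩ : M) ∈ L.subgroupOf M := hl
        rw [← heq] at h1
        exact h1
    have h2 := hmax.2 _ hlt
    exact Subgroup.subgroupOf_eq_top.mp h2

theorem alt_le_of_preprimitive {Ω : Type*} [Fintype Ω] [DecidableEq Ω] (n : ℕ)
    (hn : Fintype.card Ω = n)
    (hA : ∀ P : Subgroup (Equiv.Perm (Fin n)), MulAction.IsPreprimitive P (Fin n) →
      alternatingGroup (Fin n) ≤ P)
    (P : Subgroup (Equiv.Perm Ω)) (hP : MulAction.IsPreprimitive P Ω) :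
    alternatingGroup Ω ≤ P := by
  let e : Ω ≃ Fin n := Fintype.equivFinOfCardEq hn
  let ψ : Equiv.Perm Ω ≃* Equiv.Perm (Fin n) := e.permCongrHom
  let P' : Subgroup (Equiv.Perm (Fin n)) := P.map ψ.toMonoidHom
  let φ : P → P' := fun g => ⟨ψ g, Subgroup.mem_map_of_mem _ g.2⟩
  let f : Ω →ₑ[φ] Fin n :=
    { toFun := e
      map_smul' := by
        intro g x
        show e ((g : Equiv.Perm Ω) x) = (ψ (g : Equiv.Perm Ω)) (e x)
        simp [ψ, Equiv.permCongrHom, Equiv.permCongr_apply] }
  have hP' : MulAction.IsPreprimitive P' (Fin n) :=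
    MulAction.IsPreprimitive.of_surjective (f := f) e.surjective
  have hle := hA P' hP'
  intro σ hσ
  have h1 : ψ σ ∈ alternatingGroup (Fin n) := by
    rw [Equiv.Perm.mem_alternatingGroup] at hσ ⊢
    have h2 : ψ σ = e.permCongr σ := rfl
    rw [h2, Equiv.Perm.sign_permCongr]; exact hσ
  obtain ⟨τ, hτ, hτσ⟩ := hle h1
  have h3 : τ = σ := ψ.injective hτσ
  rw [← h3]; exact hτ

theorem exists_smul_eq_of_mem_alt {G Ω : Type*} [Group G] [MulAction G Ω] [Fintype Ω]
    [DecidableEq Ω] (n : ℕ) (hn : Fintype.card Ω = n)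
    (hA : ∀ P : Subgroup (Equiv.Perm (Fin n)), MulAction.IsPreprimitive P (Fin n) →
      alternatingGroup (Fin n) ≤ P)
    (hG : MulAction.IsPreprimitive G Ω) (σ : Equiv.Perm Ω) (hσ : σ ∈ alternatingGroup Ω) :
    ∃ g : G, ∀ x, g • x = σ x := by
  let P : Subgroup (Equiv.Perm Ω) := (MulAction.toPermHom G Ω).range
  let φ : G → P := fun g => ⟨MulAction.toPermHom G Ω g, ⟨g, rfl⟩⟩
  let f : Ω →ₑ[φ] Ω := { toFun := id, map_smul' := fun g x => rfl }
  have hP : MulAction.IsPreprimitive P Ω :=
    MulAction.IsPreprimitive.of_surjective (f := f) Function.surjective_id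
  obtain ⟨g, hg⟩ := alt_le_of_preprimitive n hn hA P hP hσ
  exact ⟨g, fun x => by rw [← hg]; rfl⟩

theorem exists_three_cycle {G Ω : Type*} [Group G] [MulAction G Ω] [Fintype Ω]
    [DecidableEq Ω]
    (halt : ∀ σ : Equiv.Perm Ω, σ ∈ alternatingGroup Ω → ∃ g : G, ∀ x, g • x = σ x)
    (x y z : Ω) (hxy : x ≠ y) (hxz : x ≠ z) (hyz : y ≠ z) :
    ∃ g : G, g • x = y ∧ g • y = z ∧ ∀ w, w ≠ x → w ≠ y → w ≠ z → g • w = w := by
  have hσ : Equiv.swap x y * Equiv.swap y z ∈ alternatingGroup Ω := by
    rw [Equiv.Perm.mem_alternatingGroup, Equiv.Perm.sign_mul, Equiv.Perm.sign_swap hxy,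
      Equiv.Perm.sign_swap hyz]
    rfl
  obtain ⟨g, hg⟩ := halt _ hσ
  refine ⟨g, ?_, ?_, ?_⟩
  · rw [hg, Equiv.Perm.mul_apply, Equiv.swap_apply_of_ne_of_ne hxy hxz,
      Equiv.swap_apply_left]
  · rw [hg, Equiv.Perm.mul_apply, Equiv.swap_apply_left,
      Equiv.swap_apply_of_ne_of_ne hxz.symm hyz.symm]
  · intro w h1 h2 h3
    rw [hg, Equiv.Perm.mul_apply, Equiv.swap_apply_of_ne_of_ne h2 h3,
      Equiv.swap_apply_of_ne_of_ne h1 h2]

theorem no_imprimitive {G X : Type*} [Group G] [MulAction G X] [Fintype X] [DecidableEq X]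
    (n : ℕ) (hodd : Odd n) (hcard : Fintype.card X = n)
    (h3c : ∀ x y z : X, x ≠ y → x ≠ z → y ≠ z →
      ∃ g : G, g • x = y ∧ g • y = z ∧ ∀ w, w ≠ x → w ≠ y → w ≠ z → g • w = w)
    (α : X) (M H K : Subgroup G) (hstab : MulAction.stabilizer G α = M)
    (hHM : H ≤ M) (hHK : H ≤ K)
    (hmax : ∀ L : Subgroup G, H ≤ L → L ≤ M → L ≤ H ∨ M ≤ L)
    (htr : MulAction.IsPretransitive K X) (B : Set X) (hB : MulAction.IsBlock K B)
    (hαB : α ∈ B) (hBns : ¬ B.Subsingleton) (hBne : B ≠ Set.univ) : False := by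
  have hBne' : B.Nonempty := ⟨α, hαB⟩
  have hdvd : B.ncard ∣ Nat.card X := hB.ncard_dvd_card hBne'
  rw [Nat.card_eq_fintype_card, hcard] at hdvd
  have ha2 : 2 ≤ B.ncard := by
    have h1 : B.Nontrivial := Set.not_subsingleton_iff.mp hBns
    exact (Set.one_lt_ncard (Set.toFinite B)).mpr h1
  have hlt : B.ncard < n := by
    have h1 : B ⊂ Set.univ := Set.ssubset_univ_iff.mpr hBne
    have h2 := Set.ncard_lt_ncard h1 (Set.toFinite _)
    rwa [Set.ncard_univ, Nat.card_eq_fintype_card, hcard] at h2
  have h3a : 3 * B.ncard ≤ n := by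
    obtain ⟨b, hb⟩ := hdvd
    obtain ⟨t, ht⟩ := hodd
    have hb3 : 3 ≤ b := by
      by_contra hcon
      have h012 : b = 0 ∨ b = 1 ∨ b = 2 := by omega
      rcases h012 with h | h | h <;> subst h <;> omega
    calc 3 * B.ncard = B.ncard * 3 := by ring
      _ ≤ B.ncard * b := Nat.mul_le_mul_left _ hb3
      _ = n := hb.symm
  obtain ⟨x, hxB, hxα⟩ : ∃ x ∈ B, x ≠ α := by
    by_contra hcon; push Not at hcon
    exact hBns (fun u hu v hv => by rw [hcon u hu, hcon v hv])
  obtain ⟨y, hyB⟩ : ∃ y, y ∉ B := by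
    by_contra hcon; push Not at hcon
    exact hBne (Set.eq_univ_of_forall hcon)
  let T : Subgroup G := M ⊓ MulAction.stabilizer G B
  have hHT : H ≤ T := by
    intro h hh
    refine ⟨hHM hh, ?_⟩
    have hα' : h • α = α := by
      have h1 : h ∈ MulAction.stabilizer G α := by rw [hstab]; exact hHM hh
      exact h1
    have h2 := hB.smul_eq_of_mem (g := (⟨h, hHK hh⟩ : K)) (a := α) hαB
      (by show h • α ∈ B; rw [hα']; exact hαB)
    exact h2
  rcases hmax T hHT inf_le_left with hT | hT
  · obtain ⟨k, hk⟩ := MulAction.exists_smul_eq K α y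
    have hB2 : MulAction.IsBlock K (k • B) := hB.translate k
    have hyB2 : y ∈ k • B := ⟨α, hαB, hk⟩
    have hdisj : Disjoint (k • B) B := by
      rcases hB.smul_eq_or_disjoint k with h | h
      · exact absurd (h ▸ hyB2) hyB
      · exact h
    have hx'B2 : k • x ∈ k • B := Set.smul_mem_smul_set hxB
    have hx'y : k • x ≠ y := by
      intro h; rw [← hk] at h; exact hxα (MulAction.injective k h)
    obtain ⟨z, hz⟩ : ∃ z, z ∉ B ∪ k • B := by
      by_contra hcon; push Not at hcon
      have huniv : B ∪ k • B = Set.univ := Set.eq_univ_of_forall hcon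
      have h1 := Set.ncard_union_le B (k • B)
      rw [huniv, Set.ncard_univ, Nat.card_eq_fintype_card, hcard, Set.ncard_smul_set] at h1
      omega
    have hzB : z ∉ B := fun h => hz (Or.inl h)
    have hzB2 : z ∉ k • B := fun h => hz (Or.inr h)
    have hx'z : k • x ≠ z := fun h => hzB2 (h ▸ hx'B2)
    have hyz : y ≠ z := fun h => hzB2 (h ▸ hyB2)
    obtain ⟨g, hg1, hg2, hg3⟩ := h3c (k • x) y z hx'y hx'z hyz
    have hfixB : ∀ w ∈ B, g • w = w := by
      intro w hw
      apply hg3
      · rintro rfl; exact Set.disjoint_left.mp hdisj hx'B2 hw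
      · rintro rfl; exact hyB hw
      · rintro rfl; exact hzB hw
    have hgT : g ∈ T := by
      refine ⟨?_, ?_⟩
      · rw [← hstab]; exact hfixB α hαB
      · show g ∈ MulAction.stabilizer G B
        rw [MulAction.mem_stabilizer_set]
        intro w
        constructor
        · intro hw
          have h1 := hfixB (g • w) hw
          have h2 : g • w = w := MulAction.injective g h1
          rw [← h2]; exact hw
        · intro hw; rw [hfixB w hw]; exact hw
    have hgK : g ∈ K := hHK (hT hgT)
    rcases hB2.smul_eq_or_disjoint (⟨g, hgK⟩ : K) with h | h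
    · have h1 : z ∈ (⟨g, hgK⟩ : K) • (k • B) := ⟨y, hyB2, hg2⟩
      rw [h] at h1
      exact hzB2 h1
    · have h1 : y ∈ (⟨g, hgK⟩ : K) • (k • B) := ⟨k • x, hx'B2, hg1⟩
      exact Set.disjoint_left.mp h h1 hyB2
  · obtain ⟨z, hzα, hzx, hzy⟩ : ∃ z, z ≠ α ∧ z ≠ x ∧ z ≠ y := by
      by_contra hcon; push Not at hcon
      have hsub : (Finset.univ : Finset X) ⊆ {α, x, y} := by
        intro z _
        by_cases h1 : z = α
        · simp [h1]
        · by_cases h2 : z = x
          · simp [h2]
          · simp [hcon z h1 h2]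
      have h4 := Finset.card_le_card hsub
      rw [Finset.card_univ, hcard] at h4
      have h3 := Finset.card_le_three (a := α) (b := x) (c := y)
      omega
    have hxy : x ≠ y := fun h => hyB (h ▸ hxB)
    obtain ⟨g, hg1, hg2, hg3⟩ := h3c x y z hxy hzx.symm hzy.symm
    have hαy : α ≠ y := fun h => hyB (h ▸ hαB)
    have hgM : g ∈ M := by rw [← hstab]; exact hg3 α hxα.symm hαy hzα.symm
    have hgB : g ∈ MulAction.stabilizer G B := (hT hgM).2
    rw [MulAction.mem_stabilizer_set] at hgB
    exact hyB (hg1 ▸ (hgB x).mpr hxB)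

theorem coatom_of_intransitive {G X : Type*} [Group G] [Finite G] [MulAction G X] [Fintype X]
    [DecidableEq X]
    (halt : ∀ σ : Equiv.Perm X, σ ∈ alternatingGroup X → ∃ g : G, ∀ x, g • x = σ x)
    (hGtr : MulAction.IsPretransitive G X)
    (α : X) (M K : Subgroup G) (hstab : MulAction.stabilizer G α = M) (hK : IsCoatom K)
    (hKM : ¬ K ≤ M) (htr : ¬ MulAction.IsPretransitive K X) :
    IsCoatom (MulAction.stabilizer K α) := by
  classical
  set O : Set X := MulAction.orbit K α with hO
  have hOne : O ≠ Set.univ := by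
    intro h
    apply htr
    rw [MulAction.isPretransitive_iff_orbit_eq_univ (G := K) α]
    exact h
  have hKS : K ≤ MulAction.stabilizer G O := by
    intro k hk
    rw [MulAction.mem_stabilizer_set]
    intro b
    constructor
    · intro hb
      have h1 : (⟨k, hk⟩ : K)⁻¹ • (k • b) ∈ O := MulAction.mem_orbit_of_mem_orbit _ hb
      have h2 : (⟨k, hk⟩ : K)⁻¹ • (k • b) = b := by
        show k⁻¹ • (k • b) = b
        rw [inv_smul_smul]
      rw [h2] at h1
      exact h1
    · intro hb
      exact MulAction.mem_orbit_of_mem_orbit (⟨k, hk⟩ : K) hb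
  have hαO : α ∈ O := MulAction.mem_orbit_self α
  have hSne : MulAction.stabilizer G O ≠ ⊤ := by
    intro htop
    apply hOne
    apply Set.eq_univ_of_forall
    intro x
    obtain ⟨g, hg⟩ := MulAction.exists_smul_eq G α x
    have hgS : g ∈ MulAction.stabilizer G O := by rw [htop]; trivial
    rw [MulAction.mem_stabilizer_set] at hgS
    rw [← hg]
    exact (hgS α).mpr hαO
  have hKeq : MulAction.stabilizer G O = K := by
    rcases eq_or_lt_of_le hKS with h | h
    · exact h.symm
    · exact absurd (hK.2 _ h) hSne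
  obtain ⟨k0, hk0K, hk0⟩ : ∃ k ∈ K, k • α ≠ α := by
    by_contra hcon; push Not at hcon
    apply hKM
    intro k hk
    rw [← hstab]; exact hcon k hk
  have hnt : Nontrivial O :=
    ⟨⟨⟨α, hαO⟩, ⟨k0 • α, ⟨⟨k0, hk0K⟩, rfl⟩⟩, fun h => hk0 (congrArg Subtype.val h).symm⟩⟩
  have hFO : Fintype O := Fintype.ofFinite O
  have hprimO : MulAction.IsPreprimitive K O := by
    by_cases h3 : 3 ≤ Nat.card O
    · have hprimA := alternatingGroup.isPreprimitive_of_three_le_card (α := O) h3
      have hex : ∀ σ : alternatingGroup O, ∃ k : K, ∀ x : O,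
          ((k • x : O) : X) = ((σ : Equiv.Perm O) x : X) := by
        intro σ
        have hσ' : Equiv.Perm.ofSubtype (σ : Equiv.Perm O) ∈ alternatingGroup X := by
          rw [Equiv.Perm.mem_alternatingGroup, Equiv.Perm.sign_ofSubtype]
          exact Equiv.Perm.mem_alternatingGroup.mp σ.2
        obtain ⟨g, hg⟩ := halt _ hσ'
        have hgK : g ∈ K := by
          rw [← hKeq, MulAction.mem_stabilizer_set]
          intro b
          rw [hg]
          exact Equiv.Perm.ofSubtype_apply_mem_iff_mem (σ : Equiv.Perm O) b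
        refine ⟨⟨g, hgK⟩, fun x => ?_⟩
        show g • (x : X) = _
        rw [hg, Equiv.Perm.ofSubtype_apply_coe]
      choose φ hφ using hex
      let f : O →ₑ[φ] O :=
        { toFun := id
          map_smul' := by
            intro σ x
            apply Subtype.ext
            exact (hφ σ x).symm }
      exact MulAction.IsPreprimitive.of_surjective (f := f) Function.surjective_id
    · have h2 : Nat.card O = 2 := by
        have h1 : 1 < Nat.card O := Finite.one_lt_card_iff_nontrivial.mpr hnt
        omega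
      exact MulAction.IsPreprimitive.of_prime_card (by rw [h2]; exact Nat.prime_two)
  have hco := (MulAction.isCoatom_stabilizer_iff_preprimitive K (⟨α, hαO⟩ : O)).mpr hprimO
  have hst : MulAction.stabilizer K (⟨α, hαO⟩ : O) = MulAction.stabilizer K α := by
    ext k
    rw [MulAction.mem_stabilizer_iff, MulAction.mem_stabilizer_iff, Subtype.ext_iff]
    rfl
  rw [← hst]; exact hco

/-- Let n be an odd positive integer such that every primitive permutation group of degree n contains the alternating group (so the symmetric and alternating groups are the only primitive groups of degree n). Let G be a finite group, M a maximal subgroup of G of index n, and H a maximal subgroup of M. Then H is a second maximal subgroup of G: H is maximal in every maximal subgroup K of G containing H. -/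
theorem result {G : Type*} [Group G]
    [Finite G] (n : ℕ) (hodd : Odd n)
    (hA : ∀ P : Subgroup (Equiv.Perm (Fin n)), MulAction.IsPreprimitive P (Fin n) → alternatingGroup (Fin n) ≤ P)
    (M : Subgroup G) (hM : IsCoatom M) (hn : M.index = n) (H : Subgroup G) (hHM : H ≤ M)
    (hmax : IsCoatom (H.subgroupOf M)) (K : Subgroup G) (hK : IsCoatom K) (hHK : H ≤ K) :
    IsCoatom (H.subgroupOf K) := by
  classical
  by_cases hKM : K = M
  · subst hKM; exact hmax
  have hHeq : M ⊓ K ≤ H := by
    rcases coatom_subgroupOf_elim hmax (M ⊓ K) (le_inf hHM hHK) inf_le_left with h | h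
    · exact h
    · exfalso
      have hMK : M ≤ K := h.trans inf_le_right
      rcases eq_or_lt_of_le hMK with h1 | h1
      · exact hKM h1.symm
      · exact hK.1 (hM.2 K h1)
  have hgoal : H.subgroupOf K = M.subgroupOf K := by
    ext k
    constructor
    · intro hk; exact hHM hk
    · intro hk; exact hHeq ⟨hk, k.2⟩
  rw [hgoal]
  have hFin : Fintype (G ⧸ M) := Fintype.ofFinite _
  set α : G ⧸ M := ((1 : G) : G ⧸ M) with hα
  have hstab : MulAction.stabilizer G α = M := MulAction.stabilizer_quotient M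
  have hcard : Nat.card (G ⧸ M) = n := hn
  have hcardF : Fintype.card (G ⧸ M) = n := by
    rw [← Nat.card_eq_fintype_card]; exact hn
  have hn1 : n ≠ 1 := by
    intro h1; rw [h1] at hn; exact hM.1 (Subgroup.index_eq_one.mp hn)
  have hn3 : 3 ≤ n := by
    obtain ⟨t, ht⟩ := hodd; omega
  have hnt : Nontrivial (G ⧸ M) :=
    Finite.one_lt_card_iff_nontrivial.mp (by rw [hcard]; omega)
  have hprim : MulAction.IsPreprimitive G (G ⧸ M) :=
    (MulAction.isCoatom_stabilizer_iff_preprimitive G α).mp (by rw [hstab]; exact hM)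
  have hstabK : M.subgroupOf K = MulAction.stabilizer K α := by
    ext k
    have h1 : (k : G) ∈ MulAction.stabilizer G α ↔ (k : G) ∈ M := by rw [hstab]
    rw [Subgroup.mem_subgroupOf, ← h1]
    rfl
  rw [hstabK]
  have halt : ∀ σ : Equiv.Perm (G ⧸ M), σ ∈ alternatingGroup (G ⧸ M) →
      ∃ g : G, ∀ x, g • x = σ x :=
    fun σ hσ => exists_smul_eq_of_mem_alt n hcardF hA hprim σ hσ
  by_cases htr : MulAction.IsPretransitive K (G ⧸ M)
  · by_cases hprimK : MulAction.IsPreprimitive K (G ⧸ M)
    · exact (MulAction.isCoatom_stabilizer_iff_preprimitive K α).mpr hprimK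
    · exfalso
      have hexB : ∃ B : Set (G ⧸ M), MulAction.IsBlock K B ∧ ¬ MulAction.IsTrivialBlock B := by
        by_contra hcon; push Not at hcon
        exact hprimK
          { toIsPretransitive := htr
            isTrivialBlock_of_isBlock := fun {B} hB => hcon B hB }
      obtain ⟨B0, hB0, hB0nt⟩ := hexB
      have hB0ne : B0.Nonempty := by
        by_contra hne
        rw [Set.not_nonempty_iff_eq_empty] at hne
        apply hB0nt; left; rw [hne]; exact Set.subsingleton_empty
      obtain ⟨b0, hb0⟩ := hB0ne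
      obtain ⟨k, hk⟩ := MulAction.exists_smul_eq K b0 α
      have hB : MulAction.IsBlock K (k • B0) := hB0.translate k
      have hαB : α ∈ k • B0 := ⟨b0, hb0, hk⟩
      have hBnt : ¬ MulAction.IsTrivialBlock (k • B0) := by
        rw [MulAction.IsTrivialBlock.smul_iff]; exact hB0nt
      have hBns : ¬ (k • B0).Subsingleton := fun h => hBnt (Or.inl h)
      have hBne : k • B0 ≠ Set.univ := fun h => hBnt (Or.inr h)
      exact no_imprimitive n hodd hcardF
        (fun x y z hxy hxz hyz => exists_three_cycle halt x y z hxy hxz hyz)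
        α M H K hstab hHM hHK
        (fun L h1 h2 => coatom_subgroupOf_elim hmax L h1 h2) htr (k • B0) hB hαB hBns hBne
  · have hKM' : ¬ K ≤ M := by
      intro hle
      rcases eq_or_lt_of_le hle with h | h
      · exact hKM h
      · exact hM.1 (hK.2 M h)
    exact coatom_of_intransitive halt hprim.toIsPretransitive α M K hstab hK hKM' htr

end Cfsg.Agent.S5885
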