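import Cfsg.Statements.S5895
-- import your own Cfsg.Agent.* helpers here

set_option autoImplicit false
open Cfsg

namespace Cfsg.Agent.S5895


/-- Affine maps `x ↦ a x + b` of a field with multiplier in `L`. -/
@[ext] structure Aff (F : Type) [Field F] (L : Subgroup Fˣ) where
  tr : F
  sc : L

/-- The multiplier as an element of the field. -/
def cf {F : Type} [Field F] {L : Subgroup Fˣ} (a : L) : F := ((a : Fˣ) : F)

theorem cf_mul {F : Type} [Field F] {L : Subgroup Fˣ} (a b : L) : cf (a * b) = cf a * cf b := by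
  simp [cf]

theorem cf_one {F : Type} [Field F] {L : Subgroup Fˣ} : cf (1 : L) = 1 := by
  simp [cf]

theorem cf_inv_mul {F : Type} [Field F] {L : Subgroup Fˣ} (a : L) : cf a⁻¹ * cf a = 1 := by
  rw [← cf_mul, inv_mul_cancel, cf_one]

theorem cf_mul_inv {F : Type} [Field F] {L : Subgroup Fˣ} (a : L) : cf a * cf a⁻¹ = 1 := by
  rw [← cf_mul, mul_inv_cancel, cf_one]

instance instGroupAff {F : Type} [Field F] (L : Subgroup Fˣ) : Group (Aff F L) where
  mul x y := ⟨x.tr + cf x.sc * y.tr, x.sc * y.sc⟩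
  one := ⟨0, 1⟩
  inv x := ⟨-(cf x.sc⁻¹ * x.tr), x.sc⁻¹⟩
  mul_assoc := by
    intro x y z
    apply Aff.ext
    · show x.tr + cf x.sc * y.tr + cf (x.sc * y.sc) * z.tr
        = x.tr + cf x.sc * (y.tr + cf y.sc * z.tr)
      rw [cf_mul]; ring
    · exact mul_assoc _ _ _
  one_mul := by
    intro x
    apply Aff.ext
    · show (0 : F) + cf (1 : L) * x.tr = x.tr
      rw [cf_one]; ring
    · exact one_mul _
  mul_one := by
    intro x
    apply Aff.ext
    · show x.tr + cf x.sc * (0 : F) = x.tr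
      ring
    · exact mul_one _
  inv_mul_cancel := by
    intro x
    apply Aff.ext
    · show -(cf x.sc⁻¹ * x.tr) + cf x.sc⁻¹ * x.tr = 0
      ring
    · exact inv_mul_cancel _

theorem mul_tr {F : Type} [Field F] {L : Subgroup Fˣ} (x y : Aff F L) :
    (x * y).tr = x.tr + cf x.sc * y.tr := rfl

theorem mul_sc {F : Type} [Field F] {L : Subgroup Fˣ} (x y : Aff F L) :
    (x * y).sc = x.sc * y.sc := rfl

theorem one_tr {F : Type} [Field F] {L : Subgroup Fˣ} : (1 : Aff F L).tr = 0 := rfl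

theorem one_sc {F : Type} [Field F] {L : Subgroup Fˣ} : (1 : Aff F L).sc = 1 := rfl

theorem inv_tr {F : Type} [Field F] {L : Subgroup Fˣ} (x : Aff F L) :
    (x⁻¹).tr = -(cf x.sc⁻¹ * x.tr) := rfl

theorem inv_sc {F : Type} [Field F] {L : Subgroup Fˣ} (x : Aff F L) :
    (x⁻¹).sc = x.sc⁻¹ := rfl

/-- `Aff F L` as a product of sets. -/
def affEquiv {F : Type} [Field F] (L : Subgroup Fˣ) : Aff F L ≃ F × L where
  toFun x := (x.tr, x.sc)
  invFun y := ⟨y.1, y.2⟩
  left_inv _ := rfl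
  right_inv _ := rfl

/-- The subgroup of affine maps with multiplier in `L'` and translation part in `W`. -/
def affSub {F : Type} [Field F] (L : Subgroup Fˣ) (L' : Subgroup L) (W : AddSubgroup F)
    (hW : ∀ a ∈ L', ∀ w ∈ W, cf a * w ∈ W) : Subgroup (Aff F L) where
  carrier := {x | x.sc ∈ L' ∧ x.tr ∈ W}
  mul_mem' := by
    rintro x y ⟨hx1, hx2⟩ ⟨hy1, hy2⟩
    exact ⟨L'.mul_mem hx1 hy1, W.add_mem hx2 (hW _ hx1 _ hy2)⟩
  one_mem' := ⟨L'.one_mem, W.zero_mem⟩
  inv_mem' := by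
    rintro x ⟨hx1, hx2⟩
    exact ⟨L'.inv_mem hx1, W.neg_mem (hW _ (L'.inv_mem hx1) _ hx2)⟩

theorem mem_affSub {F : Type} [Field F] (L : Subgroup Fˣ) (L' : Subgroup L) (W : AddSubgroup F)
    (hW : ∀ a ∈ L', ∀ w ∈ W, cf a * w ∈ W) (x : Aff F L) :
    x ∈ affSub L L' W hW ↔ x.sc ∈ L' ∧ x.tr ∈ W := Iff.rfl

theorem decomp {F : Type} [Field F] {L : Subgroup Fˣ} (b : F) (a : L) :
    (⟨b, a⟩ : Aff F L) = ⟨b, 1⟩ * ⟨0, a⟩ := by
  apply Aff.ext
  · show b = b + cf (1 : L) * 0
    ring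
  · show a = 1 * a
    rw [one_mul]

theorem coatom_subgroupOf_elim {G : Type*} [Group G] {H M : Subgroup G}
    (hmax : IsCoatom (H.subgroupOf M)) (L : Subgroup G) (hHL : H ≤ L) (hLM : L ≤ M) :
    L ≤ H ∨ M ≤ L := by
  by_cases hLH : L ≤ H
  · exact Or.inl hLH
  · right
    have hlt : H.subgroupOf M < L.subgroupOf M := by
      refine lt_of_le_of_ne ?_ ?_
      · intro x hx; exact hHL hx
      · intro heq
        apply hLH
        intro l hl
        have h1 : (⟨l, hLM hl⟩ : M) ∈ L.subgroupOf M := hl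
        rw [← heq] at h1
        exact h1
    have h2 := hmax.2 _ hlt
    exact Subgroup.subgroupOf_eq_top.mp h2

theorem isCoatom_subgroupOf_of {G : Type*} [Group G] (H M : Subgroup G) (hHM : H ≤ M)
    (hne : ¬ M ≤ H)
    (hmax : ∀ L : Subgroup G, H ≤ L → L ≤ M → ¬ L ≤ H → M ≤ L) :
    IsCoatom (H.subgroupOf M) := by
  constructor
  · intro h
    exact hne (Subgroup.subgroupOf_eq_top.mp h)
  · intro L' hL'
    have hLM : L'.map M.subtype ≤ M := by
      rintro x ⟨y, -, rfl⟩; exact y.2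
    have hHL : H ≤ L'.map M.subtype := by
      intro x hx
      exact ⟨⟨x, hHM hx⟩, hL'.le (Subgroup.mem_subgroupOf.mpr hx), rfl⟩
    have hnot : ¬ L'.map M.subtype ≤ H := by
      intro hle
      apply not_le_of_gt hL'
      intro y hy
      exact Subgroup.mem_subgroupOf.mpr (hle ⟨y, hy, rfl⟩)
    have h1 := hmax _ hHL hLM hnot
    rw [eq_top_iff]
    intro y _
    obtain ⟨z, hz, hzy⟩ := h1 y.2
    have h2 : z = y := Subtype.ext hzy
    rwa [← h2]

/-- The multiplier subgroup of a subgroup of the affine group. -/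
def scSub {F : Type} [Field F] {L : Subgroup Fˣ} (X : Subgroup (Aff F L)) : Subgroup L where
  carrier := {a | (⟨0, a⟩ : Aff F L) ∈ X}
  mul_mem' := by
    intro a b ha hb
    have h1 : (⟨0, a * b⟩ : Aff F L) = ⟨0, a⟩ * ⟨0, b⟩ := by
      apply Aff.ext
      · show (0 : F) = 0 + cf a * 0
        ring
      · rfl
    show (⟨0, a * b⟩ : Aff F L) ∈ X
    rw [h1]; exact X.mul_mem ha hb
  one_mem' := X.one_mem
  inv_mem' := by
    intro a ha
    have h1 : (⟨0, a⁻¹⟩ : Aff F L) = (⟨0, a⟩ : Aff F L)⁻¹ := by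
      apply Aff.ext
      · show (0 : F) = -(cf a⁻¹ * 0)
        ring
      · rfl
    show (⟨0, a⁻¹⟩ : Aff F L) ∈ X
    rw [h1]; exact X.inv_mem ha

/-- The translation subgroup of a subgroup of the affine group. -/
def trSub {F : Type} [Field F] {L : Subgroup Fˣ} (X : Subgroup (Aff F L)) : AddSubgroup F where
  carrier := {b | (⟨b, 1⟩ : Aff F L) ∈ X}
  add_mem' := by
    intro a b ha hb
    have h1 : (⟨a + b, 1⟩ : Aff F L) = ⟨a, 1⟩ * ⟨b, 1⟩ := by
      apply Aff.ext
      · show a + b = a + cf (1 : L) * b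
        rw [cf_one]; ring
      · show (1 : L) = 1 * 1
        rw [one_mul]
    show (⟨a + b, 1⟩ : Aff F L) ∈ X
    rw [h1]; exact X.mul_mem ha hb
  zero_mem' := X.one_mem
  neg_mem' := by
    intro a ha
    have h1 : (⟨-a, 1⟩ : Aff F L) = (⟨a, 1⟩ : Aff F L)⁻¹ := by
      apply Aff.ext
      · show -a = -(cf (1 : L)⁻¹ * a)
        rw [inv_one, cf_one]; ring
      · show (1 : L) = 1⁻¹
        rw [inv_one]
    show (⟨-a, 1⟩ : Aff F L) ∈ X
    rw [h1]; exact X.inv_mem ha

theorem main {F : Type} [Field F] [Finite F] (L : Subgroup Fˣ)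
    (hirr : ∀ W : AddSubgroup F, (∀ a ∈ L, ∀ w ∈ W, ((a : Fˣ) : F) * w ∈ W) → W = ⊥ ∨ W = ⊤)
    (H₀ : Subgroup L) (hH₀ : IsCoatom H₀)
    (W : AddSubgroup F) (hW : ∀ a ∈ H₀, ∀ w ∈ W, cf a * w ∈ W) (hW0 : W ≠ ⊥) (hW1 : W ≠ ⊤) :
    ∃ (M H K : Subgroup (Aff F L)), IsCoatom M ∧ M.index = Nat.card F ∧ H ≤ M ∧
      IsCoatom (H.subgroupOf M) ∧ IsCoatom K ∧ H ≤ K ∧ ¬ IsCoatom (H.subgroupOf K) := by
  classical
  have hbot : ∀ (L' : Subgroup L), ∀ a ∈ L', ∀ w ∈ (⊥ : AddSubgroup F), cf a * w ∈ (⊥ : AddSubgroup F) := by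
    intro L' a _ w hw
    rw [AddSubgroup.mem_bot] at hw ⊢
    rw [hw, mul_zero]
  have htop : ∀ (L' : Subgroup L), ∀ a ∈ L', ∀ w ∈ (⊤ : AddSubgroup F), cf a * w ∈ (⊤ : AddSubgroup F) :=
    fun _ _ _ _ _ => AddSubgroup.mem_top _
  obtain ⟨a0, ha0⟩ : ∃ a : L, a ∉ H₀ := by
    by_contra hcon; push Not at hcon
    exact hH₀.1 (eq_top_iff.mpr (fun a _ => hcon a))
  refine ⟨affSub L ⊤ ⊥ (hbot ⊤), affSub L H₀ ⊥ (hbot H₀), affSub L H₀ ⊤ (htop H₀),
    ?_, ?_, ?_, ?_, ?_, ?_, ?_⟩
  · -- M is a coatom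
    constructor
    · intro h
      have h1 : (⟨1, 1⟩ : Aff F L) ∈ affSub L ⊤ ⊥ (hbot ⊤) := by rw [h]; trivial
      have h2 : (1 : F) ∈ (⊥ : AddSubgroup F) := h1.2
      rw [AddSubgroup.mem_bot] at h2
      exact one_ne_zero h2
    · intro X hX
      obtain ⟨hle, hnle⟩ := lt_iff_le_not_ge.mp hX
      obtain ⟨g, hgX, hgM⟩ := SetLike.not_le_iff_exists.mp hnle
      have hgtr : g.tr ≠ 0 := by
        intro h0
        apply hgM
        refine ⟨Subgroup.mem_top _, ?_⟩
        rw [AddSubgroup.mem_bot]; exact h0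
      have hscX : ∀ a : L, (⟨0, a⟩ : Aff F L) ∈ X := by
        intro a
        apply hle
        exact ⟨Subgroup.mem_top _, AddSubgroup.zero_mem _⟩
      have hinv : ∀ a ∈ L, ∀ w ∈ trSub X, ((a : Fˣ) : F) * w ∈ trSub X := by
        intro a ha w hw
        have h1 : (⟨((a : Fˣ) : F) * w, 1⟩ : Aff F L) =
            ⟨0, ⟨a, ha⟩⟩ * ⟨w, 1⟩ * (⟨0, ⟨a, ha⟩⟩ : Aff F L)⁻¹ := by
          apply Aff.ext
          · rw [mul_tr, mul_tr, inv_tr, mul_sc]
            show ((a : Fˣ) : F) * w = 0 + cf (⟨a, ha⟩ : L) * w + cf ((⟨a, ha⟩ : L) * 1) * -(cf (⟨a, ha⟩ : L)⁻¹ * 0)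
            have h2 : cf (⟨a, ha⟩ : L) = ((a : Fˣ) : F) := rfl
            rw [h2]; ring
          · rw [mul_sc, mul_sc, inv_sc]
            show (1 : L) = ⟨a, ha⟩ * 1 * (⟨a, ha⟩ : L)⁻¹
            rw [mul_one, mul_inv_cancel]
        show (⟨((a : Fˣ) : F) * w, 1⟩ : Aff F L) ∈ X
        rw [h1]
        exact X.mul_mem (X.mul_mem (hscX _) hw) (X.inv_mem (hscX _))
      have hgtrX : g.tr ∈ trSub X := by
        have h1 : (⟨g.tr, 1⟩ : Aff F L) = g * ⟨0, g.sc⁻¹⟩ := by
          apply Aff.ext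
          · rw [mul_tr]
            show g.tr = g.tr + cf g.sc * 0
            ring
          · rw [mul_sc]
            show (1 : L) = g.sc * g.sc⁻¹
            rw [mul_inv_cancel]
        show (⟨g.tr, 1⟩ : Aff F L) ∈ X
        rw [h1]
        exact X.mul_mem hgX (hscX _)
      have htrtop : trSub X = ⊤ := by
        rcases hirr (trSub X) hinv with h | h
        · rw [h, AddSubgroup.mem_bot] at hgtrX
          exact absurd hgtrX hgtr
        · exact h
      rw [eq_top_iff]
      intro y _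
      have h1 : y = ⟨y.tr, y.sc⟩ := rfl
      rw [h1, decomp]
      refine X.mul_mem ?_ (hscX _)
      have h2 : y.tr ∈ trSub X := by rw [htrtop]; trivial
      exact h2
  · -- index
    have hcardG : Nat.card (Aff F L) = Nat.card F * Nat.card L := by
      rw [Nat.card_congr (affEquiv L), Nat.card_prod]
    have hcardM : Nat.card (affSub L ⊤ ⊥ (hbot ⊤)) = Nat.card L := by
      refine Nat.card_congr ⟨fun x => x.1.sc, fun a => ⟨⟨0, a⟩, Subgroup.mem_top _, AddSubgroup.zero_mem _⟩, ?_, ?_⟩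
      · intro x
        apply Subtype.ext
        apply Aff.ext
        · have h1 : x.1.tr ∈ (⊥ : AddSubgroup F) := x.2.2
          rw [AddSubgroup.mem_bot] at h1
          exact h1.symm
        · rfl
      · intro a; rfl
    have h1 := Subgroup.index_mul_card (affSub L ⊤ ⊥ (hbot ⊤))
    rw [hcardG, hcardM] at h1
    have hpos : 0 < Nat.card L := Nat.card_pos
    exact Nat.eq_of_mul_eq_mul_right hpos h1
  · -- H ≤ M
    intro x hx
    exact ⟨Subgroup.mem_top _, hx.2⟩
  · -- H coatom in M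
    apply isCoatom_subgroupOf_of
    · intro x hx
      exact ⟨Subgroup.mem_top _, hx.2⟩
    · intro hle
      have h1 : (⟨0, a0⟩ : Aff F L) ∈ affSub L H₀ ⊥ (hbot H₀) :=
        hle ⟨Subgroup.mem_top _, AddSubgroup.zero_mem _⟩
      exact ha0 h1.1
    · intro X hHX hXM hXH
      have h1 : H₀ ≤ scSub X := by
        intro a ha
        exact hHX ⟨ha, AddSubgroup.zero_mem _⟩
      have h2 : scSub X ≠ H₀ := by
        intro heq
        apply hXH
        intro x hx
        have hxtr : x.tr = 0 := by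
          have h3 : x.tr ∈ (⊥ : AddSubgroup F) := (hXM hx).2
          rw [AddSubgroup.mem_bot] at h3
          exact h3
        have hx' : x = ⟨0, x.sc⟩ := by
          apply Aff.ext
          · exact hxtr
          · rfl
        have h4 : x.sc ∈ scSub X := by
          show (⟨0, x.sc⟩ : Aff F L) ∈ X
          rw [← hx']; exact hx
        rw [heq] at h4
        refine ⟨h4, ?_⟩
        rw [hxtr]; exact AddSubgroup.zero_mem _
      have h3 : scSub X = ⊤ := hH₀.2 _ (lt_of_le_of_ne h1 (Ne.symm h2))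
      intro x hx
      have hxtr : x.tr = 0 := by
        have h4 : x.tr ∈ (⊥ : AddSubgroup F) := hx.2
        rw [AddSubgroup.mem_bot] at h4
        exact h4
      have hx' : x = ⟨0, x.sc⟩ := by
        apply Aff.ext
        · exact hxtr
        · rfl
      have h4 : x.sc ∈ scSub X := by rw [h3]; trivial
      rw [hx']; exact h4
  · -- K coatom
    constructor
    · intro h
      have h1 : (⟨0, a0⟩ : Aff F L) ∈ affSub L H₀ ⊤ (htop H₀) := by rw [h]; trivial
      exact ha0 h1.1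
    · intro X hX
      obtain ⟨hle, hnle⟩ := lt_iff_le_not_ge.mp hX
      have h1 : H₀ ≤ scSub X := by
        intro a ha
        exact hle ⟨ha, AddSubgroup.mem_top _⟩
      have htrX : ∀ b : F, (⟨b, 1⟩ : Aff F L) ∈ X := by
        intro b
        exact hle ⟨H₀.one_mem, AddSubgroup.mem_top _⟩
      have h2 : scSub X ≠ H₀ := by
        intro heq
        apply hnle
        intro x hx
        have h3 : (⟨0, x.sc⟩ : Aff F L) = ⟨-x.tr, 1⟩ * x := by
          apply Aff.ext
          · rw [mul_tr]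
            show (0 : F) = -x.tr + cf (1 : L) * x.tr
            rw [cf_one]; ring
          · rw [mul_sc]
            show x.sc = 1 * x.sc
            rw [one_mul]
        have h4 : x.sc ∈ scSub X := by
          show (⟨0, x.sc⟩ : Aff F L) ∈ X
          rw [h3]; exact X.mul_mem (htrX _) hx
        rw [heq] at h4
        exact ⟨h4, AddSubgroup.mem_top _⟩
      have h3 : scSub X = ⊤ := hH₀.2 _ (lt_of_le_of_ne h1 (Ne.symm h2))
      rw [eq_top_iff]
      intro y _
      have h4 : y = ⟨y.tr, y.sc⟩ := rfl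
      rw [h4, decomp]
      refine X.mul_mem (htrX _) ?_
      have h5 : y.sc ∈ scSub X := by rw [h3]; trivial
      exact h5
  · -- H ≤ K
    intro x hx
    exact ⟨hx.1, AddSubgroup.mem_top _⟩
  · -- H not coatom in K
    intro hco
    have hHB : affSub L H₀ ⊥ (hbot H₀) ≤ affSub L H₀ W hW := by
      intro x hx
      refine ⟨hx.1, ?_⟩
      have h1 : x.tr ∈ (⊥ : AddSubgroup F) := hx.2
      rw [AddSubgroup.mem_bot] at h1
      rw [h1]; exact W.zero_mem
    have hBK : affSub L H₀ W hW ≤ affSub L H₀ ⊤ (htop H₀) := by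
      intro x hx
      exact ⟨hx.1, AddSubgroup.mem_top _⟩
    rcases coatom_subgroupOf_elim hco (affSub L H₀ W hW) hHB hBK with h | h
    · obtain ⟨w, hw, hw0⟩ : ∃ w ∈ W, w ≠ 0 := by
        by_contra hcon; push Not at hcon
        apply hW0
        rw [eq_bot_iff]
        intro w hw
        rw [AddSubgroup.mem_bot]; exact hcon w hw
      have h1 : (⟨w, 1⟩ : Aff F L) ∈ affSub L H₀ ⊥ (hbot H₀) := h ⟨H₀.one_mem, hw⟩
      have h2 : w ∈ (⊥ : AddSubgroup F) := h1.2
      rw [AddSubgroup.mem_bot] at h2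
      exact hw0 h2
    · obtain ⟨v, hv⟩ : ∃ v : F, v ∉ W := by
        by_contra hcon; push Not at hcon
        exact hW1 (eq_top_iff.mpr (fun v _ => hcon v))
      have h1 : (⟨v, 1⟩ : Aff F L) ∈ affSub L H₀ W hW := h ⟨H₀.one_mem, AddSubgroup.mem_top _⟩
      exact hv h1.2

/-- Irreducibility of a group of multipliers. -/
def Irr {F : Type} [Field F] (L : Subgroup Fˣ) : Prop :=
  ∀ W : AddSubgroup F, (∀ a ∈ L, ∀ w ∈ W, ((a : Fˣ) : F) * w ∈ W) → W = ⊥ ∨ W = ⊤

theorem irr_top {F : Type} [Field F] : Irr (⊤ : Subgroup Fˣ) := by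
  intro W hW
  by_cases h : W = ⊥
  · exact Or.inl h
  · right
    obtain ⟨w, hw, hw0⟩ : ∃ w ∈ W, w ≠ 0 := by
      by_contra hcon; push Not at hcon
      apply h
      rw [eq_bot_iff]
      intro w hw
      rw [AddSubgroup.mem_bot]; exact hcon w hw
    rw [eq_top_iff]
    intro x _
    by_cases hx : x = 0
    · rw [hx]; exact W.zero_mem
    · have h1 := hW (Units.mk0 (x * w⁻¹) (mul_ne_zero hx (inv_ne_zero hw0))) (Subgroup.mem_top _) w hw
      rw [Units.val_mk0, mul_assoc, inv_mul_cancel₀ hw0, mul_one] at h1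
      exact h1

theorem not_irr_bot {F : Type} [Field F] [Finite F] (p : ℕ) [CharP F p]
    (hcard : p < Nat.card F) : ¬ Irr (⊥ : Subgroup Fˣ) := by
  intro hirr
  have h1 : ∀ a ∈ (⊥ : Subgroup Fˣ), ∀ w ∈ AddSubgroup.zmultiples (1 : F),
      ((a : Fˣ) : F) * w ∈ AddSubgroup.zmultiples (1 : F) := by
    intro a ha w hw
    rw [Subgroup.mem_bot] at ha
    rw [ha, Units.val_one, one_mul]; exact hw
  rcases hirr _ h1 with h | h
  · have h2 : (1 : F) ∈ AddSubgroup.zmultiples (1 : F) := AddSubgroup.mem_zmultiples 1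
    rw [h, AddSubgroup.mem_bot] at h2
    exact one_ne_zero h2
  · have h2 : Nat.card (AddSubgroup.zmultiples (1 : F)) = p := by
      rw [Nat.card_zmultiples]
      exact CharP.eq F (CharP.addOrderOf_one F) inferInstance
    rw [h, AddSubgroup.card_top] at h2
    omega

/-- For every prime p and every d ≥ 2 there is a finite group G with a maximal subgroup M of index p^d and a maximal subgroup H of M that is not second maximal in G: some maximal subgroup K of G contains H without H being maximal in K. (One may take G the affine group V ⋊ GL(V) of V = 𝔽_p^d, M = GL(V), H the stabiliser in M of a line W of V, and K = V ⋊ H, with H < W ⋊ H < K.) So the prime-index hypothesis in the second-maximality criterion cannot be relaxed to prime-power index. -/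
theorem result (p d : ℕ) (hp : p.Prime)
    (hd : 2 ≤ d) :
    ∃ (G : Type) (_ : Group G) (_ : Finite G) (M H K : Subgroup G), IsCoatom M ∧ M.index = p ^ d ∧ H ≤ M ∧
      IsCoatom (H.subgroupOf M) ∧ IsCoatom K ∧ H ≤ K ∧ ¬ IsCoatom (H.subgroupOf K) := by
  classical
  haveI : Fact p.Prime := ⟨hp⟩
  have hcard : Nat.card (GaloisField p d) = p ^ d := GaloisField.card p d (by omega)
  have hlt : p < Nat.card (GaloisField p d) := by
    rw [hcard]
    calc p = p ^ 1 := (pow_one p).symm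
      _ < p ^ d := Nat.pow_lt_pow_right hp.one_lt (by omega)
  obtain ⟨L, hL⟩ := exists_minimal_of_wellFoundedLT (fun L : Subgroup (GaloisField p d)ˣ => Irr L)
    ⟨⊤, irr_top⟩
  have hLbot : L ≠ ⊥ := by
    rintro rfl
    exact not_irr_bot p hlt hL.1
  have hnt : Nontrivial L := (Subgroup.nontrivial_iff_ne_bot L).mpr hLbot
  obtain ⟨H₀, hH₀, -⟩ : ∃ H₀ : Subgroup L, IsCoatom H₀ ∧ ⊥ ≤ H₀ := by
    rcases eq_top_or_exists_le_coatom (⊥ : Subgroup L) with h | h
    · exact absurd h bot_ne_top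
    · exact h
  have hnirr : ¬ Irr (H₀.map L.subtype) := by
    intro hirr
    have hle : H₀.map L.subtype ≤ L := by
      rintro x ⟨y, -, rfl⟩; exact y.2
    have h1 := hL.2 hirr hle
    apply hH₀.1
    rw [eq_top_iff]
    intro a _
    obtain ⟨b, hb, hba⟩ := h1 a.2
    have h2 : b = a := Subtype.ext hba
    rw [← h2]; exact hb
  unfold Irr at hnirr
  push Not at hnirr
  obtain ⟨W, hWinv, hW0, hW1⟩ := hnirr
  have hW : ∀ a ∈ H₀, ∀ w ∈ W, cf a * w ∈ W := by
    intro a ha w hw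
    exact hWinv (a : (GaloisField p d)ˣ) ⟨a, ha, rfl⟩ w hw
  obtain ⟨M, H, K, h1, h2, h3, h4, h5, h6, h7⟩ := main L hL.1 H₀ hH₀ W hW hW0 hW1
  have hfin : Finite (Aff (GaloisField p d) L) := Finite.of_equiv _ (affEquiv L).symm
  exact ⟨Aff (GaloisField p d) L, inferInstance, hfin, M, H, K, h1, by rw [h2, hcard], h3, h4, h5, h6, h7⟩

end Cfsg.Agent.S5895
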