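import Cfsg.Statements.S5905
-- import your own Cfsg.Agent.* helpers here

set_option autoImplicit false
open Cfsg

namespace Cfsg.Agent.S5905


noncomputable def bswapFun {Ω : Type*} {b : ℕ} (f : Ω → Fin b) (j k : Fin b)
    (e : {x : Ω // f x = j} ≃ {x : Ω // f x = k}) (x : Ω) : Ω :=
  if h : f x = j then (e ⟨x, h⟩ : Ω) else if h' : f x = k then (e.symm ⟨x, h'⟩ : Ω) else x

theorem bswapFun_f {Ω : Type*} {b : ℕ} (f : Ω → Fin b) (j k : Fin b)
    (e : {x : Ω // f x = j} ≃ {x : Ω // f x = k}) (x : Ω) :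
    f (bswapFun f j k e x) = Equiv.swap j k (f x) := by
  unfold bswapFun
  by_cases h : f x = j
  · rw [dif_pos h, h, Equiv.swap_apply_left]; exact (e ⟨x, h⟩).2
  · rw [dif_neg h]
    by_cases h' : f x = k
    · rw [dif_pos h', h', Equiv.swap_apply_right]; exact (e.symm ⟨x, h'⟩).2
    · rw [dif_neg h', Equiv.swap_apply_of_ne_of_ne h h']

theorem bswapFun_invol {Ω : Type*} {b : ℕ} (f : Ω → Fin b) (j k : Fin b) (hjk : j ≠ k)
    (e : {x : Ω // f x = j} ≃ {x : Ω // f x = k}) :
    Function.Involutive (bswapFun f j k e) := by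
  intro x
  by_cases h : f x = j
  · have h1 : bswapFun f j k e x = (e ⟨x, h⟩ : Ω) := by
      unfold bswapFun; rw [dif_pos h]
    have h2 : f (e ⟨x, h⟩ : Ω) = k := (e ⟨x, h⟩).2
    have h3 : ¬ f (e ⟨x, h⟩ : Ω) = j := by rw [h2]; exact fun hh => hjk hh.symm
    rw [h1]
    unfold bswapFun
    rw [dif_neg h3, dif_pos h2]
    simp
  · by_cases h' : f x = k
    · have h1 : bswapFun f j k e x = (e.symm ⟨x, h'⟩ : Ω) := by
        unfold bswapFun; rw [dif_neg h, dif_pos h']
      have h2 : f (e.symm ⟨x, h'⟩ : Ω) = j := (e.symm ⟨x, h'⟩).2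
      rw [h1]
      unfold bswapFun
      rw [dif_pos h2]
      simp
    · have h1 : bswapFun f j k e x = x := by
        unfold bswapFun; rw [dif_neg h, dif_neg h']
      rw [h1, h1]

/-- The partition stabilizer as a subgroup. -/
def partStab {Ω : Type*} {b : ℕ} (f : Ω → Fin b) : Subgroup (Equiv.Perm Ω) where
  carrier := {g : Equiv.Perm Ω | ∀ x y : Ω, f x = f y ↔ f (g x) = f (g y)}
  mul_mem' := by
    intro g h hg hh x y
    rw [Equiv.Perm.mul_apply, Equiv.Perm.mul_apply, ← hg, ← hh]
  one_mem' := by intro x y; simp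
  inv_mem' := by
    intro g hg x y
    have := hg (g⁻¹ x) (g⁻¹ y)
    have e1 : g (g⁻¹ x) = x := by simp
    have e2 : g (g⁻¹ y) = y := by simp
    rw [e1, e2] at this
    exact this.symm

theorem mem_partStab {Ω : Type*} {b : ℕ} (f : Ω → Fin b) (g : Equiv.Perm Ω) :
    g ∈ partStab f ↔ ∀ x y : Ω, f x = f y ↔ f (g x) = f (g y) := Iff.rfl

theorem closure_eq_partStab {Ω : Type*} {b : ℕ} (f : Ω → Fin b) :
    Subgroup.closure {g : Equiv.Perm Ω | ∀ x y : Ω, f x = f y ↔ f (g x) = f (g y)} =
      partStab f := Subgroup.closure_eq (partStab f)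

theorem swap_mem_partStab {Ω : Type*} [DecidableEq Ω] {b : ℕ} (f : Ω → Fin b) (x y : Ω)
    (hxy : f x = f y) : Equiv.swap x y ∈ partStab f := by
  rw [mem_partStab]
  intro u v
  have key : ∀ z, f (Equiv.swap x y z) = f z := by
    intro z
    by_cases hzx : z = x
    · subst hzx; rw [Equiv.swap_apply_left]; exact hxy.symm
    · by_cases hzy : z = y
      · subst hzy; rw [Equiv.swap_apply_right]; exact hxy
      · rw [Equiv.swap_apply_of_ne_of_ne hzx hzy]
  rw [key, key]

theorem exists_bswap {Ω : Type*} [Finite Ω] {b : ℕ} (f : Ω → Fin b) (a : ℕ)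
    (hf : ∀ i : Fin b, Nat.card {x : Ω // f x = i} = a) (j k : Fin b) (hjk : j ≠ k) :
    ∃ σ : Equiv.Perm Ω, σ ∈ partStab f ∧ (∀ x, f (σ x) = Equiv.swap j k (f x)) ∧
      (∀ x, f x ≠ j → f x ≠ k → σ x = x) := by
  have hcard : Nat.card {x : Ω // f x = j} = Nat.card {x : Ω // f x = k} := by rw [hf, hf]
  obtain ⟨e⟩ := Finite.card_eq.mp hcard
  refine ⟨(bswapFun_invol f j k hjk e).toPerm, ?_, ?_, ?_⟩
  · rw [mem_partStab]
    intro x y
    show f x = f y ↔ f (bswapFun f j k e x) = f (bswapFun f j k e y)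
    rw [bswapFun_f f j k e x, bswapFun_f f j k e y, (Equiv.swap j k).injective.eq_iff]
  · intro x; exact bswapFun_f f j k e x
  · intro x h1 h2
    show bswapFun f j k e x = x
    unfold bswapFun; rw [dif_neg h1, dif_neg h2]

/-- The partition stabilizer of a uniform partition with at least two blocks of size at least
two is a maximal subgroup. -/
theorem isCoatom_partStab {Ω : Type*} [Finite Ω] [DecidableEq Ω] (a b : ℕ) (ha : 2 ≤ a)
    (hb : 2 ≤ b) (f : Ω → Fin b) (hf : ∀ i : Fin b, Nat.card {x : Ω // f x = i} = a) :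
    IsCoatom (partStab f) := by
  constructor
  · intro htop
    have h2 : 1 < Nat.card {x : Ω // f x = ⟨0, by omega⟩} := by rw [hf]; omega
    obtain ⟨⟨x, hx⟩, ⟨y, hy⟩, hxy⟩ := (Finite.one_lt_card_iff_nontrivial.mp h2).exists_pair_ne
    have h3 : 0 < Nat.card {x : Ω // f x = ⟨1, by omega⟩} := by rw [hf]; omega
    obtain ⟨⟨z, hz⟩⟩ := Finite.card_pos_iff.mp h3
    have hmem : Equiv.swap y z ∈ partStab f := by rw [htop]; trivial
    have h4 := ((mem_partStab f _).mp hmem x y).mp (hx.trans hy.symm)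
    have hxy' : x ≠ y := fun h => hxy (Subtype.ext h)
    have hxz : x ≠ z := by
      rintro rfl; rw [hx] at hz; exact absurd hz (by simp [Fin.ext_iff])
    rw [Equiv.swap_apply_of_ne_of_ne hxy' hxz, Equiv.swap_apply_left, hx, hz] at h4
    exact absurd h4 (by simp [Fin.ext_iff])
  · intro K hK
    obtain ⟨hle, hnle⟩ := lt_iff_le_not_ge.mp hK
    obtain ⟨g, hgK, hgP⟩ := SetLike.not_le_iff_exists.mp hnle
    have hconj : ∀ (σ : Equiv.Perm Ω) (x y : Ω), σ ∈ K → Equiv.swap x y ∈ K →
        Equiv.swap (σ x) (σ y) ∈ K := by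
      intro σ x y hσ hs
      rw [Equiv.swap_apply_apply]
      exact K.mul_mem (K.mul_mem hσ hs) (K.inv_mem hσ)
    have hR1 : ∀ x y, f x = f y → Equiv.swap x y ∈ K :=
      fun x y h => hle (swap_mem_partStab f x y h)
    have htrans : ∀ x y z, Equiv.swap x y ∈ K → Equiv.swap y z ∈ K → Equiv.swap x z ∈ K := by
      intro x y z h1 h2
      by_cases hxy : x = y
      · subst hxy; exact h2
      by_cases hxz : x = z
      · subst hxz; rw [Equiv.swap_self]; exact K.one_mem
      have h3 := hconj (Equiv.swap y z) x y h2 h1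
      rwa [Equiv.swap_apply_of_ne_of_ne hxy hxz, Equiv.swap_apply_left] at h3
    obtain ⟨u, v, huv, hRuv⟩ : ∃ u v, f u ≠ f v ∧ Equiv.swap u v ∈ K := by
      have h0 : ¬ ∀ x y : Ω, f x = f y ↔ f (g x) = f (g y) := hgP
      simp only [not_forall] at h0
      obtain ⟨x, y, hxy⟩ := h0
      by_cases h1 : f x = f y
      · have h2 : f (g x) ≠ f (g y) := fun h2 => hxy ⟨fun _ => h2, fun _ => h1⟩
        exact ⟨g x, g y, h2, hconj g x y hgK (hR1 x y h1)⟩
      · have h2 : f (g x) = f (g y) := by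
          by_contra h2; exact hxy ⟨fun h => absurd h h1, fun h => absurd h h2⟩
        refine ⟨x, y, h1, ?_⟩
        have h3 := hconj g⁻¹ (g x) (g y) (K.inv_mem hgK) (hR1 _ _ h2)
        simpa using h3
    have hRu : ∀ z, Equiv.swap u z ∈ K := by
      intro z
      by_cases hzu : f z = f u
      · exact hR1 u z hzu.symm
      by_cases hzv : f z = f v
      · exact htrans u v z hRuv (hR1 v z hzv.symm)
      obtain ⟨σ, hσP, hσf, hσfix⟩ := exists_bswap f a hf (f v) (f z) (fun h => hzv h.symm)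
      have h1 := hconj σ u v (hle hσP) hRuv
      rw [hσfix u huv (fun h => hzu h.symm)] at h1
      have h2 : f (σ v) = f z := by rw [hσf, Equiv.swap_apply_left]
      exact htrans u (σ v) z h1 (hR1 _ _ h2)
    have hall : ∀ x y, Equiv.swap x y ∈ K := by
      intro x y
      have hx := hRu x
      rw [Equiv.swap_comm] at hx
      exact htrans x u y hx (hRu y)
    rw [eq_top_iff, ← Equiv.Perm.closure_isSwap, Subgroup.closure_le]
    rintro σ ⟨x, y, -, rfl⟩
    exact hall x y

/-- Let Ω be a finite set and f : Ω → Fin b a map onto b ≥ 2 labels whose fibres all have the same size a ≥ 2 (a partition of Ω into b blocks of size a, so |Ω| = ab). Then the stabilizer of this partition in the symmetric group on Ω — the permutations g such that x and y lie in the same block exactly when g x and g y do, a group isomorphic to the imprimitive wreath product S_a ≀ S_b — is a maximal subgroup of the symmetric group. -/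
theorem result {Ω : Type*} [Fintype Ω] [DecidableEq Ω] (a b : ℕ) (ha : 2 ≤ a) (hb : 2 ≤ b)
    (f : Ω → Fin b) (hf : ∀ i : Fin b, Nat.card {x : Ω // f x = i} = a) :
    IsCoatom (Subgroup.closure {g : Equiv.Perm Ω | ∀ x y : Ω, f x = f y ↔ f (g x) = f (g y)}) := by
  rw [closure_eq_partStab]
  exact isCoatom_partStab a b ha hb f hf

end Cfsg.Agent.S5905
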