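import Cfsg.Statements.S5894
-- import your own Cfsg.Agent.* helpers here
import Cfsg.Agent.S5905
import Cfsg.Agent.S5895

set_option autoImplicit false
open Cfsg

namespace Cfsg.Agent.S5894


/-- Label of a point: which half of `Fin (2 * m)` it lies in. -/
def lab (m : ℕ) (x : Fin (2 * m)) : Fin 2 := if x.val < m then 0 else 1

theorem card_lab0 (m : ℕ) : Nat.card {x : Fin (2 * m) // lab m x = 0} = m := by
  have e : Fin m ≃ {x : Fin (2 * m) // lab m x = 0} :=
    { toFun := fun i => ⟨⟨i.val, by have := i.isLt; omega⟩, by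
        have := i.isLt
        simp [lab, this]⟩
      invFun := fun x => ⟨x.1.val, by
        have h := x.2
        unfold lab at h
        by_contra hc
        rw [if_neg hc] at h
        exact absurd h (by decide)⟩
      left_inv := fun i => rfl
      right_inv := fun x => rfl }
  rw [← Nat.card_congr e, Nat.card_fin]

theorem card_lab1 (m : ℕ) : Nat.card {x : Fin (2 * m) // lab m x = 1} = m := by
  have e : Fin m ≃ {x : Fin (2 * m) // lab m x = 1} :=
    { toFun := fun i => ⟨⟨m + i.val, by have := i.isLt; omega⟩, by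
        simp [lab]⟩
      invFun := fun x => ⟨x.1.val - m, by
        have h := x.2
        have h2 := x.1.isLt
        unfold lab at h
        have hc : ¬ x.1.val < m := by
          intro hc
          rw [if_pos hc] at h
          exact absurd h (by decide)
        omega⟩
      left_inv := fun i => by
        apply Fin.ext
        show m + i.val - m = i.val
        omega
      right_inv := fun x => by
        apply Subtype.ext
        apply Fin.ext
        show m + (x.1.val - m) = x.1.val
        have h := x.2
        unfold lab at h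
        have hc : ¬ x.1.val < m := by
          intro hc
          rw [if_pos hc] at h
          exact absurd h (by decide)
        omega }
  rw [← Nat.card_congr e, Nat.card_fin]

theorem card_lab (m : ℕ) (i : Fin 2) : Nat.card {x : Fin (2 * m) // lab m x = i} = m := by
  fin_cases i
  · exact card_lab0 m
  · exact card_lab1 m

/-- Permutations preserving the label of every point. -/
def fixLab (m : ℕ) : Subgroup (Equiv.Perm (Fin (2 * m))) where
  carrier := {g | ∀ x, lab m (g x) = lab m x}
  mul_mem' := by
    intro g h hg hh x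
    rw [Equiv.Perm.mul_apply, hg, hh]
  one_mem' := by intro x; rfl
  inv_mem' := by
    intro g hg x
    have h1 := hg (g⁻¹ x)
    have e1 : g (g⁻¹ x) = x := by simp
    rw [e1] at h1
    exact h1.symm

theorem two_vals : ∀ a b c : Fin 2, a ≠ b → c ≠ a → c = b := by decide

theorem max_in_stab (m : ℕ) (hm : 2 ≤ m) (pt : Fin (2 * m)) (hlp : lab m pt = 0)
    (L : Subgroup (Equiv.Perm (Fin (2 * m))))
    (hHL : MulAction.stabilizer (Equiv.Perm (Fin (2 * m))) pt ⊓ fixLab m ≤ L)
    (hLM : L ≤ MulAction.stabilizer (Equiv.Perm (Fin (2 * m))) pt)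
    (hLH : ¬ L ≤ MulAction.stabilizer (Equiv.Perm (Fin (2 * m))) pt ⊓ fixLab m) :
    MulAction.stabilizer (Equiv.Perm (Fin (2 * m))) pt ≤ L := by
  classical
  obtain ⟨g, hgL, hgH⟩ := SetLike.not_le_iff_exists.mp hLH
  have hgp : g pt = pt := hLM hgL
  have hgB : ¬ ∀ x, lab m (g x) = lab m x := fun h => hgH ⟨hLM hgL, h⟩
  have hconj : ∀ (σ : Equiv.Perm (Fin (2 * m))) (x y : Fin (2 * m)), σ ∈ L →
      Equiv.swap x y ∈ L → Equiv.swap (σ x) (σ y) ∈ L := by
    intro σ x y hσ hs
    rw [Equiv.swap_apply_apply]
    exact L.mul_mem (L.mul_mem hσ hs) (L.inv_mem hσ)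
  have hR1 : ∀ x y, x ≠ pt → y ≠ pt → lab m x = lab m y → Equiv.swap x y ∈ L := by
    intro x y hx hy hxy
    apply hHL
    refine ⟨?_, ?_⟩
    · show Equiv.swap x y pt = pt
      exact Equiv.swap_apply_of_ne_of_ne hx.symm hy.symm
    · intro z
      by_cases hzx : z = x
      · subst hzx; rw [Equiv.swap_apply_left]; exact hxy.symm
      · by_cases hzy : z = y
        · subst hzy; rw [Equiv.swap_apply_right]; exact hxy
        · rw [Equiv.swap_apply_of_ne_of_ne hzx hzy]
  have hf := card_lab m
  obtain ⟨u, v, hu, hv, huv, hRuv⟩ : ∃ u v, u ≠ pt ∧ v ≠ pt ∧ lab m u ≠ lab m v ∧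
      Equiv.swap u v ∈ L := by
    by_contra hcon
    have hstar : ∀ x y, x ≠ pt → y ≠ pt → lab m x = lab m y → lab m (g x) = lab m (g y) := by
      intro x y hx hy hxy
      by_contra hne
      apply hcon
      have hgx : g x ≠ pt := fun h => hx (g.injective (h.trans hgp.symm))
      have hgy : g y ≠ pt := fun h => hy (g.injective (h.trans hgp.symm))
      exact ⟨g x, g y, hgx, hgy, hne, hconj g x y hgL (hR1 x y hx hy hxy)⟩
    have hBA : (∀ x, lab m x = 1 → lab m (g x) = 0) → False := by
      intro hmap
      have hc1 : (Finset.univ.filter (fun x => lab m x = 1)).card = m := by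
        rw [← Fintype.card_subtype, ← Nat.card_eq_fintype_card]; exact hf 1
      have hc0 : (Finset.univ.filter (fun x => lab m x = 0)).card = m := by
        rw [← Fintype.card_subtype, ← Nat.card_eq_fintype_card]; exact hf 0
      have hle : (Finset.univ.filter (fun x => lab m x = 1)).card ≤
          ((Finset.univ.filter (fun x => lab m x = 0)).erase pt).card := by
        apply Finset.card_le_card_of_injOn (fun x => g x)
        · intro x hx
          have hx1 : lab m x = 1 := (Finset.mem_filter.mp (Finset.mem_coe.mp hx)).2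
          have hxp : x ≠ pt := by
            rintro rfl; rw [hlp] at hx1; exact absurd hx1 (by decide)
          apply Finset.mem_coe.mpr
          rw [Finset.mem_erase, Finset.mem_filter]
          exact ⟨fun h => hxp (g.injective (h.trans hgp.symm)), Finset.mem_univ _, hmap x hx1⟩
        · exact g.injective.injOn
      have hmem : pt ∈ Finset.univ.filter (fun x => lab m x = 0) :=
        Finset.mem_filter.mpr ⟨Finset.mem_univ _, hlp⟩
      rw [Finset.card_erase_of_mem hmem, hc0, hc1] at hle
      omega
    rw [not_forall] at hgB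
    obtain ⟨x0, hx0⟩ := hgB
    have hx0p : x0 ≠ pt := by
      rintro rfl; rw [hgp] at hx0; exact hx0 rfl
    by_cases hx01 : lab m x0 = 1
    · apply hBA
      intro x hx
      have hxp : x ≠ pt := by
        rintro rfl; rw [hlp] at hx; exact absurd hx (by decide)
      rw [hstar x x0 hxp hx0p (hx.trans hx01.symm)]
      have h3 : lab m (g x0) ≠ 1 := by rw [← hx01]; exact hx0
      exact two_vals 1 0 _ (by decide) h3
    · have hx00 : lab m x0 = 0 := two_vals 1 0 _ (by decide) hx01
      have hgx0 : lab m (g x0) = 1 := by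
        have h3 : lab m (g x0) ≠ 0 := by rw [← hx00]; exact hx0
        exact two_vals 0 1 _ (by decide) h3
      have hgz : g (g⁻¹ x0) = x0 := by simp
      have hzp : g⁻¹ x0 ≠ pt := by
        intro h; rw [h, hgp] at hgz; exact hx0p hgz.symm
      have hz1 : lab m (g⁻¹ x0) = 1 := by
        by_contra hne
        have hz0 : lab m (g⁻¹ x0) = 0 := two_vals 1 0 _ (by decide) hne
        have h4 := hstar (g⁻¹ x0) x0 hzp hx0p (hz0.trans hx00.symm)
        rw [hgz, hx00, hgx0] at h4
        exact absurd h4 (by decide)
      apply hBA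
      intro x hx
      have hxp : x ≠ pt := by
        rintro rfl; rw [hlp] at hx; exact absurd hx (by decide)
      rw [hstar x (g⁻¹ x0) hxp hzp (hx.trans hz1.symm), hgz, hx00]
  have htrans : ∀ x y z, Equiv.swap x y ∈ L → Equiv.swap y z ∈ L → Equiv.swap x z ∈ L := by
    intro x y z h1 h2
    by_cases hxy : x = y
    · subst hxy; exact h2
    by_cases hxz : x = z
    · subst hxz; rw [Equiv.swap_self]; exact L.one_mem
    have h3 := hconj (Equiv.swap y z) x y h2 h1
    rwa [Equiv.swap_apply_of_ne_of_ne hxy hxz, Equiv.swap_apply_left] at h3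
  have hRu : ∀ z, z ≠ pt → Equiv.swap u z ∈ L := by
    intro z hz
    by_cases hzu : lab m z = lab m u
    · exact hR1 u z hu hz hzu.symm
    · have hzv : lab m z = lab m v := two_vals _ _ _ huv hzu
      exact htrans u v z hRuv (hR1 v z hv hz hzv.symm)
  have hall : ∀ x y, x ≠ pt → y ≠ pt → Equiv.swap x y ∈ L := by
    intro x y hx hy
    have h1 := hRu x hx
    rw [Equiv.swap_comm] at h1
    exact htrans x u y h1 (hRu y hy)
  intro σ hσ
  have hσp : σ pt = pt := hσ
  have h₁ : ∀ x, (σ x ≠ pt) ↔ (x ≠ pt) := by
    intro x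
    constructor
    · intro h hx; rw [hx] at h; exact h hσp
    · intro h hx; exact h (σ.injective (hx.trans hσp.symm))
  have h₂ : ∀ x, σ x ≠ x → x ≠ pt := by
    intro x hx hxp; rw [hxp] at hx; exact hx hσp
  have hσeq : Equiv.Perm.ofSubtype (σ.subtypePerm h₁) = σ :=
    Equiv.Perm.ofSubtype_subtypePerm h₁ h₂
  rw [← hσeq]
  have hmem : σ.subtypePerm h₁ ∈
      Subgroup.closure {τ : Equiv.Perm {x : Fin (2 * m) // x ≠ pt} | τ.IsSwap} := by
    rw [Equiv.Perm.closure_isSwap]; trivial
  have hmap : (Subgroup.closure {τ : Equiv.Perm {x : Fin (2 * m) // x ≠ pt} | τ.IsSwap}).map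
      Equiv.Perm.ofSubtype ≤ L := by
    rw [MonoidHom.map_closure, Subgroup.closure_le]
    rintro _ ⟨τ, ⟨a, b, -, rfl⟩, rfl⟩
    rw [Equiv.Perm.ofSubtype_swap_eq]
    exact hall a b a.2 b.2
  exact hmap ⟨_, hmem, rfl⟩

/-- For every m ≥ 2 the symmetric group on 2m letters has a maximal subgroup M of index 2m together with a maximal subgroup H of M that is not second maximal: some maximal subgroup K of the symmetric group contains H without H being maximal in K. (One may take M the stabiliser of a letter, H ≅ S_m × S_{m−1} inside it, and K ≅ S_m ≀ S₂ the stabiliser of a partition into two m-sets, with H < S_m × S_m < K.) So the prime-index hypothesis in the second-maximality criterion cannot be relaxed to any even index ≥ 4. -/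
theorem result (m : ℕ) (hm : 2 ≤ m) :
    ∃ M H K : Subgroup (Equiv.Perm (Fin (2 * m))), IsCoatom M ∧ M.index = 2 * m ∧ H ≤ M ∧ IsCoatom (H.subgroupOf M) ∧
      IsCoatom K ∧ H ≤ K ∧ ¬ IsCoatom (H.subgroupOf K) := by
  classical
  let pt : Fin (2 * m) := ⟨0, by omega⟩
  let q : Fin (2 * m) := ⟨1, by omega⟩
  let r : Fin (2 * m) := ⟨m, by omega⟩
  have hlp : lab m pt = 0 := by
    have h0 : (0 : ℕ) < m := by omega
    simp [lab, pt, h0]
  have hlq : lab m q = 0 := by
    have h0 : (1 : ℕ) < m := by omega
    simp [lab, q, h0]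
  have hlr : lab m r = 1 := by
    simp [lab, r]
  have hpq : pt ≠ q := by
    intro h; have := congrArg Fin.val h; simp [pt, q] at this
  have hpr : pt ≠ r := by
    intro h; have := congrArg Fin.val h; simp [pt, r] at this; omega
  have hf : ∀ i : Fin 2, Nat.card {x : Fin (2 * m) // lab m x = i} = m := card_lab m
  refine ⟨MulAction.stabilizer (Equiv.Perm (Fin (2 * m))) pt,
    MulAction.stabilizer (Equiv.Perm (Fin (2 * m))) pt ⊓ fixLab m,
    Cfsg.Agent.S5905.partStab (lab m), ?_, ?_, inf_le_left, ?_, ?_, ?_, ?_⟩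
  · have hnt : Nontrivial (Fin (2 * m)) := ⟨⟨pt, q, hpq⟩⟩
    exact MulAction.IsPreprimitive.isCoatom_stabilizer_of_isPreprimitive
      (Equiv.Perm (Fin (2 * m))) pt
  · rw [MulAction.index_stabilizer_of_transitive, Nat.card_eq_fintype_card, Fintype.card_fin]
  · apply Cfsg.Agent.S5895.isCoatom_subgroupOf_of _ _ inf_le_left
    · intro hle
      have h1 : Equiv.swap q r ∈ MulAction.stabilizer (Equiv.Perm (Fin (2 * m))) pt := by
        show Equiv.swap q r pt = pt
        exact Equiv.swap_apply_of_ne_of_ne hpq hpr
      have h2 := (hle h1).2 q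
      rw [Equiv.swap_apply_left, hlr, hlq] at h2
      exact absurd h2 (by decide)
    · intro L hHL hLM hLH
      exact max_in_stab m hm pt hlp L hHL hLM hLH
  · exact Cfsg.Agent.S5905.isCoatom_partStab m 2 hm le_rfl (lab m) hf
  · intro g hg
    rw [Cfsg.Agent.S5905.mem_partStab]
    intro x y
    rw [hg.2 x, hg.2 y]
  · intro hco
    have hBK : fixLab m ≤ Cfsg.Agent.S5905.partStab (lab m) := by
      intro g hg
      rw [Cfsg.Agent.S5905.mem_partStab]
      intro x y
      rw [hg x, hg y]
    rcases Cfsg.Agent.S5895.coatom_subgroupOf_elim hco (fixLab m) inf_le_right hBK with h | h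
    · have h1 : Equiv.swap pt q ∈ fixLab m := by
        intro x
        by_cases hxp : x = pt
        · rw [hxp, Equiv.swap_apply_left, hlq, hlp]
        · by_cases hxq : x = q
          · rw [hxq, Equiv.swap_apply_right, hlp, hlq]
          · rw [Equiv.swap_apply_of_ne_of_ne hxp hxq]
      have h2 : Equiv.swap pt q pt = pt := (h h1).1
      rw [Equiv.swap_apply_left] at h2
      exact hpq h2.symm
    · obtain ⟨σ, hσ, hσf, -⟩ := Cfsg.Agent.S5905.exists_bswap (lab m) m hf 0 1 (by decide)
      have h1 := h hσ pt
      rw [hσf, hlp, Equiv.swap_apply_left] at h1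
      exact absurd h1 (by decide)

end Cfsg.Agent.S5894
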