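import Cfsg.Statements.S5909
-- import your own Cfsg.Agent.* helpers here
import Cfsg.Agent.S5905
import Cfsg.Agent.S5895

set_option autoImplicit false
open Cfsg

namespace Cfsg.Agent.S5909

open Cfsg.Agent.S5905 (partStab mem_partStab closure_eq_partStab swap_mem_partStab exists_bswap)
open Equiv

/-- `M L a b c` : the three-cycle `swap a b * swap a c` lies in `L`. -/
def M {Ω : Type*} [DecidableEq Ω] (L : Subgroup (Perm Ω)) (a b c : Ω) : Prop :=
  swap a b * swap a c ∈ L

theorem M_s {Ω : Type*} [DecidableEq Ω] {L : Subgroup (Perm Ω)} {a b c : Ω}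
    (h : M L a b c) : M L a c b := by
  have h2 := L.inv_mem h
  rw [mul_inv_rev, swap_inv, swap_inv] at h2
  exact h2

theorem th_rot {Ω : Type*} [DecidableEq Ω] (p q r : Ω) (hpr : p ≠ r) (hqr : q ≠ r) :
    swap p q * swap p r = swap q r * swap q p := by
  have h := swap_mul_swap_mul_swap (x := r) (y := p) (z := q) hpr.symm hqr.symm
  rw [← h, swap_comm q p, mul_assoc, swap_mul_self, mul_one, swap_comm r p]

theorem M_r {Ω : Type*} [DecidableEq Ω] {L : Subgroup (Perm Ω)} {a b c : Ω}
    (hac : a ≠ c) (hbc : b ≠ c) (h : M L a b c) : M L b c a := by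
  unfold M at h ⊢
  rw [← th_rot a b c hac hbc]
  exact h

theorem M_g {Ω : Type*} [DecidableEq Ω] {L : Subgroup (Perm Ω)} {a b w c : Ω}
    (h1 : M L a b w) (h2 : M L a w c) : M L a b c := by
  unfold M at h1 h2 ⊢
  have h3 := L.mul_mem h1 h2
  rw [mul_assoc, swap_mul_self_mul] at h3
  exact h3

theorem M_conj {Ω : Type*} [DecidableEq Ω] {L : Subgroup (Perm Ω)} {a b c : Ω}
    (k : Perm Ω) (hk : k ∈ L) (h : M L a b c) : M L (k a) (k b) (k c) := by
  unfold M at h ⊢
  rw [swap_apply_apply, swap_apply_apply]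
  have h3 := L.mul_mem (L.mul_mem hk h) (L.inv_mem hk)
  have e : k * swap a b * k⁻¹ * (k * swap a c * k⁻¹) = k * (swap a b * swap a c) * k⁻¹ := by
    group
  rw [e]
  exact h3

/-- If all the three-cycles lie in `L` then `L` contains the alternating group. -/
theorem alt_le_of_M {Ω : Type*} [Fintype Ω] [DecidableEq Ω] (L : Subgroup (Perm Ω))
    (h : ∀ a b c : Ω, a ≠ b → a ≠ c → b ≠ c → M L a b c) : alternatingGroup Ω ≤ L := by
  have h' : ∀ a b c : Ω, a ≠ b → a ≠ c → swap a b * swap a c ∈ L := by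
    intro a b c hab hac
    by_cases hbc : b = c
    · subst hbc; rw [swap_mul_self]; exact L.one_mem
    · exact h a b c hab hac hbc
  have hpair : ∀ σ τ : Perm Ω, σ.IsSwap → τ.IsSwap → σ * τ ∈ L := by
    rintro σ τ ⟨a, b, ab, rfl⟩ ⟨c, d, cd, rfl⟩
    by_cases ac : a = c
    · subst ac; exact h' a b d ab cd
    have e : swap a b * swap c d = swap a b * swap a c * (swap c a * swap c d) := by
      rw [swap_comm c a, mul_assoc, swap_mul_self_mul]
    rw [e]
    exact L.mul_mem (h' a b c ab ac) (h' c a d (Ne.symm ac) cd)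
  intro σ hσ
  suffices hind : ∀ (n : ℕ) (l : List (Perm Ω)) (_ : ∀ g, g ∈ l → Perm.IsSwap g)
      (_ : l.length = 2 * n), l.prod ∈ L by
    obtain ⟨l, rfl, hl⟩ := Perm.truncSwapFactors σ
    obtain ⟨n, hn⟩ := (Perm.prod_list_swap_mem_alternatingGroup_iff_even_length hl).1 hσ
    rw [← two_mul] at hn
    exact hind n l hl hn
  intro n
  induction n with
  | zero =>
    intro l hl hn
    rw [List.length_eq_zero_iff.1 hn, List.prod_nil]
    exact L.one_mem
  | succ n ih =>
    intro l hl hn
    rw [Nat.mul_succ] at hn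
    obtain ⟨a, l, rfl⟩ := l.exists_of_length_succ hn
    rw [List.length_cons, Nat.succ_inj] at hn
    obtain ⟨b, l, rfl⟩ := l.exists_of_length_succ hn
    rw [List.prod_cons, List.prod_cons, ← mul_assoc]
    apply L.mul_mem
    · exact hpair a b (hl a (by simp)) (hl b (by simp))
    · exact ih l (fun g hg => hl g (by simp [hg])) (by simpa using hn)

theorem exists_in_fiber {Ω : Type*} [Fintype Ω] [DecidableEq Ω] {a b : ℕ} (f : Ω → Fin b)
    (hf : ∀ i : Fin b, Nat.card {x : Ω // f x = i} = a) (i : Fin b) (S : Finset Ω)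
    (hS : S.card < a) : ∃ z, f z = i ∧ z ∉ S := by
  have hc : (Finset.univ.filter (fun x => f x = i)).card = a := by
    rw [← hf i, Nat.card_eq_fintype_card, Fintype.card_subtype]
  rw [← hc] at hS
  obtain ⟨z, hz, hzS⟩ := Finset.exists_mem_notMem_of_card_lt_card hS
  exact ⟨z, (Finset.mem_filter.mp hz).2, hzS⟩

theorem card_eq_mul {Ω : Type*} [Fintype Ω] [DecidableEq Ω] {a b : ℕ} (f : Ω → Fin b)
    (hf : ∀ i : Fin b, Nat.card {x : Ω // f x = i} = a) : Fintype.card Ω = a * b := by
  rw [Fintype.card_congr (Equiv.sigmaFiberEquiv f).symm, Fintype.card_sigma]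
  have : ∀ i : Fin b, Fintype.card {x : Ω // f x = i} = a := fun i => by
    rw [← Nat.card_eq_fintype_card]; exact hf i
  simp only [this, Finset.sum_const, Finset.card_univ, Fintype.card_fin, smul_eq_mul, mul_comm]

/-- Transitivity of the partition stabilizer on points, fixing the other blocks. -/
theorem exists_move {Ω : Type*} [Fintype Ω] [DecidableEq Ω] {a b : ℕ} (f : Ω → Fin b)
    (hf : ∀ i : Fin b, Nat.card {x : Ω // f x = i} = a) (x u : Ω) :
    ∃ σ ∈ partStab f, σ x = u ∧ ∀ p, f p ≠ f x → f p ≠ f u → σ p = p := by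
  by_cases h : f x = f u
  · refine ⟨swap x u, swap_mem_partStab f x u h, swap_apply_left x u, ?_⟩
    intro p h1 h2
    exact swap_apply_of_ne_of_ne (fun e => h1 (by rw [e])) (fun e => h2 (by rw [e]))
  · obtain ⟨σ₀, hσ₀, hσf, hσfix⟩ := exists_bswap f a hf (f x) (f u) h
    have h1 : f (σ₀ x) = f u := by rw [hσf, swap_apply_left]
    refine ⟨swap (σ₀ x) u * σ₀, (partStab f).mul_mem (swap_mem_partStab f _ _ h1) hσ₀, ?_, ?_⟩
    · rw [Perm.mul_apply, swap_apply_left]
    · intro p hp1 hp2
      rw [Perm.mul_apply, hσfix p hp1 hp2]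
      exact swap_apply_of_ne_of_ne (fun e => hp2 (by rw [e, h1])) (fun e => hp2 (by rw [e]))

/-- Lemma A: the partition stabilizer is transitive on the ordered triples of type II. -/
theorem exists_partStab_map {Ω : Type*} [Fintype Ω] [DecidableEq Ω] {a b : ℕ} (f : Ω → Fin b)
    (hf : ∀ i : Fin b, Nat.card {x : Ω // f x = i} = a) (x x' y u u' v : Ω)
    (hx : f x = f x') (hxx : x ≠ x') (hy : f y ≠ f x) (hu : f u = f u') (huu : u ≠ u')
    (hv : f v ≠ f u) : ∃ h ∈ partStab f, h x = u ∧ h x' = u' ∧ h y = v := by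
  obtain ⟨σ₁, hσ₁, hσ₁x, -⟩ := exists_move f hf x u
  have hP₁ := (mem_partStab f σ₁).mp hσ₁
  have h1 : f (σ₁ x') = f u := by
    have := (hP₁ x x').mp hx
    rw [hσ₁x] at this
    exact this.symm
  have h2 : σ₁ x' ≠ u := by
    intro e
    rw [← hσ₁x] at e
    exact hxx (σ₁.injective e).symm
  have hσ₂ : swap (σ₁ x') u' ∈ partStab f := swap_mem_partStab f _ _ (h1.trans hu)
  have hσ₂u : swap (σ₁ x') u' u = u := swap_apply_of_ne_of_ne h2.symm huu
  set τ := swap (σ₁ x') u' * σ₁ with hτ
  have hτP : τ ∈ partStab f := (partStab f).mul_mem hσ₂ hσ₁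
  have hτx : τ x = u := by rw [hτ, Perm.mul_apply, hσ₁x, hσ₂u]
  have hτx' : τ x' = u' := by rw [hτ, Perm.mul_apply, swap_apply_left]
  have hτy : f (τ y) ≠ f u := by
    intro e
    have := ((mem_partStab f τ).mp hτP y x).mpr (by rw [hτx]; exact e)
    exact hy this
  obtain ⟨ρ, hρ, hρy, hρfix⟩ := exists_move f hf (τ y) v
  refine ⟨ρ * τ, (partStab f).mul_mem hρ hτP, ?_, ?_, ?_⟩
  · rw [Perm.mul_apply, hτx]
    exact hρfix u (fun e => hτy e.symm) (fun e => hv e.symm)
  · rw [Perm.mul_apply, hτx']
    exact hρfix u' (fun e => hτy (by rw [← e, hu])) (fun e => hv (by rw [← e, hu]))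
  · rw [Perm.mul_apply, hρy]

/-- Lemma B: one three-cycle of type II gives all of them. -/
theorem all_typeII {Ω : Type*} [Fintype Ω] [DecidableEq Ω] {a b : ℕ} (f : Ω → Fin b)
    (hf : ∀ i : Fin b, Nat.card {x : Ω // f x = i} = a) (L : Subgroup (Perm Ω))
    (hL : partStab f ⊓ alternatingGroup Ω ≤ L) (x x' y : Ω)
    (hx : f x = f x') (hxx : x ≠ x') (hy : f y ≠ f x) (hM : M L x x' y)
    (u u' v : Ω) (hu : f u = f u') (huu : u ≠ u') (hv : f v ≠ f u) : M L u u' v := by
  obtain ⟨h, hh, h1, h2, h3⟩ := exists_partStab_map f hf x x' y u u' v hx hxx hy hu huu hv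
  have hxy : x ≠ y := fun e => hy (by rw [e])
  have hx'y : x' ≠ y := fun e => hy (by rw [← e, hx])
  have huv : u ≠ v := fun e => hv (by rw [e])
  have hu'v : u' ≠ v := fun e => hv (by rw [← e, hu])
  rcases Int.units_eq_one_or (Perm.sign h) with hs | hs
  · have := M_conj h (hL ⟨hh, Perm.mem_alternatingGroup.mpr hs⟩) hM
    rw [h1, h2, h3] at this
    exact this
  · have hk : h * swap x x' ∈ partStab f ⊓ alternatingGroup Ω := by
      refine ⟨(partStab f).mul_mem hh (swap_mem_partStab f x x' hx), ?_⟩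
      apply Perm.mem_alternatingGroup.mpr
      rw [Perm.sign_mul, hs, Perm.sign_swap hxx]
      rfl
    have := M_conj (h * swap x x') (hL hk) hM
    rw [Perm.mul_apply, Perm.mul_apply, Perm.mul_apply, swap_apply_left, swap_apply_right,
      swap_apply_of_ne_of_ne hxy.symm hx'y.symm, h1, h2, h3] at this
    exact M_s (M_r hu'v huv this)

/-- Lemma C: the three-cycles of type II generate all three-cycles. -/
theorem all_of_typeII {Ω : Type*} [Fintype Ω] [DecidableEq Ω] {a b : ℕ} (ha : 2 ≤ a)
    (hb : 2 ≤ b) (f : Ω → Fin b)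
    (hf : ∀ i : Fin b, Nat.card {x : Ω // f x = i} = a) (L : Subgroup (Perm Ω))
    (hII : ∀ u u' v : Ω, f u = f u' → u ≠ u' → f v ≠ f u → M L u u' v)
    (p q r : Ω) (hpq : p ≠ q) (hpr : p ≠ r) (hqr : q ≠ r) : M L p q r := by
  by_cases h1 : f p = f q
  · by_cases h2 : f r = f p
    · -- type I
      obtain ⟨j, hj⟩ : ∃ j : Fin b, j ≠ f p := by
        by_cases h0 : f p = ⟨0, by omega⟩
        · exact ⟨⟨1, by omega⟩, by rw [h0]; simp [Fin.ext_iff]⟩
        · exact ⟨⟨0, by omega⟩, fun e => h0 e.symm⟩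
      obtain ⟨w, hw, -⟩ := exists_in_fiber f hf j ∅ (by simp; omega)
      have hwp : f w ≠ f p := by rw [hw]; exact hj
      exact M_g (hII p q w h1 hpq hwp) (M_s (hII p r w h2.symm hpr hwp))
    · exact hII p q r h1 hpq h2
  · by_cases h2 : f r = f p
    · exact M_s (hII p r q h2.symm hpr (fun e => h1 e.symm))
    · by_cases h3 : f r = f q
      · have := hII q r p h3.symm hqr h1
        -- M q r p → M r p q → M p q r
        exact M_r hqr.symm hpq (M_r hpq.symm hpr.symm this)
      · -- type III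
        obtain ⟨p', hp', hpp'⟩ := exists_in_fiber f hf (f p) {p} (by simp; omega)
        have hpp : p ≠ p' := fun e => hpp' (by simp [e])
        exact M_g (M_s (hII p p' q hp'.symm hpp (fun e => h1 e.symm)))
          (hII p p' r hp'.symm hpp h2)

theorem exists_split {Ω : Type*} [Fintype Ω] [DecidableEq Ω] {b : ℕ} (f : Ω → Fin b)
    (L : Subgroup (Perm Ω)) (g : Perm Ω) (hg : g ∈ L) (hgP : g ∉ partStab f) :
    ∃ k ∈ L, ∃ x y, f x = f y ∧ f (k x) ≠ f (k y) := by
  have h0 : ¬ ∀ x y : Ω, f x = f y ↔ f (g x) = f (g y) := hgP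
  simp only [not_forall] at h0
  obtain ⟨x, y, hxy⟩ := h0
  by_cases h1 : f x = f y
  · exact ⟨g, hg, x, y, h1, fun h2 => hxy ⟨fun _ => h2, fun _ => h1⟩⟩
  · have h2 : f (g x) = f (g y) := by
      by_contra h2; exact hxy ⟨fun h => absurd h h1, fun h => absurd h h2⟩
    refine ⟨g⁻¹, L.inv_mem hg, g x, g y, h2, ?_⟩
    simpa using h1

theorem comm4 {Ω : Type*} [Fintype Ω] [DecidableEq Ω] {p q r s : Ω} (h1 : p ≠ q) (h2 : p ≠ r)
    (h3 : p ≠ s) (h4 : q ≠ r) (h5 : q ≠ s) (h6 : r ≠ s) :
    swap p q * swap r s = swap r s * swap p q :=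
  (Perm.disjoint_swap_swap (by simp [h1, h2, h3, h4, h5, h6])).commute.eq

/-- Step 1 for blocks of size at least three. -/
theorem step_three {Ω : Type*} [Fintype Ω] [DecidableEq Ω] {a b : ℕ} (ha : 3 ≤ a)
    (f : Ω → Fin b) (hf : ∀ i : Fin b, Nat.card {x : Ω // f x = i} = a)
    (L : Subgroup (Perm Ω)) (hL : partStab f ⊓ alternatingGroup Ω ≤ L)
    (k : Perm Ω) (hk : k ∈ L) (x y : Ω) (hxy : f x = f y) (hk2 : f (k x) ≠ f (k y)) :
    ∃ u u' v : Ω, f u = f u' ∧ u ≠ u' ∧ f v ≠ f u ∧ M L u u' v := by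
  have hne : x ≠ y := fun e => hk2 (by rw [e])
  obtain ⟨z, hz, hzS⟩ := exists_in_fiber f hf (f x) {x, y}
    (lt_of_le_of_lt Finset.card_le_two (by omega))
  have hzx : z ≠ x := fun e => hzS (by simp [e])
  have hzy : z ≠ y := fun e => hzS (by simp [e])
  have hH : ∀ p q r : Ω, f p = f q → f p = f r → p ≠ q → p ≠ r → M L p q r := by
    intro p q r h1 h2 h3 h4
    apply hL
    refine ⟨(partStab f).mul_mem (swap_mem_partStab f p q h1) (swap_mem_partStab f p r h2), ?_⟩
    apply Perm.mem_alternatingGroup.mpr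
    rw [Perm.sign_mul, Perm.sign_swap h3, Perm.sign_swap h4]; rfl
  have h1 : M L (k x) (k y) (k z) := M_conj k hk (hH x y z hxy hz.symm hne hzx.symm)
  have huw : k x ≠ k z := fun e => hzx (k.injective e).symm
  have hvw : k y ≠ k z := fun e => hzy (k.injective e).symm
  by_cases h2 : f (k z) = f (k x)
  · exact ⟨k x, k z, k y, h2.symm, huw, fun e => hk2 e.symm, M_s h1⟩
  · by_cases h3 : f (k z) = f (k y)
    · exact ⟨k y, k z, k x, h3.symm, hvw, hk2, M_r huw hvw h1⟩
    · obtain ⟨p, hp, hpS⟩ := exists_in_fiber f hf (f (k x)) {k x}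
        (by rw [Finset.card_singleton]; omega)
      obtain ⟨q, hq, hqS⟩ := exists_in_fiber f hf (f (k x)) {k x, p}
        (lt_of_le_of_lt Finset.card_le_two (by omega))
      have hpu : p ≠ k x := fun e => hpS (by simp [e])
      have hqu : q ≠ k x := fun e => hqS (by simp [e])
      have hqp : q ≠ p := fun e => hqS (by simp [e])
      have hh : M L (k x) p q := hH (k x) p q hp.symm hq.symm hpu.symm hqu.symm
      have hv_ne : ∀ t, f t ≠ f (k x) → (swap (k x) p * swap (k x) q) t = t := by
        intro t ht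
        have t1 : t ≠ k x := fun e => ht (by rw [e])
        have t2 : t ≠ p := fun e => ht (by rw [e, hp])
        have t3 : t ≠ q := fun e => ht (by rw [e, hq])
        rw [Perm.mul_apply, swap_apply_of_ne_of_ne t1 t3, swap_apply_of_ne_of_ne t1 t2]
      have hu_q : (swap (k x) p * swap (k x) q) (k x) = q := by
        rw [Perm.mul_apply, swap_apply_left, swap_apply_of_ne_of_ne hqu hqp]
      have h4 := M_conj (swap (k x) p * swap (k x) q) hh h1
      rw [hu_q, hv_ne (k y) (fun e => hk2 e.symm), hv_ne (k z) h2] at h4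
      have h5 : M L (k y) (k x) (k z) := M_s (M_r huw hvw h1)
      have hqw : q ≠ k z := fun e => h2 (by rw [← e, hq])
      have h6 : M L (k y) (k z) q := M_r hqw hvw h4
      have h7 : M L (k y) (k x) q := M_g h5 h6
      have hqv : q ≠ k y := fun e => hk2 (by rw [← e, hq])
      exact ⟨k x, q, k y, hq.symm, hqu.symm, fun e => hk2 e.symm, M_r hqv.symm hqu.symm h7⟩

/-- Step 1 for blocks of size two. -/
theorem step_two {Ω : Type*} [Fintype Ω] [DecidableEq Ω] {b : ℕ}
    (h8 : Fintype.card Ω ≠ 8) (f : Ω → Fin b)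
    (hf : ∀ i : Fin b, Nat.card {x : Ω // f x = i} = 2) (L : Subgroup (Perm Ω))
    (hL : partStab f ⊓ alternatingGroup Ω ≤ L) (hLA : L ≤ alternatingGroup Ω)
    (k : Perm Ω) (hk : k ∈ L) (x y : Ω) (hxy : f x = f y) (hk2 : f (k x) ≠ f (k y)) :
    ∃ u u' v : Ω, f u = f u' ∧ u ≠ u' ∧ f v ≠ f u ∧ M L u u' v := by
  have hmate : ∀ x : Ω, ∃ x' : Ω, f x' = f x ∧ x' ≠ x := by
    intro x
    obtain ⟨z, hz, hzS⟩ := exists_in_fiber f hf (f x) {x} (by simp)
    exact ⟨z, hz, fun e => hzS (by simp [e])⟩
  choose m hm1 hm2 using hmate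
  have hm3 : ∀ x y : Ω, f y = f x → y = x ∨ y = m x := by
    intro x y hy
    by_contra hcon
    push Not at hcon
    have hc : (Finset.univ.filter (fun t => f t = f x)).card = 2 := by
      rw [← hf (f x), Nat.card_eq_fintype_card, Fintype.card_subtype]
    have hsub : ({x, m x, y} : Finset Ω) ⊆ Finset.univ.filter (fun t => f t = f x) := by
      intro t ht
      simp only [Finset.mem_insert, Finset.mem_singleton] at ht
      rcases ht with h | h | h
      · simp [h]
      · simp [h, hm1]
      · simp [h, hy]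
    have h3 : ({x, m x, y} : Finset Ω).card = 3 := by
      apply Finset.card_eq_three.mpr
      exact ⟨x, m x, y, fun e => hm2 x e.symm, fun e => hcon.1 e.symm,
        fun e => hcon.2 e.symm, rfl⟩
    have := Finset.card_le_card hsub
    omega
  have hsep : ∀ p q : Ω, p ≠ q → p ≠ m q → f p ≠ f q := by
    intro p q h1 h2 e
    rcases hm3 q p e with h | h
    · exact h1 h
    · exact h2 h
  have hτ : ∀ p q : Ω, f p = f q → p ≠ q → ∀ r s : Ω, f r = f s → r ≠ s →
      swap p q * swap r s ∈ L := by
    intro p q h1 h2 r s h3 h4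
    apply hL
    refine ⟨(partStab f).mul_mem (swap_mem_partStab f p q h1) (swap_mem_partStab f r s h3), ?_⟩
    apply Perm.mem_alternatingGroup.mpr
    rw [Perm.sign_mul, Perm.sign_swap h2, Perm.sign_swap h4]; rfl
  have hβ : ∀ p q : Ω, f p ≠ f q → swap p q * swap (m p) (m q) ∈ L := by
    intro p q hpq
    apply hL
    have hp_ne : p ≠ q := fun e => hpq (by rw [e])
    have hmp_ne : m p ≠ m q := fun e => hpq (by rw [← hm1 p, e, hm1 q])
    refine ⟨?_, ?_⟩
    · show swap p q * swap (m p) (m q) ∈ partStab f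
      rw [mem_partStab]
      have key : ∀ t, f ((swap p q * swap (m p) (m q)) t) = swap (f p) (f q) (f t) := by
        intro t
        rw [Perm.mul_apply]
        by_cases t1 : t = p
        · rw [t1, swap_apply_of_ne_of_ne (hm2 p).symm (fun e => hpq (by rw [e, hm1])),
            swap_apply_left, swap_apply_left]
        by_cases t2 : t = q
        · rw [t2, swap_apply_of_ne_of_ne (fun e => hpq (by rw [e, hm1])) (hm2 q).symm,
            swap_apply_right, swap_apply_right]
        by_cases t3 : t = m p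
        · rw [t3, swap_apply_left,
            swap_apply_of_ne_of_ne (fun e => hpq (by rw [← e, hm1])) (hm2 q), hm1, hm1,
            swap_apply_left]
        by_cases t4 : t = m q
        · rw [t4, swap_apply_right,
            swap_apply_of_ne_of_ne (hm2 p) (fun e => hpq (by rw [← e, hm1])), hm1, hm1,
            swap_apply_right]
        · rw [swap_apply_of_ne_of_ne t3 t4, swap_apply_of_ne_of_ne t1 t2,
            swap_apply_of_ne_of_ne (hsep t p t1 t3) (hsep t q t2 t4)]
      intro s t
      rw [key, key, (swap (f p) (f q)).injective.eq_iff]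
    · apply Perm.mem_alternatingGroup.mpr
      rw [Perm.sign_mul, Perm.sign_swap hp_ne, Perm.sign_swap hmp_ne]; rfl
  have hyx : y = m x := by
    rcases hm3 x y hxy.symm with h | h
    · exact absurd (by rw [h]) hk2
    · exact h
  subst hyx
  obtain ⟨u, hu⟩ : ∃ u, k x = u := ⟨_, rfl⟩
  obtain ⟨v, hv⟩ : ∃ v, k (m x) = v := ⟨_, rfl⟩
  rw [hu, hv] at hk2
  have huv : u ≠ v := fun e => hk2 (by rw [e])
  have hmuv : m u ≠ v := fun e => hk2 (by rw [← e, hm1])
  have hmvmu : m v ≠ m u := fun e => hk2 (by rw [← hm1 u, ← e, hm1 v])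
  obtain ⟨y₁, hky₁⟩ : ∃ y₁, k y₁ = m u := ⟨k⁻¹ (m u), by simp⟩
  have hy₁x : y₁ ≠ x := fun e => hm2 u (by rw [← hky₁, e, hu])
  have hy₁mx : y₁ ≠ m x := fun e => hmuv (by rw [← hky₁, e, hv])
  have hfy₁ : f y₁ ≠ f x := hsep y₁ x hy₁x hy₁mx
  obtain ⟨c, hc⟩ : ∃ c, k (m y₁) = c := ⟨_, rfl⟩
  have hmy₁x : m y₁ ≠ x := fun e => hfy₁ (by rw [← hm1 y₁, e])
  have hmy₁mx : m y₁ ≠ m x := fun e => hfy₁ (by rw [← hm1 y₁, e, hm1])
  have hcu : c ≠ u := by rw [← hc, ← hu]; exact fun e => hmy₁x (k.injective e)
  have hcv : c ≠ v := by rw [← hc, ← hv]; exact fun e => hmy₁mx (k.injective e)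
  have hcmu : c ≠ m u := by rw [← hc, ← hky₁]; exact fun e => hm2 y₁ (k.injective e)
  have d1 : swap u (m u) * swap v c ∈ L := by
    have h0 := hβ x y₁ (fun e => hfy₁ e.symm)
    have h1 := L.mul_mem (L.mul_mem hk h0) (L.inv_mem hk)
    have e : k * (swap x y₁ * swap (m x) (m y₁)) * k⁻¹ =
        swap (k x) (k y₁) * swap (k (m x)) (k (m y₁)) := by
      rw [swap_apply_apply, swap_apply_apply]; group
    rw [e, hu, hv, hky₁, hc] at h1
    exact h1
  by_cases hcm : c = m v
  swap
  · have d2 : swap u (m u) * swap v (m v) ∈ L :=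
      hτ u (m u) (hm1 u).symm (hm2 u).symm v (m v) (hm1 v).symm (hm2 v).symm
    have d3 := L.mul_mem d1 d2
    have hcomm : swap u (m u) * swap v c = swap v c * swap u (m u) :=
      comm4 (hm2 u).symm huv hcu.symm hmuv hcmu.symm hcv.symm
    have e : swap u (m u) * swap v c * (swap u (m u) * swap v (m v)) =
        swap v c * swap v (m v) := by
      rw [hcomm, mul_assoc, swap_mul_self_mul]
    rw [e] at d3
    exact ⟨v, m v, c, (hm1 v).symm, (hm2 v).symm, hsep c v hcv hcm, M_s d3⟩
  · by_cases hz : ∃ z, f z ≠ f x ∧ f z ≠ f y₁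
    · obtain ⟨z, hzx, hzy⟩ := hz
      obtain ⟨w, hw⟩ : ∃ w, k z = w := ⟨_, rfl⟩
      obtain ⟨w', hw'⟩ : ∃ w', k (m z) = w' := ⟨_, rfl⟩
      have hz1 : z ≠ x := fun e => hzx (by rw [e])
      have hz2 : z ≠ m x := fun e => hzx (by rw [e, hm1])
      have hz3 : z ≠ y₁ := fun e => hzy (by rw [e])
      have hz4 : z ≠ m y₁ := fun e => hzy (by rw [e, hm1])
      have hmz1 : m z ≠ x := fun e => hzx (by rw [← hm1 z, e])
      have hmz2 : m z ≠ m x := fun e => hzx (by rw [← hm1 z, e, hm1])
      have hmz3 : m z ≠ y₁ := fun e => hzy (by rw [← hm1 z, e])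
      have hmz4 : m z ≠ m y₁ := fun e => hzy (by rw [← hm1 z, e, hm1])
      have hwu : w ≠ u := by rw [← hw, ← hu]; exact fun e => hz1 (k.injective e)
      have hwv : w ≠ v := by rw [← hw, ← hv]; exact fun e => hz2 (k.injective e)
      have hwmu : w ≠ m u := by rw [← hw, ← hky₁]; exact fun e => hz3 (k.injective e)
      have hwmv : w ≠ m v := by rw [← hw, ← hcm, ← hc]; exact fun e => hz4 (k.injective e)
      have hw'u : w' ≠ u := by rw [← hw', ← hu]; exact fun e => hmz1 (k.injective e)
      have hw'v : w' ≠ v := by rw [← hw', ← hv]; exact fun e => hmz2 (k.injective e)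
      have hw'mu : w' ≠ m u := by rw [← hw', ← hky₁]; exact fun e => hmz3 (k.injective e)
      have hw'mv : w' ≠ m v := by
        rw [← hw', ← hcm, ← hc]; exact fun e => hmz4 (k.injective e)
      have hww' : w ≠ w' := by
        rw [← hw, ← hw']; exact fun e => hm2 z (k.injective e).symm
      have hfwu : f w ≠ f u := hsep w u hwu hwmu
      have hfwv : f w ≠ f v := hsep w v hwv hwmv
      have hfw'u : f w' ≠ f u := hsep w' u hw'u hw'mu
      have hfw'v : f w' ≠ f v := hsep w' v hw'v hw'mv
      by_cases hww : f w = f w'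
      · have d3 : swap u v * swap w w' ∈ L := by
          have h0 := hτ x (m x) (hm1 x).symm (hm2 x).symm z (m z) (hm1 z).symm (hm2 z).symm
          have h1 := L.mul_mem (L.mul_mem hk h0) (L.inv_mem hk)
          have e : k * (swap x (m x) * swap z (m z)) * k⁻¹ =
              swap (k x) (k (m x)) * swap (k z) (k (m z)) := by
            rw [swap_apply_apply, swap_apply_apply]; group
          rw [e, hu, hv, hw, hw'] at h1
          exact h1
        have d4 : swap u (m u) * swap w w' ∈ L :=
          hτ u (m u) (hm1 u).symm (hm2 u).symm w w' hww hww'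
        have d5 := L.mul_mem d3 d4
        have hcomm : swap u (m u) * swap w w' = swap w w' * swap u (m u) :=
          comm4 (hm2 u).symm hwu.symm hw'u.symm hwmu.symm hw'mu.symm hww'
        have e : swap u v * swap w w' * (swap u (m u) * swap w w') =
            swap u v * swap u (m u) := by
          rw [hcomm, mul_assoc, swap_mul_self_mul]
        rw [e] at d5
        exact ⟨u, m u, v, (hm1 u).symm, (hm2 u).symm, fun e => hk2 e.symm, M_s d5⟩
      · have h5 : ∃ d, f d ≠ f u ∧ f d ≠ f v ∧ f d ≠ f w ∧ f d ≠ f w' := by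
          by_contra hno
          push Not at hno
          have huniv : (Finset.univ : Finset (Fin b)) = {f u, f v, f w, f w'} := by
            ext j
            simp only [Finset.mem_univ, Finset.mem_insert, Finset.mem_singleton, true_iff]
            obtain ⟨d, hd, -⟩ := exists_in_fiber f hf j ∅ (by simp)
            rw [← hd]
            by_cases e1 : f d = f u
            · exact Or.inl e1
            by_cases e2 : f d = f v
            · exact Or.inr (Or.inl e2)
            by_cases e3 : f d = f w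
            · exact Or.inr (Or.inr (Or.inl e3))
            exact Or.inr (Or.inr (Or.inr (hno d e1 e2 e3)))
          have hb4 : b = 4 := by
            have h1 : (Finset.univ : Finset (Fin b)).card = b := by simp
            rw [huniv] at h1
            have h2 : ({f u, f v, f w, f w'} : Finset (Fin b)).card = 4 := by
              rw [Finset.card_insert_of_notMem (by simp [hk2, Ne.symm hfwu, Ne.symm hfw'u]),
                Finset.card_insert_of_notMem (by simp [Ne.symm hfwv, Ne.symm hfw'v]),
                Finset.card_insert_of_notMem (by simp [hww]), Finset.card_singleton]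
            omega
          exact h8 (by rw [card_eq_mul f hf, hb4])
        obtain ⟨d, hd1, hd2, hd3, hd4⟩ := h5
        have d5 : swap u w * swap v w' ∈ L := by
          have h0 := hβ x z (fun e => hzx e.symm)
          have h1 := L.mul_mem (L.mul_mem hk h0) (L.inv_mem hk)
          have e : k * (swap x z * swap (m x) (m z)) * k⁻¹ =
              swap (k x) (k z) * swap (k (m x)) (k (m z)) := by
            rw [swap_apply_apply, swap_apply_apply]; group
          rw [e, hu, hv, hw, hw'] at h1
          exact h1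
        have d6 : swap u (m u) * swap d (m d) ∈ L :=
          hτ u (m u) (hm1 u).symm (hm2 u).symm d (m d) (hm1 d).symm (hm2 d).symm
        have d7 := L.mul_mem (L.mul_mem d5 d6) (L.inv_mem d5)
        have e7 : swap u w * swap v w' * (swap u (m u) * swap d (m d)) *
            (swap u w * swap v w')⁻¹ =
            swap ((swap u w * swap v w') u) ((swap u w * swap v w') (m u)) *
              swap ((swap u w * swap v w') d) ((swap u w * swap v w') (m d)) := by
          rw [swap_apply_apply, swap_apply_apply]; group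
        have a1 : (swap u w * swap v w') u = w := by
          rw [Perm.mul_apply, swap_apply_of_ne_of_ne huv hw'u.symm, swap_apply_left]
        have a2 : (swap u w * swap v w') (m u) = m u := by
          rw [Perm.mul_apply, swap_apply_of_ne_of_ne hmuv hw'mu.symm,
            swap_apply_of_ne_of_ne (hm2 u) hwmu.symm]
        have a3 : ∀ t, f t = f d → (swap u w * swap v w') t = t := by
          intro t ht
          have t1 : t ≠ u := fun e => hd1 (by rw [← ht, e])
          have t2 : t ≠ v := fun e => hd2 (by rw [← ht, e])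
          have t3 : t ≠ w := fun e => hd3 (by rw [← ht, e])
          have t4 : t ≠ w' := fun e => hd4 (by rw [← ht, e])
          rw [Perm.mul_apply, swap_apply_of_ne_of_ne t2 t4, swap_apply_of_ne_of_ne t1 t3]
        rw [e7, a1, a2, a3 d rfl, a3 (m d) (hm1 d)] at d7
        have d8 := L.mul_mem d7 d6
        have hcomm : swap u (m u) * swap d (m d) = swap d (m d) * swap u (m u) :=
          comm4 (hm2 u).symm (fun e => hd1 (by rw [e])) (fun e => hd1 (by rw [← hm1 d, e]))
            (fun e => hd1 (by rw [← e, hm1])) (fun e => hd1 (by rw [← hm1 d, ← e, hm1]))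
            (hm2 d).symm
        have e8 : swap w (m u) * swap d (m d) * (swap u (m u) * swap d (m d)) =
            swap (m u) w * swap (m u) u := by
          rw [hcomm, mul_assoc, swap_mul_self_mul, swap_comm w (m u), swap_comm u (m u)]
        rw [e8] at d8
        exact ⟨m u, u, w, hm1 u, hm2 u, by rw [hm1]; exact hfwu, M_s d8⟩
    · push Not at hz
      have key : ∀ t, f ((swap v (m u) * k) t) = if f t = f x then f u else f v := by
        intro t
        by_cases ht : f t = f x
        · rw [if_pos ht, Perm.mul_apply]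
          rcases hm3 x t ht with h | h
          · rw [h, hu, swap_apply_of_ne_of_ne huv (hm2 u).symm]
          · rw [h, hv, swap_apply_left, hm1]
        · rw [if_neg ht, Perm.mul_apply]
          rcases hm3 y₁ t (hz t ht) with h | h
          · rw [h, hky₁, swap_apply_right]
          · rw [h, hc, hcm, swap_apply_of_ne_of_ne (hm2 v) hmvmu, hm1]
      have hβ₀P : swap v (m u) * k ∈ partStab f := by
        rw [mem_partStab]
        intro s t
        rw [key, key]
        by_cases hs : f s = f x <;> by_cases ht : f t = f x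
        · rw [if_pos hs, if_pos ht]; exact ⟨fun _ => rfl, fun _ => hs.trans ht.symm⟩
        · rw [if_pos hs, if_neg ht]
          exact ⟨fun e => absurd (e ▸ hs) ht, fun e => absurd e hk2⟩
        · rw [if_neg hs, if_pos ht]
          exact ⟨fun e => absurd (e ▸ ht) hs, fun e => absurd e.symm hk2⟩
        · rw [if_neg hs, if_neg ht]
          exact ⟨fun _ => rfl, fun _ => (hz s hs).trans (hz t ht).symm⟩
      have hsk : Perm.sign k = 1 := Perm.mem_alternatingGroup.mp (hLA hk)
      have hmem : swap v (m u) * k * swap x (m x) ∈ L := by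
        apply hL
        refine ⟨(partStab f).mul_mem hβ₀P (swap_mem_partStab f x (m x) (hm1 x).symm), ?_⟩
        apply Perm.mem_alternatingGroup.mpr
        rw [Perm.sign_mul, Perm.sign_mul, hsk, Perm.sign_swap hmuv.symm,
          Perm.sign_swap (hm2 x).symm]; rfl
      have d9 := L.mul_mem hk (L.inv_mem hmem)
      have e9 : k * (swap v (m u) * k * swap x (m x))⁻¹ =
          swap (k x) (k (m x)) * swap v (m u) := by
        rw [swap_apply_apply, mul_inv_rev, mul_inv_rev, swap_inv, swap_inv]; group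
      rw [e9, hu, hv, swap_comm u v] at d9
      exact ⟨u, m u, v, (hm1 u).symm, (hm2 u).symm, fun e => hk2 e.symm,
        M_r hmuv.symm (hm2 u).symm d9⟩

/-- Let Ω be a finite set whose size is not 8, and f : Ω → Fin b a labelling with b ≥ 2 whose fibres all have the same size a ≥ 2 (a partition into b blocks of size a). Then the even permutations preserving the partition — the intersection of the imprimitive wreath product S_a ≀ S_b with the alternating group — form a maximal subgroup of the alternating group on Ω. -/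
theorem result {Ω : Type*} [Fintype Ω] [DecidableEq Ω] (h8 : Fintype.card Ω ≠ 8) (a b : ℕ) (ha : 2 ≤ a) (hb : 2 ≤ b)
    (f : Ω → Fin b) (hf : ∀ i : Fin b, Nat.card {x : Ω // f x = i} = a) :
    IsCoatom ((Subgroup.closure {g : Equiv.Perm Ω | ∀ x y : Ω, f x = f y ↔ f (g x) = f (g y)} ⊓ alternatingGroup Ω).subgroupOf (alternatingGroup Ω)) := by
  rw [closure_eq_partStab]
  obtain ⟨x, hx, -⟩ := exists_in_fiber f hf ⟨0, by omega⟩ ∅ (by simp; omega)
  obtain ⟨x', hx', hx'S⟩ := exists_in_fiber f hf ⟨0, by omega⟩ {x} (by simp; omega)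
  obtain ⟨y, hy, -⟩ := exists_in_fiber f hf ⟨1, by omega⟩ ∅ (by simp; omega)
  have hxx' : x ≠ x' := fun e => hx'S (by simp [e])
  have hfy : f y ≠ f x := by rw [hx, hy]; simp [Fin.ext_iff]
  apply Cfsg.Agent.S5895.isCoatom_subgroupOf_of _ _ inf_le_right
  · intro hle
    have hyx : y ≠ x := fun e => hfy (by rw [e])
    have hyx' : y ≠ x' := fun e => hfy (by rw [e, hx', hx])
    have hmem : swap x x' * swap x y ∈ alternatingGroup Ω := by
      apply Perm.mem_alternatingGroup.mpr
      rw [Perm.sign_mul, Perm.sign_swap hxx', Perm.sign_swap hyx.symm]; rfl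
    have h1 := ((mem_partStab f _).mp (hle hmem).1 x x').mp (hx.trans hx'.symm)
    have e1 : (swap x x' * swap x y) x = y := by
      rw [Perm.mul_apply, swap_apply_left, swap_apply_of_ne_of_ne hyx hyx']
    have e2 : (swap x x' * swap x y) x' = x := by
      rw [Perm.mul_apply, swap_apply_of_ne_of_ne hxx'.symm hyx'.symm, swap_apply_right]
    rw [e1, e2] at h1
    exact hfy h1
  · intro L hHL hLA hnle
    obtain ⟨g, hgL, hgH⟩ := SetLike.not_le_iff_exists.mp hnle
    have hgP : g ∉ partStab f := fun h => hgH ⟨h, hLA hgL⟩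
    obtain ⟨k, hk, p, q, hpq, hkpq⟩ := exists_split f L g hgL hgP
    have h1 : ∃ u u' v : Ω, f u = f u' ∧ u ≠ u' ∧ f v ≠ f u ∧ M L u u' v := by
      rcases Nat.lt_or_ge 2 a with h3 | h2
      · exact step_three (by omega) f hf L hHL k hk p q hpq hkpq
      · have ha2 : a = 2 := by omega
        subst ha2
        exact step_two h8 f hf L hHL hLA k hk p q hpq hkpq
    obtain ⟨u, u', v, e1, e2, e3, e4⟩ := h1
    exact alt_le_of_M L (all_of_typeII ha hb f hf L (all_typeII f hf L hHL u u' v e1 e2 e3 e4))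

end Cfsg.Agent.S5909
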