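import Cfsg.Statements.S5910
-- import your own Cfsg.Agent.* helpers here
import Cfsg.Agent.S5905
import Cfsg.Agent.S5885

set_option autoImplicit false
open Cfsg

namespace Cfsg.Agent.S5910

open Cfsg.Agent.S5905 (partStab mem_partStab closure_eq_partStab)

/-- Balanced quadruples of labels. -/
def Bal (i j k l : Fin 4) : Prop :=
  (i = j ∧ k = l) ∨ (i = k ∧ j = l) ∨ (i = l ∧ j = k) ∨
    (i ≠ j ∧ i ≠ k ∧ i ≠ l ∧ j ≠ k ∧ j ≠ l ∧ k ≠ l)

instance instDecBal (i j k l : Fin 4) : Decidable (Bal i j k l) := by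
  unfold Bal; infer_instance

/-- The affine quaternary relation on `Fin 4 × ZMod 2`. -/
def R0 (p q r u : Fin 4 × ZMod 2) : Prop :=
  Bal p.1 q.1 r.1 u.1 ∧ p.2 + q.2 + r.2 + u.2 = 0

instance instDecR0 (p q r u : Fin 4 × ZMod 2) : Decidable (R0 p q r u) := by
  unfold R0; infer_instance

theorem Bal_congr (i j k l i' j' k' l' : Fin 4) (h1 : i = j ↔ i' = j') (h2 : i = k ↔ i' = k')
    (h3 : i = l ↔ i' = l') (h4 : j = k ↔ j' = k') (h5 : j = l ↔ j' = l')
    (h6 : k = l ↔ k' = l') : Bal i j k l ↔ Bal i' j' k' l' := by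
  simp only [Bal, ne_eq, h1, h2, h3, h4, h5, h6]

theorem par4 : ∀ a b c d : ZMod 2,
    ((if a = 0 then 1 else -1 : ℤˣ) * (if b = 0 then 1 else -1) * (if c = 0 then 1 else -1) *
      (if d = 0 then 1 else -1) = 1) → a + b + c + d = 0 := by decide

theorem balsum : ∀ a b c d : ZMod 2, a + b + c + d = 0 → ∀ i j k l : Fin 4, Bal i j k l →
    ![a, b, c, d] i + ![a, b, c, d] j + ![a, b, c, d] k + ![a, b, c, d] l = 0 := by decide

theorem ne_add_one : ∀ a b : ZMod 2, a ≠ b → a = 1 + b := by decide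

theorem sign_addRight : ∀ a : ZMod 2,
    Equiv.Perm.sign (Equiv.addRight a : Equiv.Perm (ZMod 2)) = if a = 0 then 1 else -1 := by
  intro a
  have h : a = 0 ∨ a = 1 := by revert a; decide
  rcases h with rfl | rfl
  · have : (Equiv.addRight (0 : ZMod 2) : Equiv.Perm (ZMod 2)) = 1 := by
      ext x; simp
    rw [this]; simp
  · have : (Equiv.addRight (1 : ZMod 2) : Equiv.Perm (ZMod 2)) = Equiv.swap 0 1 := by
      apply Equiv.ext
      decide
    rw [this, Equiv.Perm.sign_swap (by decide)]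
    simp

/-- The sign lemma: an even permutation of `Fin 4 × ZMod 2` preserving the partition into fibres of
the first coordinate flips an even number of fibres. -/
theorem sign_lemma (G : Equiv.Perm (Fin 4 × ZMod 2))
    (hG : ∀ p q : Fin 4 × ZMod 2, p.1 = q.1 ↔ (G p).1 = (G q).1)
    (hs : Equiv.Perm.sign G = 1) :
    ∃ φ : Fin 4 → ZMod 2, (∀ p : Fin 4 × ZMod 2, (G p).2 = p.2 + φ p.1) ∧
      φ 0 + φ 1 + φ 2 + φ 3 = 0 := by
  have hinj : Function.Injective (fun i : Fin 4 => (G (i, 0)).1) := by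
    intro i j hij
    exact (hG (i, 0) (j, 0)).mpr hij
  let π : Equiv.Perm (Fin 4) := Equiv.ofBijective _ (Finite.injective_iff_bijective.mp hinj)
  have hπ : ∀ p : Fin 4 × ZMod 2, (G p).1 = π p.1 := by
    intro p
    exact (hG p (p.1, 0)).mp rfl
  let φ : Fin 4 → ZMod 2 := fun i => (G (i, 0)).2
  have hφ : ∀ p : Fin 4 × ZMod 2, (G p).2 = p.2 + φ p.1 := by
    rintro ⟨i, t⟩
    have h01 : (G (i, 1)).2 ≠ (G (i, 0)).2 := by
      intro h
      have h1 : (G (i, 1)).1 = (G (i, 0)).1 := (hG (i, 1) (i, 0)).mp rfl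
      have h2 : G (i, 1) = G (i, 0) := Prod.ext h1 h
      have h3 := G.injective h2
      have h4 : (1 : ZMod 2) = 0 := congrArg Prod.snd h3
      exact absurd h4 (by decide)
    have ht : t = 0 ∨ t = 1 := by revert t; decide
    rcases ht with rfl | rfl
    · show (G (i, 0)).2 = 0 + (G (i, 0)).2
      rw [zero_add]
    · exact ne_add_one _ _ h01
  have hdecomp : G = (Equiv.prodCongrLeft fun _ : ZMod 2 => π) *
      (Equiv.prodCongrRight fun i : Fin 4 => (Equiv.addRight (φ i) : Equiv.Perm (ZMod 2))) := by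
    apply Equiv.ext
    intro p
    refine Prod.ext ?_ ?_
    · rw [hπ p]; rfl
    · rw [hφ p]; rfl
  have hsign : Equiv.Perm.sign G = ∏ i : Fin 4, (if φ i = 0 then 1 else -1 : ℤˣ) := by
    rw [hdecomp, Equiv.Perm.sign_mul, Equiv.Perm.sign_prodCongrLeft,
      Equiv.Perm.sign_prodCongrRight, Finset.prod_const]
    have hc : (Finset.univ : Finset (ZMod 2)).card = 2 := by decide
    rw [hc, Int.units_sq, one_mul]
    exact Finset.prod_congr rfl (fun i _ => sign_addRight (φ i))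
  refine ⟨φ, hφ, ?_⟩
  rw [hs, Fin.prod_univ_four] at hsign
  exact par4 _ _ _ _ hsign.symm

/-- The subgroup of permutations preserving the affine quaternary relation. -/
def QS {Ω : Type*} (e : Ω ≃ Fin 4 × ZMod 2) : Subgroup (Equiv.Perm Ω) where
  carrier := {g | ∀ x y z w : Ω, R0 (e x) (e y) (e z) (e w) ↔
    R0 (e (g x)) (e (g y)) (e (g z)) (e (g w))}
  mul_mem' := by
    intro g h hg hh x y z w
    rw [Equiv.Perm.mul_apply, Equiv.Perm.mul_apply, Equiv.Perm.mul_apply, Equiv.Perm.mul_apply,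
      ← hg, ← hh]
  one_mem' := by intro x y z w; simp
  inv_mem' := by
    intro g hg x y z w
    have := hg (g⁻¹ x) (g⁻¹ y) (g⁻¹ z) (g⁻¹ w)
    have e1 : ∀ x, g (g⁻¹ x) = x := fun x => by simp
    rw [e1, e1, e1, e1] at this
    exact this.symm

theorem exists_e {Ω : Type*} [Finite Ω] (f : Ω → Fin 4)
    (hf : ∀ i : Fin 4, Nat.card {x : Ω // f x = i} = 2) :
    ∃ e : Ω ≃ Fin 4 × ZMod 2, ∀ x, (e x).1 = f x := by
  have h : ∀ i : Fin 4, Nonempty ({x : Ω // f x = i} ≃ ZMod 2) := fun i =>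
    Finite.card_eq.mp (by rw [hf i, Nat.card_zmod])
  have ψ : ∀ i : Fin 4, {x : Ω // f x = i} ≃ ZMod 2 := fun i => Classical.choice (h i)
  exact ⟨(Equiv.sigmaFiberEquiv f).symm.trans
    ((Equiv.sigmaCongrRight ψ).trans (Equiv.sigmaEquivProd _ _)), fun x => rfl⟩

theorem partStab_le_QS {Ω : Type*} [Fintype Ω] [DecidableEq Ω] (f : Ω → Fin 4)
    (e : Ω ≃ Fin 4 × ZMod 2) (he : ∀ x, (e x).1 = f x) (g : Equiv.Perm Ω)
    (hg : g ∈ partStab f) (hs : Equiv.Perm.sign g = 1) : g ∈ QS e := by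
  have hg' := (mem_partStab f g).mp hg
  have hG : ∀ p q : Fin 4 × ZMod 2, p.1 = q.1 ↔ (e.permCongr g p).1 = (e.permCongr g q).1 := by
    intro p q
    have := hg' (e.symm p) (e.symm q)
    rw [← he, ← he, ← he, ← he, Equiv.apply_symm_apply, Equiv.apply_symm_apply] at this
    rw [Equiv.permCongr_apply, Equiv.permCongr_apply]
    exact this
  have hsG : Equiv.Perm.sign (e.permCongr g) = 1 := by
    rw [Equiv.Perm.sign_permCongr]; exact hs
  obtain ⟨φ, hφ, hφ0⟩ := sign_lemma (e.permCongr g) hG hsG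
  have hfl : ∀ x : Ω, (e (g x)).2 = (e x).2 + φ (f x) := by
    intro x
    have := hφ (e x)
    rw [Equiv.permCongr_apply, Equiv.symm_apply_apply, he] at this
    exact this
  have hφeq : φ = ![φ 0, φ 1, φ 2, φ 3] := by
    funext i; fin_cases i <;> rfl
  intro x y z w
  have hb : Bal (e x).1 (e y).1 (e z).1 (e w).1 ↔
      Bal (e (g x)).1 (e (g y)).1 (e (g z)).1 (e (g w)).1 := by
    apply Bal_congr
    · rw [he, he, he, he]; exact hg' x y
    · rw [he, he, he, he]; exact hg' x z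
    · rw [he, he, he, he]; exact hg' x w
    · rw [he, he, he, he]; exact hg' y z
    · rw [he, he, he, he]; exact hg' y w
    · rw [he, he, he, he]; exact hg' z w
  have hsum : Bal (e x).1 (e y).1 (e z).1 (e w).1 →
      (e (g x)).2 + (e (g y)).2 + (e (g z)).2 + (e (g w)).2 =
        (e x).2 + (e y).2 + (e z).2 + (e w).2 := by
    intro hbal
    have h0 := balsum _ _ _ _ hφ0 _ _ _ _ hbal
    rw [← hφeq, he, he, he, he] at h0
    rw [hfl, hfl, hfl, hfl]
    calc (e x).2 + φ (f x) + ((e y).2 + φ (f y)) + ((e z).2 + φ (f z)) + ((e w).2 + φ (f w))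
        = (e x).2 + (e y).2 + (e z).2 + (e w).2 + (φ (f x) + φ (f y) + φ (f z) + φ (f w)) := by
          ring
      _ = (e x).2 + (e y).2 + (e z).2 + (e w).2 := by rw [h0, add_zero]
  unfold R0
  constructor
  · rintro ⟨h1, h2⟩
    exact ⟨hb.mp h1, by rw [hsum h1]; exact h2⟩
  · rintro ⟨h1, h2⟩
    exact ⟨hb.mpr h1, by rw [← hsum (hb.mpr h1)]; exact h2⟩

/-- An even affine map not preserving the partition. -/
def t0 : Equiv.Perm (Fin 4 × ZMod 2) := Equiv.swap (0, 1) (1, 1) * Equiv.swap (2, 1) (3, 1)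

/-- A three-cycle. -/
def c0 : Equiv.Perm (Fin 4 × ZMod 2) := Equiv.swap (0, 0) (1, 0) * Equiv.swap (0, 0) (2, 0)

set_option maxRecDepth 100000 in
theorem t0_pres : ∀ p q r u : Fin 4 × ZMod 2, R0 p q r u ↔ R0 (t0 p) (t0 q) (t0 r) (t0 u) := by
  decide

theorem t0_sign : Equiv.Perm.sign t0 = 1 := by
  unfold t0
  rw [Equiv.Perm.sign_mul, Equiv.Perm.sign_swap (by decide), Equiv.Perm.sign_swap (by decide)]
  rfl

theorem c0_sign : Equiv.Perm.sign c0 = 1 := by
  unfold c0
  rw [Equiv.Perm.sign_mul, Equiv.Perm.sign_swap (by decide), Equiv.Perm.sign_swap (by decide)]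
  rfl

theorem t0_split : (t0 (0, 0)).1 ≠ (t0 (0, 1)).1 := by decide

theorem c0_bad : R0 (0, 0) (0, 1) (1, 0) (1, 1) ∧
    ¬ R0 (c0 (0, 0)) (c0 (0, 1)) (c0 (1, 0)) (c0 (1, 1)) := by decide

/-- Let Ω be a set with 8 elements and f : Ω → Fin 4 a labelling whose four fibres all have size 2 (a partition of the 8 points into 4 pairs). Then the group of even permutations preserving this partition, (S₂ ≀ S₄) ∩ A₈, is not a maximal subgroup of the alternating group A₈ (it lies in a subgroup isomorphic to the affine group AGL₃(2)). -/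
theorem result {Ω : Type*} [Fintype Ω] [DecidableEq Ω] (h8 : Fintype.card Ω = 8)
    (f : Ω → Fin 4) (hf : ∀ i : Fin 4, Nat.card {x : Ω // f x = i} = 2) :
    ¬ IsCoatom ((Subgroup.closure {g : Equiv.Perm Ω | ∀ x y : Ω, f x = f y ↔ f (g x) = f (g y)} ⊓ alternatingGroup Ω).subgroupOf (alternatingGroup Ω)) := by
  intro hco
  rw [closure_eq_partStab] at hco
  obtain ⟨e, he⟩ := exists_e f hf
  have hle : partStab f ⊓ alternatingGroup Ω ≤ QS e ⊓ alternatingGroup Ω := by
    intro g hg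
    exact ⟨partStab_le_QS f e he g hg.1 (Equiv.Perm.mem_alternatingGroup.mp hg.2), hg.2⟩
  rcases Cfsg.Agent.S5885.coatom_subgroupOf_elim hco (QS e ⊓ alternatingGroup Ω) hle
    inf_le_right with h | h
  · -- the affine element `t` is in `QS ⊓ A` but not in `partStab`
    have ht : e.symm.permCongr t0 ∈ QS e ⊓ alternatingGroup Ω := by
      refine ⟨?_, ?_⟩
      · intro x y z w
        have hx : ∀ x : Ω, e (e.symm.permCongr t0 x) = t0 (e x) := by
          intro x; rw [Equiv.permCongr_apply]; simp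
        rw [hx, hx, hx, hx]
        exact t0_pres _ _ _ _
      · exact Equiv.Perm.mem_alternatingGroup.mpr
          (by rw [Equiv.Perm.sign_permCongr]; exact t0_sign)
    have h2 := ((mem_partStab f _).mp (h ht).1) (e.symm (0, 0)) (e.symm (0, 1))
    rw [← he, ← he, ← he, ← he] at h2
    have hx : ∀ x : Ω, e (e.symm.permCongr t0 x) = t0 (e x) := by
      intro x; rw [Equiv.permCongr_apply]; simp
    rw [hx, hx, Equiv.apply_symm_apply, Equiv.apply_symm_apply] at h2
    exact t0_split (h2.mp rfl)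
  · have hc : e.symm.permCongr c0 ∈ alternatingGroup Ω := by
      rw [Equiv.Perm.mem_alternatingGroup, Equiv.Perm.sign_permCongr]; exact c0_sign
    have h2 := (h hc).1 (e.symm (0, 0)) (e.symm (0, 1)) (e.symm (1, 0)) (e.symm (1, 1))
    have hx : ∀ x : Ω, e (e.symm.permCongr c0 x) = c0 (e x) := by
      intro x; rw [Equiv.permCongr_apply]; simp
    rw [hx, hx, hx, hx] at h2
    simp only [Equiv.apply_symm_apply] at h2
    exact c0_bad.2 (h2.mp c0_bad.1)

end Cfsg.Agent.S5910
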